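import Cfsg.Agent.MonsterType.PairForm
import Cfsg.Agent.GolayConfig.Config
import Cfsg.Agent.GolayModule.Basic

/-!
# The lattice modulo two as a module for its automorphism group
-/

set_option autoImplicit false

namespace CfsgLib.MonsterType

open Cfsg CfsgLib.Leech CfsgLib.Mathieu

/-- An automorphism fixing every class modulo two is a sign. -/
theorem eq_sign_of_trivial (g : Co0)
    (h : ∀ v : leechLattice, ∃ w : leechLattice,
      ((g • v : leechLattice) : GolayPt → ℤ) - (v : GolayPt → ℤ) = 2 • (w : GolayPt → ℤ)) :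
    (∀ v : leechLattice, g • v = v) ∨ (∀ v : leechLattice, g • v = -v) := by
  have hgen : ∀ x, ∀ hx : x ∈ genSet, g • (⟨x, (genSet_spec x hx).1⟩ : leechLattice) = ⟨x, (genSet_spec x hx).1⟩ ∨
      g • (⟨x, (genSet_spec x hx).1⟩ : leechLattice) = -⟨x, (genSet_spec x hx).1⟩ := by
    intro x hx
    obtain ⟨w, hw⟩ := h ⟨x, (genSet_spec x hx).1⟩
    have h32 := (genSet_spec x hx).2
    have hn := co0_norm g ⟨x, (genSet_spec x hx).1⟩
    simp only [h32] at hn
    rcases congr_cases (genSet_spec x hx).1 (by omega) (by omega) w.2 hw with e | e | ⟨e, -⟩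
    · exact Or.inl (Subtype.ext e.symm)
    · exact Or.inr (Subtype.ext (by rw [AddSubgroup.coe_neg]; exact (neg_eq_iff_eq_neg.mpr e).symm))
    · omega
  have hodd : oddVec ∈ genSet := by simp [genSet]
  have hdot : ∀ x ∈ genSet, dotInt oddVec x ≠ 0 := by
    rintro x ((rfl | ⟨r, hr, rfl⟩) | ⟨p, s, rfl | rfl, rfl⟩)
    · decide +kernel
    · revert r; decide +kernel
    · revert p; decide +kernel
    · revert p; decide +kernel
  let o : leechLattice := ⟨oddVec, (genSet_spec _ hodd).1⟩
  have extend : ∀ s : ℤ, s * s = 1 → g • o = s • o → ∀ v : leechLattice, g • v = s • v := by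
    intro s hs hos v
    have hv := mem_closure_genSet v.2
    suffices H : ∀ x ∈ AddSubgroup.closure genSet, ∀ hx : x ∈ leechLattice,
        g • (⟨x, hx⟩ : leechLattice) = s • ⟨x, hx⟩ from H v hv v.2
    intro x hx
    induction hx using AddSubgroup.closure_induction with
    | mem x hx =>
      intro hxL
      have hd := co0_dot g o ⟨x, hxL⟩
      rw [hos] at hd
      rcases hgen x hx with e | e <;> rcases Int.eq_one_or_neg_one_of_mul_eq_one hs with rfl | rfl
      · rw [one_smul]; exact e
      · exfalso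
        have hn : dotInt (-oddVec) x = -dotInt oddVec x := by simp [dotInt]
        rw [e, neg_smul, one_smul, AddSubgroup.coe_neg] at hd
        change dotInt (-oddVec) x = _ at hd
        rw [hn] at hd
        exact hdot x hx (show dotInt oddVec x = 0 by change -dotInt oddVec x = dotInt oddVec x at hd; omega)
      · exfalso
        rw [e, one_smul, AddSubgroup.coe_neg] at hd
        have : dotInt oddVec (-x) = -dotInt oddVec x := by simp [dotInt]
        exact hdot x hx (by change dotInt oddVec (-x) = dotInt oddVec x at hd; omega)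
      · rw [neg_smul, one_smul]; exact e
    | zero =>
      intro h0
      rw [show (⟨0, h0⟩ : leechLattice) = 0 from rfl, smul_zero]
      exact map_zero (co0Hom g)
    | add a b ha hb iha ihb =>
      intro hab
      have haL : a ∈ leechLattice := (AddSubgroup.closure_le _).mpr (fun y hy => (genSet_spec y hy).1) ha
      have hbL : b ∈ leechLattice := (AddSubgroup.closure_le _).mpr (fun y hy => (genSet_spec y hy).1) hb
      rw [show (⟨a + b, hab⟩ : leechLattice) = ⟨a, haL⟩ + ⟨b, hbL⟩ from rfl, co0_add, iha haL,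
        ihb hbL, smul_add]
    | neg a ha iha =>
      intro hna
      have haL : a ∈ leechLattice := (AddSubgroup.closure_le _).mpr (fun y hy => (genSet_spec y hy).1) ha
      rw [show (⟨-a, hna⟩ : leechLattice) = -⟨a, haL⟩ from rfl, co0_neg, iha haL, smul_neg]
  rcases hgen oddVec hodd with e | e
  · exact Or.inl fun v => by simpa using extend 1 rfl (by simpa using e) v
  · exact Or.inr fun v => by simpa using extend (-1) rfl (by simpa using e) v

theorem mem_center_of_trivial (g : Co0)
    (h : ∀ v : leechLattice, ∃ w : leechLattice,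
      ((g • v : leechLattice) : GolayPt → ℤ) - (v : GolayPt → ℤ) = 2 • (w : GolayPt → ℤ)) :
    g ∈ Subgroup.center Co0 := by
  rw [Subgroup.mem_center_iff]
  intro k
  refine co0_ext fun v => ?_
  rw [mul_smul, mul_smul]
  rcases eq_sign_of_trivial g h with e | e
  · rw [e, e]
  · rw [e, e, co0_neg]

/-- An odd vector of the lattice with its difference from the standard one. -/
def oddRemainder : GolayPt → ℤ := vec [0, -4, 0, -4, -4, -4, -4, -4, -4, -4, -4, -4, 0, -4, 0, 0,
  -4, -4, -4, 0, -4, -4, -4, 4]

theorem exists_cut_two : allBelow 4096 (fun m => (wt (codeMask m) != 8 && wt (codeMask m) != 12) ||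
    (List.range 4096).any (fun n => wt (codeMask n &&& codeMask m) == 2)) = true := by
  decide +kernel

variable {M : AddSubgroup (GolayPt → ℤ)}
  (h2 : ∀ v ∈ leechLattice, (2 : ℤ) • v ∈ M) (hle : M ≤ leechLattice)
  (hinv : ∀ (g : Co0) (v : leechLattice), (v : GolayPt → ℤ) ∈ M →
    ((g • v : leechLattice) : GolayPt → ℤ) ∈ M)

include hle hinv in
theorem signs_diff_mem {c : Finset GolayPt}
    (hc : c ∈ supports (golayCode : Set (GolayPt → ZMod 2))) {x : GolayPt → ℤ} (hx : x ∈ M) :
    (fun p => if p ∈ c then 2 * x p else 0) ∈ M := by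
  have h := sub_mem hx (hinv (monoCo0 1 (one_mem _) c hc) ⟨x, hle hx⟩ hx)
  rw [monoCo0_smul] at h
  convert h using 1
  funext p
  simp only [Pi.sub_apply, monoFun, Equiv.Perm.one_apply]
  split_ifs <;> ring

include hle hinv in
theorem perm_image_mem {σ : Equiv.Perm GolayPt} (hσ : σ ∈ M24) {x : GolayPt → ℤ} (hx : x ∈ M) :
    (fun p => x (σ p)) ∈ M := by
  have h := hinv (monoCo0 σ hσ ∅ Spor.empty_mem_supports_golayCode) ⟨x, hle hx⟩ hx
  rw [monoCo0_smul] at h
  convert h using 1
  funext p
  simp [monoFun]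

include hle hinv in
theorem xi_image_mem {x : GolayPt → ℤ} (hx : x ∈ M) : xiFun x ∈ M := by
  have h := hinv xiCo0 ⟨x, hle hx⟩ hx
  rwa [xiCo0_smul] at h

include h2 in
/-- Eights are congruent to each other. -/
theorem diag_mem_iff (a b : GolayPt) : pairFun a a ∈ M ↔ pairFun b b ∈ M := by
  have e : ∀ a b : GolayPt, pairFun a a = pairFun b b + (2 : ℤ) • (pairFun a b - pairFun b b) :=
    fun a b => funext fun p => by
      simp only [pairFun, Pi.add_apply, Pi.smul_apply, Pi.sub_apply, smul_eq_mul]; ring
  have hL : ∀ a b : GolayPt, pairFun a b - pairFun b b ∈ leechLattice := fun a b =>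
    sub_mem (pairFun_mem a b) (pairFun_mem b b)
  constructor
  · intro h; rw [e b a]; exact add_mem h (h2 _ (hL b a))
  · intro h; rw [e a b]; exact add_mem h (h2 _ (hL a b))

theorem exists_map_two {a b c d : GolayPt} (hab : a ≠ b) (hcd : c ≠ d) :
    ∃ σ ∈ M24, σ a = c ∧ σ b = d := by
  obtain ⟨σ, hσ, h1, h2⟩ := CfsgLib.GolayConfig.exists_point_pair hab
  obtain ⟨τ, hτ, h3, h4⟩ := CfsgLib.GolayConfig.exists_point_pair hcd
  refine ⟨τ * σ⁻¹, mul_mem hτ (inv_mem hσ), ?_, ?_⟩
  · rw [← h1, Equiv.Perm.mul_apply, perm_inv_apply, h3]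
  · rw [← h2, Equiv.Perm.mul_apply, perm_inv_apply, h4]

include h2 hle hinv in
theorem pairs_mem_of_shifted {k l : GolayPt} (hkl : k ≠ l) {e : GolayPt}
    (h : pairFun k l + pairFun e e ∈ M) : ∀ a b : GolayPt, pairFun a b ∈ M := by
  -- move to the sextet's first points
  obtain ⟨σ, hσ, hk, hl⟩ := exists_map_two (show pt 0 ≠ pt 4 by decide +kernel) hkl
  have h1 := perm_image_mem hle hinv hσ h
  have h1' : pairFun (pt 0) (pt 4) + pairFun (σ⁻¹ e) (σ⁻¹ e) ∈ M := by
    convert h1 using 1
    funext p
    simp only [Pi.add_apply, pairFun, ← hk, ← hl, σ.injective.eq_iff, Equiv.Perm.eq_inv_iff_eq]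
  have h2' : pairFun (pt 0) (pt 4) + pairFun (pt 0) (pt 0) ∈ M := by
    have e' : pairFun (pt 0) (pt 4) + pairFun (pt 0) (pt 0) =
        (pairFun (pt 0) (pt 4) + pairFun (σ⁻¹ e) (σ⁻¹ e)) +
          (2 : ℤ) • (pairFun (pt 0) (σ⁻¹ e) - pairFun (σ⁻¹ e) (σ⁻¹ e)) := funext fun p => by
      simp only [pairFun, Pi.add_apply, Pi.smul_apply, Pi.sub_apply, smul_eq_mul]; ring
    rw [e']
    exact add_mem h1' (h2 _ (sub_mem (pairFun_mem _ _) (pairFun_mem _ _)))
  have hc : setOf24 36294 ∈ supports (golayCode : Set (GolayPt → ZMod 2)) :=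
    ⟨wordOf 36294, wordOf_mem_of_isCode (by decide +kernel), support₂_wordOf _⟩
  have h3 := signs_diff_mem hle hinv hc (xi_image_mem hle hinv h2')
  obtain ⟨d, hd, hdL⟩ : ∃ d : GolayPt → ℤ,
      (fun p => if p ∈ setOf24 36294 then
        2 * xiFun (pairFun (pt 0) (pt 4) + pairFun (pt 0) (pt 0)) p else 0) =
        pairFun (pt 1) (pt 2) + (2 : ℤ) • d ∧ d ∈ leechLattice := by
    refine ⟨fun p => ((if p ∈ setOf24 36294 then
      2 * xiFun (pairFun (pt 0) (pt 4) + pairFun (pt 0) (pt 0)) p else 0) -
        pairFun (pt 1) (pt 2) p) / 2, funext fun p => ?_, leechB_iff.1 (by decide +kernel)⟩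
    revert p; decide +kernel
  rw [hd] at h3
  have h12 : pairFun (pt 1) (pt 2) ∈ M := by
    simpa using sub_mem h3 (h2 d hdL)
  have hall : ∀ a b : GolayPt, a ≠ b → pairFun a b ∈ M := by
    intro a b hab
    obtain ⟨τ, hτ, ha, hb⟩ := exists_map_two hab (show pt 1 ≠ pt 2 by decide +kernel)
    convert perm_image_mem hle hinv hτ h12 using 1
    funext p
    simp only [pairFun, ← ha, ← hb, τ.injective.eq_iff]
  intro a b
  by_cases hab : a = b
  · subst hab
    obtain ⟨b, c, hab, hac, hbc⟩ : ∃ b c, a ≠ b ∧ a ≠ c ∧ b ≠ c := by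
      clear * -
      revert a; decide +kernel
    have e : pairFun a a = pairFun a b + pairFun a c - pairFun b c := funext fun p => by
      simp only [pairFun, Pi.add_apply, Pi.sub_apply]; ring
    rw [e]
    exact sub_mem (add_mem (hall a b hab) (hall a c hac)) (hall b c hbc)
  · exact hall a b hab

include h2 hle hinv in
theorem pairs_mem_of_pair {k l : GolayPt} (h : pairFun k l ∈ M) :
    ∀ a b : GolayPt, pairFun a b ∈ M := by
  -- from a diagonal vector: a tetrad, hence a shifted pair
  have fromDiag : pairFun (pt 0) (pt 0) ∈ M → ∀ a b : GolayPt, pairFun a b ∈ M := by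
    intro hu
    have hT : pairFun (pt 0) (pt 1) + pairFun (pt 2) (pt 23) ∈ M := by
      have h1 := add_mem (xi_image_mem hle hinv hu) hu
      convert h1 using 1
      funext p; revert p; decide +kernel
    obtain ⟨σ, hσ, hmap⟩ := M24_map_five ![pt 0, pt 1, pt 2, pt 5, pt 23]
      ![pt 0, pt 1, pt 2, pt 23, pt 5] (by decide +kernel) (by decide +kernel)
    have h1' : pairFun (pt 0) (pt 1) + pairFun (pt 2) (pt 5) ∈ M := by
      have e0 : σ (pt 0) = pt 0 := hmap 0
      have e1 : σ (pt 1) = pt 1 := hmap 1
      have e2 : σ (pt 2) = pt 2 := hmap 2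
      have e3 : σ (pt 5) = pt 23 := hmap 3
      convert perm_image_mem hle hinv hσ hT using 1
      funext p
      simp only [Pi.add_apply, pairFun]
      conv_rhs => rw [← e3, ← e2, ← e1, ← e0]
      simp only [σ.injective.eq_iff]
    refine pairs_mem_of_shifted h2 hle hinv (k := pt 23) (l := pt 5) (e := pt 0)
      (by decide +kernel) ?_
    have e : pairFun (pt 23) (pt 5) + pairFun (pt 0) (pt 0) =
        (pairFun (pt 0) (pt 1) + pairFun (pt 2) (pt 23)) +
        (pairFun (pt 0) (pt 1) + pairFun (pt 2) (pt 5)) +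
        (2 : ℤ) • (pairFun (pt 0) (pt 2) - pairFun (pt 2) (pt 2) - pairFun (pt 0) (pt 1)) :=
      funext fun p => by
        simp only [pairFun, Pi.add_apply, Pi.smul_apply, Pi.sub_apply, smul_eq_mul]; ring
    rw [e]
    exact add_mem (add_mem hT h1') (h2 _ (sub_mem (sub_mem (pairFun_mem _ _) (pairFun_mem _ _))
      (pairFun_mem _ _)))
  by_cases hkl : k = l
  · subst hkl; exact fromDiag ((diag_mem_iff h2 k (pt 0)).1 h)
  -- three pairs make a diagonal vector
  obtain ⟨c, hkc, hlc⟩ : ∃ c, k ≠ c ∧ l ≠ c := by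
    clear * -
    revert k l; decide +kernel
  have hpair : ∀ a b : GolayPt, a ≠ b → pairFun a b ∈ M := by
    intro a b hab
    obtain ⟨τ, hτ, ha, hb⟩ := exists_map_two hab hkl
    convert perm_image_mem hle hinv hτ h using 1
    funext p
    simp only [pairFun, ← ha, ← hb, τ.injective.eq_iff]
  refine fromDiag ((diag_mem_iff h2 k (pt 0)).1 ?_)
  have e : pairFun k k = pairFun k l + pairFun k c - pairFun l c := funext fun p => by
    simp only [pairFun, Pi.add_apply, Pi.sub_apply]; ring
  rw [e]
  exact sub_mem (add_mem h (hpair k c hkc)) (hpair l c hlc)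

/-- Twice an octad lies in `M`. -/
theorem octad_mem (hle : M ≤ leechLattice)
    (hinv : ∀ (g : Co0) (v : leechLattice), (v : GolayPt → ℤ) ∈ M →
      ((g • v : leechLattice) : GolayPt → ℤ) ∈ M)
    (hP : ∀ a b : GolayPt, pairFun a b ∈ M) {A : ℕ} (hA : isCode A = true) (hA8 : wt A = 8) :
    twiceMask A ∈ M := by
  have h0 : twiceMask octMask ∈ M := by
    have h := add_mem (xi_image_mem hle hinv (hP (pt 0) (pt 4)))
      (add_mem (hP (pt 0) (pt 13)) (hP (pt 16) (pt 22)))
    convert h using 1
    funext p; revert p; decide +kernel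
  obtain ⟨σ, hσ, h1⟩ := CfsgLib.GolayModule.octad_move
    (show isCode octMask = true by decide +kernel) (show wt octMask = 8 by decide +kernel)
  obtain ⟨τ, hτ, h3⟩ := CfsgLib.GolayModule.octad_move hA hA8
  convert perm_image_mem hle hinv (mul_mem hσ (inv_mem hτ)) h0 using 1
  funext p
  have e : wordOf A p = wordOf octMask ((σ * τ⁻¹) p) := by
    rw [← h1, ← h3]
    simp [CfsgLib.GolayModule.act]
  simp only [wordOf] at e
  simp only [twiceMask]
  revert e
  generalize A.testBit (idx p) = b1
  generalize octMask.testBit (idx ((σ * τ⁻¹) p)) = b2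
  cases b1 <;> cases b2 <;> simp

/-- All pairs in `M`: then `M` is the lattice. -/
theorem eq_top_of_pairs (_h2 : ∀ v ∈ leechLattice, (2 : ℤ) • v ∈ M) (hle : M ≤ leechLattice)
    (hinv : ∀ (g : Co0) (v : leechLattice), (v : GolayPt → ℤ) ∈ M →
      ((g • v : leechLattice) : GolayPt → ℤ) ∈ M)
    (hP : ∀ a b : GolayPt, pairFun a b ∈ M) : M = leechLattice := by
  have hO : ∀ A, isCode A = true → wt A = 8 → twiceMask A ∈ M :=
    fun A h h8 => octad_mem hle hinv hP h h8
  have hrow : ∀ r ∈ codeRows, isCode r = true ∧ wt r = 8 := by decide +kernel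
  have hrem : oddRemainder = pairFun (pt 22) (pt 23) - pairFun (pt 22) (pt 22) -
      (pairFun (pt 1) (pt 3) + pairFun (pt 4) (pt 5) + pairFun (pt 6) (pt 7) + pairFun (pt 8) (pt 9) +
       pairFun (pt 10) (pt 11) + pairFun (pt 13) (pt 16) + pairFun (pt 17) (pt 18) +
       pairFun (pt 20) (pt 21)) := by
    funext p; revert p; decide +kernel
  have hodd : oddVec ∈ M := by
    have hR : oddRemainder ∈ M := by
      rw [hrem]
      exact sub_mem (sub_mem (hP _ _) (hP _ _)) (add_mem (add_mem (add_mem (add_mem (add_mem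
        (add_mem (add_mem (hP _ _) (hP _ _)) (hP _ _)) (hP _ _)) (hP _ _)) (hP _ _)) (hP _ _)) (hP _ _))
    have h := sub_mem (xi_image_mem hle hinv (hO 4845570 (by decide +kernel) (by decide +kernel)))
      (add_mem (add_mem (hO 5709954 (by decide +kernel) (by decide +kernel))
        (hO 2101096 (by decide +kernel) (by decide +kernel))) hR)
    convert h using 1
    funext p; revert p; decide +kernel
  refine le_antisymm hle fun x hx => ?_
  refine (AddSubgroup.closure_le _).mpr ?_ (mem_closure_genSet hx)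
  rintro y ((rfl | ⟨r, hr, rfl⟩) | ⟨p, t, rfl | rfl, rfl⟩)
  · exact hodd
  · exact hO r (hrow r hr).1 (hrow r hr).2
  · show pairVec p 1 ∈ M
    convert hP (some p) none using 1
    funext q; simp only [pairVec, pairFun]; split_ifs <;> simp_all
  · show pairVec p (-1) ∈ M
    convert sub_mem (hP (some p) none) (hP none none) using 1
    funext q; simp only [pairVec, pairFun, Pi.sub_apply]; split_ifs <;> simp_all

section

variable (h2 : ∀ v ∈ leechLattice, (2 : ℤ) • v ∈ M) (hle : M ≤ leechLattice)
  (hinv : ∀ (g : Co0) (v : leechLattice), (v : GolayPt → ℤ) ∈ M →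
    ((g • v : leechLattice) : GolayPt → ℤ) ∈ M)

include h2 in
/-- Multiples of eight differ from a diagonal vector by twice the lattice. -/
theorem reduce_eight (e : GolayPt) (d base : GolayPt → ℤ)
    (h : (fun q => base q + 8 * d q) ∈ M) : base + (∑ r, d r) • pairFun e e ∈ M := by
  have hw : ∑ r, d r • (pairFun r e - pairFun e e) ∈ leechLattice :=
    sum_mem fun r _ => zsmul_mem (sub_mem (pairFun_mem _ _) (pairFun_mem _ _)) _
  have heq : base + (∑ r, d r) • pairFun e e =
      (fun q => base q + 8 * d q) - (2 : ℤ) • ∑ r, d r • (pairFun r e - pairFun e e) := by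
    funext q
    have h1 : ∑ r, d r * (if q = r then (4 : ℤ) else 0) = 4 * d q := by
      simp [mul_ite, mul_comm]
    simp only [Pi.add_apply, Pi.sub_apply, Pi.smul_apply, Finset.sum_apply, pairFun, smul_eq_mul,
      mul_sub, mul_add, Finset.sum_sub_distrib, Finset.sum_add_distrib, ← Finset.sum_mul, h1]
    ring
  rw [heq]
  exact sub_mem h (h2 _ hw)

include h2 hle hinv in
/-- A cut with exactly two odd entries gives all pairs. -/
theorem pairs_of_cut (f : GolayPt → ℤ) (S : Finset GolayPt) {p p' : GolayPt} (hne : p ≠ p')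
    (hS : S.filter (fun q => ¬ (2 : ℤ) ∣ f q) = {p, p'})
    (h : (fun q => if q ∈ S then 4 * f q else 0) ∈ M) : ∀ a b : GolayPt, pairFun a b ∈ M := by
  have h' : (fun q => pairFun p p' q + 8 * (if q ∈ S then f q / 2 else 0)) ∈ M := by
    convert h using 1
    funext q
    have hq : (q ∈ S ∧ ¬ (2 : ℤ) ∣ f q) ↔ (q = p ∨ q = p') := by
      rw [← Finset.mem_filter (p := fun q => ¬ (2 : ℤ) ∣ f q), hS]; simp
    simp only [pairFun]
    by_cases hqS : q ∈ S
    · rw [if_pos hqS, if_pos hqS]
      by_cases hev : (2 : ℤ) ∣ f q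
      · have : ¬(q = p ∨ q = p') := fun hh => (hq.2 hh).2 hev
        push Not at this
        rw [if_neg this.1, if_neg this.2]; omega
      · rcases hq.1 ⟨hqS, hev⟩ with rfl | rfl
        · rw [if_pos rfl, if_neg hne]; omega
        · rw [if_neg hne.symm, if_pos rfl]; omega
    · rw [if_neg hqS, if_neg hqS]
      have : ¬(q = p ∨ q = p') := fun hh => hqS (hq.2 hh).1
      push Not at this
      rw [if_neg this.1, if_neg this.2]; simp
  have h1 := reduce_eight h2 p _ (pairFun p p') h'
  rcases Int.even_or_odd' (∑ r, if r ∈ S then f r / 2 else 0) with ⟨k, hk | hk⟩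
  · rw [hk, mul_smul] at h1
    refine pairs_mem_of_pair h2 hle hinv (k := p) (l := p') ?_
    simpa using sub_mem h1 (h2 _ (zsmul_mem (pairFun_mem p p) k))
  · rw [hk, add_smul, one_smul, mul_smul] at h1
    refine pairs_mem_of_shifted h2 hle hinv hne (e := p) ?_
    have h3 := sub_mem h1 (h2 _ (zsmul_mem (pairFun_mem p p) k))
    convert h3 using 1
    abel

include h2 hle hinv in
/-- Even vectors of low weight outside twice the lattice give all pairs. -/
theorem pairs_of_even (a : GolayPt → ℤ) (hM : (2 : ℤ) • a ∈ M) (hw : res2 a ∈ golayCode)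
    (hlow : (support₂ (res2 a)).card ≤ 12) (hne : ∀ w ∈ leechLattice, (2 : ℤ) • a ≠ (2 : ℤ) • w) :
    ∀ p q : GolayPt, pairFun p q ∈ M := by
  obtain ⟨M₀, hM₀, hwM⟩ := exists_isCode_of_mem hw
  have hset : support₂ (res2 a) = setOf24 M₀ := by rw [hwM, support₂_wordOf]
  have hmem : ∀ q, ¬ (2 : ℤ) ∣ a q ↔ q ∈ setOf24 M₀ := fun q => by
    rw [← hset]
    simp [support₂, res2, ZMod.intCast_zmod_eq_zero_iff_dvd]
  rw [hset, card_setOf24] at hlow
  obtain ⟨m, hm, rfl⟩ := exists_codeMask hM₀
  by_cases hzero : wt (codeMask m) = 0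
  · have hev : ∀ q, (2 : ℤ) ∣ a q := fun q => by
      by_contra hq
      have hin := (hmem q).1 hq
      rw [Finset.card_eq_zero.1 ((card_setOf24 _).trans hzero)] at hin
      simp at hin
    choose b hb using hev
    have hab : a = fun q => 2 * b q := funext hb
    by_cases hcode : res2 b ∈ golayCode
    · -- congruent to a diagonal vector
      have hsum : (2 : ℤ) ∣ ∑ q, b q := by
        obtain ⟨n, c, hc, hcs, -⟩ := mem_leech.1 (hle hM)
        have h0 := hc none
        simp only [Pi.smul_apply, smul_eq_mul, hab, ← Finset.mul_sum] at h0 hcs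
        unfold Int.ModEq at hcs
        omega
      obtain ⟨s, hs⟩ := hsum
      have hb2 : ∀ t : ℤ, ((2 : ℤ) • b - (t • fun q => if q = pt 0 then (4 : ℤ) else 0)) ∈
          leechLattice ↔ ((2 : ℤ) ∣ s - t) := fun t => by
        rw [mem_leech]
        constructor
        · rintro ⟨n, c, hc, hcs, hcw⟩
          have h0 := hc (pt 0)
          simp [Finset.sum_sub_distrib, ← Finset.mul_sum, hs] at h0 hcs
          unfold Int.ModEq at hcs
          have hn : (2 : ℤ) ∣ n := by omega
          omega
        · intro hd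
          refine ⟨0, fun q => b q - 2 * t * (if q = pt 0 then 1 else 0), fun q => ?_, ?_, ?_⟩
          · simp only [Pi.sub_apply, Pi.smul_apply, smul_eq_mul]; split_ifs <;> ring
          · simp [Finset.sum_sub_distrib, ← Finset.mul_sum, hs]
            unfold Int.ModEq
            omega
          · convert hcode using 1
            funext q
            simp [res2, show (2 : ZMod 2) = 0 from rfl]
      rcases Int.even_or_odd' s with ⟨k, hk | hk⟩
      · exfalso
        refine hne ((2 : ℤ) • b) ?_ (by rw [hab]; funext q; simp)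
        simpa using (hb2 0).2 (by omega)
      · refine pairs_mem_of_pair h2 hle hinv (k := pt 0) (l := pt 0) ?_
        have := sub_mem hM (h2 _ ((hb2 1).2 (by omega)))
        convert this using 1
        funext q
        simp only [Pi.sub_apply, Pi.smul_apply, smul_eq_mul, hab, pairFun]
        split_ifs <;> ring
    · rw [CfsgLib.GolayModule.mem_code_iff_orth] at hcode
      push Not at hcode
      obtain ⟨c, hc, hdot⟩ := hcode
      have h1 := signs_diff_mem hle hinv ⟨c, hc, rfl⟩ hM
      have h1' : (fun q => (0 : GolayPt → ℤ) q + 8 * (if q ∈ support₂ c then b q else 0)) ∈ M := by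
        convert h1 using 1
        funext q
        simp only [Pi.zero_apply, zero_add, Pi.smul_apply, smul_eq_mul, hab]
        split_ifs <;> ring
      have h3 := reduce_eight h2 (pt 0) _ _ h1'
      rw [zero_add] at h3
      have hodd : ¬ (2 : ℤ) ∣ ∑ q, (if q ∈ support₂ c then b q else 0) := by
        intro hd
        apply hdot
        rw [CfsgLib.GolayModule.dot]
        have e : ∀ q, res2 b q * c q = (((if q ∈ support₂ c then b q else 0) : ℤ) : ZMod 2) :=
          fun q => by
          by_cases hq : q ∈ support₂ c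
          · have : c q = 1 := (by decide : ∀ z : ZMod 2, z ≠ 0 → z = 1) _
              (Finset.mem_filter.1 hq).2
            simp [hq, this, res2]
          · have : c q = 0 := by
              by_contra h'; exact hq (Finset.mem_filter.2 ⟨Finset.mem_univ _, h'⟩)
            simp [hq, this]
        rw [Finset.sum_congr rfl fun q _ => e q, ← Int.cast_sum,
          ZMod.intCast_zmod_eq_zero_iff_dvd]
        exact_mod_cast hd
      obtain ⟨k, hk | hk⟩ := Int.even_or_odd' (∑ q, (if q ∈ support₂ c then b q else 0))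
      · exact absurd ⟨k, hk⟩ hodd
      · refine pairs_mem_of_pair h2 hle hinv (k := pt 0) (l := pt 0) ?_
        rw [hk, add_smul, one_smul, mul_smul] at h3
        simpa using sub_mem h3 (h2 _ (zsmul_mem (pairFun_mem (pt 0) (pt 0)) k))
  · have hc := allBelow_iff.1 exists_cut_two m hm
    simp only [Bool.or_eq_true, Bool.and_eq_true, bne_iff_ne, ne_eq, List.any_eq_true,
      beq_iff_eq] at hc
    rcases hc with ⟨h8, h12⟩ | ⟨n, -, hn⟩
    · rcases weight_cases hM₀ with e | e | e | e | e <;> omega
    obtain ⟨p, p', hne', hpp⟩ := Finset.card_eq_two.1 ((card_setOf24 _).trans hn)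
    refine pairs_of_cut h2 hle hinv a (setOf24 (codeMask n)) hne' ?_ ?_
    · rw [← hpp, setOf24_and]
      ext q
      simp only [Finset.mem_filter, Finset.mem_inter, hmem]
    · have := signs_diff_mem hle hinv (setOf24_mem_supports (isCode_codeMask n)) hM
      convert this using 1
      funext q
      simp only [Pi.smul_apply, smul_eq_mul]
      split_ifs <;> ring

include h2 hle hinv in
/-- Any vector outside twice the lattice gives all pairs. -/
theorem pairs_of_not_two {x : GolayPt → ℤ} (hx : x ∈ M)
    (hne : ∀ w ∈ leechLattice, x ≠ (2 : ℤ) • w) : ∀ p q : GolayPt, pairFun p q ∈ M := by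
  obtain ⟨m, a, ha, -, hw⟩ := mem_leech.1 (hle hx)
  obtain ⟨n, rfl | rfl⟩ := m.even_or_odd'
  · let y : GolayPt → ℤ := fun i => n + a i
    have hxy : x = (2 : ℤ) • y := funext fun i => by simp [y, ha i]; ring
    have hyw : res2 y ∈ golayCode := by
      have e : res2 y = res2 a + (n : ZMod 2) • (1 : GolayPt → ZMod 2) := by
        ext i; simp [res2, y]; ring
      rw [e]; exact add_mem hw (Submodule.smul_mem _ _ one_mem_golayCode)
    subst hxy
    by_cases hlow : (support₂ (res2 y)).card ≤ 12
    · exact pairs_of_even h2 hle hinv y hx hyw hlow hne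
    have hoL : oddVec ∈ leechLattice := (genSet_spec _ (by simp [genSet])).1
    have hr : res2 (y + oddVec) = res2 y + 1 := by
      have ho : ∀ q, ((oddVec q : ℤ) : ZMod 2) = 1 := by decide +kernel
      ext q; simp [res2, ho q]
    refine pairs_of_even h2 hle hinv (y + oddVec) ?_ ?_ ?_ ?_
    · rw [smul_add]; exact add_mem hx (h2 _ hoL)
    · rw [hr]; exact add_mem hyw one_mem_golayCode
    · have hcompl : support₂ (res2 (y + oddVec)) = (support₂ (res2 y))ᶜ := by
        rw [hr]; ext q
        simp only [support₂, Finset.mem_compl, Finset.mem_filter, Finset.mem_univ, true_and,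
          Pi.add_apply, Pi.one_apply]
        generalize res2 y q = z
        revert z; decide
      rw [hcompl, Finset.card_compl]
      have : Fintype.card GolayPt = 24 := by simp [ZMod.card]
      omega
    · intro w hwL e
      refine hne (w - oddVec) (sub_mem hwL hoL) ?_
      rw [smul_sub, ← e, smul_add, add_sub_cancel_right]
  · have hxodd : ∀ q, ¬ (2 : ℤ) ∣ x q := fun q => by rw [ha q]; omega
    have hA : setOf24 13062145 ∈ supports (golayCode : Set (GolayPt → ZMod 2)) :=
      setOf24_mem_supports (by decide +kernel)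
    have hB : setOf24 4038912 ∈ supports (golayCode : Set (GolayPt → ZMod 2)) :=
      setOf24_mem_supports (by decide +kernel)
    obtain ⟨p, p', hne', hpp⟩ := Finset.card_eq_two.1
      (show (setOf24 (13062145 &&& 4038912)).card = 2 by decide +kernel)
    refine pairs_of_cut h2 hle hinv x (setOf24 (13062145 &&& 4038912)) hne' ?_ ?_
    · rw [Finset.filter_true_of_mem fun q _ => hxodd q, hpp]
    · convert signs_diff_mem hle hinv hB (signs_diff_mem hle hinv hA hx) using 1
      funext q
      simp only [setOf24_and, Finset.mem_inter]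
      by_cases hq : q ∈ setOf24 13062145 <;> by_cases hq' : q ∈ setOf24 4038912 <;>
        simp [hq, hq'] <;> ring

end

end CfsgLib.MonsterType
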