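import Mathlib
import Cfsg.Prelude.Def_Transfer
import Cfsg.Agent.S4172

/-!
# Extraspecial groups under isomorphism
-/

set_option autoImplicit false

namespace CfsgLib.MonsterType

/-- Being extraspecial passes along isomorphisms. -/
theorem extraspecial_congr {A B : Type*} [Group A] [Group B] [Finite A] {p : ℕ} (f : A ≃* B)
    (h : Cfsg.IsExtraspecial p A) : Cfsg.IsExtraspecial p B := by
  haveI : Finite B := Finite.of_equiv A f.toEquiv
  obtain ⟨⟨hp, hfr, hcm⟩, hc⟩ := h
  have hcen : (Subgroup.center A).map f.toMonoidHom = Subgroup.center B := by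
    ext b
    constructor
    · rintro ⟨a, ha, rfl⟩
      refine Subgroup.mem_center_iff.2 fun c => ?_
      obtain ⟨d, rfl⟩ := f.surjective c
      simp only [MulEquiv.coe_toMonoidHom, ← map_mul, Subgroup.mem_center_iff.1 ha d]
    · intro hb
      refine ⟨f.symm b, Subgroup.mem_center_iff.2 fun c => f.injective ?_, f.apply_symm_apply b⟩
      simp only [map_mul, f.apply_symm_apply, Subgroup.mem_center_iff.1 hb (f c)]
  refine ⟨⟨hp.of_equiv f, ?_, ?_⟩, ?_⟩
  · rw [← hcen, ← hfr]
    ext b
    constructor
    · intro hb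
      exact ⟨f.symm b, Cfsg.Agent.S4172.frattini_map f.symm hb, f.apply_symm_apply b⟩
    · rintro ⟨a, ha, rfl⟩
      exact Cfsg.Agent.S4172.frattini_map f ha
  · rw [← hcen, ← hcm, commutator_def, commutator_def, Subgroup.map_commutator,
      Subgroup.map_top_of_surjective _ f.surjective]
  · rw [← hcen, Subgroup.card_map_of_injective f.injective, hc]

end CfsgLib.MonsterType
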