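import Cfsg.Agent.Leech.Co0
import Cfsg.Agent.Mathieu.M24Order
import Cfsg.Agent.Mathieu.Tables
import Cfsg.Agent.Mathieu.Code

/-!
# An element of order five of the group of the code, its centraliser and fixed words
-/

set_option autoImplicit false

namespace CfsgLib.MonsterType.Five

open Cfsg CfsgLib.Leech CfsgLib.Mathieu

/-- The table of the element. -/
def tauTab : ℕ := 564444758532744868870135603554382794071533590433411236096

theorem tauTab_valid : tableValid tauTab = true := by decide +kernel

/-- The element of order five: it fixes the negated tetrad of the standard sextet pointwise and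
permutes the other five cyclically. -/
noncomputable def tau : Equiv.Perm GolayPt :=
  Equiv.ofBijective (tableFun tauTab) (tableFun_bijective tauTab_valid)

theorem tau_rep : Rep enc tau tauTab := fun p => by
  have h := tauTab_valid
  simp only [tableValid, Bool.and_eq_true, allBelow_iff, Nat.blt_eq] at h
  exact (idx_pt (h.1 _ (idx_lt p))).symm

theorem tau_mem : tau ∈ M24 := mem_M24_of_table tau_rep (by decide +kernel)

theorem tau_five : ∀ p, tau (tau (tau (tau (tau p)))) = p := by decide +kernel

theorem tau_ne : tau ≠ 1 := fun h => absurd (congrArg (fun σ : Equiv.Perm GolayPt => σ (pt 3)) h)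
  ((by decide +kernel : tau (pt 3) ≠ pt 3))

/-- The table of an element conjugating `tau` to its square. -/
def squareTab : ℕ := 49906029452349691190342379474845091268687476220434514176

theorem exists_square : ∃ σ ∈ M24, ∀ p, tau (σ p) = σ (tau (tau p)) := by
  obtain ⟨σ, hr⟩ := exists_rep_of_valid (t := squareTab) (by decide +kernel)
  refine ⟨σ, mem_M24_of_table hr (by decide +kernel), fun p => ?_⟩
  have hs : ∀ q, σ q = tableFun squareTab q := fun q =>
    idx_injective (by
      have := hr q
      have hv : app squareTab (idx q) < 24 :=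
        (by decide +kernel : ∀ q : GolayPt, app squareTab (idx q) < 24) q
      rw [tableFun, idx_pt hv]
      exact this.symm)
  rw [hs, hs]
  exact (by decide +kernel : ∀ q, tau (tableFun squareTab q) = tableFun squareTab (tau (tau q))) p

/-- The octad through the moved point `q`: it holds the cycle of `q`. -/
def octadAt (q : GolayPt) : ℕ :=
  ([8683614, 12587685, 11731203, 551943].find? fun M => M.testBit (idx q) &&
    M.testBit (idx (pt (app tauTab (idx q))))).getD 0

theorem octadAt_spec : ∀ q : GolayPt, tau q ≠ q → (isCode (octadAt q) = true ∧ wt (octadAt q) = 8 ∧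
    q ∈ setOf24 (octadAt q) ∧ tau q ∈ setOf24 (octadAt q) ∧
    tau (tau q) ∈ setOf24 (octadAt q) ∧ tau (tau (tau q)) ∈ setOf24 (octadAt q) ∧
    tau (tau (tau (tau q))) ∈ setOf24 (octadAt q)) := by decide +kernel

/-- The derivation from seven fixed points. -/
def sevenDerivation : List FixStep :=
  [.octad 4563017, .octad 2162811, .inter 0 1, .single 2, .octad 2605066, .octad 1687640,
    .inter 3 4, .single 5, .octad 442481, .inter 3 6, .single 7, .octad 9347075, .octad 1302533,
    .inter 8 9, .single 10, .octad 237906, .single 11, .octad 4587803, .single 12, .octad 4415544,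
    .single 13, .octad 6594610, .single 14, .octad 2564625, .single 15, .octad 6053905,
    .inter 8 16, .single 17, .octad 11100169, .single 18, .octad 13811730, .single 19,
    .octad 10305542, .single 20, .octad 14254209, .single 21, .octad 7767041, .single 22,
    .octad 14919680, .single 23, .octad 13062145, .single 24]

theorem commute_apply {σ : Equiv.Perm GolayPt} (h : Commute σ tau) (p : GolayPt) :
    σ (tau p) = tau (σ p) := congrArg (fun f : Equiv.Perm GolayPt => f p) h.eq

/-- The image of the octad of a moved point is the octad of the image. -/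
theorem image_octadAt {σ : Equiv.Perm GolayPt} (hσ : σ ∈ M24) (hc : Commute σ tau) {q : GolayPt}
    (hq : tau q ≠ q) : (setOf24 (octadAt q)).image σ = setOf24 (octadAt (σ q)) := by
  have hq' : tau (σ q) ≠ σ q := fun h => hq (σ.injective (by rw [commute_apply hc, h]))
  obtain ⟨hO, hw, h0, h1, h2, h3, h4⟩ := octadAt_spec q hq
  obtain ⟨hO', hw', h0', h1', h2', h3', h4'⟩ := octadAt_spec (σ q) hq'
  have ho := setOf24_mem_wordsOfWeight hO hw
  refine octads_eq_of_five_le (octad_image hσ ho) (setOf24_mem_wordsOfWeight hO' hw') ?_
  let s : Finset GolayPt := {q, tau q, tau (tau q), tau (tau (tau q)), tau (tau (tau (tau q)))}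
  have hs : s.card = 5 :=
    (by decide +kernel : ∀ q : GolayPt, tau q ≠ q →
      ({q, tau q, tau (tau q), tau (tau (tau q)), tau (tau (tau (tau q)))} : Finset GolayPt).card = 5) q hq
  calc 5 = (s.image σ).card := by rw [Finset.card_image_of_injective _ σ.injective, hs]
    _ ≤ _ := by
      refine Finset.card_le_card fun x hx => ?_
      obtain ⟨y, hy, rfl⟩ := Finset.mem_image.1 hx
      simp only [s, Finset.mem_insert, Finset.mem_singleton] at hy
      refine Finset.mem_inter.2 ?_
      rcases hy with rfl | rfl | rfl | rfl | rfl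
      · exact ⟨Finset.mem_image_of_mem _ h0, h0'⟩
      · exact ⟨Finset.mem_image_of_mem _ h1, by rw [commute_apply hc]; exact h1'⟩
      · exact ⟨Finset.mem_image_of_mem _ h2, by rw [commute_apply hc, commute_apply hc]; exact h2'⟩
      · exact ⟨Finset.mem_image_of_mem _ h3, by
          rw [commute_apply hc, commute_apply hc, commute_apply hc]; exact h3'⟩
      · exact ⟨Finset.mem_image_of_mem _ h4, by
          rw [commute_apply hc, commute_apply hc, commute_apply hc, commute_apply hc]; exact h4'⟩

/-- An element commuting with `tau` is trivial once it fixes a moved point and a fixed one. -/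
theorem eq_one_of_fix {σ : Equiv.Perm GolayPt} (hσ : σ ∈ M24) (hc : Commute σ tau)
    (h3 : σ (pt 3) = pt 3) (h1 : σ (pt 1) = pt 1) : σ = 1 := by
  have hO : (setOf24 (octadAt (pt 3))).image σ = setOf24 (octadAt (pt 3)) := by
    have := image_octadAt hσ hc (q := pt 3) (by decide +kernel)
    rwa [h3] at this
  have h0 : σ (pt 0) = pt 0 := by
    have hf : tau (σ (pt 0)) = σ (pt 0) := by
      rw [← commute_apply hc]
      exact congrArg σ (by decide +kernel)
    have hn : σ (pt 0) ∉ setOf24 (octadAt (pt 3)) := fun h => by
      rw [← hO, Finset.mem_image] at h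
      obtain ⟨y, hy, he⟩ := h
      rw [σ.injective he] at hy
      exact absurd hy (by decide +kernel)
    exact (by decide +kernel : ∀ p, tau p = p → p ∉ setOf24 (octadAt (pt 3)) → p = pt 0) _ hf hn
  refine derivesAll_sound hσ sevenDerivation 295003 [] ?_ (by simp) (by decide +kernel)
  intro p hp
  have hp' := (by decide +kernel : ∀ p ∈ setOf24 295003, p = pt 0 ∨ p = pt 1 ∨ p = pt 3 ∨
    p = tau (pt 3) ∨ p = tau (tau (pt 3)) ∨ p = tau (tau (tau (pt 3))) ∨
    p = tau (tau (tau (tau (pt 3))))) p hp
  rcases hp' with rfl | rfl | rfl | rfl | rfl | rfl | rfl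
  · exact h0
  · exact h1
  · exact h3
  all_goals simp only [commute_apply hc, h3]

/-- The possible images of the two base points. -/
noncomputable def basePairs : Finset (GolayPt × GolayPt) :=
  Finset.univ.filter fun x => tau x.1 ≠ x.1 ∧ tau x.2 = x.2 ∧ x.2 ∈ setOf24 (octadAt x.1)

/-- The centraliser of `tau` in the group of the code has at most 60 elements. -/
theorem card_centralizer_le :
    Nat.card {σ : Equiv.Perm GolayPt // σ ∈ M24 ∧ Commute σ tau} ≤ 60 := by
  let f : {σ : Equiv.Perm GolayPt // σ ∈ M24 ∧ Commute σ tau} → basePairs := fun σ =>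
    ⟨(σ.1 (pt 3), σ.1 (pt 1)), Finset.mem_filter.2 ⟨Finset.mem_univ _, fun h =>
      absurd (σ.1.injective (show σ.1 (tau (pt 3)) = σ.1 (pt 3) by rw [commute_apply σ.2.2, h]))
        ((by decide +kernel : tau (pt 3) ≠ pt 3)),
      by rw [← commute_apply σ.2.2]; exact congrArg σ.1 (by decide +kernel : tau (pt 1) = pt 1),
      by
        rw [← image_octadAt σ.2.1 σ.2.2 (q := pt 3) (by decide +kernel)]
        exact Finset.mem_image_of_mem _ (by decide +kernel)⟩⟩
  have hf : Function.Injective f := fun a b h => by
    have e1 : a.1 (pt 3) = b.1 (pt 3) := congrArg (fun x => x.1.1) h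
    have e2 : a.1 (pt 1) = b.1 (pt 1) := congrArg (fun x => x.1.2) h
    refine Subtype.ext (inv_mul_eq_one.1 (eq_one_of_fix (mul_mem (inv_mem b.2.1) a.2.1)
      (b.2.2.inv_left.mul_left a.2.2) ?_ ?_)).symm
    · rw [Equiv.Perm.mul_apply, e1, perm_inv_apply]
    · rw [Equiv.Perm.mul_apply, e2, perm_inv_apply]
  refine (Nat.card_le_card_of_injective f hf).trans ?_
  rw [Nat.card_eq_finsetCard]
  exact (by decide +kernel : basePairs.card = 60).le

/-- The masks of the fixed code words. -/
def fixedMasks : List ℕ :=
  [0, 551943, 3637597, 4189530, 4494075, 5046012, 7541670, 8093601, 8683614, 9235545, 11731203,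
    12283140, 12587685, 13139618, 16225272, 16777215]

theorem fixed_mask_check : allBelow 4096 (fun m => push tauTab 24 (codeMask m) != codeMask m ||
    fixedMasks.contains (codeMask m)) = true := by decide +kernel

theorem fixed_mask (m : ℕ) (hm : m < 4096) (h : push tauTab 24 (codeMask m) = codeMask m) :
    codeMask m ∈ fixedMasks := by
  have := allBelow_iff.1 fixed_mask_check m hm
  simpa [h] using this

theorem fixedMasks_code : ∀ M ∈ fixedMasks, isCode M = true := by decide +kernel

/-- A supported set invariant under `tau` is one of the sixteen. -/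
theorem fixed_support {c : Finset GolayPt}
    (hc : c ∈ supports (golayCode : Set (GolayPt → ZMod 2))) (h : ∀ p, tau p ∈ c ↔ p ∈ c) :
    ∃ M ∈ fixedMasks, c = setOf24 M := by
  rw [supports_eq] at hc
  obtain ⟨M, hM, rfl⟩ := hc
  have hM' : isCode M = true := hM
  obtain ⟨m, hm, rfl⟩ := exists_codeMask hM
  refine ⟨_, fixed_mask m hm (Nat.eq_of_testBit_eq fun i => ?_), rfl⟩
  rw [Bool.eq_iff_iff, testBit_push]
  constructor
  · rintro ⟨j, hj, hb, rfl⟩
    have hp : pt j ∈ setOf24 (codeMask m) := mem_setOf24.2 (by rwa [idx_pt hj])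
    have := (h (pt j)).2 hp
    rw [mem_setOf24, show idx (tau (pt j)) = app tauTab (idx (pt j)) from (tau_rep (pt j)).symm,
      idx_pt hj] at this
    exact this
  · intro hb
    have hi : i < 24 := by
      by_contra hc'
      rw [Nat.testBit_lt_two_pow ((isCode_lt hM).trans_le
        (Nat.pow_le_pow_right (by norm_num) (by omega)))] at hb
      exact Bool.false_ne_true hb
    obtain ⟨p, hp⟩ := tau.surjective (pt i)
    have hmem : p ∈ setOf24 (codeMask m) := (h p).1 (by rw [hp, mem_setOf24, idx_pt hi]; exact hb)
    refine ⟨idx p, idx_lt p, mem_setOf24.1 hmem, ?_⟩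
    have : app tauTab (idx p) = idx (tau p) := tau_rep p
    rwa [hp, idx_pt hi] at this

end CfsgLib.MonsterType.Five
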