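import Cfsg.Agent.Leech.Co0
import Cfsg.Prelude.Def_Spor_Conway
import Cfsg.Agent.Mathieu.M24Order

/-!
# Invariant quadratic forms on the lattice modulo 2 vanish on the pair vectors

If a quadratic form on the lattice modulo twice the lattice is invariant under all automorphisms,
then the pair vectors `4 (e a + e b)` are singular and pairwise orthogonal: this only uses the
monomial maps and the sextet involution.
-/

set_option autoImplicit false

namespace CfsgLib.MonsterType

open Cfsg CfsgLib.Leech CfsgLib.Mathieu

/-- The coordinates of `4 (e a + e b)`. -/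
def pairFun (a b : GolayPt) : GolayPt → ℤ :=
  fun q => (if q = a then 4 else 0) + (if q = b then 4 else 0)

theorem pairFun_mem (a b : GolayPt) : pairFun a b ∈ leechLattice :=
  leechB_iff.1 ((by decide +kernel :
    ∀ i < 24, ∀ j < 24, leechB (pairFun (pt i) (pt j)) = true) (idx a) (idx_lt a) (idx b) (idx_lt b)
      |> fun h => by rwa [pt_idx, pt_idx] at h)

/-- `4 (e a + e b)` in the lattice. -/
def pairV (a b : GolayPt) : leechLattice := ⟨pairFun a b, pairFun_mem a b⟩

theorem pairV_coe (a b : GolayPt) (q : GolayPt) : (pairV a b : GolayPt → ℤ) q =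
    (if q = a then 4 else 0) + (if q = b then 4 else 0) := rfl

theorem pairV_comm (a b : GolayPt) : pairV a b = pairV b a :=
  Subtype.ext (funext fun q => by rw [pairV_coe, pairV_coe, add_comm])

theorem pairV_add (a b c : GolayPt) : pairV a b + pairV b c = pairV a c + pairV b b :=
  Subtype.ext (funext fun q => by
    simp only [AddSubgroup.coe_add, Pi.add_apply, pairV_coe]; ring)

/-- The mask of the octad made of the first two tetrads of the standard sextet. -/
def octMask : ℕ := 12656663

/-- Twice the octad. -/
def octV : leechLattice :=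
  ⟨twiceMask octMask, leechB_iff.1 (by decide +kernel)⟩

section

variable {q : leechLattice → ZMod 2}

/-- The bilinear form of a quadratic form. -/
def polarOf (q : leechLattice → ZMod 2) (x y : leechLattice) : ZMod 2 := q (x + y) + q x + q y

theorem polarOf_comm (x y : leechLattice) : polarOf q x y = polarOf q y x := by
  rw [polarOf, polarOf, add_comm x y]; ring

variable (hcoset : ∀ v w : leechLattice, q (v + (w + w)) = q v)
  (hquad : ∀ u v w : leechLattice,
    q (u + v + w) + q u + q v + q w = q (u + v) + q (u + w) + q (v + w))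
  (hinv : ∀ (g : Co0) (v : leechLattice), q (g • v) = q v)

include hquad in
theorem polarOf_add_right (x y w : leechLattice) :
    polarOf q x (y + w) = polarOf q x y + polarOf q x w := by
  have h := hquad x y w
  simp only [polarOf, ← add_assoc]
  revert h
  generalize q (x + y + w) = a, q x = b, q y = c, q w = d, q (x + y) = e, q (x + w) = f, q (y + w) = g
  revert a b c d e f g
  decide

include hquad in
theorem polarOf_add_left (x y w : leechLattice) :
    polarOf q (x + y) w = polarOf q x w + polarOf q y w := by
  rw [polarOf_comm, polarOf_add_right hquad, polarOf_comm w, polarOf_comm w]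

theorem q_add (x y : leechLattice) : q (x + y) = q x + q y + polarOf q x y := by
  simp only [polarOf]
  generalize q (x + y) = a, q x = b, q y = c
  revert a b c; decide

include hcoset in
theorem polarOf_congr (x y w : leechLattice) : polarOf q x (y + (w + w)) = polarOf q x y := by
  simp only [polarOf, ← add_assoc]
  rw [add_assoc (x + y) w w, hcoset, add_assoc y w w, hcoset]

include hcoset in
theorem q_neg (x : leechLattice) : q (-x) = q x := by
  rw [← hcoset (-x) x]; congr 1; abel

include hcoset in
theorem polarOf_neg_right (x y : leechLattice) : polarOf q x (-y) = polarOf q x y := by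
  rw [← polarOf_congr hcoset x (-y) y]; congr 1; abel

include hinv in
theorem polarOf_co0 (g : Co0) (x y : leechLattice) : polarOf q (g • x) (g • y) = polarOf q x y := by
  rw [polarOf, polarOf, ← co0_add, hinv, hinv, hinv]

theorem exists_co0_map_five (x y : Fin 5 → GolayPt) (hx : Function.Injective x)
    (hy : Function.Injective y) :
    ∃ g : Co0, ∀ i j, g • pairV (x i) (x j) = pairV (y i) (y j) := by
  obtain ⟨σ, hσ, h⟩ := M24_map_five y x hy hx
  refine ⟨monoCo0 σ hσ ∅ Spor.empty_mem_supports_golayCode, fun i j => Subtype.ext (funext fun p => ?_)⟩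
  rw [monoCo0_smul]
  simp only [monoFun, Finset.notMem_empty, if_false, pairV_coe, ← h i, ← h j, σ.injective.eq_iff]

/-- Five points. -/
def five : Fin 5 → GolayPt := fun i => pt i.val

theorem five_injective : Function.Injective five := by decide +kernel

theorem exists_five (a b c d : GolayPt) (hab : a ≠ b) (hac : a ≠ c) (had : a ≠ d) (hbc : b ≠ c)
    (hbd : b ≠ d) (hcd : c ≠ d) :
    ∃ y : Fin 5 → GolayPt, Function.Injective y ∧ y 0 = a ∧ y 1 = b ∧ y 2 = c ∧ y 3 = d := by
  classical
  have hcard : ({a, b, c, d} : Finset GolayPt).card < (Finset.univ : Finset GolayPt).card := by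
    refine lt_of_le_of_lt ?_ (show 4 < (Finset.univ : Finset GolayPt).card by decide +kernel)
    exact Finset.card_le_four
  obtain ⟨e, -, he⟩ := Finset.exists_mem_notMem_of_card_lt_card hcard
  simp only [Finset.mem_insert, Finset.mem_singleton, not_or] at he
  refine ⟨![a, b, c, d, e], fun i j h => ?_, rfl, rfl, rfl, rfl⟩
  fin_cases i <;> fin_cases j <;> simp_all [eq_comm]

theorem polarOf_disjoint_eq {a b c d : GolayPt} (hinv : ∀ (g : Co0) (v : leechLattice), q (g • v) = q v)
    (hab : a ≠ b) (hac : a ≠ c) (had : a ≠ d) (hbc : b ≠ c) (hbd : b ≠ d) (hcd : c ≠ d) :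
    polarOf q (pairV a b) (pairV c d) = polarOf q (pairV (five 0) (five 1)) (pairV (five 2) (five 3)) ∧
    polarOf q (pairV a b) (pairV a c) = polarOf q (pairV (five 0) (five 1)) (pairV (five 0) (five 2)) ∧
    polarOf q (pairV a b) (pairV c c) = polarOf q (pairV (five 0) (five 1)) (pairV (five 2) (five 2)) ∧
    q (pairV a b) = q (pairV (five 0) (five 1)) := by
  obtain ⟨y, hy, rfl, rfl, rfl, rfl⟩ := exists_five a b c d hab hac had hbc hbd hcd
  obtain ⟨g, hg⟩ := exists_co0_map_five five y five_injective hy
  refine ⟨?_, ?_, ?_, ?_⟩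
  · rw [← hg 0 1, ← hg 2 3, polarOf_co0 hinv]
  · rw [← hg 0 1, ← hg 0 2, polarOf_co0 hinv]
  · rw [← hg 0 1, ← hg 2 2, polarOf_co0 hinv]
  · rw [← hg 0 1, hinv]

include hcoset in
theorem polarOf_diag_eq (x : leechLattice) (a b : GolayPt) :
    polarOf q x (pairV a a) = polarOf q x (pairV b b) := by
  rw [← polarOf_congr hcoset x (pairV b b) (pairV a b - pairV b b)]
  congr 1
  exact Subtype.ext (funext fun p => by
    simp only [AddSubgroup.coe_add, AddSubgroup.coe_sub, Pi.add_apply, Pi.sub_apply, pairV_coe]; ring)

include hcoset in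
theorem q_diag_eq (a b : GolayPt) : q (pairV a a) = q (pairV b b) := by
  rw [← hcoset (pairV b b) (pairV a b - pairV b b)]
  congr 1
  exact Subtype.ext (funext fun p => by
    simp only [AddSubgroup.coe_add, AddSubgroup.coe_sub, Pi.add_apply, Pi.sub_apply, pairV_coe]; ring)

include hcoset hquad hinv in
theorem polarOf_pairs (a b c d : GolayPt) : polarOf q (pairV a b) (pairV c d) = 0 := by
  have hq0 : q 0 = 0 := by
    have h := hquad 0 0 0
    simp only [add_zero] at h
    revert h; generalize q 0 = t; revert t; decide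
  have hself : ∀ x, polarOf q x x = 0 := fun x => by
    have := hcoset 0 x
    rw [zero_add] at this
    rw [polarOf, this, hq0, zero_add]
    exact (by decide : ∀ t : ZMod 2, t + t = 0) _
  have five_ne : ∀ i j : Fin 5, i ≠ j → five i ≠ five j := fun i j h e => h (five_injective e)
  obtain ⟨a₀, ha₀⟩ : ∃ t, t = polarOf q (pairV (five 0) (five 1)) (pairV (five 2) (five 3)) := ⟨_, rfl⟩
  obtain ⟨b₀, hb₀⟩ : ∃ t, t = polarOf q (pairV (five 0) (five 1)) (pairV (five 0) (five 2)) := ⟨_, rfl⟩
  obtain ⟨c₀, hc₀⟩ : ∃ t, t = polarOf q (pairV (five 0) (five 1)) (pairV (five 2) (five 2)) := ⟨_, rfl⟩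
  have D := fun {a b c d : GolayPt} (hab : a ≠ b) (hac : a ≠ c) (had : a ≠ d) (hbc : b ≠ c)
    (hbd : b ≠ d) (hcd : c ≠ d) => polarOf_disjoint_eq (q := q) hinv hab hac had hbc hbd hcd
  have R := pairV_add (five 0) (five 1) (five 2)
  -- share a point: c = 0; disjoint: a = c
  have hc0 : c₀ = 0 := by
    have h := congrArg (polarOf q (pairV (five 0) (five 1))) R
    rw [polarOf_add_right hquad, polarOf_add_right hquad, hself,
      polarOf_diag_eq hcoset _ (five 1) (five 2), ← hc₀, ← hb₀] at h
    have h2 : polarOf q (pairV (five 0) (five 1)) (pairV (five 1) (five 2)) = b₀ := by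
      rw [pairV_comm (five 0) (five 1), hb₀]
      exact (D (five_ne 1 0 (by decide)) (five_ne 1 2 (by decide)) (five_ne 1 3 (by decide))
        (five_ne 0 2 (by decide)) (five_ne 0 3 (by decide)) (five_ne 2 3 (by decide))).2.1
    rw [h2] at h
    revert h; generalize b₀ = s, c₀ = t; revert s t; decide
  have ha0 : a₀ = 0 := by
    have h := congrArg (polarOf q (pairV (five 3) (five 4))) R
    have e : ∀ i j : Fin 5, i ≠ j → 3 ≠ i → 4 ≠ i → 3 ≠ j → 4 ≠ j →
        polarOf q (pairV (five 3) (five 4)) (pairV (five i) (five j)) = a₀ :=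
      fun i j hij h3i h4i h3j h4j => ha₀ ▸ (D (five_ne 3 4 (by decide)) (five_ne 3 i h3i)
        (five_ne 3 j h3j) (five_ne 4 i h4i) (five_ne 4 j h4j) (five_ne i j hij)).1
    rw [polarOf_add_right hquad, polarOf_add_right hquad,
      e 0 1 (by decide) (by decide) (by decide) (by decide) (by decide),
      e 1 2 (by decide) (by decide) (by decide) (by decide) (by decide),
      e 0 2 (by decide) (by decide) (by decide) (by decide) (by decide)] at h
    have h2 : polarOf q (pairV (five 3) (five 4)) (pairV (five 1) (five 1)) = c₀ := by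
      rw [hc₀]
      exact (D (five_ne 3 4 (by decide)) (five_ne 3 1 (by decide)) (five_ne 3 2 (by decide))
        (five_ne 4 1 (by decide)) (five_ne 4 2 (by decide)) (five_ne 1 2 (by decide))).2.2.1
    rw [h2, hc0] at h
    revert h; generalize a₀ = s; revert s; decide
  have hb0 : b₀ = 0 := by
    let o : ℕ → GolayPt := pt
    have hsum : pairV (o 0) (o 1) + (pairV (o 2) (o 23) + (pairV (o 4) (o 13) + pairV (o 16) (o 22))) =
        octV + octV := Subtype.ext (funext ((by decide +kernel : ∀ p,
          pairFun (pt 0) (pt 1) p + (pairFun (pt 2) (pt 23) p + (pairFun (pt 4) (pt 13) p +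
            pairFun (pt 16) (pt 22) p)) = twiceMask octMask p + twiceMask octMask p)))
    have h := congrArg (polarOf q (pairV (o 0) (o 3))) hsum
    have hz : polarOf q (pairV (o 0) (o 3)) (octV + octV) = 0 := by
      rw [← zero_add (octV + octV), polarOf_congr hcoset]
      simp only [polarOf, add_zero, hq0]
      exact (by decide : ∀ t : ZMod 2, t + t = 0) _
    have opp : ∀ i j : ℕ, pt i ≠ pt j → pt i ≠ pt 0 → pt i ≠ pt 3 → pt j ≠ pt 0 → pt j ≠ pt 3 →
        polarOf q (pairV (o 0) (o 3)) (pairV (o i) (o j)) = 0 := fun i j hij hi0 hi3 hj0 hj3 => by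
      rw [(D ((by decide +kernel : pt 0 ≠ pt 3)) hi0.symm hj0.symm hi3.symm hj3.symm hij).1, ← ha₀, ha0]
    rw [hz, polarOf_add_right hquad, polarOf_add_right hquad, polarOf_add_right hquad,
      opp 2 23 (by decide +kernel) (by decide +kernel) (by decide +kernel) (by decide +kernel)
        (by decide +kernel),
      opp 4 13 (by decide +kernel) (by decide +kernel) (by decide +kernel) (by decide +kernel)
        (by decide +kernel),
      opp 16 22 (by decide +kernel) (by decide +kernel) (by decide +kernel) (by decide +kernel)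
        (by decide +kernel),
      add_zero, add_zero, add_zero,
      (D (c := o 1) (d := o 2) (by decide +kernel : pt 0 ≠ pt 3) (by decide +kernel)
        (by decide +kernel) (by decide +kernel) (by decide +kernel) (by decide +kernel)).2.1,
      ← hb₀] at h
    exact h
  -- all cases
  have hd : ∀ x, ∀ e f : GolayPt, polarOf q x (pairV e e) = polarOf q x (pairV f f) :=
    fun x e f => polarOf_diag_eq hcoset x e f
  have hpd : ∀ a b e : GolayPt, a ≠ b → polarOf q (pairV a b) (pairV e e) = 0 := by
    intro a b e hab
    obtain ⟨c, d, hac, had, hbc, hbd, hcd⟩ : ∃ c d, a ≠ c ∧ a ≠ d ∧ b ≠ c ∧ b ≠ d ∧ c ≠ d := by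
      classical
      have h4 : ({a, b} : Finset GolayPt).card < (Finset.univ : Finset GolayPt).card :=
        lt_of_le_of_lt Finset.card_le_two (by decide +kernel)
      obtain ⟨c, -, hc⟩ := Finset.exists_mem_notMem_of_card_lt_card h4
      have h5 : ({a, b, c} : Finset GolayPt).card < (Finset.univ : Finset GolayPt).card :=
        lt_of_le_of_lt Finset.card_le_three (by decide +kernel)
      obtain ⟨d, -, hd⟩ := Finset.exists_mem_notMem_of_card_lt_card h5
      simp only [Finset.mem_insert, Finset.mem_singleton, not_or] at hc hd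
      exact ⟨c, d, Ne.symm hc.1, Ne.symm hd.1, Ne.symm hc.2, Ne.symm hd.2.1, Ne.symm hd.2.2⟩
    rw [hd _ e c, (D hab hac had hbc hbd hcd).2.2.1, ← hc₀, hc0]
  have hshare : ∀ a b c : GolayPt, a ≠ b → a ≠ c → b ≠ c →
      polarOf q (pairV a b) (pairV a c) = 0 := by
    intro a b c hab hac hbc
    classical
    have h5 : ({a, b, c} : Finset GolayPt).card < (Finset.univ : Finset GolayPt).card :=
      lt_of_le_of_lt Finset.card_le_three (by decide +kernel)
    obtain ⟨d, -, hd⟩ := Finset.exists_mem_notMem_of_card_lt_card h5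
    simp only [Finset.mem_insert, Finset.mem_singleton, not_or] at hd
    rw [(D hab hac (Ne.symm hd.1) hbc (Ne.symm hd.2.1) (Ne.symm hd.2.2)).2.1, ← hb₀, hb0]
  by_cases hab : a = b
  · subst hab
    by_cases hcd : c = d
    · subst hcd; rw [hd _ c a, hself]
    · rw [polarOf_comm, hpd c d a hcd]
  by_cases hcd : c = d
  · subst hcd; exact hpd a b c hab
  by_cases hac : a = c
  · subst hac
    by_cases hbd : b = d
    · subst hbd; exact hself _
    · exact hshare a b d hab hcd hbd
  by_cases had : a = d
  · subst had
    rw [pairV_comm c a]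
    by_cases hbc : b = c
    · subst hbc; exact hself _
    · exact hshare a b c hab hac hbc
  by_cases hbc : b = c
  · subst hbc
    rw [pairV_comm a b]
    exact hshare b a d (Ne.symm hab) hcd had
  by_cases hbd : b = d
  · subst hbd
    rw [pairV_comm a b, pairV_comm c b]
    exact hshare b a c (Ne.symm hab) hbc hac
  rw [(D hab hac had hbc hbd hcd).1, ← ha₀, ha0]

include hcoset hquad hinv in
theorem q_pair (a b : GolayPt) : q (pairV a b) = 0 := by
  have B0 := polarOf_pairs hcoset hquad hinv
  obtain ⟨s, hs⟩ : ∃ t, t = q (pairV (five 0) (five 1)) := ⟨_, rfl⟩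
  have hpair : ∀ a b : GolayPt, a ≠ b → q (pairV a b) = s := by
    intro a b hab
    classical
    have h4 : ({a, b} : Finset GolayPt).card < (Finset.univ : Finset GolayPt).card :=
      lt_of_le_of_lt Finset.card_le_two (by decide +kernel)
    obtain ⟨c, -, hc⟩ := Finset.exists_mem_notMem_of_card_lt_card h4
    have h5 : ({a, b, c} : Finset GolayPt).card < (Finset.univ : Finset GolayPt).card :=
      lt_of_le_of_lt Finset.card_le_three (by decide +kernel)
    obtain ⟨d, -, hd⟩ := Finset.exists_mem_notMem_of_card_lt_card h5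
    simp only [Finset.mem_insert, Finset.mem_singleton, not_or] at hc hd
    rw [hs]
    exact (polarOf_disjoint_eq hinv hab (Ne.symm hc.1) (Ne.symm hd.1) (Ne.symm hc.2) (Ne.symm hd.2.1)
      (Ne.symm hd.2.2)).2.2.2
  have hdiag : ∀ a, q (pairV a a) = s := fun a => by
    have h := congrArg q (pairV_add (five 0) (five 1) (five 2))
    rw [q_add (q := q), q_add (q := q), B0, B0, hpair _ _ (by decide +kernel), hpair _ _ (by decide +kernel),
      hpair _ _ (by decide +kernel), q_diag_eq hcoset (five 1) a] at h
    revert h; generalize q (pairV a a) = t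
    exact (by decide : ∀ s t : ZMod 2, s + s + 0 = s + t + 0 → t = s) s t
  -- a pair in the octad, cut out by a code word
  have hcut : ∀ i j : ℕ, ∀ m, isCode m = true →
      (∀ p, (if m.testBit (idx p) then -twiceMask octMask p else twiceMask octMask p) =
        twiceMask octMask p - pairFun (pt i) (pt j) p) →
      polarOf q octV (pairV (pt i) (pt j)) = q (pairV (pt i) (pt j)) := by
    intro i j m hm hp
    have hc : setOf24 m ∈ supports (golayCode : Set (GolayPt → ZMod 2)) :=
      ⟨wordOf m, wordOf_mem_of_isCode hm, support₂_wordOf m⟩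
    have he : monoCo0 1 (one_mem _) _ hc • octV = octV + -pairV (pt i) (pt j) :=
      Subtype.ext (funext fun p => by
        rw [monoCo0_smul, AddSubgroup.coe_add, AddSubgroup.coe_neg]
        simp only [monoFun, mem_setOf24, Equiv.Perm.one_apply, Pi.add_apply, Pi.neg_apply]
        rw [← sub_eq_add_neg]
        exact hp p)
    have h := hinv (monoCo0 1 (one_mem _) _ hc) octV
    rw [he, q_add (q := q), polarOf_neg_right hcoset, q_neg hcoset] at h
    revert h
    generalize q octV = t, q (pairV (pt i) (pt j)) = u, polarOf q octV (pairV (pt i) (pt j)) = v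
    revert t u v; decide
  have h01 : polarOf q octV (pairV (pt 0) (pt 1)) = s :=
    (hcut 0 1 18147 (by decide +kernel) (by decide +kernel)).trans (hpair _ _ (by decide +kernel))
  have h12 : polarOf q octV (pairV (pt 1) (pt 2)) = s :=
    (hcut 1 2 36294 (by decide +kernel) (by decide +kernel)).trans (hpair _ _ (by decide +kernel))
  have h02 : polarOf q octV (pairV (pt 0) (pt 2)) = s :=
    (hcut 0 2 52005 (by decide +kernel) (by decide +kernel)).trans (hpair _ _ (by decide +kernel))
  have h223 : polarOf q octV (pairV (pt 2) (pt 23)) = s :=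
    (hcut 2 23 8426796 (by decide +kernel) (by decide +kernel)).trans (hpair _ _ (by decide +kernel))
  have hu : polarOf q octV (pairV (pt 0) (pt 0)) = s := by
    have h := congrArg (polarOf q octV) (pairV_add (pt 0) (pt 1) (pt 2))
    rw [polarOf_add_right hquad, polarOf_add_right hquad, h01, h12, h02,
      ← polarOf_diag_eq hcoset octV (pt 0) (pt 1)] at h
    revert h; generalize polarOf q octV (pairV (pt 0) (pt 0)) = t
    exact (by decide : ∀ s t : ZMod 2, s + s = s + t → t = s) s t
  -- move an orthogonal pair by the sextet involution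
  obtain ⟨x, hx⟩ : ∃ x, x = xiCo0 • pairV (pt 0) (pt 4) := ⟨_, rfl⟩
  have hxM : octV = x + (pairV (pt 0) (pt 13) + pairV (pt 16) (pt 22)) :=
    Subtype.ext (funext fun p => by
      rw [hx, AddSubgroup.coe_add, AddSubgroup.coe_add, xiCo0_smul]
      exact (by decide +kernel : ∀ p, twiceMask octMask p = xiFun (pairFun (pt 0) (pt 4)) p +
        (pairFun (pt 0) (pt 13) p + pairFun (pt 16) (pt 22) p)) p)
  have hxu : xiCo0 • pairV (pt 0) (pt 0) =
      pairV (pt 0) (pt 1) + pairV (pt 2) (pt 23) + -pairV (pt 0) (pt 0) :=
    Subtype.ext (funext fun p => by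
      rw [xiCo0_smul, AddSubgroup.coe_add, AddSubgroup.coe_add, AddSubgroup.coe_neg]
      exact (by decide +kernel : ∀ p, xiFun (pairFun (pt 0) (pt 0)) p = pairFun (pt 0) (pt 1) p +
        pairFun (pt 2) (pt 23) p + -pairFun (pt 0) (pt 0) p) p)
  have hmove : ∀ a b : GolayPt, polarOf q x (pairV a b) = polarOf q octV (pairV a b) := fun a b => by
    rw [hxM, polarOf_add_left hquad, polarOf_add_left hquad, B0, B0, add_zero, add_zero]
  have key := polarOf_co0 hinv xiCo0 (pairV (pt 0) (pt 4)) (pairV (pt 0) (pt 0))
  rw [← hx, hxu, B0, polarOf_add_right hquad, polarOf_add_right hquad, polarOf_neg_right hcoset,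
    hmove, hmove, hmove, h01, h223, hu] at key
  have hs0 : s = 0 := by revert key; generalize s = t; revert t; decide
  by_cases hab : a = b
  · subst hab; rw [hdiag, hs0]
  · rw [hpair a b hab, hs0]

end

end CfsgLib.MonsterType
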