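import Cfsg.Agent.MonsterType.Setup
import Cfsg.Agent.MonsterType.PairForm

/-!
# The extraspecial subgroup of a group of Monster type is of plus type
-/

set_option autoImplicit false

namespace CfsgLib.MonsterType

open Cfsg CfsgLib.Leech CfsgLib.Mathieu

/-- Twelve pair vectors spanning a maximal singular subspace modulo twice the lattice. -/
def singVec (k : Fin 12) : leechLattice :=
  if k.val = 11 then pairV none none else pairV none (pt k.val)

/-- The test masks. -/
def testMasks : List ℕ :=
  [2422785, 4845570, 3610628, 7221256, 7903248, 5621792, 1009728, 2019456, 4038912, 8077824, 5405696]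

/-- Test vectors dual to the twelve vectors modulo two. -/
def testVec (k : Fin 12) : GolayPt → ℤ :=
  if k.val = 11 then oddVec else twiceMask (testMasks.getD k.val 0)

theorem testVec_mem (k : Fin 12) : testVec k ∈ leechLattice :=
  leechB_iff.1 ((by decide +kernel : ∀ k : Fin 12, leechB (testVec k) = true) k)

/-- The parities of the products with the test vectors. -/
theorem dot_testVec : ∀ k l : Fin 12, dotInt (singVec k : GolayPt → ℤ) (testVec l) % 16 =
    if k = l ∨ l.val = 11 then 8 else 0 := by decide +kernel

theorem eight_dvd_dot {x y : GolayPt → ℤ} (hx : x ∈ leechLattice) (hy : y ∈ leechLattice) :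
    8 ∣ dotInt x y := by
  have h := sixteen_dvd (add_mem hx hy)
  have h1 := sixteen_dvd hx
  have h2 := sixteen_dvd hy
  rw [sqNorm_add] at h
  omega

/-- A combination in twice the lattice is trivial. -/
theorem comb_eq_zero {s : Fin 12 → ZMod 2} {u : leechLattice}
    (h : ∑ k, (s k).val • singVec k = u + u) : s = 0 := by
  have hl : ∀ l : Fin 12,
      ∑ k, (s k).val * (if k = l ∨ l.val = 11 then 1 else 0) ≡ 0 [MOD 2] := by
    intro l
    have e : ∀ p, (∑ k, ((s k).val : ℤ) * (singVec k : GolayPt → ℤ) p) =
        2 * (u : GolayPt → ℤ) p := fun p => by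
      have := congrArg (fun v : leechLattice => (v : GolayPt → ℤ) p) h
      simp only [AddSubmonoidClass.coe_finsetSum, Finset.sum_apply, AddSubgroup.coe_add,
        Pi.add_apply, AddSubgroup.coe_nsmul] at this
      rw [two_mul, ← this]
      exact Finset.sum_congr rfl fun k _ => by rw [Pi.smul_apply, nsmul_eq_mul]
    have e2 : (∑ k, ((s k).val : ℤ) * dotInt (singVec k : GolayPt → ℤ) (testVec l)) =
        2 * dotInt (u : GolayPt → ℤ) (testVec l) := by
      simp only [dotInt, Finset.mul_sum]
      rw [Finset.sum_comm]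
      refine Finset.sum_congr rfl fun p _ => ?_
      rw [← mul_assoc, ← e p, Finset.sum_mul]
      exact Finset.sum_congr rfl fun k _ => (mul_assoc _ _ _).symm
    obtain ⟨c, hc⟩ := eight_dvd_dot u.2 (testVec_mem l)
    have e3 : (16 : ℤ) ∣ ∑ k, ((s k).val : ℤ) * (if k = l ∨ l.val = 11 then 8 else 0) := by
      have h16 : (16 : ℤ) ∣ ∑ k, ((s k).val : ℤ) * dotInt (singVec k : GolayPt → ℤ) (testVec l) :=
        ⟨c, by rw [e2, hc]; ring⟩
      refine (Int.dvd_iff_dvd_of_dvd_sub ?_).1 h16
      rw [← Finset.sum_sub_distrib]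
      refine Finset.dvd_sum fun k _ => ?_
      rw [← mul_sub, ← dot_testVec k l]
      exact dvd_mul_of_dvd_right (Int.dvd_self_sub_emod) _
    have e4 : (∑ k, ((s k).val : ℤ) * (if k = l ∨ l.val = 11 then 8 else 0)) =
        8 * ((∑ k, (s k).val * (if k = l ∨ l.val = 11 then 1 else 0) : ℕ) : ℤ) := by
      push_cast
      rw [Finset.mul_sum]
      exact Finset.sum_congr rfl fun k _ => by split <;> ring
    rw [e4] at e3
    rw [Nat.modEq_zero_iff_dvd]
    omega
  have low : ∀ l : Fin 12, l.val ≠ 11 → s l = 0 := fun l hl' => by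
    have := hl l
    simp only [hl', or_false, mul_ite, mul_one, mul_zero, Finset.sum_ite_eq', Finset.mem_univ,
      if_true, Nat.modEq_zero_iff_dvd] at this
    revert this; generalize s l = a; revert a; decide
  funext l
  by_cases hl' : l.val = 11
  · have := hl l
    simp only [hl', or_true, if_true, mul_one] at this
    rw [Finset.sum_eq_single l (fun k _ hk => by rw [low k fun h => hk (Fin.ext (h.trans hl'.symm))]; rfl)
      (fun h => absurd (Finset.mem_univ l) h), Nat.modEq_zero_iff_dvd] at this
    show s l = 0
    revert this; generalize s l = a; revert a; decide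
  · exact low l hl'

variable {G : Type*} [Group G] [Finite G] {z : G}
  {Q : Subgroup (Subgroup.centralizer ({z} : Set G))} [Q.Normal]
  {e : (Subgroup.centralizer ({z} : Set G)) ⧸ Q ≃* Spor.Co1}
  {ψ : leechLattice → Q ⧸ Subgroup.center Q}
  (hS : IsExtraspecialCentralizerSetting z Q 12) (hψ : IsLeechModTwoIso Q e ψ)
include hS hψ

theorem sqForm_singVec (k : Fin 12) : sqForm ψ (singVec k) = 0 := by
  unfold singVec
  split <;> exact q_pair (sqForm_coset hS hψ) (sqForm_quadratic hS hψ) (sqForm_co0 hS hψ) _ _

theorem commForm_singVec (k l : Fin 12) : commForm ψ (singVec k) (singVec l) = 0 := by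
  have h := sqForm_add hS hψ (singVec k) (singVec l)
  have hp : polarOf (sqForm ψ) (singVec k) (singVec l) = 0 := by
    unfold singVec
    split <;> split <;>
      exact polarOf_pairs (sqForm_coset hS hψ) (sqForm_quadratic hS hψ) (sqForm_co0 hS hψ) _ _ _ _
  rw [polarOf] at hp
  revert h hp
  generalize sqForm ψ (singVec k + singVec l) = a, sqForm ψ (singVec k) = b,
    sqForm ψ (singVec l) = c, commForm ψ (singVec k) (singVec l) = d
  revert a b c d
  decide

theorem exists_elementary_thirteen :
    ∃ E : Subgroup Q, IsElementaryAbelian 2 E ∧ Nat.card E = 2 ^ 13 := by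
  obtain ⟨r, hr⟩ : ∃ r : Fin 12 → Q, ∀ k, ψ (singVec k) = QuotientGroup.mk (r k) :=
    ⟨fun k => lift ψ (singVec k), fun k => psi_lift _⟩
  let x : Option (Fin 12) → Q := fun o => o.elim (zQ hS) r
  have hzc : ∀ q : Q, Commute (zQ hS) q := fun q =>
    (Subgroup.mem_center_iff.1 (zQ_mem_center hS) q).symm
  have hsq : ∀ o, x o * x o = 1
    | none => by
      rw [← pow_two]
      exact CfsgLib.ExtraspecialBasic.pow_center_eq_one hS.2.2.1 (zQ_mem_center hS)
    | some k => (sqForm_eq_zero_iff hS hψ (hr k)).1 (sqForm_singVec hS hψ k)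
  have hcomm : ∀ o o', Commute (x o) (x o')
    | none, _ => hzc _
    | some k, none => (hzc _).symm
    | some k, some l =>
      (commForm_eq_zero_iff hS hψ (hr k) (hr l)).1 (commForm_singVec hS hψ k l)
  let E : Subgroup Q := Subgroup.closure (Set.range x)
  have hEcomm : ∀ a ∈ E, ∀ b ∈ E, Commute a b := by
    have h1 : ∀ o, ∀ b ∈ E, Commute (x o) b := fun o b hb => by
      induction hb using Subgroup.closure_induction with
      | mem y hy => obtain ⟨o', rfl⟩ := hy; exact hcomm o o'
      | one => exact Commute.one_right _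
      | mul a b _ _ ha hb => exact ha.mul_right hb
      | inv a _ ha => exact ha.inv_right
    intro a ha b hb
    induction ha using Subgroup.closure_induction with
    | mem y hy => obtain ⟨o', rfl⟩ := hy; exact h1 o' b hb
    | one => exact Commute.one_left _
    | mul a c _ _ ha hc => exact ha.mul_left hc
    | inv a _ ha => exact ha.inv_left
  have hEsq : ∀ a ∈ E, a * a = 1 := fun a ha => by
    induction ha using Subgroup.closure_induction with
    | mem y hy => obtain ⟨o', rfl⟩ := hy; exact hsq o'
    | one => exact one_mul 1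
    | mul a b ha hb iha ihb =>
      rw [show a * b * (a * b) = a * (b * a) * b by group, ← (hEcomm a ha b hb).eq]
      rw [show a * (a * b) * b = (a * a) * (b * b) by group, iha, ihb, one_mul]
    | inv a _ ih => rw [← mul_inv_rev, ih, inv_one]
  refine ⟨E, ⟨⟨⟨fun a b => Subtype.ext (hEcomm a a.2 b b.2)⟩⟩,
    fun a ha => by rw [pow_two]; exact hEsq a ha⟩, ?_⟩
  -- the combinations
  let w : (Fin 12 → ZMod 2) → leechLattice := fun s => ∑ k, (s k).val • singVec k
  have hw : ∀ s, ψ (w s) ∈ E.map (QuotientGroup.mk' (Subgroup.center Q)) := by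
    intro s
    refine Finset.sum_induction _ (fun v => ψ v ∈ E.map (QuotientGroup.mk' (Subgroup.center Q)))
      (fun a b ha hb => by rw [hψ.1]; exact mul_mem ha hb) (by rw [psi_zero hψ]; exact one_mem _) ?_
    intro k _
    rcases (by decide : ∀ t : ZMod 2, t.val = 0 ∨ t.val = 1) (s k) with h | h <;> rw [h]
    · rw [zero_smul, psi_zero hψ]; exact one_mem _
    · rw [one_smul, hr k]
      exact Subgroup.mem_map_of_mem _ (Subgroup.subset_closure ⟨some k, rfl⟩)
  have hinj : Function.Injective fun s => ψ (w s) := by
    intro s t hst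
    obtain ⟨u, hu⟩ := (psi_eq_iff hψ _ _).1 hst
    -- the sum of `s` and `t` gives a combination in twice the lattice
    obtain ⟨u', hu'⟩ : ∃ u' : leechLattice, w (s + t) = u' + u' := by
      refine ⟨w t + u - ∑ k, ((s k).val * (t k).val) • singVec k, ?_⟩
      have hval : ∀ a b : ZMod 2, (a + b).val + 2 * (a.val * b.val) = a.val + b.val := by decide
      have hsum : w (s + t) + (∑ k, ((s k).val * (t k).val) • singVec k +
          ∑ k, ((s k).val * (t k).val) • singVec k) = w s + w t := by
        simp only [w, ← Finset.sum_add_distrib, ← add_smul]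
        refine Finset.sum_congr rfl fun k _ => ?_
        rw [← hval (s k) (t k), Pi.add_apply]
        ring_nf
      rw [hu] at hsum
      rw [eq_sub_of_add_eq hsum]
      abel
    have h0 := comb_eq_zero hu'
    funext k
    have := congrFun h0 k
    revert this
    rw [Pi.add_apply, Pi.zero_apply]
    generalize s k = a, t k = b
    revert a b; decide
  -- counting
  have hker : Subgroup.center Q ≤ E := fun c hc => by
    rcases (mem_center_iff hS).1 hc with rfl | rfl
    · exact one_mem _
    · exact Subgroup.subset_closure ⟨none, rfl⟩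
  obtain ⟨π, hπ⟩ : ∃ π : E →* Q ⧸ Subgroup.center Q, ∀ a, π a = QuotientGroup.mk (a : Q) :=
    ⟨(QuotientGroup.mk' (Subgroup.center Q)).comp E.subtype, fun _ => rfl⟩
  have hrange : π.range = E.map (QuotientGroup.mk' (Subgroup.center Q)) := by
    ext y
    constructor
    · rintro ⟨a, rfl⟩; exact ⟨a, a.2, (hπ a).symm⟩
    · rintro ⟨a, ha, rfl⟩; exact ⟨⟨a, ha⟩, hπ _⟩
  have hkerc : Nat.card π.ker = 2 := by
    rw [← (hS.2.2.1.2 : Nat.card (Subgroup.center Q) = 2)]
    exact Nat.card_congr
      ⟨fun a => ⟨a.1.1, (QuotientGroup.eq_one_iff _).1 ((hπ a.1).symm.trans a.2)⟩,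
        fun c => ⟨⟨c.1, hker c.2⟩, (hπ _).trans ((QuotientGroup.eq_one_iff _).2 c.2)⟩,
        fun _ => rfl, fun _ => rfl⟩
  have hlow : 2 ^ 12 ≤ Nat.card π.range := by
    rw [hrange]
    refine le_trans (le_of_eq ?_) (Nat.card_le_card_of_injective
      (fun s => (⟨ψ (w s), hw s⟩ : E.map (QuotientGroup.mk' (Subgroup.center Q))))
      fun a b h => hinj (congrArg Subtype.val h))
    simp [Nat.card_eq_fintype_card]
  have hhigh : Nat.card π.range ≤ 2 ^ 12 := by
    -- every element of `E` is `z` to some power times a word in the twelve lifts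
    have hsub : (π.range : Set (Q ⧸ Subgroup.center Q)) ⊆ Set.range fun s => ψ (w s) := by
      rintro _ ⟨⟨a, ha⟩, rfl⟩
      rw [hπ]
      induction ha using Subgroup.closure_induction with
      | mem y hy =>
        obtain ⟨o, rfl⟩ := hy
        cases o with
        | none =>
          refine ⟨0, ?_⟩
          show ψ (w 0) = _
          rw [show w 0 = 0 by simp [w], psi_zero hψ]
          exact ((QuotientGroup.eq_one_iff _).2 (zQ_mem_center hS)).symm
        | some k =>
          refine ⟨Pi.single k 1, ?_⟩
          show ψ (w _) = _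
          rw [show w (Pi.single k 1) = singVec k by
            simp only [w]
            rw [Finset.sum_eq_single k (fun j _ hj => by simp [hj]) (by simp)]
            simp [ZMod.val_one], hr k]
          rfl
      | one => exact ⟨0, by show ψ (w 0) = _; rw [show w 0 = 0 by simp [w], psi_zero hψ]; rfl⟩
      | mul a b _ _ iha ihb =>
        obtain ⟨s, hs⟩ := iha
        obtain ⟨t, ht⟩ := ihb
        refine ⟨s + t, ?_⟩
        show ψ (w (s + t)) = _
        simp only at hs ht
        rw [QuotientGroup.mk_mul, ← hs, ← ht, ← hψ.1, psi_eq_iff hψ]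
        refine ⟨-∑ k, ((s k).val * (t k).val) • singVec k, ?_⟩
        have hval : ∀ a b : ZMod 2, (a + b).val + 2 * (a.val * b.val) = a.val + b.val := by decide
        have hsum : w (s + t) + (∑ k, ((s k).val * (t k).val) • singVec k +
            ∑ k, ((s k).val * (t k).val) • singVec k) = w s + w t := by
          simp only [w, ← Finset.sum_add_distrib, ← add_smul]
          refine Finset.sum_congr rfl fun k _ => ?_
          rw [← hval (s k) (t k), Pi.add_apply]
          ring_nf
        rw [eq_sub_of_add_eq hsum]
        abel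
      | inv a ha ih =>
        obtain ⟨s, hs⟩ := ih
        exact ⟨s, hs.trans (congrArg _ (inv_eq_of_mul_eq_one_left (hEsq a ha)).symm)⟩
    have h2 := Nat.card_mono (Set.finite_range _) hsub
    have h3 : Nat.card (Set.range fun s => ψ (w s)) ≤ Nat.card (Fin 12 → ZMod 2) :=
      Nat.card_le_card_of_surjective _ Set.rangeFactorization_surjective
    have h4 : Nat.card (Fin 12 → ZMod 2) = 2 ^ 12 := by simp [Nat.card_eq_fintype_card]
    exact (h2.trans h3).trans h4.le
  have h1 := π.ker.card_mul_index
  rw [Subgroup.index_ker, hkerc, le_antisymm hhigh hlow] at h1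
  omega

end CfsgLib.MonsterType
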