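import Cfsg.Agent.Leech.Co0
import Cfsg.Agent.Mathieu.M24Order
import Cfsg.Agent.Mathieu.Tables
import Cfsg.Agent.Mathieu.Code

/-!
# An element of order seven of the group of the code: centraliser, fixed words, chirality
-/

set_option autoImplicit false

namespace CfsgLib.MonsterType.Seven

open Cfsg CfsgLib.Leech CfsgLib.Mathieu

/-- The table of the element. -/
def tauTab : ℕ := 565685060407485883870906214808149348993368394238643017216

theorem tauTab_valid : tableValid tauTab = true := by decide +kernel

/-- The element of order seven, with three fixed points and three cycles. -/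
noncomputable def tau : Equiv.Perm GolayPt :=
  Equiv.ofBijective (tableFun tauTab) (tableFun_bijective tauTab_valid)

theorem tau_apply (p : GolayPt) : tau p = tableFun tauTab p := rfl

theorem tau_rep : Rep enc tau tauTab := fun p => by
  have h := tauTab_valid
  simp only [tableValid, Bool.and_eq_true, allBelow_iff, Nat.blt_eq] at h
  exact (idx_pt (h.1 _ (idx_lt p))).symm

theorem tau_mem : tau ∈ M24 := mem_M24_of_table tau_rep (by decide +kernel)

theorem tau_seven : ∀ p, tau (tau (tau (tau (tau (tau (tau p)))))) = p := by decide +kernel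

theorem tau_pow_seven : tau ^ 7 = 1 := Equiv.ext fun p => by
  simp only [pow_succ, pow_zero, one_mul, Equiv.Perm.mul_apply, Equiv.Perm.one_apply]
  exact tau_seven p

theorem tau_ne : tau ≠ 1 := fun h => absurd (congrArg (fun σ : Equiv.Perm GolayPt => σ (pt 1)) h)
  ((by decide +kernel : tau (pt 1) ≠ pt 1))

/-- The octad through the moved point `q`: it holds the cycle of `q`. -/
def octadAt (q : GolayPt) : ℕ :=
  ([12944642, 2110153, 1722420].find? fun M => M.testBit (idx q)).getD 0

/-- The cycle of a point. -/
noncomputable def cycleSet (q : GolayPt) : Finset GolayPt :=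
  (Finset.range 7).image fun i => (tau ^ i) q

theorem octadAt_spec : ∀ q : GolayPt, tau q ≠ q → (isCode (octadAt q) = true ∧ wt (octadAt q) = 8 ∧
    (cycleSet q).card = 7 ∧ ∀ i < 7, (tau ^ i) q ∈ setOf24 (octadAt q)) := by decide +kernel

/-- The derivation from ten fixed points. -/
def tenDerivation : List FixStep :=
  [.octad 36294, .octad 69395, .inter 0 1, .single 2, .octad 4299781, .single 3, .octad 5279,
    .octad 15777, .inter 4 5, .single 6, .octad 36294, .single 7, .octad 351362, .single 8,
    .octad 153797, .single 9, .octad 5279, .octad 69395, .inter 10 11, .single 12, .octad 5279,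
    .single 13, .octad 69395, .single 14, .octad 18147, .single 15, .octad 10558, .single 16,
    .octad 525274, .single 17, .octad 1050548, .single 18, .octad 2101096, .single 19]

theorem commute_apply {σ : Equiv.Perm GolayPt} (h : Commute σ tau) (p : GolayPt) :
    σ (tau p) = tau (σ p) := congrArg (fun f : Equiv.Perm GolayPt => f p) h.eq

theorem commute_apply_pow {σ : Equiv.Perm GolayPt} (h : Commute σ tau) (i : ℕ) (p : GolayPt) :
    σ ((tau ^ i) p) = (tau ^ i) (σ p) :=
  congrArg (fun f : Equiv.Perm GolayPt => f p) (h.pow_right i).eq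

/-- The image of the octad of a moved point is the octad of the image. -/
theorem image_octadAt {σ : Equiv.Perm GolayPt} (hσ : σ ∈ M24) (hc : Commute σ tau) {q : GolayPt}
    (hq : tau q ≠ q) : (setOf24 (octadAt q)).image σ = setOf24 (octadAt (σ q)) := by
  have hq' : tau (σ q) ≠ σ q := fun h => hq (σ.injective (by rw [commute_apply hc, h]))
  obtain ⟨hO, hw, hcard, hmem⟩ := octadAt_spec q hq
  obtain ⟨hO', hw', -, hmem'⟩ := octadAt_spec (σ q) hq'
  refine octads_eq_of_five_le (octad_image hσ (setOf24_mem_wordsOfWeight hO hw))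
    (setOf24_mem_wordsOfWeight hO' hw') ?_
  calc 5 ≤ ((cycleSet q).image σ).card := by
        rw [Finset.card_image_of_injective _ σ.injective, hcard]; norm_num
    _ ≤ _ := by
      refine Finset.card_le_card fun x hx => ?_
      obtain ⟨y, hy, rfl⟩ := Finset.mem_image.1 hx
      obtain ⟨i, hi, rfl⟩ := Finset.mem_image.1 hy
      rw [Finset.mem_range] at hi
      exact Finset.mem_inter.2 ⟨Finset.mem_image_of_mem _ (hmem i hi),
        by rw [commute_apply_pow hc]; exact hmem' i hi⟩

/-- An element commuting with `tau` is trivial once it fixes a moved point and a fixed one outside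
the octad of the moved point. -/
theorem eq_one_of_fix {σ : Equiv.Perm GolayPt} (hσ : σ ∈ M24) (hc : Commute σ tau)
    (h1 : σ (pt 1) = pt 1) (h0 : σ (pt 0) = pt 0) : σ = 1 := by
  have hO : (setOf24 (octadAt (pt 1))).image σ = setOf24 (octadAt (pt 1)) := by
    have := image_octadAt hσ hc (q := pt 1) (by decide +kernel)
    rwa [h1] at this
  have hfix : ∀ p, tau p = p → tau (σ p) = σ p := fun p hp => by rw [← commute_apply hc, hp]
  have h23 : σ (pt 23) = pt 23 := by
    have hn : σ (pt 23) ∈ setOf24 (octadAt (pt 1)) := by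
      rw [← hO]; exact Finset.mem_image_of_mem _ (by decide +kernel)
    exact (by decide +kernel : ∀ p, tau p = p → p ∈ setOf24 (octadAt (pt 1)) → p = pt 23) _
      (hfix _ (by decide +kernel)) hn
  have h2 : σ (pt 2) = pt 2 := by
    rcases (by decide +kernel : ∀ p, tau p = p → p = pt 0 ∨ p = pt 2 ∨ p = pt 23) _
      (hfix (pt 2) (by decide +kernel)) with h | h | h
    · exact absurd (σ.injective (h.trans h0.symm)) (by decide +kernel)
    · exact h
    · exact absurd (σ.injective (h.trans h23.symm)) (by decide +kernel)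
  refine derivesAll_sound hσ tenDerivation 12944647 [] ?_ (by simp) (by decide +kernel)
  intro p hp
  have hp' := (by decide +kernel : ∀ p ∈ setOf24 12944647, p = pt 0 ∨ p = pt 2 ∨ p = pt 23 ∨
    ∃ i ∈ Finset.range 7, p = (tau ^ i) (pt 1)) p hp
  rcases hp' with rfl | rfl | rfl | ⟨i, -, rfl⟩
  exacts [h0, h2, h23, by rw [commute_apply_pow hc, h1]]

/-- The possible images of the two base points. -/
noncomputable def basePairs : Finset (GolayPt × GolayPt) :=
  Finset.univ.filter fun x => tau x.1 ≠ x.1 ∧ tau x.2 = x.2 ∧ x.2 ∉ setOf24 (octadAt x.1)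

/-- The centraliser of `tau` in the group of the code has at most 42 elements. -/
theorem card_centralizer_le :
    Nat.card {σ : Equiv.Perm GolayPt // σ ∈ M24 ∧ Commute σ tau} ≤ 42 := by
  let f : {σ : Equiv.Perm GolayPt // σ ∈ M24 ∧ Commute σ tau} → basePairs := fun σ =>
    ⟨(σ.1 (pt 1), σ.1 (pt 0)), Finset.mem_filter.2 ⟨Finset.mem_univ _, fun h =>
      absurd (σ.1.injective (show σ.1 (tau (pt 1)) = σ.1 (pt 1) by rw [commute_apply σ.2.2, h]))
        ((by decide +kernel : tau (pt 1) ≠ pt 1)),
      by rw [← commute_apply σ.2.2]; exact congrArg σ.1 (by decide +kernel : tau (pt 0) = pt 0),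
      by
        rw [← image_octadAt σ.2.1 σ.2.2 (q := pt 1) (by decide +kernel)]
        intro h
        obtain ⟨y, hy, he⟩ := Finset.mem_image.1 h
        rw [σ.1.injective he] at hy
        exact absurd hy (by decide +kernel)⟩⟩
  have hf : Function.Injective f := fun a b h => by
    have e1 : a.1 (pt 1) = b.1 (pt 1) := congrArg (fun x => x.1.1) h
    have e2 : a.1 (pt 0) = b.1 (pt 0) := congrArg (fun x => x.1.2) h
    refine Subtype.ext (inv_mul_eq_one.1 (eq_one_of_fix (mul_mem (inv_mem b.2.1) a.2.1)
      (b.2.2.inv_left.mul_left a.2.2) ?_ ?_)).symm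
    · rw [Equiv.Perm.mul_apply, e1, perm_inv_apply]
    · rw [Equiv.Perm.mul_apply, e2, perm_inv_apply]
  refine (Nat.card_le_card_of_injective f hf).trans ?_
  rw [Nat.card_eq_finsetCard]
  exact (by decide +kernel : basePairs.card = 42).le

/-- The masks of the fixed code words. -/
def fixedMasks : List ℕ :=
  [0, 1722420, 2110153, 3832573, 12944642, 14667062, 15054795, 16777215]

theorem fixed_mask_check : allBelow 4096 (fun m => push tauTab 24 (codeMask m) != codeMask m ||
    fixedMasks.contains (codeMask m)) = true := by decide +kernel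

theorem fixed_mask (m : ℕ) (hm : m < 4096) (h : push tauTab 24 (codeMask m) = codeMask m) :
    codeMask m ∈ fixedMasks := by
  have := allBelow_iff.1 fixed_mask_check m hm
  simpa [h] using this

/-- A supported set invariant under `tau` is one of the eight. -/
theorem fixed_support {c : Finset GolayPt}
    (hc : c ∈ supports (golayCode : Set (GolayPt → ZMod 2))) (h : ∀ p, tau p ∈ c ↔ p ∈ c) :
    ∃ M ∈ fixedMasks, c = setOf24 M := by
  rw [supports_eq] at hc
  obtain ⟨M, hM, rfl⟩ := hc
  have hM' : isCode M = true := hM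
  obtain ⟨m, hm, rfl⟩ := exists_codeMask hM
  refine ⟨_, fixed_mask m hm (Nat.eq_of_testBit_eq fun i => ?_), rfl⟩
  rw [Bool.eq_iff_iff, testBit_push]
  constructor
  · rintro ⟨j, hj, hb, rfl⟩
    have hp : pt j ∈ setOf24 (codeMask m) := mem_setOf24.2 (by rwa [idx_pt hj])
    have := (h (pt j)).2 hp
    rw [mem_setOf24, show idx (tau (pt j)) = app tauTab (idx (pt j)) from (tau_rep (pt j)).symm,
      idx_pt hj] at this
    exact this
  · intro hb
    have hi : i < 24 := by
      by_contra hc'
      rw [Nat.testBit_lt_two_pow ((isCode_lt hM).trans_le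
        (Nat.pow_le_pow_right (by norm_num) (by omega)))] at hb
      exact Bool.false_ne_true hb
    obtain ⟨p, hp⟩ := tau.surjective (pt i)
    have hmem : p ∈ setOf24 (codeMask m) := (h p).1 (by rw [hp, mem_setOf24, idx_pt hi]; exact hb)
    refine ⟨idx p, idx_lt p, mem_setOf24.1 hmem, ?_⟩
    have : app tauTab (idx p) = idx (tau p) := tau_rep p
    rwa [hp, idx_pt hi] at this

/-! ### Chirality -/

/-- An iterate of the table. -/
def pw : ℕ → ℕ → ℕ
  | 0, i => i
  | d + 1, i => app tauTab (pw d i)

theorem idx_tau_pow (d : ℕ) (p : GolayPt) : idx ((tau ^ d) p) = pw d (idx p) := by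
  induction d with
  | zero => rfl
  | succ d ih =>
    rw [pow_succ', Equiv.Perm.mul_apply, pw, ← ih]
    exact (tau_rep _).symm

/-- No octad holds the fixed points and `i`, `d` and three times `d` steps after it, for `d` a
non-square modulo seven. -/
theorem chiral_check : allBelow 4096 (fun m => (wt (codeMask m) != 8 ||
    codeMask m &&& 8388613 != 8388613) || allBelow 24 (fun i => app tauTab i == i ||
      [3, 5, 6].all fun d => !((codeMask m).testBit i && (codeMask m).testBit (pw d i) &&
        (codeMask m).testBit (pw (3 * d) i)))) = true := by decide +kernel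

/-- The element is conjugate to no power with a non-square exponent. -/
theorem not_conj {σ : Equiv.Perm GolayPt} (hσ : σ ∈ M24) {d : ℕ} (hd : d ∈ [3, 5, 6])
    (h : ∀ p, σ (tau p) = (tau ^ d) (σ p)) : False := by
  have hpow : ∀ (i : ℕ) (p : GolayPt), σ ((tau ^ i) p) = (tau ^ (d * i)) (σ p) := by
    intro i
    induction i with
    | zero => intro p; simp
    | succ i ih =>
      intro p
      rw [pow_succ', Equiv.Perm.mul_apply, h, ih, ← Equiv.Perm.mul_apply, ← pow_add]
      congr 2; ring
  have hfix : ∀ p, tau p = p → tau (σ p) = σ p := by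
    intro p hp
    have h1 := h p
    rw [hp] at h1
    obtain ⟨e, he⟩ : ∃ e, d * e % 7 = 1 := by
      simp only [List.mem_cons, List.not_mem_nil, or_false] at hd
      rcases hd with rfl | rfl | rfl
      exacts [⟨5, rfl⟩, ⟨3, rfl⟩, ⟨6, rfl⟩]
    have hfe : ∀ e, (tau ^ (d * e)) (σ p) = σ p := by
      intro e
      induction e with
      | zero => rfl
      | succ e ih => rw [Nat.mul_succ, pow_add, Equiv.Perm.mul_apply, ← h1, ih]
    have := hfe e
    rwa [pow_eq_pow_mod (d * e) tau_pow_seven, he, pow_one] at this
  have hO : isCode 12656663 = true ∧ wt 12656663 = 8 := by decide +kernel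
  have hO' := octad_image hσ (setOf24_mem_wordsOfWeight hO.1 hO.2)
  obtain ⟨hsup, hcard⟩ := hO'
  rw [supports_eq] at hsup
  obtain ⟨M, hM, hMe⟩ := hsup
  rw [← hMe, card_setOf24] at hcard
  obtain ⟨m, hm, rfl⟩ := exists_codeMask hM
  have hin : ∀ p, p ∈ setOf24 12656663 → (codeMask m).testBit (idx (σ p)) = true := fun p hp => by
    rw [← mem_setOf24, hMe]
    exact Finset.mem_image_of_mem _ hp
  have h6 : pt 0 ∈ setOf24 12656663 ∧ pt 2 ∈ setOf24 12656663 ∧ pt 23 ∈ setOf24 12656663 ∧
      pt 1 ∈ setOf24 12656663 ∧ (tau ^ 1) (pt 1) ∈ setOf24 12656663 ∧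
      (tau ^ 3) (pt 1) ∈ setOf24 12656663 ∧ tau (pt 0) = pt 0 ∧ tau (pt 2) = pt 2 ∧
      tau (pt 23) = pt 23 ∧ tau (pt 1) ≠ pt 1 := by decide +kernel
  obtain ⟨a0, a2, a23, a1, b1, b3, f0, f2, f23, m1⟩ := h6
  have hF : codeMask m &&& 8388613 = 8388613 := by
    refine Nat.eq_of_testBit_eq fun i => ?_
    rw [Nat.testBit_and]
    by_cases hb : (8388613 : ℕ).testBit i = true
    · rw [hb, Bool.and_true]
      have hi : i < 24 := by
        by_contra hc'
        rw [Nat.testBit_lt_two_pow (lt_of_lt_of_le (by norm_num : (8388613 : ℕ) < 2 ^ 24)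
          (Nat.pow_le_pow_right (by norm_num) (by omega)))] at hb
        exact Bool.false_ne_true hb
      have himg : ∀ p, tau p = p → ∃ r, tau r = r ∧ σ r = p := by
        intro p hp
        obtain ⟨r, rfl⟩ := σ.surjective p
        refine ⟨r, σ.injective ?_, rfl⟩
        have hrd : ∀ e, (tau ^ e) (σ r) = σ r := by
          intro e
          induction e with
          | zero => rfl
          | succ e ih => rw [pow_succ, Equiv.Perm.mul_apply, hp, ih]
        rw [h, hrd]
      obtain ⟨r, hr, hre⟩ := himg (pt i) ((by decide +kernel : ∀ j < 24,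
        (8388613 : ℕ).testBit j = true → tau (pt j) = pt j) i hi hb)
      have hr' := (by decide +kernel : ∀ p, tau p = p → p ∈ setOf24 12656663) r hr
      have := hin r hr'
      rwa [hre, idx_pt hi] at this
    · simp [hb]
  have key := allBelow_iff.1 chiral_check m hm
  simp only [hcard, hF, bne_self_eq_false, Bool.false_or, allBelow_iff] at key
  have key' := key (idx (σ (pt 1))) (idx_lt _)
  have e1 := hin _ b1
  have e3 := hin _ b3
  rw [hpow, idx_tau_pow, mul_one] at e1
  rw [hpow, idx_tau_pow, mul_comm] at e3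
  have hne : app tauTab (idx (σ (pt 1))) ≠ idx (σ (pt 1)) := by
    intro he
    rw [show app tauTab (idx (σ (pt 1))) = idx (tau (σ (pt 1))) from tau_rep _] at he
    have hfp : tau (σ (pt 1)) = σ (pt 1) := idx_injective he
    have hall : ∀ e, (tau ^ e) (σ (pt 1)) = σ (pt 1) := by
      intro e
      induction e with
      | zero => rfl
      | succ e ih => rw [pow_succ, Equiv.Perm.mul_apply, hfp, ih]
    exact m1 (σ.injective (by rw [h, hall]))
  simp only [Bool.or_eq_true, beq_iff_eq, hne, false_or, List.all_eq_true] at key'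
  have := key' d hd
  rw [hin _ a1, e1, e3] at this
  simp at this

end CfsgLib.MonsterType.Seven
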