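import Cfsg.Agent.MonsterType.FrameClass
import Cfsg.Agent.MonsterType.PlusType
import Cfsg.Agent.MonsterType.FiveClasses
import Cfsg.Agent.MonsterType.SevenElement

/-!
# The classes of the lattice modulo two fixed by an element of order seven
-/

set_option autoImplicit false

namespace CfsgLib.MonsterType.Seven

open Cfsg CfsgLib.Leech CfsgLib.Mathieu
open CfsgLib.MonsterType.Five (halfB cong_of_half Acts exists_acts selSum selSum_xor smul_selSum mono_inj)

/-! ### Elements given by maps of coordinate lists -/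

/-- The composite of two list maps. -/
def compL (f f' : List ℤ → List ℤ) : List ℤ → List ℤ := fun l => f (toList (vec (f' l)))

theorem acts_mul {g g' : Co0} {f f' : List ℤ → List ℤ} (hg : Acts g f) (hg' : Acts g' f') :
    Acts (g * g') (compL f f') := fun x => by
  rw [mul_smul, hg, hg' x]; rfl

theorem acts_one : Acts 1 id := fun x => by rw [one_smul]; exact (vec_toList _).symm

theorem acts_pow {g : Co0} {f : List ℤ → List ℤ} (hg : Acts g f) :
    ∀ n : ℕ, Acts (g ^ n) ((compL f)^[n] id)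
  | 0 => by rw [pow_zero]; exact acts_one
  | n + 1 => by rw [pow_succ', Function.iterate_succ_apply']; exact acts_mul hg (acts_pow hg n)

/-- Two list maps agree on a vector. -/
def sameB (f f' : List ℤ → List ℤ) (y : GolayPt → ℤ) : Bool :=
  decide (∀ p, vec (f (toList y)) p = vec (f' (toList y)) p)

/-- Two list maps agree on the generators of the lattice. -/
def sameGen (f f' : List ℤ → List ℤ) : Bool :=
  sameB f f' oddVec && codeRows.all (fun r => sameB f f' (twiceMask r)) &&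
    decide (∀ p : ZMod 23, sameB f f' (pairVec p 1) = true ∧ sameB f f' (pairVec p (-1)) = true)

theorem hmem_gen : ∀ c ∈ AddSubgroup.closure genSet, c ∈ leechLattice := fun _ hc =>
  (AddSubgroup.closure_le _).2 (fun y hy => (genSet_spec y hy).1) hc

theorem eq_of_acts {g g' : Co0} {f f' : List ℤ → List ℤ} (hg : Acts g f) (hg' : Acts g' f')
    (h : sameGen f f' = true) : g = g' := by
  simp only [sameGen, Bool.and_eq_true, decide_eq_true_eq, List.all_eq_true] at h
  obtain ⟨⟨h1, h2⟩, h3⟩ := h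
  have key : ∀ y ∈ genSet, sameB f f' y = true := by
    intro y hy
    rcases hy with (rfl | ⟨r, hr, rfl⟩) | ⟨p, t, rfl | rfl, rfl⟩
    exacts [h1, h2 r hr, (h3 p).1, (h3 p).2]
  refine co0_ext fun v => ?_
  obtain ⟨x, hx⟩ := v
  refine (AddSubgroup.closure_induction
    (p := fun y _ => ∀ hy : y ∈ leechLattice, g • (⟨y, hy⟩ : leechLattice) = g' • ⟨y, hy⟩)
    ?_ ?_ ?_ ?_ (mem_closure_genSet hx)) hx
  · intro y hy hy'
    refine Subtype.ext (funext fun p => ?_)
    have := key y hy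
    simp only [sameB, decide_eq_true_eq] at this
    rw [hg, hg']
    exact this p
  · intro _
    show co0Hom g 0 = co0Hom g' 0
    rw [map_zero, map_zero]
  · intro a b ha hb iha ihb hab
    have e : (⟨a + b, hab⟩ : leechLattice) = ⟨a, hmem_gen a ha⟩ + ⟨b, hmem_gen b hb⟩ := rfl
    rw [e, co0_add, co0_add, iha, ihb]
  · intro a ha iha hab
    have e : (⟨-a, hab⟩ : leechLattice) = -⟨a, hmem_gen a ha⟩ := rfl
    rw [e, co0_neg, co0_neg, iha]

/-! ### The element -/

/-- The monomial element of order seven. -/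
noncomputable def T : Co0 := monoCo0 tau tau_mem ∅ Spor.empty_mem_supports_golayCode

/-- Its centraliser. -/
noncomputable def C0 : Subgroup Co0 := Subgroup.centralizer {T}

theorem T_smul (v : leechLattice) (p : GolayPt) :
    ((T • v : leechLattice) : GolayPt → ℤ) p = (v : GolayPt → ℤ) (tau p) := by
  rw [T, monoCo0_smul]; simp [monoFun]

theorem T_pow_smul : ∀ (n : ℕ) (v : leechLattice) (p : GolayPt),
    ((T ^ n • v : leechLattice) : GolayPt → ℤ) p = (v : GolayPt → ℤ) ((tau ^ n) p)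
  | 0, v, p => by simp
  | n + 1, v, p => by
    rw [pow_succ', mul_smul, T_smul, T_pow_smul n, ← Equiv.Perm.mul_apply, ← pow_succ]

theorem T_pow_seven : T ^ 7 = 1 := co0_ext fun v => Subtype.ext (funext fun p => by
  rw [T_pow_smul, tau_pow_seven, one_smul]; rfl)

theorem T_ne_one : T ≠ 1 := fun h => by
  have := congrFun (congrArg (fun v : leechLattice => (v : GolayPt → ℤ))
    (congrArg (fun g : Co0 => g • eightL (pt 1)) h)) (pt 1)
  simp only [T_smul, one_smul] at this
  exact absurd this (by decide +kernel)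

theorem orderOf_T : orderOf T = 7 :=
  haveI : Fact (Nat.Prime 7) := ⟨by norm_num⟩
  orderOf_eq_prime T_pow_seven T_ne_one

theorem neg_ne_pow (k : ℕ) : negCo0 ≠ T ^ k := fun h => negCo0_ne_one (by
  have h7 : negCo0 ^ 7 = 1 := by rw [h, ← pow_mul, mul_comm, pow_mul, T_pow_seven, one_pow]
  rwa [pow_succ, show (6 : ℕ) = 2 * 3 from rfl, pow_mul, sq negCo0, negCo0_sq, one_pow, one_mul] at h7)

theorem T_mem_classStab : T ∈ classStab frameV := monoCo0_mem_classStab _ _

/-- The list map of the element. -/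
def fT : List ℤ → List ℤ := Mv.act (.mono tauTab 0)

theorem acts_T : Acts T fT := fun x => funext fun p => by
  rw [T_smul, fT, Mv.act, vec_map_range, Nat.zero_testBit,
    show app tauTab (idx p) = idx (tau p) from tau_rep p]
  exact (congrFun (vec_toList (x : GolayPt → ℤ)) (tau p)).symm

/-- A list map carries the element to its power `d`. -/
def twistB (f : List ℤ → List ℤ) (d : ℕ) : Bool := sameGen (compL f fT) (compL ((compL fT)^[d] id) f)

theorem twist_of_check {g : Co0} {f : List ℤ → List ℤ} (hg : Acts g f) {d : ℕ}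
    (h : twistB f d = true) : g * T * g⁻¹ = T ^ d :=
  mul_inv_eq_iff_eq_mul.2 (eq_of_acts (acts_mul hg acts_T) (acts_mul (acts_pow acts_T d) hg) h)

/-! ### The classes -/

/-- The basis of the fixed classes. -/
def basisL : List (List ℤ) :=
  [
    [0, 0, 0, 0, 0, 0, 0, 0, 0, 0, 0, 0, 0, 0, 0, 0, 0, 0, 0, 0, 0, 0, 0, 8],
    [-2, 0, 2, 2, -2, -2, 2, 2, 0, 2, 0, -2, 2, 2, -2, 0, 0, -2, 0, -2, -2, 2, 0, 0],
    [-2, -2, 0, 2, 0, 0, 2, 2, -2, 2, -2, 0, 2, 2, 0, -2, -2, 0, -2, 0, 0, 2, -2, 2],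
    [-5, -1, -3, -1, 1, 1, -1, -1, -1, -1, -1, 1, -1, -1, 1, -1, -1, 1, -1, 1, 1, -1, -1, 3],
    [-5, -1, 3, -1, -1, -1, -1, -1, -1, -1, -1, -1, -1, -1, -1, -1, -1, -1, -1, -1, -1, -1, -1, 3],
    [-5, 1, -3, -1, 1, 1, -1, -1, 1, -1, 1, 1, -1, -1, 1, 1, 1, 1, 1, 1, 1, -1, 1, -3]]

theorem basisL_mem : ∀ i : Fin 6, leechB (vec (basisL.getD i [])) = true := by decide +kernel

/-- The basis vectors. -/
def bv (i : Fin 6) : leechLattice := ⟨vec (basisL.getD i []), leechB_iff.1 (basisL_mem i)⟩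

/-- The class number `k`. -/
def cls (k : Fin 64) : leechLattice := selSum (List.ofFn bv) k

theorem cls_zero : cls 0 = 0 := by
  refine Subtype.ext (funext ?_)
  decide +kernel

/-- The sum of two class numbers. -/
def xadd (j k : Fin 64) : Fin 64 := ⟨(j : ℕ) ^^^ k, Nat.xor_lt_two_pow (n := 6) j.2 k.2⟩

theorem cls_add (j k : Fin 64) : Cong (cls j + cls k) (cls (xadd j k)) := selSum_xor _ _ _

theorem cls_fixed (k : Fin 64) : T • cls k = cls k := by
  refine Subtype.ext (funext fun p => ?_)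
  rw [T_smul]
  exact (by decide +kernel : ∀ (k : Fin 64) (p : GolayPt),
    (cls k : GolayPt → ℤ) (tau p) = (cls k : GolayPt → ℤ) p) k p

/-- The parities of the products with the basis. -/
def parity (v : GolayPt → ℤ) : ℕ :=
  (List.finRange 6).foldr (fun i acc =>
    (if (16 : ℤ) ∣ dotInt v (bv i : GolayPt → ℤ) then 0 else 1) + 2 * acc) 0

theorem parity_congr {v w : leechLattice} (h : Cong v w) :
    parity (v : GolayPt → ℤ) = parity (w : GolayPt → ℤ) := by
  simp only [parity, dot_dvd_of_cong h]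

/-- The number of a class, from the parities. -/
def idxFun (v : GolayPt → ℤ) : Fin 64 :=
  ⟨xorSel [16, 24, 40, 6, 3, 4] (parity v) % 64, Nat.mod_lt _ (by norm_num)⟩

/-- The number of the class of a lattice vector. -/
def clsIdx (v : leechLattice) : Fin 64 := idxFun v

theorem clsIdx_cls : ∀ k, clsIdx (cls k) = k := by decide +kernel

theorem clsIdx_congr {v w : leechLattice} (h : Cong v w) : clsIdx v = clsIdx w :=
  Fin.ext (by simp only [clsIdx, idxFun, parity_congr h])

theorem cls_nondeg : ∀ k : Fin 64, k ≠ 0 →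
    ∃ i : Fin 6, ¬ (16 : ℤ) ∣ dotInt (cls k : GolayPt → ℤ) (bv i : GolayPt → ℤ) := by decide +kernel

theorem bv_eq_cls : ∀ i : Fin 6, ∀ p, (bv i : GolayPt → ℤ) p =
    (cls ⟨2 ^ (i : ℕ), Nat.pow_lt_pow_right (by norm_num) i.2⟩ : GolayPt → ℤ) p := by
  decide +kernel

/-- The sum of a vector over a cycle. -/
noncomputable def spread (y : GolayPt → ℤ) : GolayPt → ℤ := fun p =>
  y p + y (tau p) + y (tau (tau p)) + y (tau (tau (tau p))) + y (tau (tau (tau (tau p)))) +
    y (tau (tau (tau (tau (tau p))))) + y (tau (tau (tau (tau (tau (tau p))))))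

theorem spread_class : ∀ y ∈ genSet, ∃ k : Fin 64, ∀ hy : spread y ∈ leechLattice,
    Cong (⟨spread y, hy⟩ : leechLattice) (cls k) := by
  have h1 : halfB (fun p => spread oddVec p -
      (cls (idxFun (spread oddVec)) : GolayPt → ℤ) p) = true := by decide +kernel
  have h2 : ∀ r ∈ codeRows, halfB (fun p => spread (twiceMask r) p -
      (cls (idxFun (spread (twiceMask r))) : GolayPt → ℤ) p) = true := by decide +kernel
  have h3 : ∀ q : ZMod 23, halfB (fun p => spread (pairVec q 1) p -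
      (cls (idxFun (spread (pairVec q 1))) : GolayPt → ℤ) p) = true ∧
      halfB (fun p => spread (pairVec q (-1)) p -
      (cls (idxFun (spread (pairVec q (-1)))) : GolayPt → ℤ) p) = true := by decide +kernel
  intro y hy
  refine ⟨idxFun (spread y), fun _ => cong_of_half ?_⟩
  rcases hy with (rfl | ⟨r, hr, rfl⟩) | ⟨p, t, rfl | rfl, rfl⟩
  exacts [h1, h2 r hr, (h3 p).1, (h3 p).2]

/-- The sum of the images under the powers of the element. -/
noncomputable def orbitSum : leechLattice →+ leechLattice :=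
  AddMonoidHom.mk' (fun v => v + T • v + T • T • v + T • T • T • v + T • T • T • T • v +
    T • T • T • T • T • v + T • T • T • T • T • T • v) fun a b => by
    simp only [co0_add]; abel

theorem orbitSum_coe (v : leechLattice) :
    ((orbitSum v : leechLattice) : GolayPt → ℤ) = spread (v : GolayPt → ℤ) := funext fun p => by
  simp only [orbitSum, AddMonoidHom.mk'_apply, AddSubgroup.coe_add, Pi.add_apply, T_smul, spread]

theorem orbitSum_class (v : leechLattice) : ∃ k : Fin 64, Cong (orbitSum v) (cls k) := by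
  obtain ⟨x, hx⟩ := v
  refine (AddSubgroup.closure_induction
    (p := fun y _ => ∀ hy : y ∈ leechLattice, ∃ k : Fin 64, Cong (orbitSum ⟨y, hy⟩) (cls k))
    ?_ ?_ ?_ ?_ (mem_closure_genSet hx)) hx
  · intro y hy hy'
    obtain ⟨k, hk⟩ := spread_class y hy
    have hs : spread y ∈ leechLattice := orbitSum_coe ⟨y, hy'⟩ ▸ (orbitSum ⟨y, hy'⟩).2
    exact ⟨k, (show orbitSum ⟨y, hy'⟩ = ⟨spread y, hs⟩ from Subtype.ext (orbitSum_coe _)) ▸ hk hs⟩
  · intro h0
    exact ⟨0, by rw [cls_zero, show (⟨0, h0⟩ : leechLattice) = 0 from rfl, map_zero]; exact Cong.refl _⟩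
  · intro a b ha hb iha ihb hab
    obtain ⟨j, hj⟩ := iha (hmem_gen a ha)
    obtain ⟨k, hk⟩ := ihb (hmem_gen b hb)
    refine ⟨_, Cong.trans ?_ (cls_add j k)⟩
    rw [show (⟨a + b, hab⟩ : leechLattice) = ⟨a, hmem_gen a ha⟩ + ⟨b, hmem_gen b hb⟩ from rfl, map_add]
    exact hj.add hk
  · intro a ha iha hab
    obtain ⟨j, hj⟩ := iha (hmem_gen a ha)
    refine ⟨j, Cong.trans ?_ hj⟩
    rw [show (⟨-a, hab⟩ : leechLattice) = -⟨a, hmem_gen a ha⟩ from rfl, map_neg]
    exact Cong.neg _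

/-- A class fixed by the element is one of the 64. -/
theorem cls_complete {v : leechLattice} (h : Cong (T • v) v) : Cong v (cls (clsIdx v)) := by
  obtain ⟨k, hk⟩ := orbitSum_class v
  have h2 := (h.smul T).trans h
  have h3 := (h2.smul T).trans h
  have h4 := (h3.smul T).trans h
  have h5 := (h4.smul T).trans h
  have h6 := (h5.smul T).trans h
  have hsum : Cong (orbitSum v) v :=
    Cong.trans (((((((Cong.refl v).add h).add h2).add h3).add h4).add h5).add h6)
      ⟨v + v + v, by abel⟩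
  have hvk : Cong v (cls k) := hsum.symm.trans hk
  rwa [clsIdx_congr hvk, clsIdx_cls]

/-- The classes of vectors of a cross. -/
def isFrame (k : Fin 64) : Bool := decide (k ≠ 0 ∧ ((k : ℕ) < 8 ∨ (k : ℕ) % 8 = 0))

/-- Short vectors of the other singular classes. -/
def shortList : List (ℕ × List ℤ) :=
  [
    (11, [-1, 1, 1, -1, 1, 1, -1, -1, 1, -1, 1, 1, -1, -1, 1, 1, 1, 1, 1, 1, 1, -1, 1, -3]),
    (12, [-1, -1, 3, -1, -1, -1, -1, -1, -1, -1, -1, -1, -1, -1, -1, -1, -1, -1, -1, -1, -1, -1, -1, -1]),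
    (15, [-3, -1, 1, 1, 1, 1, 1, 1, -1, 1, -1, 1, 1, 1, 1, -1, -1, 1, -1, 1, 1, 1, -1, -1]),
    (18, [-1, 1, -1, -1, -1, -1, -1, -1, 1, -1, 1, -1, -1, -1, -1, 1, 1, -1, 1, -1, -1, -1, 1, -3]),
    (20, [-1, -1, -3, -1, 1, 1, -1, -1, -1, -1, -1, 1, -1, -1, 1, -1, -1, 1, -1, 1, 1, -1, -1, -1]),
    (22, [-3, -1, -1, 1, -1, -1, 1, 1, -1, 1, -1, -1, 1, 1, -1, -1, -1, -1, -1, -1, -1, 1, -1, -1]),
    (25, [0, 0, -2, 0, -2, -2, 0, 0, 0, 0, 0, -2, 0, 0, -2, 0, 0, -2, 0, -2, -2, 0, 0, 0]),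
    (28, [-4, 0, 0, 0, 0, 0, 0, 0, 0, 0, 0, 0, 0, 0, 0, 0, 0, 0, 0, 0, 0, 0, 0, 4]),
    (29, [-4, 0, 0, 0, 0, 0, 0, 0, 0, 0, 0, 0, 0, 0, 0, 0, 0, 0, 0, 0, 0, 0, 0, -4]),
    (35, [-1, -1, 1, -1, 1, 1, -1, -1, -1, -1, -1, 1, -1, -1, 1, -1, -1, 1, -1, 1, 1, -1, -1, 3]),
    (37, [-1, 1, 3, -1, -1, -1, -1, -1, 1, -1, 1, -1, -1, -1, -1, 1, 1, -1, 1, -1, -1, -1, 1, 1]),
    (38, [-3, 1, 1, 1, 1, 1, 1, 1, 1, 1, 1, 1, 1, 1, 1, 1, 1, 1, 1, 1, 1, 1, 1, 1]),
    (41, [0, -2, 0, 0, 0, 0, 0, 0, -2, 0, -2, 0, 0, 0, 0, -2, -2, 0, -2, 0, 0, 0, -2, -2]),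
    (42, [-4, 0, 4, 0, 0, 0, 0, 0, 0, 0, 0, 0, 0, 0, 0, 0, 0, 0, 0, 0, 0, 0, 0, 0]),
    (43, [-4, 0, -4, 0, 0, 0, 0, 0, 0, 0, 0, 0, 0, 0, 0, 0, 0, 0, 0, 0, 0, 0, 0, 0]),
    (49, [-2, 0, 0, -2, 0, 0, -2, -2, 0, -2, 0, 0, -2, -2, 0, 0, 0, 0, 0, 0, 0, -2, 0, 0]),
    (54, [0, 0, -4, 0, 0, 0, 0, 0, 0, 0, 0, 0, 0, 0, 0, 0, 0, 0, 0, 0, 0, 0, 0, 4]),
    (55, [0, 0, -4, 0, 0, 0, 0, 0, 0, 0, 0, 0, 0, 0, 0, 0, 0, 0, 0, 0, 0, 0, 0, -4]),
    (58, [-1, -1, -1, -1, -1, -1, -1, -1, -1, -1, -1, -1, -1, -1, -1, -1, -1, -1, -1, -1, -1, -1, -1, 3]),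
    (61, [-1, 1, -3, -1, 1, 1, -1, -1, 1, -1, 1, 1, -1, -1, 1, 1, 1, 1, 1, 1, 1, -1, 1, 1]),
    (63, [-3, 1, -1, 1, -1, -1, 1, 1, 1, 1, 1, -1, 1, 1, -1, 1, 1, -1, 1, -1, -1, 1, 1, 1])]

theorem other_check : ∀ k : Fin 64, k ≠ 0 → isFrame k = false →
    ¬ (32 : ℤ) ∣ sqNorm (cls k : GolayPt → ℤ) ∨ ∃ x ∈ shortList, x.1 = (k : ℕ) ∧
      leechB (vec x.2) = true ∧ sqNorm (vec x.2) = 32 ∧
      halfB (fun p => vec x.2 p - (cls k : GolayPt → ℤ) p) = true := by decide +kernel

/-- A class containing a vector of norm 64 is one of the fourteen. -/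
theorem isFrame_of_cong {k : Fin 64} (hk0 : k ≠ 0) {v : leechLattice}
    (hv : sqNorm (v : GolayPt → ℤ) = 64) (h : Cong v (cls k)) : isFrame k = true := by
  by_contra hc
  rcases other_check k hk0 (Bool.eq_false_iff.2 hc) with h' | ⟨x, -, -, hx, hn, hh⟩
  · refine h' ((norm_dvd_of_cong h).1 ?_)
    rw [hv]; norm_num
  · have h'' : Cong ⟨vec x.2, leechB_iff.1 hx⟩ v := (cong_of_half hh).trans h.symm
    rcases h''.eq_or_neg hn (le_of_eq hv) with e | e
    · rw [← e] at hv
      exact absurd (hn.symm.trans hv) (by norm_num)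
    · have : sqNorm (vec x.2) = 64 := by
        rw [show vec x.2 = ((-v : leechLattice) : GolayPt → ℤ) from congrArg Subtype.val e]
        simpa [sqNorm] using hv
      exact absurd (hn.symm.trans this) (by norm_num)

/-! ### The action of the normaliser -/

/-- The image of a class. -/
def act (g : Co0) (k : Fin 64) : Fin 64 := clsIdx (g • cls k)

/-- The elements respecting the fixed classes. -/
def Keeps (g : Co0) : Prop := ∀ k, T • g • cls k = g • cls k

theorem keeps_of_twist {g : Co0} {d : ℕ} (h : g⁻¹ * T * g = T ^ d) : Keeps g := fun k => by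
  have hfix : ∀ n : ℕ, T ^ n • cls k = cls k := by
    intro n
    induction n with
    | zero => exact one_smul _ _
    | succ n ih => rw [pow_succ, mul_smul, cls_fixed, ih]
  have e : T * g = g * T ^ d := by rw [← h]; group
  rw [← mul_smul, e, mul_smul, hfix]

theorem keeps_C0 {g : Co0} (hg : g ∈ C0) : Keeps g := keeps_of_twist (d := 1) (by
  rw [pow_one, mul_assoc, ← Subgroup.mem_centralizer_singleton_iff.1 hg, inv_mul_cancel_left])

theorem act_spec {g : Co0} (hg : Keeps g) (k : Fin 64) : Cong (g • cls k) (cls (act g k)) :=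
  cls_complete (by rw [hg k]; exact Cong.refl _)

theorem act_eq_of_cong {g : Co0} {k j : Fin 64} (h : Cong (g • cls k) (cls j)) : act g k = j := by
  rw [act, clsIdx_congr h, clsIdx_cls]

theorem act_one (k : Fin 64) : act 1 k = k := by
  rw [act, one_smul, clsIdx_cls]

theorem act_mul {g h : Co0} (hg : Keeps g) (hh : Keeps h) (k : Fin 64) :
    act (g * h) k = act g (act h k) := by
  refine act_eq_of_cong ?_
  rw [mul_smul]
  exact ((act_spec hh k).smul g).trans (act_spec hg _)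

theorem act_zero (g : Co0) : act g 0 = 0 := by
  have h : g • (0 : leechLattice) = 0 := map_zero (co0Hom g)
  rw [act, cls_zero, h, ← cls_zero, clsIdx_cls]

theorem act_xadd {g : Co0} (hg : Keeps g) (j k : Fin 64) :
    act g (xadd j k) = xadd (act g j) (act g k) := by
  refine act_eq_of_cong ?_
  refine (((cls_add j k).symm.smul g).trans ?_).trans (cls_add _ _)
  rw [co0_add]
  exact (act_spec hg j).add (act_spec hg k)

theorem act_injective {g : Co0} (hg : g ∈ C0) : Function.Injective (act g) := fun a b h => by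
  have := congrArg (act g⁻¹) h
  rwa [← act_mul (keeps_C0 (inv_mem hg)) (keeps_C0 hg), ← act_mul (keeps_C0 (inv_mem hg)) (keeps_C0 hg),
    inv_mul_cancel, act_one, act_one] at this

theorem frame_cls : Cong frameV (cls 1) := cong_of_half (by decide +kernel)

theorem frame_norm : sqNorm (frameV : GolayPt → ℤ) = 64 := by decide +kernel

theorem act_isFrame {g : Co0} (hg : Keeps g) {k : Fin 64} {v : leechLattice}
    (hv : sqNorm (v : GolayPt → ℤ) = 64) (h : Cong v (cls k)) : isFrame (act g k) = true := by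
  refine isFrame_of_cong (v := g • v) ?_ (by rw [co0_norm]; exact hv)
    ((h.smul g).trans (act_spec hg k))
  intro h0
  have hc : Cong (g • v) (0 : leechLattice) := by
    rw [← cls_zero, ← h0]; exact (h.smul g).trans (act_spec hg k)
  have hz : sqNorm (((0 : leechLattice)) : GolayPt → ℤ) = 0 := by simp [sqNorm]
  have hn := co0_norm g v
  rw [hv] at hn
  rcases hc.symm.cases (by omega) (by omega) with e | e | ⟨a, -⟩
  · rw [← e] at hn; omega
  · rw [neg_eq_zero.1 e.symm] at hn; omega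
  · omega

theorem card_frame_stab_le : Nat.card (classStab frameV ⊓ C0 : Subgroup Co0) ≤ 42 * 8 := by
  classical
  have key : ∀ g : (classStab frameV ⊓ C0 : Subgroup Co0), ∃ x : {σ : Equiv.Perm GolayPt // σ ∈ M24 ∧
      Commute σ tau} × {M : ℕ // M ∈ fixedMasks}, ∀ v : leechLattice,
      (((g : Co0) • v : leechLattice) : GolayPt → ℤ) = monoFun x.1.1 (setOf24 x.2.1) v := by
    rintro ⟨g, hgS, hgC⟩
    obtain ⟨σ, hσ, c, hc, rfl⟩ := eq_monoCo0 (preservesCross_of_classStab hgS)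
    have hcomm := Subgroup.mem_centralizer_singleton_iff.1 hgC
    have hc' : c.image tau.symm ∈ supports (golayCode : Set (GolayPt → ZMod 2)) :=
      setSystemAut_image_mem (inv_mem tau_mem) hc
    have e1 : monoCo0 σ hσ c hc * T = monoCo0 (tau * σ) (mul_mem tau_mem hσ) c hc := by
      refine co0_ext fun v => Subtype.ext (funext fun p => ?_)
      rw [mul_smul, monoCo0_smul, monoCo0_smul]
      simp only [monoFun, T_smul, Equiv.Perm.mul_apply]
    have e2 : T * monoCo0 σ hσ c hc =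
        monoCo0 (σ * tau) (mul_mem hσ tau_mem) (c.image tau.symm) hc' := by
      refine co0_ext fun v => Subtype.ext (funext fun p => ?_)
      rw [mul_smul, T_smul, monoCo0_smul, monoCo0_smul]
      have hiff : p ∈ c.image tau.symm ↔ tau p ∈ c := by
        rw [Finset.mem_image]
        exact ⟨fun ⟨q, hq, e⟩ => by rw [← e, Equiv.apply_symm_apply]; exact hq,
          fun h => ⟨_, h, Equiv.symm_apply_apply _ _⟩⟩
      simp only [monoFun, Equiv.Perm.mul_apply, hiff]
    rw [e1, e2] at hcomm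
    obtain ⟨hp, hs⟩ := mono_inj hcomm
    have hinv : ∀ p, tau p ∈ c ↔ p ∈ c := fun p => by
      conv_rhs => rw [hs, Finset.mem_image]
      exact ⟨fun h => ⟨_, h, Equiv.symm_apply_apply _ _⟩,
        fun ⟨q, hq, e⟩ => by rw [← e, Equiv.apply_symm_apply]; exact hq⟩
    obtain ⟨M, hM, rfl⟩ := fixed_support hc hinv
    exact ⟨(⟨σ, hσ, hp.symm⟩, ⟨M, hM⟩), fun v => monoCo0_smul σ hσ _ hc v⟩
  choose f hf using key
  have hfi : Function.Injective f := fun a b h => by
    refine Subtype.ext (co0_ext fun v => Subtype.ext ?_)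
    rw [hf, hf, h]
  refine (Nat.card_le_card_of_injective f hfi).trans ?_
  rw [Nat.card_prod]
  refine Nat.mul_le_mul card_centralizer_le ?_
  let F : {M : ℕ // M ∈ fixedMasks} → fixedMasks.toFinset := fun M => ⟨M.1, List.mem_toFinset.2 M.2⟩
  refine (Nat.card_le_card_of_injective F fun a b h => Subtype.ext (congrArg Subtype.val h :)).trans ?_
  rw [Nat.card_eq_finsetCard]
  exact (List.toFinset_card_le _).trans le_rfl

/-- No element respecting the cross turns the element into a non-square power. -/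
theorem classStab_not_twist {g : Co0} (hg : g ∈ classStab frameV) {d : ℕ} (hd : d ∈ [3, 5, 6])
    (h : g * T * g⁻¹ = T ^ d) : False := by
  obtain ⟨σ, hσ, c, hc, rfl⟩ := eq_monoCo0 (preservesCross_of_classStab hg)
  have he := mul_inv_eq_iff_eq_mul.1 h
  have hc' : c.image (tau ^ d).symm ∈ supports (golayCode : Set (GolayPt → ZMod 2)) :=
    setSystemAut_image_mem (inv_mem (pow_mem tau_mem d)) hc
  have e1 : monoCo0 σ hσ c hc * T = monoCo0 (tau * σ) (mul_mem tau_mem hσ) c hc := by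
    refine co0_ext fun v => Subtype.ext (funext fun p => ?_)
    rw [mul_smul, monoCo0_smul, monoCo0_smul]
    simp only [monoFun, T_smul, Equiv.Perm.mul_apply]
  have e2 : T ^ d * monoCo0 σ hσ c hc =
      monoCo0 (σ * tau ^ d) (mul_mem hσ (pow_mem tau_mem d)) (c.image (tau ^ d).symm) hc' := by
    refine co0_ext fun v => Subtype.ext (funext fun p => ?_)
    rw [mul_smul, T_pow_smul, monoCo0_smul, monoCo0_smul]
    have hiff : p ∈ c.image (tau ^ d).symm ↔ (tau ^ d) p ∈ c := by
      rw [Finset.mem_image]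
      exact ⟨fun ⟨q, hq, e⟩ => by rw [← e, Equiv.apply_symm_apply]; exact hq,
        fun h => ⟨_, h, Equiv.symm_apply_apply _ _⟩⟩
    simp only [monoFun, Equiv.Perm.mul_apply, hiff]
  rw [e1, e2] at he
  obtain ⟨hp, -⟩ := mono_inj he
  refine not_conj (inv_mem hσ) hd fun p => ?_
  have := congrArg (fun f : Equiv.Perm GolayPt => f (σ⁻¹ p)) hp
  simp only [Equiv.Perm.mul_apply, perm_apply_inv] at this
  rw [this, perm_inv_apply]

end CfsgLib.MonsterType.Seven
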