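import Cfsg.Agent.MonsterType.QConjMain
import Cfsg.Agent.MonsterType.ExtraIso
import Cfsg.Agent.S5429
import Cfsg.Agent.ExtraspecialBasic.DoubleCentralizer

/-!
# The centralizer of a second involution of `Q`: Baby Monster type
-/

set_option autoImplicit false

namespace CfsgLib.MonsterType

open Cfsg CfsgLib.Leech CfsgLib.Mathieu
open scoped commutatorElement

variable {G : Type*} [Group G] [Finite G] {z : G}
  {Q : Subgroup (Subgroup.centralizer ({z} : Set G))} [Q.Normal]
  {e : (Subgroup.centralizer ({z} : Set G)) ⧸ Q ≃* Spor.Co1}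
  {ψ : leechLattice → Q ⧸ Subgroup.center Q}

theorem leechU_eq : Spor.leechU = shortV :=
  Subtype.ext (funext fun p => by
    show Spor.vecU p = pairFun none (some 0) p
    revert p; decide +kernel)

omit [Finite G] in
/-- The identification can be moved by an automorphism of the lattice. -/
theorem exists_adapted (hψ : IsLeechModTwoIso Q e ψ) (m : Co0) :
    ∃ (e' : (Subgroup.centralizer ({z} : Set G)) ⧸ Q ≃* Spor.Co1)
      (ψ' : leechLattice → Q ⧸ Subgroup.center Q),
      IsLeechModTwoIso Q e' ψ' ∧ ∀ v, ψ' v = ψ (m • v) := by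
  refine ⟨e.trans (MulAut.conj (QuotientGroup.mk m⁻¹ : Spor.Co1)), fun v => ψ (m • v),
    ⟨fun v w => ?_, fun q => ?_, fun v => ?_, fun h g hg v q hq => ?_⟩, fun _ => rfl⟩
  · show ψ (m • (v + w)) = _
    rw [co0_add, hψ.1]
  · obtain ⟨v, hv⟩ := hψ.2.1 q
    exact ⟨m⁻¹ • v, by show ψ (m • m⁻¹ • v) = q; rw [smul_inv_smul, hv]⟩
  · show ψ (m • v) = 1 ↔ _
    rw [hψ.2.2.1]
    constructor
    · rintro ⟨w, hw⟩
      exact ⟨m⁻¹ • w, by rw [← co0_add, ← hw, inv_smul_smul]⟩
    · rintro ⟨w, rfl⟩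
      exact ⟨m • w, co0_add _ _ _⟩
  · show ψ (m • g • v) = _
    have hg' : (QuotientGroup.mk (m * g * m⁻¹) : Spor.Co1) = e (QuotientGroup.mk h) := by
      have h' : (QuotientGroup.mk g : Spor.Co1) = (QuotientGroup.mk m⁻¹ : Spor.Co1) *
          e (QuotientGroup.mk h) * (QuotientGroup.mk m⁻¹ : Spor.Co1)⁻¹ := hg
      simp only [QuotientGroup.mk_mul, h', QuotientGroup.mk_inv]
      group
    have := hψ.2.2.2 h (m * g * m⁻¹) hg' (m • v) q hq
    rwa [mul_smul, mul_smul, inv_smul_smul] at this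

variable (hS : IsExtraspecialCentralizerSetting z Q 12) (hψ : IsLeechModTwoIso Q e ψ)
include hS hψ

omit hψ in
theorem psi_center {p : Q} {q : Q} (h : (QuotientGroup.mk p : Q ⧸ Subgroup.center Q) = QuotientGroup.mk q) :
    q = p ∨ q = p * zQ hS := by
  rcases (mem_center_iff hS).1 (QuotientGroup.eq.1 h) with e' | e'
  · exact Or.inl (inv_mul_eq_one.1 e').symm
  · exact Or.inr (inv_mul_eq_iff_eq_mul.1 e')

/-- A pair: a class of norm 64 whose conjugate of `Q` holds a lift of the short class. -/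
theorem exists_frame_pair {u : Q} (hu : ψ shortV = QuotientGroup.mk u) :
    ∃ (g : G) (x : Q), g * z * g⁻¹ = toG x ∧ ψ frameV = QuotientGroup.mk x ∧
      toG u ∈ conjQ Q g := by
  obtain ⟨x, hx⟩ : ∃ x : Q, ψ frameV = QuotientGroup.mk x := ⟨_, psi_lift _⟩
  obtain ⟨g, hg⟩ := isConj_iff.1 (conj_of_class hS hψ (sqNorm_eight none) hx).1
  refine ⟨g, x, hg, hx, ?_⟩
  have hc : setOf24 11575377 ∈ supports (golayCode : Set (GolayPt → ZMod 2)) :=
    setOf24_mem_supports (by decide +kernel)
  let w : leechLattice := ⟨twiceMask 13062145, leechB_iff.1 (by decide +kernel)⟩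
  let s := monoCo0 1 (one_mem _) (setOf24 11575377) hc
  obtain ⟨r, hr, hrs⟩ := mem_imageN.1 ((frame_image hS hψ hg hx).2 _ hc)
  obtain ⟨a, ha⟩ : ∃ a : Q, ψ w = QuotientGroup.mk a := ⟨_, psi_lift _⟩
  have hax : Commute (toG a) (toG x) := by
    have : Commute a x := (commute_iff_dot hS hψ ha hx).2 (by decide +kernel)
    exact congrArg toG this.eq
  let b : Q := ⟨r * a * r⁻¹, (inferInstance : Q.Normal).conj_mem (a : Subgroup.centralizer ({z} : Set G)) a.2 r⟩
  have hb : ψ (s • w) = QuotientGroup.mk b := psi_conj hψ r s hrs w a ha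
  have h1 : toG (b * a⁻¹) ∈ conjQ Q g := by
    have e' : toG (b * a⁻¹) = (r : G) * (toG a * (r : G)⁻¹ * (toG a)⁻¹) := by
      show (r : G) * toG a * (r : G)⁻¹ * (toG a)⁻¹ = _
      group
    rw [e']
    exact Subgroup.mul_mem _ hr (conjQ_conj hg hax (Subgroup.inv_mem _ hr))
  have hsw : s • w = -shortV + w := Subtype.ext (funext fun p => by
    show monoFun 1 (setOf24 11575377) (twiceMask 13062145) p =
      -pairFun none (some 0) p + twiceMask 13062145 p
    revert p; decide +kernel)
  have hmk : (QuotientGroup.mk (b * a⁻¹) : Q ⧸ Subgroup.center Q) = QuotientGroup.mk u := by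
    rw [QuotientGroup.mk_mul, QuotientGroup.mk_inv, ← hb, ← ha, hsw, hψ.1, mul_inv_cancel_right,
      (psi_eq_iff hψ _ _).2 ⟨-shortV, by abel⟩, hu]
  rcases psi_center hS hmk with e' | e' <;> rw [e']
  · exact h1
  · show toG (b * a⁻¹) * z ∈ conjQ Q g
    exact Subgroup.mul_mem _ h1 (frame_z_mem hS hψ hg hx)

/-- An element acting trivially on the classes orthogonal to the short one, modulo it, is in `Q`. -/
theorem mem_of_fix_perp {u : Q} (hu : ψ shortV = QuotientGroup.mk u)
    {c : Subgroup.centralizer ({z} : Set G)}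
    (h : ∀ b : Q, Commute b u → ∀ d : Q, (d : Subgroup.centralizer ({z} : Set G)) = c * b * c⁻¹ →
      (QuotientGroup.mk d : Q ⧸ Subgroup.center Q) = QuotientGroup.mk b ∨
        (QuotientGroup.mk d : Q ⧸ Subgroup.center Q) = QuotientGroup.mk b * QuotientGroup.mk u) :
    c ∈ Q := by
  obtain ⟨g, hg⟩ := QuotientGroup.mk_surjective (e (QuotientGroup.mk c))
  have key : ∀ w : leechLattice, (16 : ℤ) ∣ dotInt (w : GolayPt → ℤ) (shortV : GolayPt → ℤ) →
      ψ (g • w) = ψ w ∨ ψ (g • w) = ψ (w + shortV) := by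
    intro w hw
    rw [hψ.1, hu, psi_lift (ψ := ψ) w, psi_conj hψ c g hg w _ (psi_lift w)]
    exact h _ ((commute_iff_dot hS hψ (psi_lift w) hu).2 hw) _ rfl
  have huc : u ∉ Subgroup.center Q := not_mem_center hS hψ hu (by decide +kernel) (by decide +kernel)
  have hst : g ∈ classStab shortV := by
    rcases key shortV (by decide +kernel) with h' | h'
    · exact (psi_eq_iff hψ _ _).1 h'
    · exfalso
      rw [(hψ.2.2.1 (shortV + shortV)).2 ⟨_, rfl⟩, hψ.2.2.1] at h'
      obtain ⟨w, hw⟩ := h'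
      refine huc ((QuotientGroup.eq_one_iff u).1 (hu ▸ (hψ.2.2.1 shortV).2 ⟨g⁻¹ • w, ?_⟩))
      rw [← co0_add, ← hw, inv_smul_smul]
  have hfix : ∀ w : leechLattice, (16 : ℤ) ∣ dotInt (w : GolayPt → ℤ) (shortV : GolayPt → ℤ) →
      sqNorm (w : GolayPt → ℤ) = 32 → sqNorm ((w + shortV : leechLattice) : GolayPt → ℤ) = 64 →
      g • w = w ∨ g • w = -w := by
    intro w hw h32 h64
    have hnn : sqNorm ((g • w : leechLattice) : GolayPt → ℤ) = 32 := by rw [co0_norm, h32]
    rcases key w hw with h' | h'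
    · exact (show Cong (g • w) w from (psi_eq_iff hψ _ _).1 h').eq_or_neg hnn (by omega)
    · exfalso
      rcases (show Cong (g • w) (w + shortV) from (psi_eq_iff hψ _ _).1 h').eq_or_neg hnn (by omega)
        with e' | e' <;> rw [e'] at hnn
      · omega
      · rw [AddSubgroup.coe_neg] at hnn
        simp only [sqNorm, Pi.neg_apply, neg_sq] at hnn h64
        omega
  have hpd : ∀ a b : GolayPt, a ≠ b → a ≠ none → a ≠ some 0 → b ≠ none → b ≠ some 0 →
      (16 : ℤ) ∣ dotInt (pairFun a b) (pairFun none (some 0)) := by decide +kernel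
  have hcen := center_of_fixes hst (hfix shortW (by decide +kernel) (by decide +kernel) (by decide +kernel))
    fun a b hab ha1 ha2 hb1 hb2 => hfix (pairV a b) (hpd a b hab ha1 ha2 hb1 hb2)
      (pair_norms a b hab ha1 ha2 hb1 hb2).1 (pair_norms a b hab ha1 ha2 hb1 hb2).2
  have h1 : e (QuotientGroup.mk c) = 1 := by rw [← hg, (QuotientGroup.eq_one_iff g).2 hcen]
  rwa [map_eq_one_iff e e.injective, QuotientGroup.eq_one_iff] at h1

theorem card_centralizer_short {u : Q} (hu : ψ shortV = QuotientGroup.mk u) :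
    Nat.card (Subgroup.centralizer ({u} : Set Q)) = 2 ^ 24 := by
  haveI : Fact (Nat.Prime 2) := ⟨Nat.prime_two⟩
  refine le_antisymm (card_centralizer_x hS
    (not_mem_center hS hψ hu (by decide +kernel) (by decide +kernel))) ?_
  have h := CfsgLib.ExtraspecialBasic.card_le_mul_card_inf_centralizer hS.2.2.1 ⊤ u
  rw [Subgroup.card_top, top_inf_eq, hS.2.2.2.1] at h
  omega

set_option maxHeartbeats 3200000 in
/-- The centralizer of a short involution modulo it is of Baby Monster type. -/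
theorem babyType {u : Q} (hu : ψ shortV = QuotientGroup.mk u) (hu2 : toG u * toG u = 1)
    [hn : ((Subgroup.zpowers (toG u)).subgroupOf (Subgroup.centralizer ({toG u} : Set G))).Normal] :
    IsOfBabyMonsterType (↥(Subgroup.centralizer ({toG u} : Set G)) ⧸
      (Subgroup.zpowers (toG u)).subgroupOf (Subgroup.centralizer ({toG u} : Set G))) := by
  classical
  haveI : Fact (Nat.Prime 2) := ⟨Nat.prime_two⟩
  have huc : u ∉ Subgroup.center Q := not_mem_center hS hψ hu (by decide +kernel) (by decide +kernel)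
  have htz : ¬ IsConj z (toG u) := fun hc => by
    obtain ⟨g, hg⟩ := isConj_iff.1 hc
    exact not_conj_short hS hψ (by decide +kernel) hu g hg
  obtain ⟨hune, hu1⟩ := x_sq_ne hS huc
  have hu1' : orderOf (toG u) = 2 := orderOf_eq_prime (by rw [pow_two]; exact hu2) hu1
  have huz : Commute z (toG u) := (commute_z hS (mem_inG.2 ⟨u, rfl⟩)).symm
  set t := toG u with ht
  set T := Subgroup.centralizer ({t} : Set G) with hT
  set N := (Subgroup.zpowers t).subgroupOf T with hN
  have hNmem : ∀ a : T, a ∈ N ↔ ((a : G) = 1 ∨ (a : G) = t) := by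
    intro a
    constructor
    · intro ha
      obtain ⟨k, hk'⟩ := Subgroup.mem_zpowers_iff.1 ha
      have hk : t ^ k = (a : G) := hk'
      rcases Int.even_or_odd' k with ⟨l, rfl | rfl⟩
      · left; rw [← hk, zpow_mul, zpow_two, hu2, one_zpow]
      · right; rw [← hk, zpow_add_one, zpow_mul, zpow_two, hu2, one_zpow, one_mul]
    · rintro (h | h)
      · show (a : G) ∈ Subgroup.zpowers t
        rw [h]; exact one_mem _
      · show (a : G) ∈ Subgroup.zpowers t
        rw [h]; exact Subgroup.mem_zpowers t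
  -- the second involution
  let zT : T := ⟨z, Subgroup.mem_centralizer_singleton_iff.2 huz⟩
  let zb : T ⧸ N := QuotientGroup.mk zT
  let Ct : Subgroup (Subgroup.centralizer ({z} : Set G)) :=
    Subgroup.centralizer ({(u : Subgroup.centralizer ({z} : Set G))} : Set _)
  let toT : Ct →* T :=
    { toFun := fun a => ⟨((a : Subgroup.centralizer ({z} : Set G)) : G),
        Subgroup.mem_centralizer_singleton_iff.2
          (congrArg Subtype.val (Subgroup.mem_centralizer_singleton_iff.1 a.2))⟩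
      map_one' := rfl
      map_mul' := fun _ _ => rfl }
  have hD : ∀ a : Ct, (QuotientGroup.mk (toT a) : T ⧸ N) ∈ Subgroup.centralizer ({zb} : Set (T ⧸ N)) :=
    fun a => Subgroup.mem_centralizer_singleton_iff.2 (by
      show (QuotientGroup.mk (toT a) : T ⧸ N) * QuotientGroup.mk zT =
        QuotientGroup.mk zT * QuotientGroup.mk (toT a)
      rw [← QuotientGroup.mk_mul, ← QuotientGroup.mk_mul]
      congr 1
      exact Subtype.ext (Subgroup.mem_centralizer_singleton_iff.1 a.1.2))
  let π : Ct →* Subgroup.centralizer ({zb} : Set (T ⧸ N)) :=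
    ((QuotientGroup.mk' N).comp toT).codRestrict _ hD
  have hπ1 : ∀ a : Ct, π a = 1 ↔ (((a : Subgroup.centralizer ({z} : Set G)) : G) = 1 ∨
      ((a : Subgroup.centralizer ({z} : Set G)) : G) = t) := fun a =>
    Subtype.ext_iff.trans ((QuotientGroup.eq_one_iff (toT a)).trans (hNmem (toT a)))
  have hπsurj : Function.Surjective π := by
    rintro ⟨q, hq⟩
    obtain ⟨a, rfl⟩ := QuotientGroup.mk_surjective q
    have hq' : (QuotientGroup.mk (a * zT) : T ⧸ N) = QuotientGroup.mk (zT * a) :=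
      Subgroup.mem_centralizer_singleton_iff.1 hq
    have hm := (hNmem _).1 (QuotientGroup.eq.1 hq'.symm)
    rcases hm with hm | hm
    · have hc : (a : G) * z = z * (a : G) := by
        have h' : (z * (a : G))⁻¹ * ((a : G) * z) = 1 := hm
        rwa [inv_mul_eq_one, eq_comm] at h'
      exact ⟨⟨⟨(a : G), Subgroup.mem_centralizer_singleton_iff.2 hc⟩,
        Subgroup.mem_centralizer_singleton_iff.2 (Subtype.ext
          (Subgroup.mem_centralizer_singleton_iff.1 a.2))⟩, rfl⟩
    · exfalso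
      have h' : (z * (a : G))⁻¹ * ((a : G) * z) = t := hm
      have hat : (a : G) * t = t * (a : G) := Subgroup.mem_centralizer_singleton_iff.1 a.2
      have h1 : (a : G) * z * (a : G)⁻¹ = z * t := by
        rw [inv_mul_eq_iff_eq_mul.1 h', mul_assoc z, hat]; group
      obtain ⟨b, hb⟩ := exists_not_commute hS huc
      have h2 : toG b * t * (toG b)⁻¹ = z * t := congrArg toG (conj_eq_mul_of_not_commute hS hb)
      refine htz (isConj_iff.2 ⟨(toG b)⁻¹ * (a : G), ?_⟩)
      calc (toG b)⁻¹ * (a : G) * z * ((toG b)⁻¹ * (a : G))⁻¹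
          = (toG b)⁻¹ * ((a : G) * z * (a : G)⁻¹) * toG b := by group
        _ = t := by rw [h1, ← h2]; group
  let R : Subgroup (Subgroup.centralizer ({zb} : Set (T ⧸ N))) := (Q.subgroupOf Ct).map π
  haveI hQn : (Q.subgroupOf Ct).Normal := inferInstance
  haveI hRn : R.Normal := Subgroup.Normal.map hQn π hπsurj
  -- lifts of the orthogonal classes
  let CQ := Subgroup.centralizer ({u} : Set Q)
  let ρ : CQ →* R :=
    (π.comp
      { toFun := fun q : CQ => (⟨(q : Q), Subgroup.mem_centralizer_singleton_iff.2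
            (congrArg Subtype.val (Subgroup.mem_centralizer_singleton_iff.1 q.2))⟩ : Ct)
        map_one' := rfl
        map_mul' := fun _ _ => rfl }).codRestrict R fun q => ⟨_, (q : Q).2, rfl⟩
  have hρsurj : Function.Surjective ρ := by
    rintro ⟨_, a, ha, rfl⟩
    exact ⟨⟨⟨a.1, ha⟩, Subgroup.mem_centralizer_singleton_iff.2
      (Subtype.ext (Subgroup.mem_centralizer_singleton_iff.1 a.2))⟩, rfl⟩
  have hρ1 : ∀ q : CQ, ρ q = 1 ↔ ((q : Q) = 1 ∨ (q : Q) = u) := by
    intro q
    rw [Subtype.ext_iff]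
    refine (hπ1 _).trans ⟨fun h => h.imp (fun h => Subtype.ext (Subtype.ext h))
      fun h => Subtype.ext (Subtype.ext h), fun h => h.imp (fun h => congrArg toG h) fun h => congrArg toG h⟩
  have hRp : IsPGroup 2 R := by
    have hQp : IsPGroup 2 Q := hS.2.2.1.1.1
    exact (hQp.to_subgroup CQ).of_surjective ρ hρsurj
  -- extraspecial of order 2 ^ 23
  obtain ⟨g₀, x₀, hgx, hx₀, htg⟩ := exists_frame_pair hS hψ hu
  have hQG : IsExtraspecial 2 (inG Q) :=
    extraspecial_congr (Q.equivMapOfInjective _ (Subgroup.subtype_injective _)) hS.2.2.1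
  have hx₀G : toG x₀ ∉ (Subgroup.center (inG Q)).map (inG Q).subtype := by
    rintro ⟨c, hc, he⟩
    refine frame_not_center hS hψ hx₀ (Subgroup.mem_center_iff.2 fun q => ?_)
    have h' := congrArg Subtype.val (Subgroup.mem_center_iff.1 hc ⟨toG q, mem_inG.2 ⟨q, rfl⟩⟩)
    refine Subtype.ext (Subtype.ext ?_)
    show toG q * toG x₀ = toG x₀ * toG q
    rw [← he]
    exact h'
  have hres := Cfsg.Agent.S5429.result z hS.1 (inG Q) inG_le
    (by rw [hS.2.1]) hQG 12 (by norm_num)
    (by rw [Subgroup.card_map_of_injective (Subgroup.subtype_injective _), hS.2.2.2.1])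
    g₀ (hgx ▸ mem_inG.2 ⟨x₀, rfl⟩) (hgx ▸ hx₀G) t hu1' ⟨mem_inG.2 ⟨u, rfl⟩, htg⟩ htz
    (inG Q ⊓ T) rfl (fun c hc => ⟨fun h => ?_, fun h x hx => ?_⟩)
  rotate_left
  · have hcQ : (⟨c, hc⟩ : Subgroup.centralizer ({z} : Set G)) ∈ Q := by
      refine mem_of_fix_perp hS hψ hu fun b hb d hd => ?_
      obtain ⟨y, hy, hye⟩ := h (toG b) ⟨mem_inG.2 ⟨b, rfl⟩,
        Subgroup.mem_centralizer_singleton_iff.2 (congrArg toG hb.eq)⟩
      have hd' : toG d = toG b * y := by rw [← hye]; exact congrArg Subtype.val hd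
      have hyQ : ∃ s : Q, toG s = y ∧ ((QuotientGroup.mk s : Q ⧸ Subgroup.center Q) = 1 ∨
          (QuotientGroup.mk s : Q ⧸ Subgroup.center Q) = QuotientGroup.mk u) := by
        have huu : (QuotientGroup.mk u : Q ⧸ Subgroup.center Q) * QuotientGroup.mk u = 1 := by
          rw [← QuotientGroup.mk_mul, show u * u = 1 from Subtype.ext (Subtype.ext hu2),
            QuotientGroup.mk_one]
        clear hye hd'
        induction hy using Subgroup.closure_induction with
        | mem w hw =>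
          rcases hw with rfl | rfl
          · exact ⟨u, rfl, Or.inr rfl⟩
          · exact ⟨zQ hS, rfl, Or.inl ((QuotientGroup.eq_one_iff _).2 (zQ_mem_center hS))⟩
        | one => exact ⟨1, rfl, Or.inl rfl⟩
        | mul a b _ _ iha ihb =>
          obtain ⟨s, rfl, hs⟩ := iha
          obtain ⟨s', rfl, hs'⟩ := ihb
          refine ⟨s * s', rfl, ?_⟩
          rw [QuotientGroup.mk_mul]
          rcases hs with hs | hs <;> rcases hs' with hs' | hs' <;> rw [hs, hs']
          · exact Or.inl (one_mul 1)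
          · exact Or.inr (one_mul _)
          · exact Or.inr (mul_one _)
          · exact Or.inl huu
        | inv a _ iha =>
          obtain ⟨s, rfl, hs⟩ := iha
          refine ⟨s⁻¹, rfl, ?_⟩
          rw [QuotientGroup.mk_inv]
          rcases hs with hs | hs <;> rw [hs]
          · exact Or.inl inv_one
          · exact Or.inr (inv_eq_of_mul_eq_one_right huu)
      obtain ⟨s, rfl, hs⟩ := hyQ
      have hd2 : d = b * s := Subtype.ext (Subtype.ext hd')
      rw [hd2, QuotientGroup.mk_mul]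
      rcases hs with hs | hs <;> rw [hs]
      · exact Or.inl (mul_one _)
      · exact Or.inr rfl
    exact mem_inG.2 ⟨⟨_, hcQ⟩, rfl⟩
  · refine ⟨x⁻¹ * (c * x * c⁻¹), ?_, by group⟩
    obtain ⟨hxQ, -⟩ := hx
    have hcm : x⁻¹ * (c * x * c⁻¹) = ⁅x⁻¹, c⁆ := by rw [commutatorElement_def, inv_inv]; group
    rw [hcm]
    rcases comm_inG hS (Subgroup.inv_mem _ hxQ) h with h' | h' <;> rw [h']
    · exact one_mem _
    · exact Subgroup.subset_closure (Set.mem_insert_of_mem _ rfl)
  have hRe : R.map (Subgroup.centralizer ({zb} : Set (T ⧸ N))).subtype =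
      ((inG Q ⊓ T).subgroupOf T).map (QuotientGroup.mk' N) := by
    ext q
    constructor
    · rintro ⟨_, ⟨a, ha, rfl⟩, rfl⟩
      exact ⟨toT a, ⟨mem_inG.2 ⟨⟨a.1, ha⟩, rfl⟩, (toT a).2⟩, rfl⟩
    · rintro ⟨a, ⟨haQ, -⟩, rfl⟩
      obtain ⟨b, hb⟩ := mem_inG.1 haQ
      refine ⟨π ⟨b, Subgroup.mem_centralizer_singleton_iff.2 (Subtype.ext ?_)⟩, ⟨_, b.2, rfl⟩, ?_⟩
      · show toG b * t = t * toG b
        rw [hb]
        exact Subgroup.mem_centralizer_singleton_iff.1 a.2
      · exact congrArg QuotientGroup.mk (Subtype.ext hb)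
  have hREx : IsExtraspecial 2 R := by
    have h1 := hres.1.1
    exact extraspecial_congr ((MulEquiv.subgroupCongr hRe.symm).trans
      (R.equivMapOfInjective _ (Subgroup.subtype_injective _)).symm) h1
  have hCQ := card_centralizer_short hS hψ hu
  have hRcard : Nat.card R = 2 ^ (2 * 11 + 1) := by
    have h := ρ.ker.card_mul_index
    rw [Subgroup.index_ker, MonoidHom.range_eq_top.2 hρsurj, Subgroup.card_top, hCQ] at h
    have hk : Nat.card ρ.ker = 2 := by
      have huC : u ∈ CQ := Subgroup.mem_centralizer_singleton_iff.2 rfl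
      rw [Nat.card_eq_two_iff]
      refine ⟨1, ⟨⟨u, huC⟩, (hρ1 _).2 (Or.inr rfl)⟩, fun h' => hu1 ?_, ?_⟩
      · exact (congrArg (fun a : ρ.ker => toG ((a : CQ) : Q)) h').symm
      · refine Set.eq_univ_of_forall fun a => ?_
        rcases (hρ1 _).1 (MonoidHom.mem_ker.1 a.2) with h' | h'
        · exact Or.inl (Subtype.ext (Subtype.ext h'))
        · exact Or.inr (Subtype.ext (Subtype.ext h'))
    rw [hk] at h
    omega
  -- `R` contains its centralizer
  have hself : Subgroup.centralizer (R : Set (Subgroup.centralizer ({zb} : Set (T ⧸ N)))) ≤ R := by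
    intro d hd
    obtain ⟨a, rfl⟩ := hπsurj d
    have haQ : (a : Subgroup.centralizer ({z} : Set G)) ∈ Q := by
      refine mem_of_fix_perp hS hψ hu fun b hb d hd' => ?_
      let bC : Ct := ⟨b, Subgroup.mem_centralizer_singleton_iff.2 (congrArg Subtype.val hb.eq)⟩
      have hc : π a * π bC = π bC * π a :=
        ((Subgroup.mem_centralizer_iff.1 hd) (π bC) ⟨bC, b.2, rfl⟩).symm
      have h1 : π (bC⁻¹ * (a * bC * a⁻¹)) = 1 := by
        rw [map_mul, map_mul, map_mul, map_inv, map_inv, hc]; group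
      rcases (hπ1 _).1 h1 with h2 | h2
      · left
        have : b⁻¹ * d = 1 := Subtype.ext (Subtype.ext (by
          show (toG b)⁻¹ * toG d = 1
          rw [show toG d = _ from congrArg Subtype.val hd']; exact h2))
        rw [← inv_mul_eq_one.1 this]
      · right
        have : b⁻¹ * d = u := Subtype.ext (Subtype.ext (by
          show (toG b)⁻¹ * toG d = t
          rw [show toG d = _ from congrArg Subtype.val hd']; exact h2))
        rw [inv_mul_eq_iff_eq_mul.1 this, QuotientGroup.mk_mul]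
    exact ⟨a, haQ, rfl⟩
  have hRfit : R ≤ fittingSubgroup (Subgroup.centralizer ({zb} : Set (T ⧸ N))) :=
    CfsgLib.Components.le_fittingSubgroup hRp.isNilpotent
  have hlayer : layer (Subgroup.centralizer ({zb} : Set (T ⧸ N))) = ⊥ := by
    have hle : layer (Subgroup.centralizer ({zb} : Set (T ⧸ N))) ≤ R :=
      (CfsgLib.Components.layer_le_centralizer_fittingSubgroup.trans
        (Subgroup.centralizer_le (SetLike.coe_subset_coe.2 hRfit))).trans hself
    refine sSup_eq_bot.2 fun K hK => ?_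
    exfalso
    have hKR : K ≤ R := (le_sSup hK).trans hle
    haveI := (hRp.to_le hKR).isNilpotent
    exact CfsgLib.Components.IsComponent.not_isSolvable hK inferInstance
  have hodd : ∀ M : Subgroup (Subgroup.centralizer ({zb} : Set (T ⧸ N))), M.Normal →
      (Nat.card M).Coprime 2 → M = ⊥ := by
    intro M hM hcop
    have hdis : Disjoint M R := by
      refine disjoint_iff.2 (Subgroup.eq_bot_iff_card _ |>.2 ?_)
      refine Nat.eq_one_of_dvd_coprimes (a := Nat.card M) (b := 2 ^ (2 * 11 + 1))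
        (hcop.pow_right _) (Subgroup.card_dvd_of_le inf_le_left) ?_
      rw [← hRcard]
      exact Subgroup.card_dvd_of_le inf_le_right
    have hMR : M ≤ R := fun a ha => hself (Subgroup.mem_centralizer_iff.2 fun r hr =>
      ((Subgroup.commute_of_normal_of_disjoint M R hM hRn hdis a r ha hr).eq).symm)
    exact disjoint_self.1 (hdis.mono_right hMR)
  have hpcore : pCore 2 (Subgroup.centralizer ({zb} : Set (T ⧸ N))) ≤ R := by
    set P := pCore 2 (Subgroup.centralizer ({zb} : Set (T ⧸ N)))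
    haveI : P.Normal := Subgroup.sSup_normal _ fun _ h => h.1
    have hP2 : IsPGroup 2 (P.comap π) := by
      refine (CfsgLib.Components.isPGroup_pCore 2).comap_of_ker_isPGroup π ?_
      refine IsPGroup.of_card (n := 1) ?_
      rw [pow_one, Nat.card_eq_two_iff]
      have huC : (u : Subgroup.centralizer ({z} : Set G)) ∈ Ct := Subgroup.mem_centralizer_singleton_iff.2 rfl
      refine ⟨1, ⟨⟨u, huC⟩, (hπ1 _).2 (Or.inr rfl)⟩, fun h' => hu1 ?_, Set.eq_univ_of_forall fun a => ?_⟩
      · exact (congrArg (fun a : π.ker => (((a : Ct) : Subgroup.centralizer ({z} : Set G)) : G)) h').symm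
      · rcases (hπ1 _).1 (MonoidHom.mem_ker.1 a.2) with h' | h'
        · exact Or.inl (Subtype.ext (Subtype.ext (Subtype.ext h')))
        · exact Or.inr (Subtype.ext (Subtype.ext (Subtype.ext h')))
    let M : Subgroup Co0 :=
      ((((P.comap π).map Ct.subtype).map (QuotientGroup.mk' Q)).map e.toMonoidHom).comap
        (QuotientGroup.mk' (Subgroup.center Co0))
    have hMmem : ∀ n : Co0, n ∈ M ↔ ∃ a : Ct, π a ∈ P ∧
        (QuotientGroup.mk n : Spor.Co1) = e (QuotientGroup.mk (a : Subgroup.centralizer ({z} : Set G))) := by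
      intro n
      constructor
      · rintro ⟨_, ⟨_, ⟨a, ha, rfl⟩, rfl⟩, he⟩
        exact ⟨a, ha, he.symm⟩
      · rintro ⟨a, ha, he⟩
        exact ⟨_, ⟨_, ⟨a, ha, rfl⟩, rfl⟩, he.symm⟩
    have hMp : IsPGroup 2 M := by
      refine (((hP2.map Ct.subtype).map (QuotientGroup.mk' Q)).map e.toMonoidHom).comap_of_ker_isPGroup _ ?_
      rw [QuotientGroup.ker_mk']
      refine IsPGroup.of_card (n := 1) ?_
      rw [← SetLike.coe_sort_coe, Nat.card_coe_set_eq, center_eq,
        Set.ncard_pair (Ne.symm negCo0_ne_one), pow_one]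
    have hMc := short_core M hMp
      (fun n hn => by
        obtain ⟨a, -, he⟩ := (hMmem n).1 hn
        exact mem_classStab_of_commute hψ hu (Subgroup.mem_centralizer_singleton_iff.1 a.2) he)
      (fun m hm n hn => by
        obtain ⟨a, ha, he⟩ := (hMmem n).1 hn
        obtain ⟨h, hh, hc⟩ := lift_centralising hS hψ hu huc hm
        let hC : Ct := ⟨h, Subgroup.mem_centralizer_singleton_iff.2 hc.eq⟩
        refine (hMmem _).2 ⟨hC * a * hC⁻¹, ?_, ?_⟩
        · rw [map_mul, map_mul, map_inv]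
          exact (inferInstance : P.Normal).conj_mem _ ha _
        · rw [QuotientGroup.mk_mul, QuotientGroup.mk_mul, QuotientGroup.mk_inv, hh, he, ← map_inv e,
            ← map_mul e, ← map_mul e]
          rfl)
    intro d hd
    obtain ⟨a, rfl⟩ := hπsurj d
    obtain ⟨n, hn⟩ := QuotientGroup.mk_surjective (e (QuotientGroup.mk (a : Subgroup.centralizer ({z} : Set G))))
    have hcn := hMc ((hMmem n).2 ⟨a, hd, hn⟩)
    have h1 : e (QuotientGroup.mk (a : Subgroup.centralizer ({z} : Set G))) = 1 := by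
      rw [← hn, (QuotientGroup.eq_one_iff n).2 hcn]
    rw [map_eq_one_iff e e.injective, QuotientGroup.eq_one_iff] at h1
    exact ⟨a, h1, rfl⟩
  have hFS : generalizedFittingSubgroup (Subgroup.centralizer ({zb} : Set (T ⧸ N))) = R := by
    rw [CfsgLib.Components.generalizedFitting_eq_pCore 2 hlayer hodd]
    exact le_antisymm hpcore (CfsgLib.Components.le_pCore hRp)
  have hzb : orderOf zb = 2 := by
    refine orderOf_eq_prime ?_ fun h => ?_
    · rw [pow_two, ← QuotientGroup.mk_mul, QuotientGroup.eq_one_iff, hNmem]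
      left
      show z * z = 1
      rw [← pow_two, ← hS.1]; exact pow_orderOf_eq_one z
    · rcases (hNmem zT).1 ((QuotientGroup.eq_one_iff zT).1 h) with h' | h'
      · exact z_ne_one hS h'
      · exact hune h'.symm
  -- not weakly closed
  have hnwc : ∃ b : T ⧸ N, (∃ hq : b * zb * b⁻¹ ∈ Subgroup.centralizer ({zb} : Set (T ⧸ N)),
      (⟨b * zb * b⁻¹, hq⟩ : Subgroup.centralizer ({zb} : Set (T ⧸ N))) ∈ R) ∧
      b * zb * b⁻¹ ≠ zb := by
    obtain ⟨q', hq'⟩ := mem_inG.1 (mem_conjQ.1 htg)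
    have hconjt : IsConj t (toG q') := isConj_iff.2 ⟨g₀⁻¹, by rw [hq', ← ht]; group⟩
    have hq2 : q' * q' = 1 := Subtype.ext (Subtype.ext (by
      show toG q' * toG q' = 1
      rw [hq']
      calc g₀⁻¹ * t * g₀ * (g₀⁻¹ * t * g₀) = g₀⁻¹ * (t * t) * g₀ := by group
        _ = 1 := by rw [hu2]; group))
    have hq'z : ¬ IsConj z (toG q') := fun h => htz (h.trans hconjt.symm)
    have hq'c : q' ∉ Subgroup.center Q := fun h => by
      rcases (mem_center_iff hS).1 h with h' | h'
      · rw [h'] at hconjt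
        exact hu1 (isConj_one_left.1 hconjt)
      · exact hq'z (h' ▸ IsConj.refl z)
    obtain ⟨c, hc⟩ := invol_transitive hS hψ (x := u) (y := q') (Subtype.ext (Subtype.ext hu2)) huc
      htz hq2 hq'c hq'z
    have hc' : (c : G) * t * (c : G)⁻¹ = g₀⁻¹ * t * g₀ := (congrArg Subtype.val hc).trans hq'
    have hgt : g₀ * (c : G) ∈ T := Subgroup.mem_centralizer_singleton_iff.2 (by
      calc g₀ * (c : G) * t = g₀ * ((c : G) * t * (c : G)⁻¹) * c := by group
        _ = g₀ * (g₀⁻¹ * t * g₀) * c := by rw [hc']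
        _ = t * (g₀ * (c : G)) := by group)
    have hgz : g₀ * (c : G) * z * (g₀ * (c : G))⁻¹ = toG x₀ := by
      have hcz : (c : G) * z * (c : G)⁻¹ = z := by
        rw [Subgroup.mem_centralizer_singleton_iff.1 c.2]; group
      calc g₀ * (c : G) * z * (g₀ * (c : G))⁻¹ = g₀ * ((c : G) * z * (c : G)⁻¹) * g₀⁻¹ := by group
        _ = toG x₀ := by rw [hcz, hgx]
    have hx₀u : Commute x₀ u := (commute_iff_dot hS hψ hx₀ hu).2 (by decide +kernel)
    let xC : Ct := ⟨x₀, Subgroup.mem_centralizer_singleton_iff.2 (congrArg Subtype.val hx₀u.eq)⟩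
    have hb : (QuotientGroup.mk ⟨_, hgt⟩ : T ⧸ N) * zb * (QuotientGroup.mk ⟨_, hgt⟩ : T ⧸ N)⁻¹ =
        (π xC : T ⧸ N) := by
      show (QuotientGroup.mk (⟨_, hgt⟩ * zT * (⟨_, hgt⟩ : T)⁻¹) : T ⧸ N) = QuotientGroup.mk (toT xC)
      congr 1
      exact Subtype.ext hgz
    refine ⟨QuotientGroup.mk ⟨_, hgt⟩, ⟨hb ▸ (π xC).2, ?_⟩, ?_⟩
    · have : (⟨_, hb ▸ (π xC).2⟩ : Subgroup.centralizer ({zb} : Set (T ⧸ N))) = π xC := Subtype.ext hb
      rw [this]
      exact ⟨xC, x₀.2, rfl⟩
    · rw [hb]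
      intro h
      have hm := (hNmem _).1 (QuotientGroup.eq.1 (show (QuotientGroup.mk zT : T ⧸ N) =
        QuotientGroup.mk (toT xC) from h.symm))
      rcases hm with h' | h'
      · have h'' : z⁻¹ * toG x₀ = 1 := h'
        exact (x_sq_ne hS (frame_not_center hS hψ hx₀)).1 (inv_mul_eq_one.1 h'').symm
      · have h'' : z⁻¹ * toG x₀ = t := h'
        have hxu : x₀ = zQ hS * u := Subtype.ext (Subtype.ext (inv_mul_eq_iff_eq_mul.1 h''))
        have hfs : ψ frameV = ψ shortV := by
          rw [hx₀, hu, hxu, QuotientGroup.mk_mul,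
            (QuotientGroup.eq_one_iff _).2 (zQ_mem_center hS), one_mul]
        rcases (show Cong shortV frameV from (psi_eq_iff hψ _ _).1 hfs.symm).eq_or_neg
          (by decide +kernel) (by decide +kernel) with e' | e'
        · exact absurd (congrArg (fun w : leechLattice => sqNorm (w : GolayPt → ℤ)) e') (by decide +kernel)
        · exact absurd (congrArg (fun w : leechLattice => sqNorm (w : GolayPt → ℤ)) e') (by decide +kernel)
  -- the identifications
  have hlift : ∀ g : Spor.Co2, ∃ a : Ct, (QuotientGroup.mk (⟨g.1, g.2.1⟩ : Co0) : Spor.Co1) =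
      e (QuotientGroup.mk (a : Subgroup.centralizer ({z} : Set G))) := by
    intro g
    obtain ⟨h, hh, hc⟩ := lift_centralising hS hψ hu huc (g := (⟨g.1, g.2.1⟩ : Co0)) (by
      rw [mem_classStab]
      have h' : (⟨g.1, g.2.1⟩ : Co0) • shortV = shortV := leechU_eq ▸ g.2.2
      rw [h']; exact Cong.refl _)
    exact ⟨⟨h, Subgroup.mem_centralizer_singleton_iff.2 hc.eq⟩, hh⟩
  choose lf hlf using hlift
  have hsame : ∀ a b : Ct, (QuotientGroup.mk (a : Subgroup.centralizer ({z} : Set G)) :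
        Subgroup.centralizer ({z} : Set G) ⧸ Q) = QuotientGroup.mk (b : Subgroup.centralizer ({z} : Set G)) →
      (QuotientGroup.mk (π a) : _ ⧸ R) = QuotientGroup.mk (π b) := fun a b hab => by
    have hm : (a : Subgroup.centralizer ({z} : Set G))⁻¹ * (b : Subgroup.centralizer ({z} : Set G)) ∈ Q :=
      QuotientGroup.eq.1 hab
    exact QuotientGroup.eq.2 ⟨a⁻¹ * b, hm, by rw [map_mul, map_inv]⟩
  let θ : Spor.Co2 →* Subgroup.centralizer ({zb} : Set (T ⧸ N)) ⧸ R :=
    MonoidHom.mk' (fun g => QuotientGroup.mk (π (lf g))) fun g g' => by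
      rw [← QuotientGroup.mk_mul, ← map_mul]
      refine hsame _ _ (e.injective ?_)
      rw [Subgroup.coe_mul, QuotientGroup.mk_mul, map_mul, ← hlf, ← hlf, ← hlf, ← QuotientGroup.mk_mul]
      rfl
  have hθinj : Function.Injective θ := (injective_iff_map_eq_one θ).2 fun g hg => by
    obtain ⟨a, haQ, ha⟩ := (QuotientGroup.eq_one_iff _).1 hg
    have h1 : π (a⁻¹ * lf g) = 1 := by rw [map_mul, map_inv, ha, inv_mul_cancel]
    have hmem : ((lf g : Ct) : Subgroup.centralizer ({z} : Set G)) ∈ Q := by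
      rcases (hπ1 _).1 h1 with h' | h'
      · rw [show ((lf g : Ct) : Subgroup.centralizer ({z} : Set G)) = a from
          (Subtype.ext (inv_mul_eq_one.1 (show (((a : Subgroup.centralizer ({z} : Set G)) : G))⁻¹ *
            (((lf g : Ct) : Subgroup.centralizer ({z} : Set G)) : G) = 1 from h'))).symm]
        exact haQ
      · rw [show ((lf g : Ct) : Subgroup.centralizer ({z} : Set G)) = (a : Subgroup.centralizer ({z} : Set G)) * u from
          Subtype.ext (inv_mul_eq_iff_eq_mul.1 (show (((a : Subgroup.centralizer ({z} : Set G)) : G))⁻¹ *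
            (((lf g : Ct) : Subgroup.centralizer ({z} : Set G)) : G) = toG u from h'))]
        exact Q.mul_mem haQ u.2
    have h2 := hlf g
    rw [(QuotientGroup.eq_one_iff _).2 hmem, map_one, QuotientGroup.eq_one_iff] at h2
    rcases CfsgLib.Leech.center_cases h2 with h3 | h3
    · exact Subtype.ext (congrArg (fun m : Co0 => (m : Equiv.Perm leechLattice)) h3)
    · exfalso
      have h4 : negCo0 • shortV = shortV := h3 ▸ (leechU_eq ▸ g.2.2)
      have h5 := congrFun (congrArg Subtype.val h4) none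
      rw [negCo0_smul] at h5
      revert h5
      decide +kernel
  have hθsurj : Function.Surjective θ := by
    intro q
    obtain ⟨d, rfl⟩ := QuotientGroup.mk_surjective q
    obtain ⟨a, rfl⟩ := hπsurj d
    obtain ⟨m, hm⟩ := QuotientGroup.mk_surjective (e (QuotientGroup.mk (a : Subgroup.centralizer ({z} : Set G))))
    have hst := mem_classStab_of_commute hψ hu (Subgroup.mem_centralizer_singleton_iff.1 a.2) hm
    obtain ⟨m', hm', hfix⟩ : ∃ m' : Co0, (QuotientGroup.mk m' : Spor.Co1) = QuotientGroup.mk m ∧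
        m' • shortV = shortV := by
      rcases (mem_classStab.1 hst).eq_or_neg (by rw [co0_norm]; decide +kernel) (by decide +kernel) with h' | h'
      · exact ⟨m, rfl, h'⟩
      · refine ⟨negCo0 * m, ?_, ?_⟩
        · rw [QuotientGroup.mk_mul, (QuotientGroup.eq_one_iff _).2 negCo0_mem_center, one_mul]
        · rw [mul_smul, h']
          exact Subtype.ext (by rw [negCo0_smul, AddSubgroup.coe_neg, neg_neg])
    have hmem : (m' : Equiv.Perm leechLattice) ∈ Spor.Co2 := ⟨m'.2, by rw [leechU_eq]; exact hfix⟩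
    refine ⟨⟨m'.1, hmem⟩, hsame _ _ (e.injective ?_)⟩
    rw [← hlf, ← hm, ← hm']
  let e' := (MulEquiv.ofBijective θ ⟨hθinj, hθsurj⟩).symm
  have hdot : ∀ x : leechPerpU, (16 : ℤ) ∣ dotInt ((x : leechLattice) : GolayPt → ℤ) (shortV : GolayPt → ℤ) :=
    fun x => by
      have hx : (16 : ℤ) ∣ dotInt ((x : leechLattice) : GolayPt → ℤ) (Spor.leechU : GolayPt → ℤ) := x.2
      rwa [leechU_eq] at hx
  let lv : leechPerpU → CQ := fun x => ⟨lift ψ (x : leechLattice),
    Subgroup.mem_centralizer_singleton_iff.2 ((commute_iff_dot hS hψ (psi_lift _) hu).2 (hdot x)).eq⟩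
  -- the centre of `R`
  have hzC : zQ hS ∈ CQ := Subgroup.mem_centralizer_singleton_iff.2
    (Subgroup.mem_center_iff.1 (zQ_mem_center hS) u).symm
  have hρz : ρ ⟨zQ hS, hzC⟩ ∈ Subgroup.center R := Subgroup.mem_center_iff.2 fun r => by
    obtain ⟨q, rfl⟩ := hρsurj r
    rw [← map_mul, ← map_mul]
    congr 1
    exact Subtype.ext (Subgroup.mem_center_iff.1 (zQ_mem_center hS) q)
  have hρz1 : ρ ⟨zQ hS, hzC⟩ ≠ 1 := fun h => by
    rcases (hρ1 _).1 h with h' | h'
    · exact zQ_ne_one hS h'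
    · exact huc (h' ▸ zQ_mem_center hS)
  have hZ : ∀ r ∈ Subgroup.center R, r = 1 ∨ r = ρ ⟨zQ hS, hzC⟩ := by
    intro r hr
    obtain ⟨a, b, hab, huniv⟩ := Nat.card_eq_two_iff.1 hREx.2
    have mem : ∀ w : Subgroup.center R, w = a ∨ w = b := fun w => by
      have : w ∈ ({a, b} : Set (Subgroup.center R)) := huniv ▸ Set.mem_univ w
      simpa using this
    by_contra h
    push Not at h
    have h1 : (⟨r, hr⟩ : Subgroup.center R) ≠ 1 := fun e1 => h.1 (congrArg Subtype.val e1)
    have h2 : (⟨r, hr⟩ : Subgroup.center R) ≠ ⟨_, hρz⟩ := fun e1 => h.2 (congrArg Subtype.val e1)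
    have h3 : (1 : Subgroup.center R) ≠ ⟨_, hρz⟩ := fun e1 => hρz1 (congrArg Subtype.val e1).symm
    rcases mem 1 with e1 | e1 <;> rcases mem ⟨_, hρz⟩ with e2 | e2 <;>
      rcases mem ⟨r, hr⟩ with e3 | e3 <;>
      first
        | exact h3 (e1.trans e2.symm)
        | exact h1 (e3.trans e1.symm)
        | exact h2 (e3.trans e2.symm)
  -- `ρ` respects classes
  have hρeq : ∀ p q : CQ, ((QuotientGroup.mk (p : Q) : Q ⧸ Subgroup.center Q) = QuotientGroup.mk (q : Q)) →
      (QuotientGroup.mk (ρ p) : R ⧸ Subgroup.center R) = QuotientGroup.mk (ρ q) := by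
    intro p q hpq
    rw [QuotientGroup.eq, ← map_inv, ← map_mul]
    rcases (mem_center_iff hS).1 (QuotientGroup.eq.1 hpq) with h' | h'
    · rw [show p⁻¹ * q = 1 from Subtype.ext h', map_one]; exact one_mem _
    · rw [show p⁻¹ * q = ⟨zQ hS, hzC⟩ from Subtype.ext h']; exact hρz
  let ψ' : leechPerpU → R ⧸ Subgroup.center R := fun x => QuotientGroup.mk (ρ (lv x))
  refine ⟨zb, R, hRn, ⟨hzb, hFS, hREx, hRcard, hnwc⟩, e', ψ', ?_, ?_, ?_, ?_⟩
  · intro x y
    show QuotientGroup.mk (ρ _) = QuotientGroup.mk (ρ _) * QuotientGroup.mk (ρ _)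
    rw [← QuotientGroup.mk_mul, ← map_mul]
    refine hρeq _ _ ?_
    rw [Subgroup.coe_mul, QuotientGroup.mk_mul]
    show QuotientGroup.mk (lift ψ _) = QuotientGroup.mk (lift ψ _) * QuotientGroup.mk (lift ψ _)
    rw [← psi_lift, ← psi_lift, ← psi_lift, AddSubgroup.coe_add, hψ.1]
  · intro r
    obtain ⟨r, rfl⟩ := QuotientGroup.mk_surjective r
    obtain ⟨q, rfl⟩ := hρsurj r
    obtain ⟨v, hv⟩ := hψ.2.1 (QuotientGroup.mk (q : Q))
    have hvd := (commute_iff_dot hS hψ hv hu).1 (Subgroup.mem_centralizer_singleton_iff.1 q.2)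
    refine ⟨⟨v, ?_⟩, hρeq _ _ ?_⟩
    · show (16 : ℤ) ∣ dotInt (v : GolayPt → ℤ) (Spor.leechU : GolayPt → ℤ)
      rw [leechU_eq]; exact hvd
    · show QuotientGroup.mk (lift ψ v) = _
      rw [← psi_lift, hv]
  · intro x
    show (QuotientGroup.mk (ρ (lv x)) : R ⧸ Subgroup.center R) = 1 ↔ _
    rw [QuotientGroup.eq_one_iff, leechU_eq]
    constructor
    · intro hc
      have h0 : ((lv x : CQ) : Q) = 1 ∨ ((lv x : CQ) : Q) = u ∨ ((lv x : CQ) : Q) = zQ hS ∨
          ((lv x : CQ) : Q) = zQ hS * u := by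
        rcases hZ _ hc with h' | h'
        · rcases (hρ1 _).1 h' with h'' | h''
          · exact Or.inl h''
          · exact Or.inr (Or.inl h'')
        · have h1 : ρ ((⟨zQ hS, hzC⟩ : CQ)⁻¹ * lv x) = 1 := by rw [map_mul, map_inv, h', inv_mul_cancel]
          rcases (hρ1 _).1 h1 with h'' | h''
          · exact Or.inr (Or.inr (Or.inl (inv_mul_eq_one.1 h'').symm))
          · exact Or.inr (Or.inr (Or.inr (inv_mul_eq_iff_eq_mul.1 h'')))
      have hcls : ψ (x : leechLattice) = 1 ∨ ψ (x : leechLattice) = ψ shortV := by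
        have hz1 : (QuotientGroup.mk (zQ hS) : Q ⧸ Subgroup.center Q) = 1 :=
          (QuotientGroup.eq_one_iff _).2 (zQ_mem_center hS)
        have hl : ψ (x : leechLattice) = QuotientGroup.mk ((lv x : CQ) : Q) := psi_lift _
        rcases h0 with h' | h' | h' | h' <;> rw [hl, h', hu]
        · exact Or.inl rfl
        · exact Or.inr rfl
        · exact Or.inl hz1
        · exact Or.inr (by rw [QuotientGroup.mk_mul, hz1, one_mul])
      exact hcls.imp (hψ.2.2.1 _).1 fun h' => (psi_eq_iff hψ _ _).1 h'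
    · have hone : (1 : CQ) ∈ (⊤ : Subgroup CQ) := trivial
      rintro (⟨w, hw⟩ | ⟨w, hw⟩)
      · have h1 : (QuotientGroup.mk ((lv x : CQ) : Q) : Q ⧸ Subgroup.center Q) =
            QuotientGroup.mk ((1 : CQ) : Q) := by
          show QuotientGroup.mk (lift ψ _) = _
          rw [← psi_lift, (hψ.2.2.1 _).2 ⟨w, hw⟩]; rfl
        have h2 := hρeq _ _ h1
        rwa [map_one, QuotientGroup.mk_one, QuotientGroup.eq_one_iff] at h2
      · have huC : u ∈ CQ := Subgroup.mem_centralizer_singleton_iff.2 rfl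
        have h1 : (QuotientGroup.mk ((lv x : CQ) : Q) : Q ⧸ Subgroup.center Q) =
            QuotientGroup.mk (((⟨u, huC⟩ : CQ)) : Q) := by
          show QuotientGroup.mk (lift ψ _) = _
          rw [← psi_lift, (psi_eq_iff hψ _ _).2 ⟨w, hw⟩, hu]
        have h2 := hρeq _ _ h1
        rwa [(hρ1 ⟨u, huC⟩).2 (Or.inr rfl), QuotientGroup.mk_one, QuotientGroup.eq_one_iff] at h2
  · intro h g hg x y hxy q hq
    have h1 : θ g = QuotientGroup.mk h := by
      rw [← hg]; exact (MulEquiv.ofBijective θ ⟨hθinj, hθsurj⟩).apply_symm_apply _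
    obtain ⟨b, hbQ, hb⟩ := QuotientGroup.eq.1 h1
    let a : Ct := lf g * b
    have hπa : π a = h := by rw [map_mul, hb]; group
    have ha : (QuotientGroup.mk (⟨g.1, g.2.1⟩ : Co0) : Spor.Co1) =
        e (QuotientGroup.mk (a : Subgroup.centralizer ({z} : Set G))) := by
      rw [hlf, Subgroup.coe_mul, QuotientGroup.mk_mul,
        (QuotientGroup.eq_one_iff (b : Subgroup.centralizer ({z} : Set G))).2 hbQ, mul_one]
    have hy := psi_conj hψ _ _ ha (x : leechLattice) _ (psi_lift _)
    rw [show (⟨g.1, g.2.1⟩ : Co0) • (x : leechLattice) = (y : leechLattice) from hxy] at hy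
    obtain ⟨qd, hqd⟩ : ∃ qd : CQ, ((qd : Q) : Subgroup.centralizer ({z} : Set G)) =
        (a : Subgroup.centralizer ({z} : Set G)) * ((lv x : CQ) : Q) * (a : Subgroup.centralizer ({z} : Set G))⁻¹ := by
      refine ⟨⟨⟨_, (inferInstance : Q.Normal).conj_mem _ ((lv x : CQ) : Q).2 _⟩,
        Subgroup.mem_centralizer_singleton_iff.2 (Subtype.ext ?_)⟩, rfl⟩
      exact Subgroup.mem_centralizer_singleton_iff.1 ((a * (⟨((lv x : CQ) : Q),
        Subgroup.mem_centralizer_singleton_iff.2 (congrArg Subtype.val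
          (Subgroup.mem_centralizer_singleton_iff.1 (lv x).2))⟩ : Ct) * a⁻¹).2)
    have h2 : (QuotientGroup.mk ((lv y : CQ) : Q) : Q ⧸ Subgroup.center Q) = QuotientGroup.mk (qd : Q) := by
      show QuotientGroup.mk (lift ψ _) = _
      rw [← psi_lift, hy]
      congr 1
      exact Subtype.ext hqd.symm
    show QuotientGroup.mk (ρ (lv y)) = _
    rw [hρeq _ _ h2]
    -- compare with the conjugate of `q`
    have hqc : (ρ (lv x))⁻¹ * q ∈ Subgroup.center R := QuotientGroup.eq.1 hq
    have hconj : (h * (ρ (lv x) : Subgroup.centralizer ({zb} : Set (T ⧸ N))) * h⁻¹) =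
        (ρ qd : Subgroup.centralizer ({zb} : Set (T ⧸ N))) := by
      rw [← hπa]
      show π a * π _ * (π a)⁻¹ = π _
      rw [← map_inv, ← map_mul, ← map_mul]
      congr 1
      exact Subtype.ext hqd.symm
    rw [QuotientGroup.eq]
    have hfix : ∀ c : R, c ∈ Subgroup.center R →
        h * (c : Subgroup.centralizer ({zb} : Set (T ⧸ N))) * h⁻¹ = c := by
      intro c hc
      rcases hZ c hc with rfl | rfl
      · simp
      · rw [← hπa]
        show π a * π _ * (π a)⁻¹ = π _
        rw [← map_inv, ← map_mul, ← map_mul]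
        congr 1
        refine Subtype.ext (Subtype.ext ?_)
        show ((a : Subgroup.centralizer ({z} : Set G)) : G) * z * _⁻¹ = z
        rw [Subgroup.mem_centralizer_singleton_iff.1 (a : Subgroup.centralizer ({z} : Set G)).2,
          mul_inv_cancel_right]
    convert hqc using 1
    refine Subtype.ext ?_
    have h3 := hfix _ hqc
    show (ρ qd : Subgroup.centralizer ({zb} : Set (T ⧸ N)))⁻¹ * (h * (q : Subgroup.centralizer ({zb} : Set (T ⧸ N))) * h⁻¹) = _
    rw [← hconj]
    conv_rhs => rw [← h3]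
    simp only [Subgroup.coe_mul, Subgroup.coe_inv]
    group

/-- The centralizer of any such involution modulo it is of Baby Monster type. -/
theorem babyType_all {t : G} (htQ : ∃ htc : t ∈ Subgroup.centralizer ({z} : Set G),
      (⟨t, htc⟩ : Subgroup.centralizer ({z} : Set G)) ∈ Q) (ht2 : orderOf t = 2) (ht : ¬ IsConj z t)
    [hn : ((Subgroup.zpowers t).subgroupOf (Subgroup.centralizer ({t} : Set G))).Normal] :
    IsOfBabyMonsterType (↥(Subgroup.centralizer ({t} : Set G)) ⧸
      (Subgroup.zpowers t).subgroupOf (Subgroup.centralizer ({t} : Set G))) := by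
  obtain ⟨htc, htq⟩ := htQ
  let u : Q := ⟨⟨t, htc⟩, htq⟩
  have hu2 : t * t = 1 := by rw [← pow_two, ← ht2]; exact pow_orderOf_eq_one t
  have huc : u ∉ Subgroup.center Q := fun h => by
    rcases (mem_center_iff hS).1 h with h' | h'
    · have h'' : t = 1 := congrArg toG h'
      rw [h'', orderOf_one] at ht2
      omega
    · have h'' : t = z := congrArg toG h'
      exact ht (h'' ▸ IsConj.refl z)
  obtain ⟨v, hv, h | h | h⟩ := exists_class hS hψ huc
  · obtain ⟨m, hm⟩ := transitive_norm32 shortV v (by decide +kernel) h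
    obtain ⟨e', ψ', hψ', hval⟩ := exists_adapted hψ m
    exact babyType hS hψ' (u := u) (by rw [hval, hm, hv]) hu2
  · have h2 := (sq_one_iff hS hψ hv).1 (Subtype.ext (Subtype.ext hu2))
    rw [h] at h2
    norm_num at h2
  · exact absurd (conj_of_class hS hψ h hv).1 ht

end CfsgLib.MonsterType
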