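import Mathlib

/-!
# An involution acting with few fixed points
-/

set_option autoImplicit false

namespace CfsgLib.MonsterType

variable {G : Type*} [Group G] [Finite G] {z : G} {P : Subgroup G}

/-- Fixed points times commutators cover a subgroup normalised by `z`. -/
theorem card_le_fix_mul (hnorm : ∀ a ∈ P, z * a * z⁻¹ ∈ P) (I : Set G)
    (hI : ∀ a ∈ P, a⁻¹ * (z * a * z⁻¹) ∈ I) :
    Nat.card P ≤ Nat.card (P ⊓ Subgroup.centralizer ({z} : Set G) : Subgroup G) * I.ncard := by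
  classical
  let f : P → I := fun a => ⟨(a : G)⁻¹ * (z * a * z⁻¹), hI a a.2⟩
  let s : I → P := fun i => if h : ∃ a, f a = i then h.choose else 1
  have hs : ∀ a, f (s (f a)) = f a := fun a => by
    have h : ∃ b, f b = f a := ⟨a, rfl⟩
    simp only [s, dif_pos h]
    exact h.choose_spec
  have hmem : ∀ a : P, (a : G) * ((s (f a) : P) : G)⁻¹ ∈
      P ⊓ Subgroup.centralizer ({z} : Set G) := fun a => by
    have h := congrArg Subtype.val (hs a)
    refine ⟨P.mul_mem a.2 (P.inv_mem (s (f a)).2), Subgroup.mem_centralizer_singleton_iff.2 ?_⟩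
    have h' : ((s (f a) : P) : G)⁻¹ * (z * (s (f a) : P) * z⁻¹) = (a : G)⁻¹ * (z * a * z⁻¹) := h
    generalize ((s (f a) : P) : G) = b at h'
    have e : (a : G) * b⁻¹ = z * ((a : G) * b⁻¹) * z⁻¹ :=
      calc (a : G) * b⁻¹ = (a : G) * (b⁻¹ * (z * b * z⁻¹)) * (z * b⁻¹ * z⁻¹) := by group
        _ = (a : G) * ((a : G)⁻¹ * (z * a * z⁻¹)) * (z * b⁻¹ * z⁻¹) := by rw [h']
        _ = z * ((a : G) * b⁻¹) * z⁻¹ := by group
    conv_lhs => rw [e]
    group
  have hinj : Function.Injective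
      (fun a : P => ((⟨_, hmem a⟩ : (P ⊓ Subgroup.centralizer ({z} : Set G) : Subgroup G)), f a)) := by
    intro a b hab
    obtain ⟨h1, h2⟩ := Prod.ext_iff.1 hab
    have h1' := congrArg Subtype.val h1
    simp only at h1' h2
    rw [h2] at h1'
    exact Subtype.ext (mul_right_cancel h1')
  have := Nat.card_le_card_of_injective _ hinj
  rwa [Nat.card_prod, Nat.card_coe_set_eq] at this

/-- With squares in `{1, x}` for a fixed central `x`, at most `2 |C|²` elements. -/
theorem card_le_two_mul_fix_sq (hnorm : ∀ a ∈ P, z * a * z⁻¹ ∈ P) (hz : z * z = 1) {x : G}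
    (hxz : Commute z x) (hx2 : x * x = 1) (hsq : ∀ a ∈ P, a * a = 1 ∨ a * a = x) :
    Nat.card P ≤ Nat.card (P ⊓ Subgroup.centralizer ({z} : Set G) : Subgroup G) *
      (2 * Nat.card (P ⊓ Subgroup.centralizer ({z} : Set G) : Subgroup G)) := by
  classical
  set C := P ⊓ Subgroup.centralizer ({z} : Set G) with hC
  let T : Set G := {i | i ∈ P ∧ z * i * z⁻¹ = i * x}
  have hxc : z * x * z⁻¹ = x := by rw [hxz.eq, mul_inv_cancel_right]
  have hT : T.ncard ≤ Nat.card C := by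
    rcases Set.eq_empty_or_nonempty T with h | ⟨j, hj, hje⟩
    · rw [h, Set.ncard_empty]; exact Nat.zero_le _
    refine le_trans (Set.ncard_le_ncard_of_injOn (fun i => i * j⁻¹) (t := (C : Set G)) ?_ ?_
      (Set.toFinite _)) (le_of_eq (Nat.card_coe_set_eq (C : Set G)).symm)
    · rintro i ⟨hi, hie⟩
      refine ⟨P.mul_mem hi (P.inv_mem hj), Subgroup.mem_centralizer_singleton_iff.2 ?_⟩
      have e : z * (i * j⁻¹) * z⁻¹ = i * j⁻¹ :=
        calc z * (i * j⁻¹) * z⁻¹ = (z * i * z⁻¹) * (z * j * z⁻¹)⁻¹ := by group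
          _ = i * j⁻¹ := by rw [hie, hje]; group
      conv_lhs => rw [← e]
      group
    · exact fun a _ b _ h => mul_right_cancel h
  have hI : ∀ a ∈ P, a⁻¹ * (z * a * z⁻¹) ∈ (C : Set G) ∪ T := by
    intro a ha
    have hmem : a⁻¹ * (z * a * z⁻¹) ∈ P := mul_mem (inv_mem ha) (hnorm a ha)
    have hflip : z * (a⁻¹ * (z * a * z⁻¹)) * z⁻¹ = (a⁻¹ * (z * a * z⁻¹))⁻¹ := by
      calc z * (a⁻¹ * (z * a * z⁻¹)) * z⁻¹ = z * a⁻¹ * z * a * (z * z)⁻¹ := by group
        _ = z * a⁻¹ * z * a := by rw [hz, inv_one, mul_one]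
        _ = z * a⁻¹ * z⁻¹ * a := by rw [inv_eq_of_mul_eq_one_right hz]
        _ = (a⁻¹ * (z * a * z⁻¹))⁻¹ := by group
    generalize a⁻¹ * (z * a * z⁻¹) = i at hmem hflip
    rcases hsq i hmem with h | h
    · refine Or.inl ⟨hmem, Subgroup.mem_centralizer_singleton_iff.2 ?_⟩
      have e : z * i * z⁻¹ = i := by rw [hflip]; exact inv_eq_of_mul_eq_one_right h
      conv_lhs => rw [← e]
      group
    · refine Or.inr ⟨hmem, ?_⟩
      rw [hflip]
      refine inv_eq_of_mul_eq_one_right ?_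
      rw [← mul_assoc, h, hx2]
  refine (card_le_fix_mul hnorm _ hI).trans (Nat.mul_le_mul_left _ ?_)
  refine (Set.ncard_union_le _ _).trans ?_
  rw [two_mul, Nat.card_coe_set_eq (C : Set G) |>.symm]
  exact Nat.add_le_add le_rfl hT

end CfsgLib.MonsterType
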