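import Cfsg.Agent.MonsterType.QConjTransport
import Cfsg.Prelude.Def_Transfer

/-!
# The centralizer of a conjugate of `z` in `Q`, modulo `Q`
-/

set_option autoImplicit false

namespace CfsgLib.MonsterType

open Cfsg CfsgLib.Leech CfsgLib.Mathieu

/-- `E` is elementary abelian of order `2 ^ 11`, normal in `X`, with a complement `M24`. -/
def SplitShape {L : Type*} [Group L] (X E : Subgroup L) : Prop :=
  E ≤ X ∧ (∀ x ∈ X, ∀ y ∈ E, x * y * x⁻¹ ∈ E) ∧ IsElementaryAbelian 2 E ∧ Nat.card E = 2 ^ 11 ∧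
    ∃ K : Subgroup L, K ≤ X ∧ E ⊓ K = ⊥ ∧ E ⊔ K = X ∧ Nonempty (K ≃* M24)

theorem SplitShape.map {L : Type*} [Group L] {X E : Subgroup L} (h : SplitShape X E) (φ : L ≃* L) :
    SplitShape (X.map φ.toMonoidHom) (E.map φ.toMonoidHom) := by
  obtain ⟨hle, hn, ⟨hc, hsq⟩, hcard, K, hK, hinf, hsup, ⟨f⟩⟩ := h
  refine ⟨Subgroup.map_mono hle, ?_, ⟨⟨⟨?_⟩⟩, ?_⟩, ?_, K.map φ.toMonoidHom, Subgroup.map_mono hK,
    ?_, ?_, ⟨(K.equivMapOfInjective φ.toMonoidHom φ.injective).symm.trans f⟩⟩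
  · rintro _ ⟨a, ha, rfl⟩ _ ⟨b, hb, rfl⟩
    exact ⟨_, hn a ha b hb, by simp⟩
  · rintro ⟨_, a, ha, rfl⟩ ⟨_, b, hb, rfl⟩
    refine Subtype.ext ?_
    show φ.toMonoidHom a * φ.toMonoidHom b = φ.toMonoidHom b * φ.toMonoidHom a
    rw [← map_mul, ← map_mul]
    congr 1
    exact congrArg Subtype.val (hc.is_comm.comm ⟨a, ha⟩ ⟨b, hb⟩)
  · rintro _ ⟨a, ha, rfl⟩
    rw [← map_pow, hsq a ha, map_one]
  · rw [Subgroup.card_map_of_injective φ.injective, hcard]
  · rw [← Subgroup.map_inf _ _ _ φ.injective, hinf, Subgroup.map_bot]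
  · rw [← Subgroup.map_sup, hsup]

/-- The pure permutation maps. -/
def permCo0 : M24 →* Co0 where
  toFun σ := monoCo0 σ.1⁻¹ (inv_mem σ.2) ∅ Spor.empty_mem_supports_golayCode
  map_one' := co0_ext fun v => Subtype.ext (funext fun p => by
    rw [monoCo0_smul, one_smul]; simp [monoFun])
  map_mul' σ τ := co0_ext fun v => Subtype.ext (funext fun p => by
    rw [mul_smul, monoCo0_smul, monoCo0_smul]
    simp [monoFun, monoCo0_smul])

theorem monoCo0_split {τ : Equiv.Perm GolayPt} (hτ : τ ∈ M24) {c : Finset GolayPt}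
    (hc : c ∈ supports (golayCode : Set (GolayPt → ZMod 2))) :
    monoCo0 τ hτ c hc = monoCo0 1 (one_mem _) c hc * permCo0 ⟨τ⁻¹, inv_mem hτ⟩ := by
  refine co0_ext fun v => Subtype.ext (funext fun p => ?_)
  rw [mul_smul]
  simp [monoCo0_smul, monoFun, permCo0]

theorem sign_comm {c c' : Finset GolayPt}
    (hc : c ∈ supports (golayCode : Set (GolayPt → ZMod 2)))
    (hc' : c' ∈ supports (golayCode : Set (GolayPt → ZMod 2))) :
    monoCo0 1 (one_mem _) c hc * monoCo0 1 (one_mem _) c' hc' =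
      monoCo0 1 (one_mem _) c' hc' * monoCo0 1 (one_mem _) c hc ∧
    monoCo0 1 (one_mem _) c hc * monoCo0 1 (one_mem _) c hc = 1 := by
  constructor <;> refine co0_ext fun v => Subtype.ext (funext fun p => ?_)
  · rw [mul_smul, mul_smul]
    simp only [monoCo0_smul, monoFun, Equiv.Perm.one_apply]
    split_ifs <;> rfl
  · rw [mul_smul, one_smul]
    simp only [monoCo0_smul, monoFun, Equiv.Perm.one_apply]
    split_ifs <;> simp

theorem perm_eq_one_of_sign {σ : M24} {c : Finset GolayPt}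
    {hc : c ∈ supports (golayCode : Set (GolayPt → ZMod 2))}
    (h : permCo0 σ = monoCo0 1 (one_mem _) c hc) : σ = 1 := by
  have h' : monoOf (⟨σ.1⁻¹, inv_mem σ.2⟩, ⟨∅, Spor.empty_mem_supports_golayCode⟩) =
      monoOf (⟨1, one_mem _⟩, ⟨c, hc⟩) := h
  have := congrArg Subtype.val (Prod.ext_iff.1 (monoOf_injective h')).1
  exact Subtype.ext (inv_eq_one.1 this)

theorem mk_eq_cases {a b : Co0} (h : (QuotientGroup.mk a : Spor.Co1) = QuotientGroup.mk b) :
    a = b ∨ a = negCo0 * b := by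
  have := QuotientGroup.eq.1 h
  have h' : a⁻¹ * b ∈ (Subgroup.center Co0 : Set Co0) := this
  rw [center_eq] at h'
  rcases h' with e | e
  · exact Or.inl (inv_mul_eq_one.1 e)
  · refine Or.inr ?_
    rw [inv_mul_eq_iff_eq_mul.1 e, ← mul_assoc]
    rw [← Subgroup.mem_center_iff.1 negCo0_mem_center a, mul_assoc a, negCo0_sq, mul_one]

variable {G : Type*} [Group G] [Finite G] {z : G}
  {Q : Subgroup (Subgroup.centralizer ({z} : Set G))} [Q.Normal]
  {e : (Subgroup.centralizer ({z} : Set G)) ⧸ Q ≃* Spor.Co1}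
  {ψ : leechLattice → Q ⧸ Subgroup.center Q}
  (hS : IsExtraspecialCentralizerSetting z Q 12) (hψ : IsLeechModTwoIso Q e ψ)
include hS hψ

theorem frame_splitShape {g : G} {x : Q} (hgx : g * z * g⁻¹ = toG x)
    (hv : ψ frameV = QuotientGroup.mk x) :
    SplitShape
      (((Subgroup.centralizer ({z} : Set G) ⊓ Subgroup.centralizer ({toG x} : Set G)).subgroupOf
        (Subgroup.centralizer ({z} : Set G))).map (QuotientGroup.mk' Q))
      (((conjQ Q g ⊓ Subgroup.centralizer ({z} : Set G)).subgroupOf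
        (Subgroup.centralizer ({z} : Set G))).map (QuotientGroup.mk' Q)) := by
  have hxc := frame_not_center hS hψ hv
  obtain ⟨hsig, hall⟩ := frame_image hS hψ hgx hv
  set X := ((Subgroup.centralizer ({z} : Set G) ⊓ Subgroup.centralizer ({toG x} : Set G)).subgroupOf
    (Subgroup.centralizer ({z} : Set G))).map (QuotientGroup.mk' Q) with hX
  set E := ((conjQ Q g ⊓ Subgroup.centralizer ({z} : Set G)).subgroupOf
    (Subgroup.centralizer ({z} : Set G))).map (QuotientGroup.mk' Q) with hE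
  have hXmem : ∀ q, q ∈ X ↔ ∃ m ∈ classStab frameV, (QuotientGroup.mk m : Spor.Co1) = e q := by
    intro q
    constructor
    · rintro ⟨h, hh, rfl⟩
      obtain ⟨m, hm⟩ := QuotientGroup.mk_surjective (e (QuotientGroup.mk h))
      refine ⟨m, mem_classStab_of_commute hψ hv ?_ hm, hm⟩
      exact Subtype.ext (Subgroup.mem_centralizer_singleton_iff.1 hh.2)
    · rintro ⟨m, hm, hq⟩
      obtain ⟨h, hh, hc⟩ := lift_centralising hS hψ hv hxc hm
      exact ⟨h, ⟨h.2, Subgroup.mem_centralizer_singleton_iff.2 (congrArg Subtype.val hc.eq)⟩,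
        e.injective (hh.symm.trans hq)⟩
  have hEmem : ∀ q, q ∈ E ↔ ∃ n ∈ imageN e g, (QuotientGroup.mk n : Spor.Co1) = e q := by
    intro q
    constructor
    · rintro ⟨r, hr, rfl⟩
      obtain ⟨m, hm⟩ := QuotientGroup.mk_surjective (e (QuotientGroup.mk r))
      exact ⟨m, mem_imageN.2 ⟨r, hr.1, hm⟩, hm⟩
    · rintro ⟨n, hn, hq⟩
      obtain ⟨r, hr, he⟩ := mem_imageN.1 hn
      exact ⟨r, ⟨hr, r.2⟩, e.injective (he.symm.trans hq)⟩
  let κ : M24 →* (Subgroup.centralizer ({z} : Set G)) ⧸ Q :=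
    e.symm.toMonoidHom.comp ((QuotientGroup.mk' (Subgroup.center Co0)).comp permCo0)
  have hκ : ∀ σ, e (κ σ) = QuotientGroup.mk (permCo0 σ) := fun σ => e.apply_symm_apply _
  have hsign : ∀ σ : M24, (∃ c hc, (QuotientGroup.mk (permCo0 σ) : Spor.Co1) =
      QuotientGroup.mk (monoCo0 1 (one_mem _) c hc)) → σ = 1 := by
    rintro σ ⟨c, hc, h⟩
    rcases mk_eq_cases h with h' | h'
    · exact perm_eq_one_of_sign h'
    · obtain ⟨c', hc', e'⟩ := hsig _ ((imageN e g).mul_mem (negCo0_mem_imageN hS) (hall c hc))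
      exact perm_eq_one_of_sign (h'.trans e')
  refine ⟨?_, ?_, ⟨⟨⟨?_⟩⟩, ?_⟩, frame_card_image hS hψ hgx hv, κ.range, ?_, ?_, ?_, ?_⟩
  · intro q hq
    obtain ⟨n, hn, he⟩ := (hEmem q).1 hq
    exact (hXmem q).2 ⟨n, imageN_le hS hψ hgx hv hn, he⟩
  · intro p hp q hq
    obtain ⟨m, hm, hmp⟩ := (hXmem p).1 hp
    obtain ⟨n, hn, hnq⟩ := (hEmem q).1 hq
    refine (hEmem _).2 ⟨m * n * m⁻¹, imageN_conj hS hψ hgx hxc hv hm hn, ?_⟩
    rw [map_mul, map_mul, map_inv, ← hmp, ← hnq]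
    rfl
  · rintro ⟨p, hp⟩ ⟨q, hq⟩
    obtain ⟨n, hn, hnp⟩ := (hEmem p).1 hp
    obtain ⟨n', hn', hnq⟩ := (hEmem q).1 hq
    obtain ⟨c, hc, rfl⟩ := hsig n hn
    obtain ⟨c', hc', rfl⟩ := hsig n' hn'
    refine Subtype.ext (e.injective ?_)
    show e (p * q) = e (q * p)
    rw [map_mul, map_mul, ← hnp, ← hnq, ← QuotientGroup.mk_mul, ← QuotientGroup.mk_mul,
      (sign_comm hc hc').1]
  · intro p hp
    obtain ⟨n, hn, hnp⟩ := (hEmem p).1 hp
    obtain ⟨c, hc, rfl⟩ := hsig n hn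
    refine e.injective ?_
    rw [map_pow, ← hnp, map_one, pow_two, ← QuotientGroup.mk_mul, (sign_comm hc hc).2,
      QuotientGroup.mk_one]
  · rintro _ ⟨σ, rfl⟩
    exact (hXmem _).2 ⟨permCo0 σ,
      monoCo0_mem_classStab (inv_mem σ.2) Spor.empty_mem_supports_golayCode, (hκ σ).symm⟩
  · refine (Subgroup.eq_bot_iff_forall _).2 fun q hq => ?_
    obtain ⟨σ, rfl⟩ := hq.2
    obtain ⟨n, hn, hne⟩ := (hEmem _).1 hq.1
    obtain ⟨c, hc, rfl⟩ := hsig n hn
    rw [hsign σ ⟨c, hc, (hκ σ).symm.trans hne.symm⟩, map_one]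
  · refine le_antisymm (sup_le ?_ ?_) ?_
    · intro q hq
      obtain ⟨n, hn, he⟩ := (hEmem q).1 hq
      exact (hXmem q).2 ⟨n, imageN_le hS hψ hgx hv hn, he⟩
    · rintro _ ⟨σ, rfl⟩
      exact (hXmem _).2 ⟨permCo0 σ,
      monoCo0_mem_classStab (inv_mem σ.2) Spor.empty_mem_supports_golayCode, (hκ σ).symm⟩
    · intro q hq
      obtain ⟨m, hm, hmq⟩ := (hXmem q).1 hq
      obtain ⟨τ, hτ, c, hc, rfl⟩ := eq_monoCo0 (preservesCross_of_classStab hm)
      have e1 : q = e.symm (QuotientGroup.mk (monoCo0 1 (one_mem _) c hc)) *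
          κ ⟨τ⁻¹, inv_mem hτ⟩ := by
        refine e.injective ?_
        rw [map_mul, e.apply_symm_apply, hκ, ← QuotientGroup.mk_mul, ← monoCo0_split hτ hc, hmq]
      rw [e1]
      refine Subgroup.mul_mem_sup ((hEmem _).2 ⟨_, hall c hc, (e.apply_symm_apply _).symm⟩)
        ⟨_, rfl⟩
  · have hinj : Function.Injective κ := (injective_iff_map_eq_one κ).2 fun σ hσ => by
      refine hsign σ ⟨∅, Spor.empty_mem_supports_golayCode, ?_⟩
      rw [← hκ, hσ, map_one, eq_comm, QuotientGroup.eq_one_iff]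
      have h1 : monoCo0 1 (one_mem _) ∅ Spor.empty_mem_supports_golayCode = 1 :=
        co0_ext fun v => Subtype.ext (funext fun p => by
          rw [monoCo0_smul, one_smul]; simp [monoFun])
      rw [h1]
      exact one_mem _
    exact ⟨(MonoidHom.ofInjective hinj).symm⟩

omit hS hψ in
omit [Finite G] in
theorem map_subgroupOf_conj (h : Subgroup.centralizer ({z} : Set G)) (A : Subgroup G) :
    ((A.map (MulAut.conj (h : G)).toMonoidHom).subgroupOf (Subgroup.centralizer ({z} : Set G))).map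
      (QuotientGroup.mk' Q) =
    ((A.subgroupOf (Subgroup.centralizer ({z} : Set G))).map (QuotientGroup.mk' Q)).map
      (MulAut.conj (QuotientGroup.mk h : Subgroup.centralizer ({z} : Set G) ⧸ Q)).toMonoidHom := by
  ext q
  constructor
  · rintro ⟨c, ⟨a, ha, hac⟩, rfl⟩
    refine ⟨QuotientGroup.mk (h⁻¹ * c * h), ⟨h⁻¹ * c * h, ?_, rfl⟩, ?_⟩
    · show ((h : G)⁻¹ * (c : G) * (h : G)) ∈ A
      have hc : (c : G) = (h : G) * a * (h : G)⁻¹ := by
        have := hac.symm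
        simpa using this
      rw [hc]
      simpa [mul_assoc] using ha
    · simp [mul_assoc]
  · rintro ⟨_, ⟨a, ha, rfl⟩, rfl⟩
    refine ⟨h * a * h⁻¹, ⟨a, ha, by simp⟩, ?_⟩
    simp

theorem splitShape_all {g s : G} (hsQ : ∃ hsc : s ∈ Subgroup.centralizer ({z} : Set G),
      (⟨s, hsc⟩ : Subgroup.centralizer ({z} : Set G)) ∈ Q)
    (hs1 : s ≠ z) (hg : g * z * g⁻¹ = s) :
    SplitShape
      (((Subgroup.centralizer ({z} : Set G) ⊓ Subgroup.centralizer ({s} : Set G)).subgroupOf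
        (Subgroup.centralizer ({z} : Set G))).map (QuotientGroup.mk' Q))
      (((conjQ Q g ⊓ Subgroup.centralizer ({z} : Set G)).subgroupOf
        (Subgroup.centralizer ({z} : Set G))).map (QuotientGroup.mk' Q)) := by
  obtain ⟨h, g', x, rfl, rfl, hgx, hx⟩ := exists_standard hS hψ hsQ hs1 hg
  have hC : ∀ a : G, (h : G)⁻¹ * a * (h : G) ∈ Subgroup.centralizer ({z} : Set G) ↔
      a ∈ Subgroup.centralizer ({z} : Set G) := fun a => by
    rw [Subgroup.mul_mem_cancel_right _ h.2, Subgroup.mul_mem_cancel_left _ (Subgroup.inv_mem _ h.2)]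
  have hmem : ∀ (A : Subgroup G) (a : G), a ∈ A.map (MulAut.conj (h : G)).toMonoidHom ↔
      (h : G)⁻¹ * a * (h : G) ∈ A := by
    intro A a
    constructor
    · rintro ⟨b, hb, rfl⟩; simpa [mul_assoc] using hb
    · intro ha; exact ⟨_, ha, by simp [mul_assoc]⟩
  have e1 : Subgroup.centralizer ({z} : Set G) ⊓
      Subgroup.centralizer ({(h : G) * toG x * (h : G)⁻¹} : Set G) =
      (Subgroup.centralizer ({z} : Set G) ⊓ Subgroup.centralizer ({toG x} : Set G)).map
        (MulAut.conj (h : G)).toMonoidHom := by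
    ext a
    rw [hmem, Subgroup.mem_inf, Subgroup.mem_inf, hC]
    simp only [Subgroup.mem_centralizer_singleton_iff]
    refine and_congr_right fun _ => ⟨fun e' => ?_, fun e' => ?_⟩
    · calc (h : G)⁻¹ * a * h * toG x
          = (h : G)⁻¹ * (a * ((h : G) * toG x * (h : G)⁻¹)) * h := by group
        _ = (h : G)⁻¹ * ((h : G) * toG x * (h : G)⁻¹ * a) * h := by rw [e']
        _ = toG x * ((h : G)⁻¹ * a * h) := by group
    · calc a * ((h : G) * toG x * (h : G)⁻¹)
          = (h : G) * ((h : G)⁻¹ * a * h * toG x) * (h : G)⁻¹ := by group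
        _ = (h : G) * (toG x * ((h : G)⁻¹ * a * h)) * (h : G)⁻¹ := by rw [e']
        _ = (h : G) * toG x * (h : G)⁻¹ * a := by group
  have e2 : conjQ Q ((h : G) * g') ⊓ Subgroup.centralizer ({z} : Set G) =
      (conjQ Q g' ⊓ Subgroup.centralizer ({z} : Set G)).map (MulAut.conj (h : G)).toMonoidHom := by
    ext a
    rw [hmem, Subgroup.mem_inf, Subgroup.mem_inf, hC, conjQ_mul, hmem]
  rw [e1, e2, map_subgroupOf_conj, map_subgroupOf_conj]
  exact (frame_splitShape hS hψ hgx hx).map _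

end CfsgLib.MonsterType
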