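import Cfsg.Agent.MonsterType.FiveClasses
import Mathlib.GroupTheory.SpecificGroups.Alternating
import Mathlib.GroupTheory.Index

/-!
# The centraliser of the element of order five as an extension of the wreath product
-/

set_option autoImplicit false

namespace CfsgLib.MonsterType.Five

open Cfsg CfsgLib.Leech CfsgLib.Mathieu

local notation "P10" => Equiv.Perm (Fin 5 ⊕ Fin 5)

/-! ### The wreath product -/

/-- The base of the wreath product. -/
def inW : alternatingGroup (Fin 5) × alternatingGroup (Fin 5) →* P10 :=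
  (Equiv.Perm.sumCongrHom (Fin 5) (Fin 5)).comp
    (((alternatingGroup (Fin 5)).subtype).prodMap (alternatingGroup (Fin 5)).subtype)

/-- The swap of the two halves. -/
def swapW : P10 := Equiv.sumComm (Fin 5) (Fin 5)

theorem inW_apply (a : alternatingGroup (Fin 5) × alternatingGroup (Fin 5)) :
    inW a = Equiv.Perm.sumCongr (a.1 : Equiv.Perm (Fin 5)) (a.2 : Equiv.Perm (Fin 5)) := rfl

theorem inW_injective : Function.Injective inW := fun a b h => by
  have := Equiv.Perm.sumCongrHom_injective (a₁ := ((a.1 : Equiv.Perm (Fin 5)), (a.2 : Equiv.Perm (Fin 5))))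
    (a₂ := ((b.1 : Equiv.Perm (Fin 5)), (b.2 : Equiv.Perm (Fin 5)))) h
  exact Prod.ext (Subtype.ext (congrArg Prod.fst this :)) (Subtype.ext (congrArg Prod.snd this :))

theorem swapW_mul (a : alternatingGroup (Fin 5) × alternatingGroup (Fin 5)) :
    swapW * inW a = inW (a.2, a.1) * swapW := by
  ext x; rcases x with x | x <;> rfl

theorem swapW_sq : swapW * swapW = 1 := by
  ext x; rcases x with x | x <;> rfl

theorem inW_mem (a : alternatingGroup (Fin 5) × alternatingGroup (Fin 5)) :
    inW a ∈ alternatingFiveWreathTwo :=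
  Subgroup.subset_closure (Or.inl ⟨a.1, a.2, rfl⟩)

theorem swapW_mem : swapW ∈ alternatingFiveWreathTwo := Subgroup.subset_closure (Or.inr rfl)

theorem inW_ne_swap (a b : alternatingGroup (Fin 5) × alternatingGroup (Fin 5)) :
    inW a ≠ inW b * swapW := fun h => by
  have := congrArg (fun p : P10 => p (Sum.inl 0)) h
  simp [inW_apply, swapW] at this

theorem wreath_cases {p : P10} (hp : p ∈ alternatingFiveWreathTwo) :
    ∃ a, p = inW a ∨ p = inW a * swapW := by
  induction hp using Subgroup.closure_induction with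
  | mem w hw =>
    rcases hw with ⟨σ, τ, rfl⟩ | rfl
    · exact ⟨(σ, τ), Or.inl rfl⟩
    · exact ⟨1, Or.inr (by rw [map_one, one_mul]; rfl)⟩
  | one => exact ⟨1, Or.inl (map_one _).symm⟩
  | mul u v _ _ hu hv =>
    obtain ⟨a, rfl | rfl⟩ := hu <;> obtain ⟨b, rfl | rfl⟩ := hv
    · exact ⟨a * b, Or.inl (map_mul _ _ _).symm⟩
    · exact ⟨a * b, Or.inr (by rw [map_mul, mul_assoc])⟩
    · exact ⟨a * (b.2, b.1), Or.inr (by rw [map_mul, mul_assoc, swapW_mul, mul_assoc])⟩
    · exact ⟨a * (b.2, b.1), Or.inl (by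
        rw [map_mul, mul_assoc, ← mul_assoc swapW, swapW_mul, mul_assoc (inW (b.2, b.1)), swapW_sq,
          mul_one])⟩
  | inv u _ hu =>
    obtain ⟨a, rfl | rfl⟩ := hu
    · exact ⟨a⁻¹, Or.inl (map_inv _ _).symm⟩
    · refine ⟨(a⁻¹.2, a⁻¹.1), Or.inr ?_⟩
      rw [mul_inv_rev, inv_eq_of_mul_eq_one_right swapW_sq, ← map_inv, swapW_mul]

theorem card_wreath_ge : 7200 ≤ Nat.card alternatingFiveWreathTwo := by
  let f : (alternatingGroup (Fin 5) × alternatingGroup (Fin 5)) × Bool → alternatingFiveWreathTwo :=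
    fun x => if x.2 then ⟨inW x.1 * swapW, mul_mem (inW_mem _) swapW_mem⟩ else ⟨inW x.1, inW_mem _⟩
  have hf : Function.Injective f := by
    rintro ⟨a, s⟩ ⟨b, t⟩ h
    have h' := congrArg Subtype.val h
    cases s <;> cases t <;> simp [f] at h'
    · rw [inW_injective h']
    · exact absurd h' (inW_ne_swap a b)
    · exact absurd h'.symm (inW_ne_swap b a)
    · rw [inW_injective h']
  refine le_of_eq_of_le ?_ (Nat.card_le_card_of_injective f hf)
  rw [Nat.card_prod, Nat.card_prod, nat_card_alternatingGroup, Nat.card_fin,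
    Nat.card_eq_fintype_card, Fintype.card_bool]
  decide

theorem alternating_two_subgroup (P : Subgroup (alternatingGroup (Fin 5))) [P.Normal]
    (hP : IsPGroup 2 P) : P = ⊥ := by
  refine (alternatingGroup.isSimpleGroup (α := Fin 5) (by simp)).eq_bot_or_eq_top_of_normal P
    inferInstance |>.resolve_right ?_
  intro h
  obtain ⟨n, hn⟩ := IsPGroup.iff_card.1 hP
  rw [h, Subgroup.card_top, nat_card_alternatingGroup, Nat.card_fin] at hn
  have h3 : 3 ∣ 2 ^ n := ⟨20, by rw [← hn]; decide⟩
  exact absurd (Nat.le_of_dvd (by norm_num) (Nat.Prime.dvd_of_dvd_pow Nat.prime_three h3)) (by norm_num)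

/-- The wreath product has no nontrivial normal 2-subgroup. -/
theorem wreath_two_core (P : Subgroup alternatingFiveWreathTwo) [P.Normal] (hP : IsPGroup 2 P) :
    P = ⊥ := by
  let f : alternatingGroup (Fin 5) × alternatingGroup (Fin 5) →* alternatingFiveWreathTwo :=
    inW.codRestrict _ inW_mem
  have hf : Function.Injective f := fun a b h => inW_injective (congrArg Subtype.val h)
  haveI : (P.comap f).Normal := Subgroup.Normal.comap inferInstance f
  have hP' : IsPGroup 2 (P.comap f) := hP.comap_of_injective f hf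
  haveI := Subgroup.Normal.map (f := MonoidHom.fst (alternatingGroup (Fin 5)) (alternatingGroup (Fin 5)))
    (inferInstance : (P.comap f).Normal) fun a => ⟨(a, 1), rfl⟩
  haveI := Subgroup.Normal.map (f := MonoidHom.snd (alternatingGroup (Fin 5)) (alternatingGroup (Fin 5)))
    (inferInstance : (P.comap f).Normal) fun a => ⟨(1, a), rfl⟩
  have h1 := alternating_two_subgroup _ (hP'.map (MonoidHom.fst _ _))
  have h2 := alternating_two_subgroup _ (hP'.map (MonoidHom.snd _ _))
  have hbase : ∀ a, f a ∈ P → a = 1 := fun a ha => Prod.ext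
    (Subgroup.mem_bot.1 (h1 ▸ ⟨a, ha, rfl⟩ : a.1 ∈ (⊥ : Subgroup (alternatingGroup (Fin 5)))))
    (Subgroup.mem_bot.1 (h2 ▸ ⟨a, ha, rfl⟩ : a.2 ∈ (⊥ : Subgroup (alternatingGroup (Fin 5)))))
  refine (Subgroup.eq_bot_iff_forall _).2 fun p hp => ?_
  obtain ⟨a, h | h⟩ := wreath_cases p.2
  · have e : p = f a := Subtype.ext h
    rw [e, hbase a (e ▸ hp), map_one]
  · exfalso
    obtain ⟨c, hc⟩ : ∃ c : alternatingGroup (Fin 5), c ≠ 1 := by
      haveI : Nontrivial (alternatingGroup (Fin 5)) := alternatingGroup.nontrivial_of_three_le_card (by simp)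
      exact exists_ne 1
    let b : alternatingGroup (Fin 5) × alternatingGroup (Fin 5) := (c⁻¹, a.2 * c * a.2⁻¹)
    have hmem : p * f (c, 1) * p⁻¹ * (f (c, 1))⁻¹ ∈ P := by
      rw [mul_assoc, mul_assoc, ← mul_assoc (f (c, 1))]
      exact mul_mem hp ((inferInstance : P.Normal).conj_mem _ (inv_mem hp) _)
    have e : p * f (c, 1) * p⁻¹ * (f (c, 1))⁻¹ = f b := by
      refine Subtype.ext ?_
      show (p : P10) * inW (c, 1) * (p : P10)⁻¹ * (inW (c, 1))⁻¹ = inW b
      rw [h, mul_inv_rev, mul_assoc (inW a) swapW, swapW_mul, ← map_inv inW (c, 1), ← map_inv inW a]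
      calc inW a * (inW (1, c) * swapW) * (swapW⁻¹ * inW a⁻¹) * inW (c, 1)⁻¹
          = inW a * inW (1, c) * inW a⁻¹ * inW (c, 1)⁻¹ := by simp only [mul_assoc, mul_inv_cancel_left]
        _ = inW b := by
          rw [← map_mul, ← map_mul, ← map_mul]
          congr 1
          refine Prod.ext ?_ ?_
          · simp [b]
          · simp [b]
    have := congrArg Prod.fst (hbase b (e ▸ hmem))
    exact hc (inv_eq_one.1 this)

/-- A subgroup of the alternating group of degree five of order divisible by fifteen is the whole. -/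
theorem alternating_generated (H : Subgroup (alternatingGroup (Fin 5))) {a b : alternatingGroup (Fin 5)}
    (ha : a ∈ H) (hb : b ∈ H) (ha3 : orderOf a = 3) (hb5 : orderOf b = 5) : H = ⊤ := by
  haveI hs : IsSimpleGroup (alternatingGroup (Fin 5)) := alternatingGroup.isSimpleGroup (by simp)
  by_contra hH
  have h15 : 15 ∣ Nat.card H := by
    have e3 : 3 ∣ Nat.card H := by
      have h := Subgroup.orderOf_dvd_natCard H ha
      rwa [ha3] at h
    have e5 : 5 ∣ Nat.card H := by
      have h := Subgroup.orderOf_dvd_natCard H hb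
      rwa [hb5] at h
    exact (by decide : Nat.Coprime 3 5).mul_dvd_of_dvd_of_dvd e3 e5
  have hA : Nat.card (alternatingGroup (Fin 5)) = 60 := by
    rw [nat_card_alternatingGroup, Nat.card_fin]; decide
  have hidx : H.index ≤ 4 := by
    have h := H.card_mul_index
    rw [hA] at h
    obtain ⟨k, hk⟩ := h15
    have hk0 : 0 < k := by
      rcases Nat.eq_zero_or_pos k with rfl | h'
      · exact absurd (hk.trans (mul_zero 15)) Nat.card_pos.ne'
      · exact h'
    rw [hk] at h
    nlinarith
  have hcore : H.normalCore = ⊥ :=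
    (hs.eq_bot_or_eq_top_of_normal H.normalCore inferInstance).resolve_right fun e =>
      hH (top_le_iff.1 (e ▸ H.normalCore_le))
  rw [Subgroup.normalCore_eq_ker, MonoidHom.ker_eq_bot_iff] at hcore
  have h := Nat.card_le_card_of_injective _ hcore
  rw [hA, Nat.card_perm, ← Subgroup.index_eq_card] at h
  have h24 : H.index.factorial ≤ 24 := (Nat.factorial_le hidx).trans (by decide)
  omega

/-! ### The generators -/

/-- The moves of the mixing element. -/
def gMoves : List Mv :=
  [.mono 368955812194683860676808920409437752605546238115426272001 0, .xi,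
    .mono 565875486786268856985294846867931250097752547670537011456 0, .xi,
    .mono 566073426779046459040877649791461066728553822781039575296 0,
    .mono 677587361150940124385540629405041557874475645518021141 0]

/-- The moves of an element of the monomial centraliser. -/
def pMoves : List Mv := [.mono 50481456307243093343958841727166703690216246982122864641 0]

theorem gMoves_ok : gMoves.all Mv.ok = true := by decide +kernel

theorem pMoves_ok : pMoves.all Mv.ok = true := by decide +kernel

theorem xiMoves_ok : [Mv.xi].all Mv.ok = true := rfl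

/-- The mixing element. -/
noncomputable def gE : Co0 := Classical.choose (exists_acts gMoves gMoves_ok)

/-- The sextet involution. -/
noncomputable def xE : Co0 := Classical.choose (exists_acts [Mv.xi] xiMoves_ok)

/-- The element of the monomial centraliser. -/
noncomputable def pE : Co0 := Classical.choose (exists_acts pMoves pMoves_ok)

theorem gE_acts : Acts gE (runMoves gMoves) := Classical.choose_spec (exists_acts gMoves gMoves_ok)

theorem xE_acts : Acts xE (runMoves [Mv.xi]) :=
  Classical.choose_spec (exists_acts [Mv.xi] xiMoves_ok)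

theorem pE_acts : Acts pE (runMoves pMoves) := Classical.choose_spec (exists_acts pMoves pMoves_ok)

theorem gE_mem : gE ∈ C0 :=
  commute_T gE_acts (by decide +kernel) (by decide +kernel) (by decide +kernel)

theorem xE_mem : xE ∈ C0 :=
  commute_T xE_acts (by decide +kernel) (by decide +kernel) (by decide +kernel)

theorem pE_mem : pE ∈ C0 :=
  commute_T pE_acts (by decide +kernel) (by decide +kernel) (by decide +kernel)

theorem T_mem : T ∈ C0 := Subgroup.mem_centralizer_singleton_iff.2 rfl

theorem neg_mem_C0 : negCo0 ∈ C0 :=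
  Subgroup.mem_centralizer_singleton_iff.2 (Subgroup.mem_center_iff.1 negCo0_mem_center T).symm

theorem act_g (k : Fin 256) : act gE k = linTab [192, 2, 8, 223, 94, 181, 20, 91] k :=
  act_eq_linTab gE_acts rfl (by decide +kernel) (by decide +kernel) k

theorem act_x (k : Fin 256) : act xE k = linTab [222, 61, 20, 151, 16, 79, 64, 239] k :=
  act_eq_linTab xE_acts rfl (by decide +kernel) (by decide +kernel) k

theorem act_p (k : Fin 256) : act pE k = linTab [8, 4, 2, 1, 63, 32, 64, 239] k :=
  act_eq_linTab pE_acts rfl (by decide +kernel) (by decide +kernel) k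

theorem act_T (k : Fin 256) : act T k = k :=
  act_eq_of_cong (by rw [cls_fixed]; exact Cong.refl _)

theorem act_neg (k : Fin 256) : act negCo0 k = k :=
  act_eq_of_cong (by
    rw [show negCo0 • cls k = -cls k from Subtype.ext (negCo0_smul _)]
    exact Cong.neg _)

/-! ### The ten subspaces -/

/-- The ten sets of fifteen classes. -/
def lineList : List (List ℕ) :=
  [
    [15, 35, 44, 67, 76, 96, 111, 133, 138, 166, 169, 198, 201, 229, 234],
    [21, 39, 50, 69, 80, 98, 119, 134, 147, 161, 180, 195, 214, 228, 241],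
    [22, 42, 60, 66, 84, 104, 126, 142, 152, 164, 178, 204, 218, 230, 240],
    [27, 46, 53, 74, 81, 100, 127, 141, 150, 163, 184, 199, 220, 233, 242],
    [28, 37, 57, 68, 88, 97, 125, 137, 149, 172, 176, 205, 209, 232, 244],
    [15, 37, 42, 69, 74, 96, 111, 134, 137, 163, 172, 195, 204, 230, 233],
    [21, 44, 57, 68, 81, 104, 125, 141, 152, 161, 180, 201, 220, 229, 240],
    [22, 35, 53, 66, 84, 97, 119, 133, 147, 166, 176, 199, 209, 228, 242],
    [27, 39, 60, 67, 88, 100, 127, 142, 149, 169, 178, 205, 214, 234, 241],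
    [28, 46, 50, 76, 80, 98, 126, 138, 150, 164, 184, 198, 218, 232, 244]]

/-- The position of a line. -/
def pos : Fin 5 ⊕ Fin 5 → ℕ := Sum.elim (fun i => i.val) fun i => i.val + 5

/-- A line as a set of classes. -/
def line (i : Fin 5 ⊕ Fin 5) : Finset (Fin 256) :=
  ((lineList.getD (pos i) []).map fun n => (⟨n % 256, Nat.mod_lt _ (by norm_num)⟩ : Fin 256)).toFinset

theorem line_injective : Function.Injective line := by
  have : ∀ i j, line i = line j → i = j := by decide +kernel
  exact fun i j => this i j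

/-- An element permutes the lines as `p` does. -/
def LinesTo (g : Co0) (p : P10) : Prop := ∀ i, (line i).image (act g) = line (p i)

theorem LinesTo.unique {g : Co0} {p q : P10} (hp : LinesTo g p) (hq : LinesTo g q) : p = q :=
  Equiv.ext fun i => line_injective ((hp i).symm.trans (hq i))

theorem LinesTo.mul {g h : Co0} (hg : g ∈ C0) (hh : h ∈ C0) {p q : P10} (hp : LinesTo g p)
    (hq : LinesTo h q) : LinesTo (g * h) (p * q) := fun i => by
  rw [show act (g * h) = act g ∘ act h from funext (act_mul hg hh), ← Finset.image_image, hq i, hp]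
  rfl

theorem linesTo_one : LinesTo 1 1 := fun i => by
  rw [show act 1 = id from funext act_one, Finset.image_id]; rfl

/-- The subgroup of elements permuting the lines. -/
noncomputable def lineStab : Subgroup Co0 where
  carrier := {g | g ∈ C0 ∧ ∃ p, LinesTo g p}
  one_mem' := ⟨one_mem _, 1, linesTo_one⟩
  mul_mem' := fun ⟨hg, p, hp⟩ ⟨hh, q, hq⟩ => ⟨mul_mem hg hh, p * q, hp.mul hg hh hq⟩
  inv_mem' := fun {g} ⟨hg, p, hp⟩ => ⟨inv_mem hg, p⁻¹, fun i => by
    have h := hp (p⁻¹ i)
    rw [perm_apply_inv] at h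
    rw [← h, Finset.image_image, ← show act (g⁻¹ * g) = act g⁻¹ ∘ act g from
      funext (act_mul (inv_mem hg) hg), inv_mul_cancel, show act 1 = id from funext act_one,
      Finset.image_id]⟩

/-- The permutation of the lines. -/
noncomputable def lineHom : lineStab →* P10 :=
  MonoidHom.mk' (fun g => g.2.2.choose) fun g h =>
    (g * h).2.2.choose_spec.unique (g.2.2.choose_spec.mul g.2.1 h.2.1 h.2.2.choose_spec)

theorem lineHom_eq {g : lineStab} {p : P10} (h : LinesTo g p) : lineHom g = p :=
  g.2.2.choose_spec.unique h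

open Equiv in
/-- The image of the mixing element. -/
def permG : P10 := Equiv.Perm.sumCongr (swap 0 3 * swap 0 1 : Perm (Fin 5)) (swap 0 4 * swap 0 1)

open Equiv in
/-- The image of the sextet involution. -/
def permX : P10 := swapW * Equiv.Perm.sumCongr (swap 1 2 * swap 1 4 : Perm (Fin 5)) (swap 1 4 * swap 1 2)

open Equiv in
/-- The image of the monomial element. -/
def permP : P10 := Equiv.Perm.sumCongr (swap 1 3 * swap 2 4 : Perm (Fin 5)) (swap 1 2 * swap 3 4)

theorem linesTo_g : LinesTo gE permG := fun i => by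
  rw [show act gE = linTab [192, 2, 8, 223, 94, 181, 20, 91] from funext act_g]
  exact (by decide +kernel : ∀ i, (line i).image (linTab [192, 2, 8, 223, 94, 181, 20, 91]) =
    line (permG i)) i

theorem linesTo_x : LinesTo xE permX := fun i => by
  rw [show act xE = linTab [222, 61, 20, 151, 16, 79, 64, 239] from funext act_x]
  exact (by decide +kernel : ∀ i, (line i).image (linTab [222, 61, 20, 151, 16, 79, 64, 239]) =
    line (permX i)) i

theorem linesTo_p : LinesTo pE permP := fun i => by
  rw [show act pE = linTab [8, 4, 2, 1, 63, 32, 64, 239] from funext act_p]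
  exact (by decide +kernel : ∀ i, (line i).image (linTab [8, 4, 2, 1, 63, 32, 64, 239]) =
    line (permP i)) i

theorem linesTo_T : LinesTo T 1 := fun i => by
  rw [show act T = id from funext act_T, Finset.image_id]; rfl

theorem linesTo_neg : LinesTo negCo0 1 := fun i => by
  rw [show act negCo0 = id from funext act_neg, Finset.image_id]; rfl

open Equiv in
theorem perms_mem : permG ∈ alternatingFiveWreathTwo ∧ permX ∈ alternatingFiveWreathTwo ∧
    permP ∈ alternatingFiveWreathTwo := by
  have hev : ∀ a b c d : Fin 5, a ≠ b → c ≠ d → (swap a b * swap c d) ∈ alternatingGroup (Fin 5) :=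
    fun a b c d h h' => Equiv.Perm.mem_alternatingGroup.2 (by simp [Equiv.Perm.sign_swap h, Equiv.Perm.sign_swap h'])
  refine ⟨inW_mem (⟨_, hev 0 3 0 1 (by decide) (by decide)⟩, ⟨_, hev 0 4 0 1 (by decide) (by decide)⟩),
    mul_mem swapW_mem (inW_mem (⟨_, hev 1 2 1 4 (by decide) (by decide)⟩,
      ⟨_, hev 1 4 1 2 (by decide) (by decide)⟩)),
    inW_mem (⟨_, hev 1 3 2 4 (by decide) (by decide)⟩, ⟨_, hev 1 2 3 4 (by decide) (by decide)⟩)⟩

open Equiv in
theorem wreath_le_of_perms {R : Subgroup P10} (hg : permG ∈ R) (hx : permX ∈ R) (hp : permP ∈ R) :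
    alternatingFiveWreathTwo ≤ R := by
  have ea : Equiv.Perm.sumCongr (swap 2 4 * swap 2 3 : Perm (Fin 5)) 1 =
      permP * permG * permP * permG * permG * permP * permG * permX * permG * permX * permG :=
    Equiv.ext (by decide +kernel)
  have eb : Equiv.Perm.sumCongr (swap 0 3 * swap 0 4 * swap 0 1 * swap 0 2 : Perm (Fin 5)) 1 =
      permP * permX * permG * permP * permG * permX := Equiv.ext (by decide +kernel)
  have es : swapW = permG * permP * permX * permG * permG := Equiv.ext (by decide +kernel)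
  have hs : swapW ∈ R := es ▸ mul_mem (mul_mem (mul_mem (mul_mem hg hp) hx) hg) hg
  let a : alternatingGroup (Fin 5) :=
    ⟨swap 2 4 * swap 2 3, Equiv.Perm.mem_alternatingGroup.2 (by decide +kernel)⟩
  let b : alternatingGroup (Fin 5) :=
    ⟨swap 0 3 * swap 0 4 * swap 0 1 * swap 0 2, Equiv.Perm.mem_alternatingGroup.2 (by decide +kernel)⟩
  have htop : R.comap (inW.comp (MonoidHom.inl _ _)) = ⊤ := by
    refine alternating_generated _ (a := a) (b := b) ?_ ?_ ?_ ?_
    · show Equiv.Perm.sumCongr (swap 2 4 * swap 2 3 : Perm (Fin 5)) 1 ∈ R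
      rw [ea]
      exact mul_mem (mul_mem (mul_mem (mul_mem (mul_mem (mul_mem (mul_mem (mul_mem (mul_mem (mul_mem
        hp hg) hp) hg) hg) hp) hg) hx) hg) hx) hg
    · show Equiv.Perm.sumCongr (swap 0 3 * swap 0 4 * swap 0 1 * swap 0 2 : Perm (Fin 5)) 1 ∈ R
      rw [eb]
      exact mul_mem (mul_mem (mul_mem (mul_mem (mul_mem hp hx) hg) hp) hg) hx
    · haveI : Fact (Nat.Prime 3) := ⟨Nat.prime_three⟩
      exact orderOf_eq_prime (by decide +kernel) (by decide +kernel)
    · haveI : Fact (Nat.Prime 5) := ⟨by norm_num⟩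
      exact orderOf_eq_prime (by decide +kernel) (by decide +kernel)
  have hl : ∀ c, inW (c, 1) ∈ R := fun c => (htop ▸ Subgroup.mem_top c :
    c ∈ R.comap (inW.comp (MonoidHom.inl _ _)))
  refine (Subgroup.closure_le _).2 ?_
  rintro p (⟨σ, τ, rfl⟩ | rfl)
  · have e : inW (σ, τ) = inW (σ, 1) * (swapW * inW (τ, 1) * swapW) := by
      rw [swapW_mul, mul_assoc, swapW_sq, mul_one, ← map_mul, Prod.mk_mul_mk, mul_one, one_mul]
    show inW (σ, τ) ∈ R
    rw [e]
    exact mul_mem (hl σ) (mul_mem (mul_mem hs (hl τ)) hs)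
  · exact hs

/-- The subgroup generated by the five elements. -/
noncomputable def genC : Subgroup Co0 := Subgroup.closure {gE, xE, pE, T, negCo0}

theorem genC_le_stab : genC ≤ lineStab := by
  refine (Subgroup.closure_le _).2 ?_
  rintro g (rfl | rfl | rfl | rfl | rfl)
  exacts [⟨gE_mem, _, linesTo_g⟩, ⟨xE_mem, _, linesTo_x⟩, ⟨pE_mem, _, linesTo_p⟩,
    ⟨T_mem, _, linesTo_T⟩, ⟨neg_mem_C0, _, linesTo_neg⟩]

theorem neg_ne_pow (k : ℕ) : negCo0 ≠ T ^ k := fun h => negCo0_ne_one (by
  have h5 : negCo0 ^ 5 = 1 := by rw [h, ← pow_mul, mul_comm, pow_mul, T_pow_five, one_pow]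
  rwa [pow_succ, show (4 : ℕ) = 2 * 2 from rfl, pow_mul, sq negCo0, negCo0_sq, one_pow, one_mul] at h5)

/-- The ten elements of the kernel. -/
noncomputable def kerElt (x : Fin 5 × Bool) : Co0 := if x.2 then negCo0 * T ^ (x.1 : ℕ) else T ^ (x.1 : ℕ)

theorem kerElt_injective : Function.Injective kerElt := by
  have hpow : ∀ i j : Fin 5, T ^ (i : ℕ) = T ^ (j : ℕ) → i = j := fun i j h =>
    Fin.ext (pow_injOn_Iio_orderOf (by simp [orderOf_T]) (by simp [orderOf_T]) h)
  have hne : ∀ i j : ℕ, negCo0 * T ^ i ≠ T ^ j := fun i j h => by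
    have h' : negCo0 = T ^ j * T ^ (4 * i) := by
      rw [← h, mul_assoc, ← pow_add, show i + 4 * i = 5 * i by ring, pow_mul, T_pow_five, one_pow,
        mul_one]
    rw [← pow_add] at h'
    exact neg_ne_pow _ h'
  rintro ⟨i, s⟩ ⟨j, t⟩ h
  cases s <;> cases t <;> simp only [kerElt, if_true, Bool.false_eq_true, if_false] at h
  · rw [hpow i j h]
  · exact absurd h.symm (hne _ _)
  · exact absurd h (hne _ _)
  · rw [hpow i j (mul_left_cancel h)]

/-- The homomorphism onto the wreath product. -/
theorem exists_hom : ∃ F : C0 →* alternatingFiveWreathTwo, Function.Surjective F ∧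
    (∀ g : C0, F g = 1 ↔ ∃ k : ℕ, (g : Co0) = T ^ k ∨ (g : Co0) = negCo0 * T ^ k) ∧
    (∀ g : C0, (∀ k, act g k = k) → F g = 1) := by
  classical
  haveI := co0_finite
  let ι : genC →* P10 := lineHom.comp (Subgroup.inclusion genC_le_stab)
  have hmg : gE ∈ genC := Subgroup.subset_closure (by simp)
  have hmx : xE ∈ genC := Subgroup.subset_closure (by simp)
  have hmp : pE ∈ genC := Subgroup.subset_closure (by simp)
  have hmT : T ∈ genC := Subgroup.subset_closure (by simp)
  have hmn : negCo0 ∈ genC := Subgroup.subset_closure (by simp)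
  have hι : ∀ (g : Co0) (hg : g ∈ genC) (p : P10), LinesTo g p → ι ⟨g, hg⟩ = p := fun g hg p h =>
    lineHom_eq h
  have hge : alternatingFiveWreathTwo ≤ ι.range :=
    wreath_le_of_perms ⟨⟨_, hmg⟩, hι _ _ _ linesTo_g⟩ ⟨⟨_, hmx⟩, hι _ _ _ linesTo_x⟩
      ⟨⟨_, hmp⟩, hι _ _ _ linesTo_p⟩
  have hle : ∀ g : genC, ι g ∈ alternatingFiveWreathTwo := by
    intro g
    obtain ⟨g, hg⟩ := g
    obtain ⟨h1, h2, h3⟩ := perms_mem
    revert hg
    suffices ∀ g ∈ genC, ∀ p, LinesTo g p → p ∈ alternatingFiveWreathTwo from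
      fun hg => this g hg _ (genC_le_stab hg).2.choose_spec
    intro g hg
    induction hg using Subgroup.closure_induction with
    | mem x hx =>
      intro p hp
      rcases hx with rfl | rfl | rfl | rfl | rfl
      exacts [hp.unique linesTo_g ▸ h1, hp.unique linesTo_x ▸ h2, hp.unique linesTo_p ▸ h3,
        hp.unique linesTo_T ▸ one_mem _, hp.unique linesTo_neg ▸ one_mem _]
    | one => intro p hp; exact hp.unique linesTo_one ▸ one_mem _
    | mul a b ha hb iha ihb =>
      intro p hp
      obtain ⟨qa, hqa⟩ := (genC_le_stab ha).2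
      obtain ⟨qb, hqb⟩ := (genC_le_stab hb).2
      exact hp.unique (hqa.mul (genC_le_stab ha).1 (genC_le_stab hb).1 hqb) ▸
        mul_mem (iha _ hqa) (ihb _ hqb)
    | inv a ha iha =>
      intro p hp
      obtain ⟨q, hq⟩ := (genC_le_stab ha).2
      have h := hq.mul (genC_le_stab ha).1 (inv_mem (genC_le_stab ha).1) hp
      rw [mul_inv_cancel] at h
      rw [← inv_eq_of_mul_eq_one_right (h.unique linesTo_one)]
      exact inv_mem (iha _ hq)
  have hker : ∀ x, ∃ h : kerElt x ∈ genC, ι ⟨kerElt x, h⟩ = 1 := by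
    intro x
    have hT : ∀ k : ℕ, LinesTo (T ^ k) 1 := fun k => by
      induction k with
      | zero => rw [pow_zero]; exact linesTo_one
      | succ k ih =>
        rw [pow_succ]
        simpa using ih.mul (pow_mem T_mem k) T_mem linesTo_T
    obtain ⟨i, s⟩ := x
    cases s
    · exact ⟨pow_mem hmT _, hι _ _ _ (hT _)⟩
    · exact ⟨mul_mem hmn (pow_mem hmT _), hι _ _ _ (by
        simpa [kerElt] using linesTo_neg.mul neg_mem_C0 (pow_mem T_mem _) (hT (i : ℕ)))⟩
  choose hkm hk1 using hker
  let kf : Fin 5 × Bool → ι.ker := fun x => ⟨⟨kerElt x, hkm x⟩, hk1 x⟩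
  have hkf : Function.Injective kf := fun a b h =>
    kerElt_injective (congrArg (fun y : ι.ker => ((y : genC) : Co0)) h)
  have h10 : 10 ≤ Nat.card ι.ker := by
    refine le_of_eq_of_le ?_ (Nat.card_le_card_of_injective kf hkf)
    simp
  have hrng : 7200 ≤ Nat.card ι.range := card_wreath_ge.trans
    (Nat.card_le_card_of_injective (Subgroup.inclusion hge) (Subgroup.inclusion_injective hge))
  have hmul : Nat.card ι.ker * Nat.card ι.range = Nat.card genC := by
    rw [← Subgroup.index_ker]; exact ι.ker.card_mul_index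
  have hsub : genC ≤ C0 := fun g hg => (genC_le_stab hg).1
  have hbound := card_C0_le
  have heq : genC = C0 := by
    refine Subgroup.eq_of_le_of_card_ge hsub ?_
    obtain ⟨m, hm⟩ := Subgroup.card_dvd_of_le hsub
    rcases Nat.lt_or_ge m 2 with h | h
    · interval_cases m
      · simp [Nat.card_pos.ne'] at hm
      · omega
    · exfalso
      nlinarith [Nat.mul_le_mul h10 hrng]
  have hle10 : Nat.card ι.ker ≤ 10 := by
    rw [← heq] at hbound
    have h18 : Nat.card ι.ker ≤ 18 := by
      by_contra hc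
      nlinarith [Nat.mul_le_mul (show 19 ≤ Nat.card ι.ker by omega) hrng]
    have hz5 : orderOf (kf (1, false)) = 5 := by
      rw [← orderOf_injective (genC.subtype.comp ι.ker.subtype) (by
        exact fun a b h => Subtype.ext (Subtype.ext h))]
      show orderOf (kerElt (1, false)) = 5
      simp [kerElt, orderOf_T]
    have hz2 : orderOf (kf (0, true)) = 2 := by
      rw [← orderOf_injective (genC.subtype.comp ι.ker.subtype) (by
        exact fun a b h => Subtype.ext (Subtype.ext h))]
      show orderOf (kerElt (0, true)) = 2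
      simp only [kerElt, if_true, Fin.val_zero, pow_zero, mul_one]
      exact orderOf_eq_prime (by rw [sq, negCo0_sq]) negCo0_ne_one
    have h5 := orderOf_dvd_natCard (kf (1, false))
    have h2 := orderOf_dvd_natCard (kf (0, true))
    rw [hz5] at h5
    rw [hz2] at h2
    have hd : 10 ∣ Nat.card ι.ker := (by decide : Nat.Coprime 5 2).mul_dvd_of_dvd_of_dvd h5 h2
    obtain ⟨d, hd⟩ := hd
    omega
  have hkfb : Function.Bijective kf :=
    hkf.bijective_of_nat_card_le (hle10.trans (by simp))
  let j : C0 →* genC := Subgroup.inclusion heq.ge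
  refine ⟨(ι.comp j).codRestrict _ fun g => hle _, fun p => ?_, fun g => ?_, fun g hg => ?_⟩
  · obtain ⟨g, hg⟩ := hge p.2
    exact ⟨⟨g, hsub g.2⟩, Subtype.ext hg⟩
  · rw [Subtype.ext_iff]
    constructor
    · intro h
      obtain ⟨⟨i, s⟩, hx⟩ := hkfb.2 ⟨j g, h⟩
      have hx' : kerElt (i, s) = (g : Co0) := congrArg (fun y : ι.ker => ((y : genC) : Co0)) hx
      refine ⟨i, ?_⟩
      cases s
      · exact Or.inl hx'.symm
      · exact Or.inr hx'.symm
    · rintro ⟨k, hk⟩
      have hmod : T ^ k = T ^ (k % 5) := by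
        rw [← orderOf_T, pow_mod_orderOf]
      have key : ∀ x, (g : Co0) = kerElt x → ι (j g) = 1 := fun x hx => by
        have e : j g = ⟨kerElt x, hkm x⟩ := Subtype.ext hx
        rw [e]; exact hk1 x
      rcases hk with hk | hk
      · exact key (⟨k % 5, Nat.mod_lt _ (by norm_num)⟩, false) (by simp [kerElt, hk, ← hmod])
      · exact key (⟨k % 5, Nat.mod_lt _ (by norm_num)⟩, true) (by simp [kerElt, hk, ← hmod])
  · refine Subtype.ext ?_
    exact hι _ _ 1 fun i => by rw [show act (g : Co0) = id from funext hg, Finset.image_id]; rfl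

end CfsgLib.MonsterType.Five
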