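import Cfsg.Agent.MonsterType.ShortClass
import Cfsg.Agent.S5393

/-!
# The stabiliser of the class of the standard cross and its normal 2-subgroups
-/

set_option autoImplicit false

namespace CfsgLib.MonsterType

open Cfsg CfsgLib.Leech CfsgLib.Mathieu
open scoped symmDiff

/-- The vector `8 e ∞`. -/
def frameV : leechLattice := eightL none

theorem preservesCross_of_classStab {g : Co0} (hg : g ∈ classStab frameV) : PreservesCross g := by
  refine preservesCross_of_mem (q := none) ?_
  rw [stdCross_eq_cross]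
  refine ⟨(g • eightL none).2, ?_, ?_⟩
  · rw [co0_norm]; rfl
  · obtain ⟨u, hu⟩ := Cong.symm (mem_classStab.1 hg)
    refine ⟨(u : GolayPt → ℤ), u.2, ?_⟩
    show (frameV : GolayPt → ℤ) - _ = _
    rw [hu, two_nsmul]
    show _ - ((g • frameV : leechLattice) : GolayPt → ℤ) = _
    simp

theorem monoCo0_mem_classStab {τ : Equiv.Perm GolayPt} (hτ : τ ∈ M24) {c : Finset GolayPt}
    (hc : c ∈ supports (golayCode : Set (GolayPt → ZMod 2))) :
    monoCo0 τ hτ c hc ∈ classStab frameV := by
  have hp := monoCo0_preserves τ hτ c hc frameV (mem_stdCross_iff.2 ⟨none, Or.inl rfl⟩)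
  rw [stdCross_eq_cross] at hp
  obtain ⟨-, -, u, hu, e⟩ := hp
  refine mem_classStab.2 (Cong.symm ⟨⟨u, hu⟩, Subtype.ext ?_⟩)
  show (frameV : GolayPt → ℤ) = _ + (u + u)
  rw [← two_nsmul, ← e]
  show (eight none : GolayPt → ℤ) = _
  simp

theorem eight_unique {a b : GolayPt} {x : GolayPt → ℤ} (ha : x = eight a ∨ x = -eight a)
    (hb : x = eight b ∨ x = -eight b) : a = b := by
  by_contra hne
  rcases ha with e | e <;> rcases hb with e' | e' <;>
    have := congrFun (e.symm.trans e') a <;>
    simp [eight, Pi.single_apply, hne] at this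

theorem sign_mul {c c' : Finset GolayPt}
    (hc : c ∈ supports (golayCode : Set (GolayPt → ZMod 2)))
    (hc' : c' ∈ supports (golayCode : Set (GolayPt → ZMod 2)))
    (h : c ∆ c' ∈ supports (golayCode : Set (GolayPt → ZMod 2))) :
    monoCo0 1 (one_mem _) c hc * monoCo0 1 (one_mem _) c' hc' = monoCo0 1 (one_mem _) (c ∆ c') h := by
  refine co0_ext fun v => Subtype.ext (funext fun p => ?_)
  rw [mul_smul, monoCo0_smul, monoCo0_smul]
  simp only [monoFun, Equiv.Perm.one_apply, monoCo0_smul, Finset.mem_symmDiff]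
  by_cases h1 : p ∈ c <;> by_cases h2 : p ∈ c' <;> simp [h1, h2]

theorem support₂_add (w w' : GolayPt → ZMod 2) :
    support₂ (w + w') = support₂ w ∆ support₂ w' := by
  ext p
  simp only [support₂, Finset.mem_symmDiff, Finset.mem_filter, Finset.mem_univ, true_and,
    Pi.add_apply]
  generalize w p = a, w' p = b
  revert a b; decide

theorem sign_congr {c c' : Finset GolayPt} (e : c = c')
    (hc : c ∈ supports (golayCode : Set (GolayPt → ZMod 2)))
    (hc' : c' ∈ supports (golayCode : Set (GolayPt → ZMod 2))) :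
    monoCo0 1 (one_mem _) c hc = monoCo0 1 (one_mem _) c' hc' := by
  subst e; rfl

theorem two_cases : ∀ t : ZMod 2, t = 0 ∨ t = 1 := by decide

theorem supp_mem {w : GolayPt → ZMod 2} (hw : w ∈ golayCode) :
    support₂ w ∈ supports (golayCode : Set (GolayPt → ZMod 2)) := ⟨w, hw, rfl⟩

/-- The sign change of a code word. -/
def signOf (w : GolayPt → ZMod 2) (hw : w ∈ golayCode) : Co0 :=
  monoCo0 1 (one_mem _) (support₂ w) (supp_mem hw)

theorem signOf_smul {w : GolayPt → ZMod 2} (hw : w ∈ golayCode) (v : leechLattice) (p : GolayPt) :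
    ((signOf w hw • v : leechLattice) : GolayPt → ℤ) p =
      if w p = 0 then (v : GolayPt → ℤ) p else -(v : GolayPt → ℤ) p := by
  rw [signOf, monoCo0_smul]
  simp only [monoFun, Equiv.Perm.one_apply, support₂, Finset.mem_filter, Finset.mem_univ, true_and]
  by_cases h : w p = 0 <;> simp [h]

theorem signOf_congr {w w' : GolayPt → ZMod 2} (e : w = w') (hw : w ∈ golayCode)
    (hw' : w' ∈ golayCode) : signOf w hw = signOf w' hw' := by
  subst e; rfl

theorem signOf_zero (h : (0 : GolayPt → ZMod 2) ∈ golayCode) : signOf 0 h = 1 :=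
  co0_ext fun v => Subtype.ext (funext fun p => by rw [signOf_smul, one_smul]; simp)

theorem signOf_add {a b : GolayPt → ZMod 2} (ha : a ∈ golayCode) (hb : b ∈ golayCode) :
    signOf (a + b) (add_mem ha hb) = signOf a ha * signOf b hb := by
  refine co0_ext fun v => Subtype.ext (funext fun p => ?_)
  rw [mul_smul, signOf_smul, signOf_smul, signOf_smul, Pi.add_apply]
  have two : ∀ z : ZMod 2, z = 0 ∨ z = 1 := by decide
  rcases two (a p) with e | e <;> rcases two (b p) with e' | e' <;>
    simp [e, e', show (1 : ZMod 2) + 1 = 0 from rfl]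

theorem signOf_one (h : (fun _ : GolayPt => (1 : ZMod 2)) ∈ golayCode) :
    signOf (fun _ => 1) h = negCo0 :=
  co0_ext fun v => Subtype.ext (funext fun p => by rw [signOf_smul, negCo0_smul]; simp)

/-- A normal 2-subgroup of the stabiliser of the cross consists of signs, either two or all. -/
theorem frame_core (N : Subgroup Co0) (hN : IsPGroup 2 N) (hle : N ≤ classStab frameV)
    (hnorm : ∀ g ∈ classStab frameV, ∀ n ∈ N, g * n * g⁻¹ ∈ N) (hneg : negCo0 ∈ N) :
    (∀ n ∈ N, ∃ (c : Finset GolayPt) (hc : c ∈ supports (golayCode : Set (GolayPt → ZMod 2))),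
      n = monoCo0 1 (one_mem _) c hc) ∧
    ((∀ n ∈ N, n ∈ Subgroup.center Co0) ∨
      ∀ (c : Finset GolayPt) (hc : c ∈ supports (golayCode : Set (GolayPt → ZMod 2))),
        monoCo0 1 (one_mem _) c hc ∈ N) := by
  classical
  haveI : Fact (Nat.Prime 2) := ⟨Nat.prime_two⟩
  have hmove : ∀ (n : N) (p : GolayPt), ∃ q, (((n : Co0) • eightL p : leechLattice) : GolayPt → ℤ) = eight q ∨
      (((n : Co0) • eightL p : leechLattice) : GolayPt → ℤ) = -eight q := fun n p =>
    mem_stdCross_iff.1 (preservesCross_of_classStab (hle n.2) (eightL p) (mem_stdCross_iff.2 ⟨p, Or.inl rfl⟩))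
  choose π hπ using hmove
  letI : MulAction N GolayPt :=
    { smul := π
      one_smul := fun p => eight_unique (hπ 1 p) (by rw [Subgroup.coe_one, one_smul]; exact Or.inl rfl)
      mul_smul := fun g h p => by
        refine eight_unique (hπ (g * h) p) ?_
        rw [Subgroup.coe_mul, mul_smul]
        rcases hπ h p with e | e
        · rw [show (h : Co0) • eightL p = eightL (π h p) from Subtype.ext e]; exact hπ g (π h p)
        · rw [show (h : Co0) • eightL p = -eightL (π h p) from Subtype.ext e, co0_neg,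
            AddSubgroup.coe_neg]
          rcases hπ g (π h p) with e' | e' <;> rw [e']
          · exact Or.inr rfl
          · exact Or.inl (neg_neg _) }
  -- no point moves
  have htriv : ∀ (n : N) (p : GolayPt), n • p = p := by
    intro n p
    by_contra hp
    have horb : ∀ b : GolayPt, b ∈ MulAction.orbit N (none : GolayPt) := by
      intro b
      by_cases hb : b = none
      · rw [hb]; exact MulAction.mem_orbit_self _
      obtain ⟨σ, hσ, hσ1, hσ2⟩ := exists_map_two (Ne.symm hb) (show p ≠ n • p from Ne.symm hp)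
      let s := monoCo0 σ hσ ∅ Spor.empty_mem_supports_golayCode
      have hn' := hnorm s (monoCo0_mem_classStab _ _) n n.2
      refine ⟨⟨_, hn'⟩, ?_⟩
      refine eight_unique (hπ ⟨_, hn'⟩ none) ?_
      show ((( s * (n : Co0) * s⁻¹) • eightL none : leechLattice) : GolayPt → ℤ) = _ ∨ _
      have hs : ∀ r, s • eightL r = eightL (σ⁻¹ r) := fun r => Subtype.ext (by
        rw [monoCo0_eight]; simp [eightL])
      have e1 : s⁻¹ • eightL none = eightL p := by
        rw [inv_smul_eq_iff, hs, ← hσ1, perm_inv_apply]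
      have e2 : σ⁻¹ (n • p) = b := by rw [← hσ2, perm_inv_apply]
      rw [mul_smul, mul_smul, e1]
      rcases hπ n p with e | e
      · rw [show (n : Co0) • eightL p = eightL (π n p) from Subtype.ext e, hs]
        exact Or.inl (congrArg eight e2)
      · rw [show (n : Co0) • eightL p = -eightL (π n p) from Subtype.ext e, co0_neg, hs]
        exact Or.inr (congrArg (fun r => -eight r) e2)
    have h24 : Nat.card (MulAction.orbit N (none : GolayPt)) = 24 := by
      rw [Set.eq_univ_of_forall horb, Nat.card_univ]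
      simp [Nat.card_eq_fintype_card, ZMod.card]
    obtain ⟨k, hk⟩ := hN.card_orbit (none : GolayPt)
    rw [h24] at hk
    have h3 : 3 ∣ 2 ^ k := ⟨8, by rw [← hk]⟩
    exact absurd (Nat.le_of_dvd (by norm_num) (Nat.Prime.dvd_of_dvd_pow Nat.prime_three h3)) (by norm_num)
  have hsigns : ∀ n ∈ N, ∃ (c : Finset GolayPt)
      (hc : c ∈ supports (golayCode : Set (GolayPt → ZMod 2))), n = monoCo0 1 (one_mem _) c hc := by
    intro n hn
    obtain ⟨τ, hτ, c, hc, e⟩ := eq_monoCo0 (preservesCross_of_classStab (hle hn))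
    have hτ1 : τ = 1 := by
      refine inv_eq_one.1 (Equiv.ext fun p => ?_)
      rw [Equiv.Perm.one_apply]
      have h1 := hπ ⟨n, hn⟩ p
      rw [show π ⟨n, hn⟩ p = p from htriv ⟨n, hn⟩ p] at h1
      change ((n • eightL p : leechLattice) : GolayPt → ℤ) = _ ∨
        ((n • eightL p : leechLattice) : GolayPt → ℤ) = _ at h1
      simp only [e] at h1
      refine eight_unique ?_ h1
      rw [monoCo0_eight]
      split
      · exact Or.inr rfl
      · exact Or.inl rfl
    subst hτ1
    exact ⟨c, hc, e⟩
  refine ⟨hsigns, ?_⟩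
  let W : Submodule (ZMod 2) (GolayPt → ZMod 2) :=
    { carrier := {w | ∃ h : w ∈ golayCode, signOf w h ∈ N}
      zero_mem' := ⟨zero_mem _, by rw [signOf_zero]; exact one_mem _⟩
      add_mem' := by
        rintro a b ⟨ha, ha'⟩ ⟨hb, hb'⟩
        exact ⟨add_mem ha hb, by rw [signOf_add ha hb]; exact mul_mem ha' hb'⟩
      smul_mem' := by
        intro k a ha
        rcases two_cases k with rfl | rfl
        · rw [zero_smul]
          exact ⟨zero_mem _, by rw [signOf_zero]; exact one_mem _⟩
        · rwa [one_smul] }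
  have h1mem : (fun _ : GolayPt => (1 : ZMod 2)) ∈ W :=
    ⟨one_mem_golayCode, by rw [signOf_one]; exact hneg⟩
  rcases (Cfsg.Agent.S5393.result.2 W h1mem (fun w hw => hw.1) (fun σ hσ w hw => by
      obtain ⟨h, h'⟩ := hw
      have hs : (fun p => w (σ.symm p)) ∈ golayCode := CfsgLib.GolayModule.act_mem_code hσ h
      refine ⟨hs, ?_⟩
      let s := monoCo0 σ⁻¹ (inv_mem hσ) ∅ Spor.empty_mem_supports_golayCode
      have := hnorm s (monoCo0_mem_classStab _ _) _ h'
      convert this using 1
      rw [eq_mul_inv_iff_mul_eq]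
      refine co0_ext fun v => Subtype.ext (funext fun p => ?_)
      simp only [mul_smul, s]
      simp only [signOf_smul, monoCo0_smul, monoFun, Finset.notMem_empty, if_false]
      rfl)) with hW | hW
  · refine Or.inl fun n hn => ?_
    obtain ⟨c, hc, rfl⟩ := hsigns n hn
    obtain ⟨w, hw, rfl⟩ := hc
    have hn' : signOf w hw ∈ N := hn
    have hwW : w ∈ W := ⟨hw, hn'⟩
    rw [hW, Submodule.mem_span_singleton] at hwW
    obtain ⟨k, rfl⟩ := hwW
    show signOf _ hw ∈ Subgroup.center Co0
    rcases two_cases k with rfl | rfl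
    · rw [signOf_congr (zero_smul _ _) hw (zero_mem _), signOf_zero]; exact one_mem _
    · rw [signOf_congr (one_smul _ _) hw one_mem_golayCode]
      show signOf (fun _ => 1) _ ∈ _
      rw [signOf_one]
      exact negCo0_mem_center
  · refine Or.inr fun c hc => ?_
    obtain ⟨w, hw, rfl⟩ := hc
    have hwW : w ∈ W := by rw [hW]; exact hw
    exact hwW.2

end CfsgLib.MonsterType
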