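import Cfsg.Agent.MonsterType.QConjMain

/-!
# Reduction of a conjugate of `z` in `Q` to the class of the standard cross
-/

set_option autoImplicit false

namespace CfsgLib.MonsterType

open Cfsg CfsgLib.Leech

variable {G : Type*} [Group G] [Finite G] {z : G}
  {Q : Subgroup (Subgroup.centralizer ({z} : Set G))} [Q.Normal]
  {e : (Subgroup.centralizer ({z} : Set G)) ⧸ Q ≃* Spor.Co1}
  {ψ : leechLattice → Q ⧸ Subgroup.center Q}
  (hS : IsExtraspecialCentralizerSetting z Q 12) (hψ : IsLeechModTwoIso Q e ψ)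
include hS hψ

theorem exists_standard {g : G} {s : G} (hsQ : ∃ hsc : s ∈ Subgroup.centralizer ({z} : Set G),
      (⟨s, hsc⟩ : Subgroup.centralizer ({z} : Set G)) ∈ Q)
    (hs1 : s ≠ z) (hg : g * z * g⁻¹ = s) :
    ∃ (h : Subgroup.centralizer ({z} : Set G)) (g' : G) (x : Q),
      g = (h : G) * g' ∧ s = (h : G) * toG x * (h : G)⁻¹ ∧ g' * z * g'⁻¹ = toG x ∧
      ψ frameV = QuotientGroup.mk x := by
  obtain ⟨hsc, hsq⟩ := hsQ
  let y : Q := ⟨⟨s, hsc⟩, hsq⟩
  obtain ⟨v, hvn, hv⟩ := class_of_conj hS hψ (x := y) (isConj_iff.2 ⟨g, hg⟩) hs1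
  obtain ⟨x, hx⟩ : ∃ x : Q, ψ frameV = QuotientGroup.mk x := ⟨_, psi_lift _⟩
  obtain ⟨m, hm⟩ := transitive_norm64 frameV v (sqNorm_eight none) hvn
  obtain ⟨h, -, hh⟩ := conj_of_smul hS hψ hx hv (not_mem_center hS hψ hv (by omega) (by omega)) m hm
  have hh' : (h : G) * toG x * (h : G)⁻¹ = s := congrArg Subtype.val hh
  refine ⟨h, (h : G)⁻¹ * g, x, by group, hh'.symm, ?_, hx⟩
  calc (h : G)⁻¹ * g * z * ((h : G)⁻¹ * g)⁻¹ = (h : G)⁻¹ * (g * z * g⁻¹) * (h : G) := by group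
    _ = toG x := by rw [hg, ← hh']; group

omit hS hψ in
omit [Finite G] in
theorem map_conj_inG (h : Subgroup.centralizer ({z} : Set G)) :
    (inG Q).map (MulAut.conj (h : G)).toMonoidHom = inG Q := by
  ext a
  constructor
  · rintro ⟨b, hb, rfl⟩
    simpa using inG_conj h.2 hb
  · intro ha
    refine ⟨(h : G)⁻¹ * a * (h : G), ?_, by simp [mul_assoc]⟩
    simpa using inG_conj (Subgroup.inv_mem _ h.2) ha

omit hS hψ in
omit [Q.Normal] [Finite G] in
theorem conjQ_mul (a b : G) : conjQ Q (a * b) = (conjQ Q b).map (MulAut.conj a).toMonoidHom := by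
  rw [Subgroup.map_map]
  congr 1
  ext w
  simp [mul_assoc]

theorem card_meet {g s : G} (hsQ : ∃ hsc : s ∈ Subgroup.centralizer ({z} : Set G),
      (⟨s, hsc⟩ : Subgroup.centralizer ({z} : Set G)) ∈ Q)
    (hs1 : s ≠ z) (hg : g * z * g⁻¹ = s) :
    Nat.card (inG Q ⊓ conjQ Q g : Subgroup G) = 2 ^ 13 := by
  obtain ⟨h, g', x, rfl, -, hgx, hx⟩ := exists_standard hS hψ hsQ hs1 hg
  rw [conjQ_mul, ← map_conj_inG (Q := Q) h,
    ← Subgroup.map_inf _ _ _ (MulAut.conj (h : G)).injective,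
    Subgroup.card_map_of_injective (MulAut.conj (h : G)).injective]
  exact frame_card_meet hS hψ hgx hx

end CfsgLib.MonsterType
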