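import Cfsg.Agent.MonsterType.FiveImage
import Cfsg.Agent.MonsterType.QConjTransport
import Cfsg.Agent.MonsterType.BabyType
import Cfsg.Agent.FrattiniTheory.Basic

/-!
# The centralizer of a Sylow 5-subgroup of a pair of conjugates of `z`: Harada–Norton type
-/

set_option autoImplicit false

namespace CfsgLib.MonsterType

open Cfsg CfsgLib.Leech CfsgLib.Mathieu
open scoped commutatorElement

/-- Two elements of prime order of a group whose order the square of the prime does not divide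
generate conjugate subgroups. -/
theorem conj_of_prime_order {M : Type*} [Group M] [Finite M] {p : ℕ} [hp : Fact p.Prime] {a c : M}
    (ha : orderOf a = p) (hc : orderOf c = p) (hM : ¬ p ^ 2 ∣ Nat.card M) :
    ∃ (k : M) (i : ℕ), k * c * k⁻¹ = a ^ i := by
  have key : ∀ x : M, orderOf x = p →
      ∃ P : Sylow p M, (P : Subgroup M) = Subgroup.zpowers x := by
    intro x hx
    have hxp : IsPGroup p (Subgroup.zpowers x) :=
      IsPGroup.of_card (n := 1) (by rw [Nat.card_zpowers, hx, pow_one])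
    obtain ⟨P, hP⟩ := hxp.exists_le_sylow
    refine ⟨P, (Subgroup.eq_of_le_of_card_ge hP ?_).symm⟩
    obtain ⟨n, hn⟩ := IsPGroup.iff_card.1 P.isPGroup'
    rw [Nat.card_zpowers, hx, hn]
    refine le_of_le_of_eq (Nat.pow_le_pow_right hp.1.pos ?_) (pow_one p)
    by_contra h
    exact hM ((Nat.pow_dvd_pow p (show 2 ≤ n by omega)).trans
      (hn ▸ Subgroup.card_subgroup_dvd_card (P : Subgroup M)))
  obtain ⟨P, hP⟩ := key a ha
  obtain ⟨P', hP'⟩ := key c hc
  obtain ⟨k, hk⟩ := MulAction.exists_smul_eq M P' P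
  have hmem : k * c * k⁻¹ ∈ Subgroup.zpowers a := by
    rw [← hP, ← hk, Sylow.coe_subgroup_smul, Subgroup.mem_pointwise_smul_iff_inv_smul_mem]
    rw [hP']
    convert Subgroup.mem_zpowers c using 1
    simp [MulAut.smul_def, mul_assoc]
  obtain ⟨i, hi⟩ := (mem_powers_iff_mem_zpowers (x := a)).2 hmem
  exact ⟨k, i, hi.symm⟩

/-- A finite 2-group with two-valued nondegenerate commutators is extraspecial. -/
theorem extraspecial_of_two_valued {E : Type*} [Group E] [Finite E] (w : E) (hE : IsPGroup 2 E)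
    (hw : w ∈ Subgroup.center E) (hw1 : w ≠ 1) (hw2 : w * w = 1)
    (h2 : ∀ a b : E, a * b * a⁻¹ = b ∨ a * b * a⁻¹ = b * w)
    (hsq : ∀ a : E, a * a = 1 ∨ a * a = w) (hnd : ∀ a : E, a = 1 ∨ a = w ∨ ∃ b, ¬ Commute a b)
    (hne : ∃ a : E, a ≠ 1 ∧ a ≠ w) : IsExtraspecial 2 E := by
  have hcen : ∀ a : E, a ∈ Subgroup.center E ↔ a = 1 ∨ a = w := by
    intro a
    constructor
    · intro ha
      rcases hnd a with h | h | ⟨b, hb⟩
      · exact Or.inl h
      · exact Or.inr h
      · exact absurd (Subgroup.mem_center_iff.1 ha b).symm hb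
    · rintro (rfl | rfl)
      · exact one_mem _
      · exact hw
  have hwc : ∀ a : E, w * a = a * w := fun a => (Subgroup.mem_center_iff.1 hw a).symm
  haveI : Group.IsNilpotent E := hE.isNilpotent
  have hcomm : commutator E = Subgroup.center E := by
    apply le_antisymm
    · rw [commutator_def, Subgroup.commutator_le]
      intro a _ b _
      rw [hcen, commutatorElement_def]
      rcases h2 a b with h | h <;> rw [h]
      · exact Or.inl (mul_inv_cancel b)
      · exact Or.inr (by rw [← hwc b, mul_inv_cancel_right])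
    · intro a ha
      rcases (hcen a).1 ha with rfl | rfl
      · exact one_mem _
      · obtain ⟨c, hc1, hcw⟩ := hne
        rcases hnd c with h | h | ⟨b, hb⟩
        · exact absurd h hc1
        · exact absurd h hcw
        · rcases h2 c b with h | h
          · exact absurd (mul_inv_eq_iff_eq_mul.1 h) hb
          · have : ⁅c, b⁆ = a := by rw [commutatorElement_def, h, ← hwc b, mul_inv_cancel_right]
            rw [← this, commutator_def]
            exact Subgroup.commutator_mem_commutator trivial trivial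
  refine ⟨⟨hE, le_antisymm ?_ ?_, hcomm⟩, ?_⟩
  · intro a ha
    rw [hcen]
    by_contra hc
    push Not at hc
    rcases hnd a with h | h | ⟨b, hb⟩
    · exact hc.1 h
    · exact hc.2 h
    let M : Subgroup E := Subgroup.centralizer {b}
    have hM : IsCoatom M := by
      refine ⟨fun h => hb ?_, fun K hK => ?_⟩
      · exact Subgroup.mem_centralizer_singleton_iff.1 (show a ∈ M by rw [h]; exact Subgroup.mem_top a)
      · obtain ⟨y, hyK, hyM⟩ := SetLike.exists_of_lt hK
        refine eq_top_iff.2 fun x _ => ?_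
        by_cases hx : x ∈ M
        · exact hK.le hx
        have hy : y * b * y⁻¹ = b * w := (h2 y b).resolve_left fun h =>
          hyM (Subgroup.mem_centralizer_singleton_iff.2 (mul_inv_eq_iff_eq_mul.1 h))
        have hx' : x * b * x⁻¹ = b * w := (h2 x b).resolve_left fun h =>
          hx (Subgroup.mem_centralizer_singleton_iff.2 (mul_inv_eq_iff_eq_mul.1 h))
        have : y⁻¹ * x ∈ M := by
          refine Subgroup.mem_centralizer_singleton_iff.2 (mul_inv_eq_iff_eq_mul.1 ?_)
          calc y⁻¹ * x * b * (y⁻¹ * x)⁻¹ = y⁻¹ * (x * b * x⁻¹) * y := by group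
            _ = b := by rw [hx', ← hy]; group
        simpa using K.mul_mem hyK (hK.le this)
    exact hb (Subgroup.mem_centralizer_singleton_iff.1 (frattini_le_coatom hM ha))
  · rw [← hcomm]
    exact CfsgLib.FrattiniTheory.commutator_le_frattini_of_nilpotent
  · rw [Nat.card_eq_two_iff]
    refine ⟨1, ⟨w, hw⟩, fun h => hw1 (congrArg Subtype.val h).symm, Set.eq_univ_of_forall fun a => ?_⟩
    rcases (hcen a.1).1 a.2 with h | h
    · exact Or.inl (Subtype.ext h)
    · exact Or.inr (Subtype.ext h)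

namespace Five

/-- The class of the element in the first Conway group. -/
noncomputable def Tbar : Spor.Co1 := QuotientGroup.mk T

theorem mk_neg : (QuotientGroup.mk negCo0 : Spor.Co1) = 1 :=
  (QuotientGroup.eq_one_iff _).2 negCo0_mem_center

theorem pow_of_mk_eq {i j : ℕ} (h : Tbar ^ i = Tbar ^ j) : T ^ i = T ^ j := by
  have h' : (T ^ i)⁻¹ * T ^ j ∈ Subgroup.center Co0 :=
    QuotientGroup.eq.1 (by simpa [Tbar] using h)
  rcases center_cases h' with e | e
  · exact inv_mul_eq_one.1 e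
  · exfalso
    rw [← inv_pow, inv_eq_of_mul_eq_one_right (a := T) (b := T ^ 4) (by
      rw [← pow_succ']; exact T_pow_five), ← pow_mul, ← pow_add] at e
    exact neg_ne_pow _ e.symm

theorem conj_pow_of_mk {g : Co0} {j : ℕ}
    (h : (QuotientGroup.mk (g * T * g⁻¹) : Spor.Co1) = Tbar ^ j) : g * T * g⁻¹ = T ^ j := by
  have h' : (g * T * g⁻¹)⁻¹ * T ^ j ∈ Subgroup.center Co0 := QuotientGroup.eq.1 (by simpa [Tbar] using h)
  rcases center_cases h' with e | e
  · exact inv_mul_eq_one.1 e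
  · exfalso
    rw [inv_mul_eq_iff_eq_mul] at e
    have h5 : (T ^ j) ^ 5 = 1 := by rw [← pow_mul, mul_comm, pow_mul, T_pow_five, one_pow]
    rw [e, (show Commute (g * T * g⁻¹) negCo0 from
      (Subgroup.mem_center_iff.1 negCo0_mem_center _)).mul_pow, conj_pow, T_pow_five, mul_one,
      mul_inv_cancel, one_mul] at h5
    refine negCo0_ne_one ?_
    rwa [pow_succ, show (4 : ℕ) = 2 * 2 from rfl, pow_mul, sq negCo0, negCo0_sq, one_pow, one_mul] at h5

end Five

variable {G : Type*} [Group G] [Finite G] {z : G}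

omit [Finite G] in
/-- As `exists_adapted`, with the identification. -/
theorem exists_adapted' {Q : Subgroup (Subgroup.centralizer ({z} : Set G))} [Q.Normal]
    {e : (Subgroup.centralizer ({z} : Set G)) ⧸ Q ≃* Spor.Co1}
    {ψ : leechLattice → Q ⧸ Subgroup.center Q} (hψ : IsLeechModTwoIso Q e ψ) (k : Co0) :
    ∃ (e' : (Subgroup.centralizer ({z} : Set G)) ⧸ Q ≃* Spor.Co1)
      (ψ' : leechLattice → Q ⧸ Subgroup.center Q), IsLeechModTwoIso Q e' ψ' ∧
      (∀ v, ψ' v = ψ (k⁻¹ • v)) ∧ ∀ c, e' c =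
        (QuotientGroup.mk k : Spor.Co1) * e c * (QuotientGroup.mk k : Spor.Co1)⁻¹ := by
  refine ⟨e.trans (MulAut.conj (QuotientGroup.mk k : Spor.Co1)), fun v => ψ (k⁻¹ • v),
    ⟨fun v w => ?_, fun q => ?_, fun v => ?_, fun h g hg v q hq => ?_⟩, fun _ => rfl, fun _ => rfl⟩
  · show ψ (k⁻¹ • (v + w)) = _
    rw [co0_add, hψ.1]
  · obtain ⟨v, hv⟩ := hψ.2.1 q
    exact ⟨k • v, by show ψ (k⁻¹ • k • v) = q; rw [inv_smul_smul, hv]⟩
  · show ψ (k⁻¹ • v) = 1 ↔ _
    rw [hψ.2.2.1]
    constructor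
    · rintro ⟨w, hw⟩
      exact ⟨k • w, by rw [← co0_add, ← hw, smul_inv_smul]⟩
    · rintro ⟨w, rfl⟩
      exact ⟨k⁻¹ • w, co0_add _ _ _⟩
  · show ψ (k⁻¹ • g • v) = _
    have hg' : (QuotientGroup.mk (k⁻¹ * g * k) : Spor.Co1) = e (QuotientGroup.mk h) := by
      have h' : (QuotientGroup.mk g : Spor.Co1) = (QuotientGroup.mk k : Spor.Co1) *
          e (QuotientGroup.mk h) * (QuotientGroup.mk k : Spor.Co1)⁻¹ := hg
      simp only [QuotientGroup.mk_mul, h', QuotientGroup.mk_inv]
      group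
    have := hψ.2.2.2 h (k⁻¹ * g * k) hg' (k⁻¹ • v) q hq
    rwa [mul_smul, mul_smul, smul_inv_smul] at this

variable {Q : Subgroup (Subgroup.centralizer ({z} : Set G))} [Q.Normal]
  {e : (Subgroup.centralizer ({z} : Set G)) ⧸ Q ≃* Spor.Co1}
  {ψ : leechLattice → Q ⧸ Subgroup.center Q}
  (hS : IsExtraspecialCentralizerSetting z Q 12) (hψ : IsLeechModTwoIso Q e ψ)
include hS hψ

omit hψ in
omit [Q.Normal] in
theorem eq_one_of_pow_five {q : Subgroup.centralizer ({z} : Set G)} (hq : q ∈ Q) (h5 : q ^ 5 = 1) :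
    q = 1 := by
  have h1 : orderOf q ∣ 5 := orderOf_dvd_of_pow_eq_one h5
  have h2 : orderOf q ∣ 2 ^ (2 * 12 + 1) := hS.2.2.2.1 ▸ Subgroup.orderOf_dvd_natCard Q hq
  exact orderOf_eq_one_iff.1 (Nat.eq_one_of_dvd_coprimes (by decide) h1 h2)

theorem card_frame_centralizer_dvd {x : Q} (hx : ψ frameV = QuotientGroup.mk x)
    (M : Subgroup (Subgroup.centralizer ({z} : Set G)))
    (hM : ∀ m ∈ M, Commute m (x : Subgroup.centralizer ({z} : Set G))) :
    Nat.card M ∣ 2 ^ 25 * (4096 * 244823040) := by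
  haveI := co0_finite
  let φ : M →* Spor.Co1 := (e.toMonoidHom.comp (QuotientGroup.mk' Q)).comp M.subtype
  have hk : Nat.card φ.ker ∣ 2 ^ 25 := by
    have hmem : ∀ a : φ.ker, ((a : M) : Subgroup.centralizer ({z} : Set G)) ∈ Q := fun a => by
      have h := MonoidHom.mem_ker.1 a.2
      rwa [← QuotientGroup.eq_one_iff, ← map_eq_one_iff e e.injective]
    have h := Subgroup.card_dvd_of_injective ((M.subtype.comp φ.ker.subtype).codRestrict Q hmem)
      fun a b h => Subtype.ext (Subtype.ext (congrArg Subtype.val h :))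
    rwa [hS.2.2.2.1] at h
  have hr : Nat.card φ.range ∣ 4096 * 244823040 := by
    have hle : φ.range ≤ (classStab frameV).map (QuotientGroup.mk' (Subgroup.center Co0)) := by
      rintro _ ⟨m, rfl⟩
      obtain ⟨g, hg⟩ := QuotientGroup.mk_surjective (e (QuotientGroup.mk (m : Subgroup.centralizer ({z} : Set G))))
      exact ⟨g, mem_classStab_of_commute hψ hx (hM m m.2) hg, hg⟩
    refine ((Subgroup.card_dvd_of_le hle).trans (Subgroup.card_map_dvd _ _)).trans (dvd_of_eq ?_)
    rw [← card_crossStab]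
    refine Nat.card_congr (Equiv.subtypeEquivRight fun g => ⟨preservesCross_of_classStab, fun h => ?_⟩)
    obtain ⟨τ, hτ, c, hc, rfl⟩ := eq_monoCo0 h
    exact monoCo0_mem_classStab _ _
  rw [← φ.ker.card_mul_index, Subgroup.index_ker]
  exact Nat.mul_dvd_mul hk hr

omit hS hψ in
theorem not_five_sq {n : ℕ} (h : n ∣ 2 ^ 25 * (4096 * 244823040)) : ¬ 5 ^ 2 ∣ n := fun h' => by
  have := h'.trans h
  norm_num at this

section five

variable {b : Subgroup.centralizer ({z} : Set G)}
  (hb : e (QuotientGroup.mk b) = Five.Tbar) (hb5 : b ^ 5 = 1)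
include hb hb5

omit hS hψ in
theorem mk_b_pow (k : ℕ) : e (QuotientGroup.mk (b ^ k)) = Five.Tbar ^ k := by
  rw [QuotientGroup.mk_pow, map_pow, hb]

omit hS hψ in
theorem orderOf_b : orderOf b = 5 := by
  haveI : Fact (Nat.Prime 5) := ⟨by norm_num⟩
  refine orderOf_eq_prime hb5 fun h => Five.T_ne_one ?_
  have h' := mk_b_pow hb hb5 1
  rw [h, one_pow, QuotientGroup.mk_one, map_one, ← pow_zero Five.Tbar] at h'
  simpa using (Five.pow_of_mk_eq h').symm

omit hS hψ in
theorem b_pow_eq {i j : ℕ} (h : Five.Tbar ^ i = Five.Tbar ^ j) : b ^ i = b ^ j := by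
  rw [pow_eq_pow_iff_modEq, orderOf_b hb hb5, ← Five.orderOf_T, ← pow_eq_pow_iff_modEq]
  exact Five.pow_of_mk_eq h

omit hψ in
/-- An element of `⟨b⟩ Q` correction: a conjugate of `b` is a power of `b` after a correction. -/
theorem adjust (M : Subgroup (Subgroup.centralizer ({z} : Set G))) (hbM : b ∈ M)
    {h : Subgroup.centralizer ({z} : Set G)} (hh : h ∈ M) {j : ℕ}
    (hj : e (QuotientGroup.mk (h * b * h⁻¹)) = Five.Tbar ^ j) :
    ∃ h' ∈ M, (∃ i : ℕ, e (QuotientGroup.mk h') = Five.Tbar ^ i * e (QuotientGroup.mk h)) ∧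
      h' * b * h'⁻¹ = b ^ j := by
  haveI : Fact (Nat.Prime 5) := ⟨by norm_num⟩
  haveI := co0_finite
  haveI : Finite Spor.Co1 := inferInstanceAs (Finite (Co0 ⧸ Subgroup.center Co0))
  let φ : Subgroup.centralizer ({z} : Set G) →* Spor.Co1 := e.toMonoidHom.comp (QuotientGroup.mk' Q)
  let K : Subgroup (Subgroup.centralizer ({z} : Set G)) := M ⊓ (Subgroup.zpowers Five.Tbar).comap φ
  have hbK : b ∈ K := ⟨hbM, by
    show e (QuotientGroup.mk b) ∈ Subgroup.zpowers Five.Tbar
    rw [hb]; exact Subgroup.mem_zpowers _⟩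
  have hcK : h * b * h⁻¹ ∈ K := ⟨M.mul_mem (M.mul_mem hh hbM) (M.inv_mem hh), by
    show e (QuotientGroup.mk (h * b * h⁻¹)) ∈ Subgroup.zpowers Five.Tbar
    rw [hj]; exact Subgroup.pow_mem _ (Subgroup.mem_zpowers _) j⟩
  have hcard : ¬ 5 ^ 2 ∣ Nat.card K := by
    let φK : K →* Spor.Co1 := φ.comp K.subtype
    have hk : Nat.card φK.ker ∣ 2 ^ 25 := by
      have hmem : ∀ a : φK.ker, ((a : K) : Subgroup.centralizer ({z} : Set G)) ∈ Q := fun a => by
        have h := MonoidHom.mem_ker.1 a.2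
        rwa [← QuotientGroup.eq_one_iff, ← map_eq_one_iff e e.injective]
      have h := Subgroup.card_dvd_of_injective ((K.subtype.comp φK.ker.subtype).codRestrict Q hmem)
        fun a b h => Subtype.ext (Subtype.ext (congrArg Subtype.val h :))
      rwa [hS.2.2.2.1] at h
    have hr : Nat.card φK.range ∣ 5 := by
      have hle : φK.range ≤ Subgroup.zpowers Five.Tbar := by rintro _ ⟨a, rfl⟩; exact a.2.2
      refine (Subgroup.card_dvd_of_le hle).trans ?_
      rw [Nat.card_zpowers]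
      refine orderOf_dvd_of_pow_eq_one ?_
      rw [← mk_b_pow hb hb5, hb5, QuotientGroup.mk_one, map_one]
    intro h25
    rw [← φK.ker.card_mul_index, Subgroup.index_ker] at h25
    have := h25.trans (Nat.mul_dvd_mul hk hr)
    norm_num at this
  have hord : ∀ a : K, orderOf a = orderOf (a : Subgroup.centralizer ({z} : Set G)) :=
    fun a => (orderOf_injective K.subtype (Subgroup.subtype_injective K) a).symm
  obtain ⟨k, i, hki⟩ := conj_of_prime_order (a := (⟨b, hbK⟩ : K)) (c := (⟨_, hcK⟩ : K))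
    (by rw [hord]; exact orderOf_b hb hb5)
    (by rw [hord]; exact ((MulAut.conj h).orderOf_eq b).trans (orderOf_b hb hb5)) hcard
  have hki' : (k : Subgroup.centralizer ({z} : Set G)) * (h * b * h⁻¹) *
      (k : Subgroup.centralizer ({z} : Set G))⁻¹ = b ^ i := congrArg Subtype.val hki
  obtain ⟨l, hl⟩ : ∃ l : ℕ, Five.Tbar ^ l = φ k := (mem_powers_iff_mem_zpowers.2 k.2.2)
  refine ⟨k * h, mul_mem k.2.1 hh, ⟨l, by rw [QuotientGroup.mk_mul, map_mul, hl]; rfl⟩, ?_⟩
  have himg := congrArg φ hki'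
  rw [map_mul, map_mul, map_inv, ← hl] at himg
  have himg' : Five.Tbar ^ l * Five.Tbar ^ j * (Five.Tbar ^ l)⁻¹ = Five.Tbar ^ i := by
    rw [← mk_b_pow hb hb5 i, ← hj]; exact himg
  rw [← pow_add, add_comm, pow_add, mul_inv_cancel_right] at himg'
  rw [b_pow_eq hb hb5 himg', ← hki']
  group

omit hS hb5 in
omit [Finite G] in
theorem cong_T_of_commute {v : leechLattice} {q : Q} (hv : ψ v = QuotientGroup.mk q)
    (hc : Commute (q : Subgroup.centralizer ({z} : Set G)) b) : Cong (Five.T • v) v := by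
  refine (psi_eq_iff hψ _ _).1 ?_
  rw [psi_conj hψ b Five.T hb.symm v q hv, hv]
  congr 1
  exact Subtype.ext (mul_inv_eq_iff_eq_mul.2 hc.eq.symm)

theorem commute_of_cong {v : leechLattice} {q : Q} (hv : ψ v = QuotientGroup.mk q)
    (hc : Cong (Five.T • v) v) : Commute (q : Subgroup.centralizer ({z} : Set G)) b := by
  have h := psi_conj hψ b Five.T hb.symm v q hv
  rw [(psi_eq_iff hψ _ _).2 hc, hv] at h
  rcases psi_center hS h with e' | e'
  · exact (mul_inv_eq_iff_eq_mul.1 (congrArg Subtype.val e')).symm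
  · exfalso
    have hstep : b * (q : Subgroup.centralizer ({z} : Set G)) * b⁻¹ =
        (q : Subgroup.centralizer ({z} : Set G)) * zC z := congrArg Subtype.val e'
    have hzc : Commute (zC z) b := (Subgroup.mem_center_iff.1 zC_mem_center b).symm
    have hz2 : zC z ^ 2 = 1 := Subtype.ext (show z ^ 2 = 1 by rw [← hS.1]; exact pow_orderOf_eq_one z)
    have hit : ∀ n : ℕ, b ^ n * (q : Subgroup.centralizer ({z} : Set G)) * (b ^ n)⁻¹ =
        (q : Subgroup.centralizer ({z} : Set G)) * zC z ^ n := by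
      intro n
      induction n with
      | zero => simp
      | succ n ih =>
        calc b ^ (n + 1) * (q : Subgroup.centralizer ({z} : Set G)) * (b ^ (n + 1))⁻¹
            = b * (b ^ n * q * (b ^ n)⁻¹) * b⁻¹ := by rw [pow_succ']; group
          _ = b * q * b⁻¹ * (b * zC z ^ n * b⁻¹) := by rw [ih]; group
          _ = q * zC z ^ (n + 1) := by
            rw [hstep, ((hzc.pow_left n).symm).eq, mul_inv_cancel_right, mul_assoc, ← pow_succ']
    have h5 := hit 5
    rw [hb5, one_mul, inv_one, mul_one, pow_succ, show (4 : ℕ) = 2 * 2 from rfl, pow_mul, hz2, one_pow,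
      one_mul] at h5
    exact z_ne_one hS (congrArg Subtype.val (mul_eq_left.1 h5.symm) :)

/-- The centraliser of `b` modulo `⟨b⟩` is of Harada–Norton type. -/
theorem haradaNortonType {x : Q} (hx : ψ frameV = QuotientGroup.mk x) (B : Subgroup G)
    (hB : B = Subgroup.zpowers (b : G))
    [hn : (B.subgroupOf (Subgroup.centralizer (B : Set G))).Normal] :
    IsOfHaradaNortonType (↥(Subgroup.centralizer (B : Set G)) ⧸
      B.subgroupOf (Subgroup.centralizer (B : Set G))) := by
  classical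
  haveI : Fact (Nat.Prime 2) := ⟨Nat.prime_two⟩
  haveI : Fact (Nat.Prime 5) := ⟨by norm_num⟩
  have hob := orderOf_b hb hb5
  have hzb2 : z * z = 1 := by rw [← pow_two, ← hS.1]; exact pow_orderOf_eq_one z
  have hbB : (b : G) ∈ B := hB ▸ Subgroup.mem_zpowers _
  set T := Subgroup.centralizer (B : Set G) with hT
  set N := B.subgroupOf T with hN
  have hbz : Commute (b : G) z := Subgroup.mem_centralizer_singleton_iff.1 b.2
  have hinB : ∀ {g : G}, g ∈ B → ∃ k : ℕ, (b : G) ^ k = g := fun {g} hg =>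
    mem_powers_iff_mem_zpowers.2 (hB ▸ hg)
  have hTmem : ∀ {g : G}, Commute g (b : G) → g ∈ T := fun {g} hg => by
    refine Subgroup.mem_centralizer_iff.2 fun y hy => ?_
    obtain ⟨k, rfl⟩ := hinB hy
    exact (hg.pow_right k).eq.symm
  have hTb : ∀ a : T, Commute (a : G) (b : G) := fun a =>
    (Subgroup.mem_centralizer_iff.1 a.2 _ hbB).symm
  let zT : T := ⟨z, hTmem hbz.symm⟩
  let zb : T ⧸ N := QuotientGroup.mk zT
  let Ct : Subgroup (Subgroup.centralizer ({z} : Set G)) := Subgroup.centralizer {b}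
  let toT : Ct →* T :=
    { toFun := fun a => ⟨((a : Subgroup.centralizer ({z} : Set G)) : G),
        hTmem (congrArg Subtype.val (Subgroup.mem_centralizer_singleton_iff.1 a.2))⟩
      map_one' := rfl
      map_mul' := fun _ _ => rfl }
  have hD : ∀ a : Ct, (QuotientGroup.mk (toT a) : T ⧸ N) ∈ Subgroup.centralizer ({zb} : Set (T ⧸ N)) :=
    fun a => Subgroup.mem_centralizer_singleton_iff.2 (by
      show (QuotientGroup.mk (toT a) : T ⧸ N) * QuotientGroup.mk zT =
        QuotientGroup.mk zT * QuotientGroup.mk (toT a)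
      rw [← QuotientGroup.mk_mul, ← QuotientGroup.mk_mul]
      congr 1
      exact Subtype.ext (Subgroup.mem_centralizer_singleton_iff.1 a.1.2))
  let π : Ct →* Subgroup.centralizer ({zb} : Set (T ⧸ N)) :=
    ((QuotientGroup.mk' N).comp toT).codRestrict _ hD
  have hπ1 : ∀ a : Ct, π a = 1 ↔ ∃ k : ℕ, b ^ k = (a : Subgroup.centralizer ({z} : Set G)) := by
    intro a
    refine Subtype.ext_iff.trans ((QuotientGroup.eq_one_iff (toT a)).trans ⟨fun h => ?_, ?_⟩)
    · obtain ⟨k, hk⟩ := hinB h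
      exact ⟨k, Subtype.ext hk⟩
    · rintro ⟨k, hk⟩
      show ((a : Subgroup.centralizer ({z} : Set G)) : G) ∈ B
      rw [← hk, SubgroupClass.coe_pow]
      exact pow_mem hbB k
  have hπsurj : Function.Surjective π := by
    rintro ⟨q, hq⟩
    obtain ⟨a, rfl⟩ := QuotientGroup.mk_surjective q
    have hq' : (QuotientGroup.mk (a * zT) : T ⧸ N) = QuotientGroup.mk (zT * a) :=
      Subgroup.mem_centralizer_singleton_iff.1 hq
    have hm : (zT * a)⁻¹ * (a * zT) ∈ N := QuotientGroup.eq.1 hq'.symm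
    obtain ⟨k, hk⟩ := hinB (g := (z * (a : G))⁻¹ * ((a : G) * z)) hm
    have hk' : (z * (a : G))⁻¹ * ((a : G) * z) = (b : G) ^ k := hk.symm
    have h1 : (a : G) * z * (a : G)⁻¹ = z * (b : G) ^ k := by
      have e' : (a : G) * z = z * ((b : G) ^ k * (a : G)) := by
        rw [← ((hTb a).pow_right k).eq, ← mul_assoc]; exact inv_mul_eq_iff_eq_mul.1 hk'
      rw [e']; group
    have hbk : (b : G) ^ k = 1 := by
      have h2 : (z * (b : G) ^ k) * (z * (b : G) ^ k) = 1 := by
        rw [← h1]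
        calc (a : G) * z * (a : G)⁻¹ * ((a : G) * z * (a : G)⁻¹) = (a : G) * (z * z) * (a : G)⁻¹ := by group
          _ = 1 := by rw [hzb2, mul_one, mul_inv_cancel]
      rw [mul_assoc, ← mul_assoc ((b : G) ^ k) z, (hbz.pow_left k).eq, ← mul_assoc, ← mul_assoc, hzb2,
        one_mul, ← pow_add] at h2
      have hd : 5 ∣ k + k := by
        rw [← hob, ← Subgroup.orderOf_coe b]; exact orderOf_dvd_of_pow_eq_one h2
      obtain ⟨l, rfl⟩ : 5 ∣ k := by omega
      rw [pow_mul, ← SubgroupClass.coe_pow, hb5]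
      exact one_pow l
    rw [hbk, mul_one] at h1
    exact ⟨⟨⟨(a : G), Subgroup.mem_centralizer_singleton_iff.2 (mul_inv_eq_iff_eq_mul.1 h1)⟩,
      Subgroup.mem_centralizer_singleton_iff.2 (Subtype.ext (hTb a).eq)⟩, rfl⟩
  -- the fixed part of `Q`
  let R : Subgroup (Subgroup.centralizer ({zb} : Set (T ⧸ N))) := (Q.subgroupOf Ct).map π
  haveI hQn : (Q.subgroupOf Ct).Normal := inferInstance
  haveI hRn : R.Normal := Subgroup.Normal.map hQn π hπsurj
  let CQ : Subgroup Q := (Subgroup.centralizer ({b} : Set (Subgroup.centralizer ({z} : Set G)))).subgroupOf Q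
  let ρ : CQ →* R :=
    (π.comp
      { toFun := fun q : CQ => (⟨(q : Q), q.2⟩ : Ct)
        map_one' := rfl
        map_mul' := fun _ _ => rfl }).codRestrict R fun q => ⟨_, (q : Q).2, rfl⟩
  have hρsurj : Function.Surjective ρ := by
    rintro ⟨_, a, ha, rfl⟩
    exact ⟨⟨⟨a.1, ha⟩, a.2⟩, rfl⟩
  have hQb : ∀ k : ℕ, b ^ k ∈ Q → b ^ k = 1 := fun k hk =>
    eq_one_of_pow_five hS hk (by rw [← pow_mul, mul_comm, pow_mul, hb5, one_pow])
  have hρinj : Function.Injective ρ := (injective_iff_map_eq_one ρ).2 fun q hq => by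
    obtain ⟨k, hk⟩ := (hπ1 _).1 (congrArg Subtype.val hq)
    exact Subtype.ext (Subtype.ext (hk.symm.trans (hQb k (hk ▸ (q : Q).2))))
  have hRp : IsPGroup 2 R := (hS.2.2.1.1.1.to_subgroup CQ).of_surjective ρ hρsurj
  have hCQmem : ∀ {v : leechLattice} {q : Q}, ψ v = QuotientGroup.mk q → Cong (Five.T • v) v → q ∈ CQ :=
    fun hv hc => Subgroup.mem_centralizer_singleton_iff.2 (commute_of_cong hS hψ hb hb5 hv hc).eq
  have hclsC : ∀ k : Fin 256, Cong (Five.T • Five.cls k) (Five.cls k) := fun k => by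
    rw [Five.cls_fixed]; exact Cong.refl _
  have hzCQ : zQ hS ∈ CQ :=
    Subgroup.mem_centralizer_singleton_iff.2 (Subgroup.mem_center_iff.1 zC_mem_center b).symm
  have hzq2 : zQ hS * zQ hS = 1 := Subtype.ext (Subtype.ext hzb2)
  -- every element is a lift of one of the classes
  have hCQclass : ∀ q : CQ, ∃ k : Fin 256, ψ (Five.cls k) = QuotientGroup.mk (q : Q) := fun q => by
    obtain ⟨v, hv⟩ := hψ.2.1 (QuotientGroup.mk (q : Q))
    refine ⟨Five.clsIdx v, ?_⟩
    rw [← hv]
    exact ((psi_eq_iff hψ _ _).2 (Five.cls_complete (cong_T_of_commute hψ hb hv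
      (Subgroup.mem_centralizer_singleton_iff.1 q.2)))).symm
  have hCQcard : Nat.card CQ = 2 ^ 9 := by
    let f : Fin 256 × Bool → CQ := fun y =>
      if y.2 then ⟨lift ψ (Five.cls y.1), hCQmem (psi_lift _) (hclsC _)⟩ * ⟨zQ hS, hzCQ⟩
      else ⟨lift ψ (Five.cls y.1), hCQmem (psi_lift _) (hclsC _)⟩
    have hz1 : (QuotientGroup.mk (zQ hS) : Q ⧸ Subgroup.center Q) = 1 :=
      (QuotientGroup.eq_one_iff _).2 (zQ_mem_center hS)
    have hmk : ∀ y, (QuotientGroup.mk ((f y : CQ) : Q) : Q ⧸ Subgroup.center Q) = ψ (Five.cls y.1) := by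
      rintro ⟨k, t⟩
      cases t
      · exact (psi_lift _).symm
      · show (QuotientGroup.mk (lift ψ _ * zQ hS) : Q ⧸ Subgroup.center Q) = _
        rw [QuotientGroup.mk_mul, hz1, mul_one, ← psi_lift]
    have hf : Function.Bijective f := by
      constructor
      · rintro ⟨k, t⟩ ⟨k', t'⟩ h
        have h1 := (hmk (k, t)).symm.trans ((congrArg (fun q : CQ => (QuotientGroup.mk (q : Q) :
          Q ⧸ Subgroup.center Q)) h).trans (hmk (k', t')))
        have hk : k = k' := by
          rw [← Five.clsIdx_cls k, ← Five.clsIdx_cls k']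
          exact Five.clsIdx_congr ((psi_eq_iff hψ _ _).1 h1)
        subst hk
        cases t <;> cases t' <;> first | rfl | exfalso
        · exact zQ_ne_one hS (mul_eq_left.1 (congrArg Subtype.val h).symm)
        · exact zQ_ne_one hS (mul_eq_left.1 (congrArg Subtype.val h))
      · intro q
        obtain ⟨k, hk⟩ := hCQclass q
        rw [psi_lift (ψ := ψ)] at hk
        rcases psi_center hS hk with e' | e'
        · exact ⟨(k, false), Subtype.ext e'.symm⟩
        · exact ⟨(k, true), Subtype.ext e'.symm⟩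
    rw [← Nat.card_congr (Equiv.ofBijective f hf), Nat.card_prod]
    simp
  have hCQex : IsExtraspecial 2 CQ := by
    refine extraspecial_of_two_valued ⟨zQ hS, hzCQ⟩ (hS.2.2.1.1.1.to_subgroup CQ)
      (Subgroup.mem_center_iff.2 fun a => Subtype.ext (Subgroup.mem_center_iff.1 (zQ_mem_center hS) a))
      (fun h => zQ_ne_one hS (congrArg Subtype.val h)) (Subtype.ext hzq2) (fun a c => ?_)
      (fun a => (sq_cases hS (a : Q)).imp Subtype.ext Subtype.ext) (fun a => ?_) ?_
    · rcases commutator_cases hS (a : Q) c with h | h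
      · left
        exact Subtype.ext (mul_inv_eq_one.1 h)
      · right
        refine Subtype.ext ?_
        show (a : Q) * c * (a : Q)⁻¹ = (c : Q) * zQ hS
        rw [Subgroup.mem_center_iff.1 (zQ_mem_center hS), ← h, commutatorElement_def]
        group
    · obtain ⟨k, hk⟩ := hCQclass a
      by_cases hk0 : k = 0
      · subst hk0
        rw [Five.cls_zero, psi_zero hψ, ← QuotientGroup.mk_one] at hk
        rcases psi_center hS hk with e' | e'
        · exact Or.inl (Subtype.ext e')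
        · exact Or.inr (Or.inl (Subtype.ext (e'.trans (one_mul _))))
      · obtain ⟨i, hi⟩ := Five.cls_nondeg k hk0
        refine Or.inr (Or.inr ⟨⟨lift ψ (Five.bv i), ?_⟩, fun hc => hi ?_⟩)
        · refine hCQmem (psi_lift _) ?_
          rw [show Five.bv i = Five.cls ⟨2 ^ (i : ℕ), Nat.pow_lt_pow_right (by norm_num) i.2⟩ from
            Subtype.ext (funext (Five.bv_eq_cls i))]
          exact hclsC _
        · exact (commute_iff_dot hS hψ hk (psi_lift _)).1 (congrArg Subtype.val hc.eq)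
    · refine ⟨⟨lift ψ (Five.cls 1), hCQmem (psi_lift _) (hclsC _)⟩, fun h => ?_, fun h => ?_⟩ <;>
      · have h' := congrArg (fun q : CQ => (QuotientGroup.mk (q : Q) : Q ⧸ Subgroup.center Q)) h
        have h0 : ψ (Five.cls 1) = ψ (Five.cls 0) := by
          rw [Five.cls_zero, psi_zero hψ, psi_lift (ψ := ψ)]
          refine h'.trans ?_
          first
            | exact QuotientGroup.mk_one _
            | exact (QuotientGroup.eq_one_iff _).2 (zQ_mem_center hS)
        have := Five.clsIdx_congr ((psi_eq_iff hψ _ _).1 h0)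
        rw [Five.clsIdx_cls, Five.clsIdx_cls] at this
        exact absurd this (by decide)
  have hREx : IsExtraspecial 2 R :=
    extraspecial_congr (MulEquiv.ofBijective ρ ⟨hρinj, hρsurj⟩) hCQex
  have hRcard : Nat.card R = 2 ^ (2 * 4 + 1) := by
    rw [← Nat.card_congr (Equiv.ofBijective ρ ⟨hρinj, hρsurj⟩), hCQcard]
  -- the homomorphism to the wreath product
  obtain ⟨F, hFsurj, hF1, hFfix⟩ := Five.exists_hom
  have hgC : ∀ a : Ct, ∀ g : Co0, (QuotientGroup.mk g : Spor.Co1) =
      e (QuotientGroup.mk (a : Subgroup.centralizer ({z} : Set G))) → g ∈ Five.C0 := by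
    intro a g hg
    have h := Five.conj_pow_of_mk (g := g) (j := 1) (by
      rw [pow_one, QuotientGroup.mk_mul, QuotientGroup.mk_mul, QuotientGroup.mk_inv, hg,
        show (QuotientGroup.mk Five.T : Spor.Co1) = e (QuotientGroup.mk b) from hb.symm, ← map_mul,
        ← map_inv, ← map_mul, ← QuotientGroup.mk_mul, ← QuotientGroup.mk_inv, ← QuotientGroup.mk_mul,
        mul_inv_eq_iff_eq_mul.2 (Subgroup.mem_centralizer_singleton_iff.1 a.2), hb])
    rw [pow_one] at h
    exact Subgroup.mem_centralizer_singleton_iff.2 (mul_inv_eq_iff_eq_mul.1 h)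
  have hrep : ∀ a : Ct, ∃ g : Five.C0, (QuotientGroup.mk (g : Co0) : Spor.Co1) =
      e (QuotientGroup.mk (a : Subgroup.centralizer ({z} : Set G))) := fun a => by
    obtain ⟨g, hg⟩ := QuotientGroup.mk_surjective (e (QuotientGroup.mk (a : Subgroup.centralizer ({z} : Set G))))
    exact ⟨⟨g, hgC a g hg⟩, hg⟩
  choose rep hrep' using hrep
  have hFcongr : ∀ g g' : Five.C0, (QuotientGroup.mk (g : Co0) : Spor.Co1) = QuotientGroup.mk (g' : Co0) →
      F g = F g' := fun g g' h => by
    have h' : (g : Co0)⁻¹ * g' ∈ Subgroup.center Co0 := QuotientGroup.eq.1 h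
    have h1 : F (g⁻¹ * g') = 1 := (hF1 _).2 ⟨0, by
      rcases center_cases h' with e' | e'
      · exact Or.inl (by simpa using e')
      · exact Or.inr (by simpa using e')⟩
    rwa [map_mul, map_inv, inv_mul_eq_one] at h1
  let Ψ : Ct →* alternatingFiveWreathTwo := MonoidHom.mk' (fun a => F (rep a)) fun a c => by
    rw [← map_mul]
    refine hFcongr _ _ ?_
    rw [hrep', Subgroup.coe_mul, Subgroup.coe_mul, QuotientGroup.mk_mul, map_mul, ← hrep', ← hrep',
      QuotientGroup.mk_mul]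
  have hΨsurj : Function.Surjective Ψ := by
    intro p
    obtain ⟨g, rfl⟩ := hFsurj p
    obtain ⟨h, hh⟩ := exists_of_co0 hψ (g : Co0)
    obtain ⟨h', -, ⟨i, hi⟩, hconj⟩ := adjust hS hb hb5 ⊤ trivial (h := h) trivial (j := 1) (by
      rw [pow_one, QuotientGroup.mk_mul, QuotientGroup.mk_mul, QuotientGroup.mk_inv, map_mul, map_mul,
        map_inv, hb, ← hh, Five.Tbar, ← QuotientGroup.mk_inv, ← QuotientGroup.mk_mul,
        ← QuotientGroup.mk_mul, Subgroup.mem_centralizer_singleton_iff.1 g.2, mul_inv_cancel_right])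
    rw [pow_one] at hconj
    refine ⟨⟨h', Subgroup.mem_centralizer_singleton_iff.2 (mul_inv_eq_iff_eq_mul.1 hconj)⟩, ?_⟩
    have hTi : F ⟨Five.T ^ i, pow_mem Five.T_mem i⟩ = 1 := (hF1 _).2 ⟨i, Or.inl rfl⟩
    calc F (rep _) = F (⟨Five.T ^ i, pow_mem Five.T_mem i⟩ * g) := hFcongr _ _ (by
          rw [hrep', hi, Subgroup.coe_mul, QuotientGroup.mk_mul, QuotientGroup.mk_pow, hh]; rfl)
      _ = F g := by rw [map_mul, hTi, one_mul]
  have hΨker : ∀ a : Ct, Ψ a = 1 ↔ π a ∈ R := by
    intro a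
    constructor
    · intro h
      obtain ⟨k, hk⟩ := (hF1 _).1 h
      have hek : e (QuotientGroup.mk (a : Subgroup.centralizer ({z} : Set G))) = Five.Tbar ^ k := by
        rw [← hrep']
        rcases hk with hk | hk
        · rw [hk, QuotientGroup.mk_pow]; rfl
        · rw [hk, QuotientGroup.mk_mul, Five.mk_neg, one_mul, QuotientGroup.mk_pow]; rfl
      let bC : Ct := ⟨b, Subgroup.mem_centralizer_singleton_iff.2 rfl⟩
      refine ⟨a * (bC ^ k)⁻¹, ?_, ?_⟩
      · show (a : Subgroup.centralizer ({z} : Set G)) * (b ^ k)⁻¹ ∈ Q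
        rw [← QuotientGroup.eq_one_iff, ← map_eq_one_iff e e.injective, QuotientGroup.mk_mul,
          QuotientGroup.mk_inv, map_mul, map_inv, hek, mk_b_pow hb hb5, mul_inv_cancel]
      · rw [map_mul, map_inv, (hπ1 (bC ^ k)).2 ⟨k, rfl⟩, inv_one, mul_one]
    · rintro ⟨a', ha', he⟩
      obtain ⟨k, hk⟩ := (hπ1 (a'⁻¹ * a)).1 (by rw [map_mul, map_inv, he, inv_mul_cancel])
      refine (hFcongr _ ⟨Five.T ^ k, pow_mem Five.T_mem k⟩ ?_).trans ((hF1 _).2 ⟨k, Or.inl rfl⟩)
      have ha'' : (a' : Subgroup.centralizer ({z} : Set G)) ∈ Q := ha'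
      have e1 : e (QuotientGroup.mk (a' : Subgroup.centralizer ({z} : Set G))) = 1 := by
        rw [(QuotientGroup.eq_one_iff _).2 ha'', map_one]
      have e2 : (a : Subgroup.centralizer ({z} : Set G)) = (a' : Subgroup.centralizer ({z} : Set G)) * b ^ k := by
        rw [hk, Subgroup.coe_mul, Subgroup.coe_inv, mul_inv_cancel_left]
      rw [hrep', e2, QuotientGroup.mk_mul, map_mul, e1, one_mul, mk_b_pow hb hb5, QuotientGroup.mk_pow]
      rfl
  let θ : Ct →* Subgroup.centralizer ({zb} : Set (T ⧸ N)) ⧸ R := (QuotientGroup.mk' R).comp π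
  have hθsurj : Function.Surjective θ := (QuotientGroup.mk'_surjective R).comp hπsurj
  have hθker : θ.ker = Ψ.ker := by
    ext a
    rw [MonoidHom.mem_ker, MonoidHom.mem_ker, hΨker]
    exact QuotientGroup.eq_one_iff (π a)
  let iso : Subgroup.centralizer ({zb} : Set (T ⧸ N)) ⧸ R ≃* alternatingFiveWreathTwo :=
    ((QuotientGroup.quotientKerEquivOfSurjective θ hθsurj).symm.trans
      (QuotientGroup.quotientMulEquivOfEq hθker)).trans
      (QuotientGroup.quotientKerEquivOfSurjective Ψ hΨsurj)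
  -- `R` contains its centralizer
  have hself : Subgroup.centralizer (R : Set (Subgroup.centralizer ({zb} : Set (T ⧸ N)))) ≤ R := by
    intro d hd
    obtain ⟨a, rfl⟩ := hπsurj d
    rw [← hΨker]
    refine hFfix _ fun k => Five.act_eq_of_cong ((psi_eq_iff hψ _ _).1 ?_)
    rw [psi_conj hψ _ _ (hrep' a) _ _ (psi_lift _), psi_lift (ψ := ψ) (Five.cls k)]
    congr 1
    let qC : CQ := ⟨lift ψ (Five.cls k), hCQmem (psi_lift _) (hclsC _)⟩
    let aq : Ct := ⟨((qC : Q) : Subgroup.centralizer ({z} : Set G)), qC.2⟩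
    have hc : π a * π aq = π aq * π a :=
      ((Subgroup.mem_centralizer_iff.1 hd) (π aq) ⟨aq, (qC : Q).2, rfl⟩).symm
    obtain ⟨n, hn'⟩ := (hπ1 (aq⁻¹ * (a * aq * a⁻¹))).1 (by
      rw [map_mul, map_mul, map_mul, map_inv, map_inv, hc]; group)
    have hmem : (((aq⁻¹ * (a * aq * a⁻¹) : Ct)) : Subgroup.centralizer ({z} : Set G)) ∈ Q :=
      mul_mem (inv_mem (qC : Q).2) ((inferInstance : Q.Normal).conj_mem _ (qC : Q).2 _)
    have h1 : b ^ n = 1 := hQb n (hn'.symm ▸ hmem)
    rw [h1] at hn'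
    exact Subtype.ext (inv_mul_eq_one.1 hn'.symm).symm
  have hRfit : R ≤ fittingSubgroup (Subgroup.centralizer ({zb} : Set (T ⧸ N))) :=
    CfsgLib.Components.le_fittingSubgroup hRp.isNilpotent
  have hlayer : layer (Subgroup.centralizer ({zb} : Set (T ⧸ N))) = ⊥ := by
    have hle : layer (Subgroup.centralizer ({zb} : Set (T ⧸ N))) ≤ R :=
      (CfsgLib.Components.layer_le_centralizer_fittingSubgroup.trans
        (Subgroup.centralizer_le (SetLike.coe_subset_coe.2 hRfit))).trans hself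
    refine sSup_eq_bot.2 fun K hK => ?_
    exfalso
    have hKR : K ≤ R := (le_sSup hK).trans hle
    haveI := (hRp.to_le hKR).isNilpotent
    exact CfsgLib.Components.IsComponent.not_isSolvable hK inferInstance
  have hodd : ∀ M : Subgroup (Subgroup.centralizer ({zb} : Set (T ⧸ N))), M.Normal →
      (Nat.card M).Coprime 2 → M = ⊥ := by
    intro M hM hcop
    have hdis : Disjoint M R := by
      refine disjoint_iff.2 (Subgroup.eq_bot_iff_card _ |>.2 ?_)
      refine Nat.eq_one_of_dvd_coprimes (a := Nat.card M) (b := 2 ^ (2 * 4 + 1))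
        (hcop.pow_right _) (Subgroup.card_dvd_of_le inf_le_left) ?_
      rw [← hRcard]
      exact Subgroup.card_dvd_of_le inf_le_right
    have hMR : M ≤ R := fun a ha => hself (Subgroup.mem_centralizer_iff.2 fun r hr =>
      ((Subgroup.commute_of_normal_of_disjoint M R hM hRn hdis a r ha hr).eq).symm)
    exact disjoint_self.1 (hdis.mono_right hMR)
  have hpcore : pCore 2 (Subgroup.centralizer ({zb} : Set (T ⧸ N))) ≤ R := by
    let proj := iso.toMonoidHom.comp (QuotientGroup.mk' R)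
    haveI : (pCore 2 (Subgroup.centralizer ({zb} : Set (T ⧸ N)))).Normal :=
      Subgroup.sSup_normal _ fun _ h => h.1
    haveI := Subgroup.Normal.map (inferInstance : (pCore 2 (Subgroup.centralizer ({zb} : Set (T ⧸ N)))).Normal)
      proj (iso.surjective.comp (QuotientGroup.mk'_surjective R))
    have hbot := Five.wreath_two_core _ ((CfsgLib.Components.isPGroup_pCore 2).map proj)
    intro d hd
    have h1 : proj d = 1 := Subgroup.mem_bot.1 (hbot ▸ Subgroup.mem_map_of_mem proj hd)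
    exact (QuotientGroup.eq_one_iff d).1 (iso.injective (h1.trans (map_one iso).symm))
  have hFS : generalizedFittingSubgroup (Subgroup.centralizer ({zb} : Set (T ⧸ N))) = R := by
    rw [CfsgLib.Components.generalizedFitting_eq_pCore 2 hlayer hodd]
    exact le_antisymm hpcore (CfsgLib.Components.le_pCore hRp)
  have hzb : orderOf zb = 2 := by
    refine orderOf_eq_prime ?_ fun h => ?_
    · rw [pow_two, ← QuotientGroup.mk_mul, QuotientGroup.eq_one_iff]
      show z * z ∈ B
      rw [hzb2]; exact one_mem _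
    · obtain ⟨k, hk⟩ := hinB ((QuotientGroup.eq_one_iff zT).1 h)
      have hk' : (b : G) ^ k = z := hk
      have h5 : z ^ 5 = 1 := by
        rw [← hk', ← pow_mul, mul_comm, pow_mul, ← SubgroupClass.coe_pow, hb5]
        exact one_pow k
      rw [show (5 : ℕ) = 2 * 2 + 1 from rfl, pow_succ, pow_mul, show z ^ 2 = 1 by rw [pow_two, hzb2],
        one_pow, one_mul] at h5
      exact z_ne_one hS h5
  -- not weakly closed
  have hxb : Commute (x : Subgroup.centralizer ({z} : Set G)) b :=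
    commute_of_cong hS hψ hb hb5 hx Five.frame_cong_T
  have hnwc : ∃ c : T ⧸ N, (∃ hq : c * zb * c⁻¹ ∈ Subgroup.centralizer ({zb} : Set (T ⧸ N)),
      (⟨c * zb * c⁻¹, hq⟩ : Subgroup.centralizer ({zb} : Set (T ⧸ N))) ∈ R) ∧
      c * zb * c⁻¹ ≠ zb := by
    obtain ⟨hconjx, hxne⟩ := conj_of_class hS hψ (sqNorm_eight none) hx
    obtain ⟨g₀, hg₀⟩ := isConj_iff.1 hconjx
    obtain ⟨y, hy⟩ := mem_inG.1 (mem_conjQ.1 (frame_z_mem hS hψ hg₀ hx))
    have hy1 : IsConj z (toG y) := isConj_iff.2 ⟨g₀⁻¹, by rw [hy]; group⟩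
    have hyne : toG y ≠ z := fun h => by
      rw [hy] at h
      apply hxne
      rw [← hg₀]
      calc g₀ * z * g₀⁻¹ = g₀ * (g₀⁻¹ * z * g₀) * g₀⁻¹ := by rw [h]
        _ = z := by group
    obtain ⟨c, hc⟩ := conj_transitive hS hψ hconjx hxne hy1 hyne
    -- `w` interchanges `z` and `x`
    set w : G := g₀ * (c : G) with hw
    have hcz : (c : G) * z * (c : G)⁻¹ = z :=
      mul_inv_eq_iff_eq_mul.2 (Subgroup.mem_centralizer_singleton_iff.1 c.2)
    have hc' : (c : G) * toG x * (c : G)⁻¹ = g₀⁻¹ * z * g₀ := (congrArg Subtype.val hc).trans hy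
    have hwz : w * z * w⁻¹ = toG x := by
      calc w * z * w⁻¹ = g₀ * ((c : G) * z * (c : G)⁻¹) * g₀⁻¹ := by rw [hw]; group
        _ = toG x := by rw [hcz, hg₀]
    have hwx : w * toG x * w⁻¹ = z := by
      calc w * toG x * w⁻¹ = g₀ * ((c : G) * toG x * (c : G)⁻¹) * g₀⁻¹ := by rw [hw]; group
        _ = z := by rw [hc']; group
    let M : Subgroup (Subgroup.centralizer ({z} : Set G)) :=
      Subgroup.centralizer {(x : Subgroup.centralizer ({z} : Set G))}
    have hbM : b ∈ M := Subgroup.mem_centralizer_singleton_iff.2 hxb.eq.symm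
    have hxbG : Commute (toG x) (b : G) := congrArg Subtype.val hxb.eq
    have hb'z : Commute (w * (b : G) * w⁻¹) z := by
      have h := hxbG.symm.map (MulAut.conj w)
      simp only [MulAut.conj_apply, hwx] at h
      exact h
    have hb'x : Commute (w * (b : G) * w⁻¹) (toG x) := by
      have h := hbz.map (MulAut.conj w)
      simp only [MulAut.conj_apply, hwz] at h
      exact h
    let b' : Subgroup.centralizer ({z} : Set G) :=
      ⟨w * (b : G) * w⁻¹, Subgroup.mem_centralizer_singleton_iff.2 hb'z.eq⟩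
    have hb'M : b' ∈ M := Subgroup.mem_centralizer_singleton_iff.2 (Subtype.ext hb'x.eq)
    have hordM : ∀ a : M, orderOf a = orderOf (((a : Subgroup.centralizer ({z} : Set G))) : G) := fun a => by
      rw [Subgroup.orderOf_coe, Subgroup.orderOf_coe]
    obtain ⟨k, i, hki⟩ := conj_of_prime_order (a := (⟨b, hbM⟩ : M)) (c := (⟨b', hb'M⟩ : M))
      (by rw [hordM, Subgroup.orderOf_coe]; exact hob)
      (by
        rw [hordM]
        show orderOf (w * (b : G) * w⁻¹) = 5
        exact ((MulAut.conj w).orderOf_eq (b : G)).trans ((Subgroup.orderOf_coe b).trans hob))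
      (not_five_sq (card_frame_centralizer_dvd hS hψ hx M fun m hm =>
        Subgroup.mem_centralizer_singleton_iff.1 hm))
    -- an element of `M` squaring `b`
    obtain ⟨σ, hσ, hσt⟩ := Five.exists_square
    let n := monoCo0 σ hσ ∅ Spor.empty_mem_supports_golayCode
    obtain ⟨hn0, hn1, hn2⟩ := lift_centralising hS hψ hx (frame_not_center hS hψ hx)
      (monoCo0_mem_classStab hσ Spor.empty_mem_supports_golayCode)
    have hnT : n * Five.T = Five.T ^ 2 * n := co0_ext fun v => Subtype.ext (funext fun p => by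
      rw [pow_two, mul_smul, mul_smul, mul_smul, monoCo0_smul, Five.T_smul, Five.T_smul, monoCo0_smul]
      simp only [monoFun, Finset.notMem_empty, if_false, Five.T_smul]
      rw [hσt])
    obtain ⟨h2, h2M, -, h2b⟩ := adjust hS hb hb5 M hbM (h := hn0)
      (Subgroup.mem_centralizer_singleton_iff.2 hn2.eq) (j := 2) (by
        rw [QuotientGroup.mk_mul, QuotientGroup.mk_mul, QuotientGroup.mk_inv, map_mul, map_mul,
          map_inv, hb, ← hn1, Five.Tbar, ← QuotientGroup.mk_inv, ← QuotientGroup.mk_mul,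
          ← QuotientGroup.mk_mul, ← QuotientGroup.mk_pow, hnT, mul_inv_cancel_right])
    have hpow : ∀ m : ℕ, h2 ^ m * b * (h2 ^ m)⁻¹ = b ^ 2 ^ m := by
      intro m
      induction m with
      | zero => simp
      | succ m ih =>
        calc h2 ^ (m + 1) * b * (h2 ^ (m + 1))⁻¹ = h2 * (h2 ^ m * b * (h2 ^ m)⁻¹) * h2⁻¹ := by
              rw [pow_succ']; group
          _ = (h2 * b * h2⁻¹) ^ 2 ^ m := by rw [ih, conj_pow]
          _ = b ^ 2 ^ (m + 1) := by rw [h2b, ← pow_mul, ← pow_succ']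
    have hki' : (k : Subgroup.centralizer ({z} : Set G)) * b' * (k : Subgroup.centralizer ({z} : Set G))⁻¹ =
        b ^ i := congrArg Subtype.val hki
    have hi5 : i % 5 ≠ 0 := fun h0 => by
      have h1 : b ^ i = 1 := by rw [← pow_mod_orderOf, hob, h0, pow_zero]
      rw [h1, mul_inv_eq_one, mul_eq_left] at hki'
      have h2 : w * (b : G) * w⁻¹ = 1 := congrArg Subtype.val hki'
      rw [mul_inv_eq_one, mul_eq_left] at h2
      have h3 := hob
      rw [show b = 1 from Subtype.ext h2, orderOf_one] at h3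
      omega
    obtain ⟨m, hm⟩ : ∃ m : ℕ, 2 ^ m * i % 5 = 1 := by
      have : ∀ r < 5, r ≠ 0 → ∃ m < 4, 2 ^ m * r % 5 = 1 := by decide
      obtain ⟨m, -, hm⟩ := this (i % 5) (Nat.mod_lt _ (by norm_num)) hi5
      exact ⟨m, by rwa [Nat.mul_mod, Nat.mod_mod, ← Nat.mul_mod] at hm⟩
    let u : Subgroup.centralizer ({z} : Set G) := h2 ^ m * k
    have hub : u * b' * u⁻¹ = b := by
      calc u * b' * u⁻¹ = h2 ^ m * (k * b' * (k : Subgroup.centralizer ({z} : Set G))⁻¹) * (h2 ^ m)⁻¹ := by
            show h2 ^ m * k * b' * (h2 ^ m * k)⁻¹ = _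
            group
        _ = (h2 ^ m * b * (h2 ^ m)⁻¹) ^ i := by rw [hki', conj_pow]
        _ = b := by rw [hpow, ← pow_mul, ← pow_mod_orderOf, hob, hm, pow_one]
    have huM : u ∈ M := mul_mem (pow_mem h2M m) k.2
    have hux : (u : G) * toG x * (u : G)⁻¹ = toG x :=
      mul_inv_eq_iff_eq_mul.2 (congrArg Subtype.val (Subgroup.mem_centralizer_singleton_iff.1 huM))
    have hbu : Commute ((u : G) * w) (b : G) := mul_inv_eq_iff_eq_mul.1 (by
      calc (u : G) * w * (b : G) * ((u : G) * w)⁻¹ = ((u * b' * u⁻¹ : Subgroup.centralizer ({z} : Set G)) : G) := by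
            show _ = (u : G) * (w * (b : G) * w⁻¹) * (u : G)⁻¹
            group
        _ = (b : G) := by rw [hub])
    have huz : (u : G) * w * z * ((u : G) * w)⁻¹ = toG x := by
      calc (u : G) * w * z * ((u : G) * w)⁻¹ = (u : G) * (w * z * w⁻¹) * (u : G)⁻¹ := by group
        _ = toG x := by rw [hwz, hux]
    let xC : Ct := ⟨x, Subgroup.mem_centralizer_singleton_iff.2 hxb.eq⟩
    let cT : T := ⟨(u : G) * w, hTmem hbu⟩
    have hb1 : (QuotientGroup.mk cT : T ⧸ N) * zb * (QuotientGroup.mk cT : T ⧸ N)⁻¹ = (π xC : T ⧸ N) := by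
      show (QuotientGroup.mk (cT * zT * cT⁻¹) : T ⧸ N) = QuotientGroup.mk (toT xC)
      congr 1
      exact Subtype.ext huz
    refine ⟨QuotientGroup.mk cT, ⟨hb1 ▸ (π xC).2, ?_⟩, ?_⟩
    · have : (⟨_, hb1 ▸ (π xC).2⟩ : Subgroup.centralizer ({zb} : Set (T ⧸ N))) = π xC := Subtype.ext hb1
      rw [this]
      exact ⟨xC, x.2, rfl⟩
    · rw [hb1]
      intro h
      obtain ⟨j, hj⟩ := hinB (g := z⁻¹ * toG x) (show zT⁻¹ * toT xC ∈ N from QuotientGroup.eq.1 (show (QuotientGroup.mk zT : T ⧸ N) =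
        QuotientGroup.mk (toT xC) from h.symm))
      have hj' : b ^ j = (zC z)⁻¹ * (x : Subgroup.centralizer ({z} : Set G)) := Subtype.ext hj
      have := hQb j (hj' ▸ mul_mem (inv_mem (zC_mem hS)) x.2)
      rw [this] at hj'
      exact hxne (congrArg Subtype.val (inv_mul_eq_one.1 hj'.symm)).symm
  exact ⟨zb, R, hRn, ⟨hzb, hFS, hREx, hRcard, hnwc⟩, ⟨iso⟩⟩

end five

/-- The centralizer of a Sylow 5-subgroup of the joint centralizer, modulo it. -/
theorem haradaNortonType_all {s : G} (hsQ : ∃ hsc : s ∈ Subgroup.centralizer ({z} : Set G),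
      (⟨s, hsc⟩ : Subgroup.centralizer ({z} : Set G)) ∈ Q) (hs : IsConj z s) (hs1 : s ≠ z)
    (B : Subgroup G) (hB : B ≤ Subgroup.centralizer ({z, s} : Set G))
    (hBp : Nat.card B = 5 ^ (Nat.card ↥(Subgroup.centralizer ({z, s} : Set G))).factorization 5)
    [hn : (B.subgroupOf (Subgroup.centralizer (B : Set G))).Normal] :
    IsOfHaradaNortonType (↥(Subgroup.centralizer (B : Set G)) ⧸
      B.subgroupOf (Subgroup.centralizer (B : Set G))) := by
  classical
  haveI : Fact (Nat.Prime 5) := ⟨by norm_num⟩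
  haveI := co0_finite
  obtain ⟨hsc, hsq⟩ := hsQ
  let x : Q := ⟨⟨s, hsc⟩, hsq⟩
  obtain ⟨v, hvn, hv⟩ := class_of_conj hS hψ (x := x) hs hs1
  obtain ⟨m₀, hm₀⟩ := transitive_norm64 frameV v (sqNorm_eight none) hvn
  obtain ⟨e₁, ψ₁, hψ₁, hval⟩ := exists_adapted hψ m₀
  have hx : ψ₁ frameV = QuotientGroup.mk x := by rw [hval, hm₀, hv]
  let M : Subgroup (Subgroup.centralizer ({z} : Set G)) :=
    Subgroup.centralizer {(x : Subgroup.centralizer ({z} : Set G))}
  have hMmap : M.map (Subgroup.centralizer ({z} : Set G)).subtype =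
      Subgroup.centralizer ({z, s} : Set G) := by
    ext g
    constructor
    · rintro ⟨a, ha, rfl⟩
      refine Subgroup.mem_centralizer_iff.2 ?_
      rintro y (rfl | rfl)
      · exact (Subgroup.mem_centralizer_singleton_iff.1 a.2).symm
      · exact (congrArg Subtype.val (Subgroup.mem_centralizer_singleton_iff.1 ha)).symm
    · intro hg
      refine ⟨⟨g, Subgroup.mem_centralizer_singleton_iff.2
        (Subgroup.mem_centralizer_iff.1 hg z (by simp)).symm⟩,
        Subgroup.mem_centralizer_singleton_iff.2 (Subtype.ext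
          (Subgroup.mem_centralizer_iff.1 hg s (by simp)).symm), rfl⟩
  have hMdvd : Nat.card M ∣ 2 ^ 25 * (4096 * 244823040) :=
    card_frame_centralizer_dvd hS hψ₁ hx M fun m hm => Subgroup.mem_centralizer_singleton_iff.1 hm
  have hMcard : Nat.card ↥(Subgroup.centralizer ({z, s} : Set G)) = Nat.card M := by
    rw [← hMmap, Subgroup.card_map_of_injective (Subgroup.subtype_injective _)]
  -- five divides the order
  have h5M : 5 ∣ Nat.card M := by
    obtain ⟨h, hh, hc⟩ := lift_centralising hS hψ₁ hx (frame_not_center hS hψ₁ hx) Five.T_mem_classStab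
    have hne : (QuotientGroup.mk Five.T : Spor.Co1) ≠ 1 := fun h1 => Five.T_ne_one (by
      simpa using Five.pow_of_mk_eq (i := 1) (j := 0) (by simpa [Five.Tbar] using h1))
    have ho : orderOf (QuotientGroup.mk Five.T : Spor.Co1) = 5 := orderOf_eq_prime (by
      rw [← QuotientGroup.mk_pow, Five.T_pow_five]; rfl) hne
    have hd : orderOf (QuotientGroup.mk Five.T : Spor.Co1) ∣ orderOf h := by
      rw [hh]
      exact orderOf_map_dvd (e₁.toMonoidHom.comp (QuotientGroup.mk' Q)) h
    rw [ho] at hd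
    exact hd.trans (Subgroup.orderOf_dvd_natCard M (Subgroup.mem_centralizer_singleton_iff.2 hc.eq))
  have hfac : (Nat.card M).factorization 5 = 1 := by
    have hne : Nat.card M ≠ 0 := Nat.card_pos.ne'
    refine le_antisymm ?_ ?_
    · by_contra h
      exact not_five_sq hMdvd
        ((Nat.Prime.pow_dvd_iff_le_factorization (by norm_num) hne).2 (by omega))
    · exact (Nat.Prime.dvd_iff_one_le_factorization (by norm_num) hne).1 h5M
  rw [hMcard, hfac, pow_one] at hBp
  obtain ⟨b₀, hb₀⟩ : ∃ b₀ : B, orderOf b₀ = 5 := exists_prime_orderOf_dvd_card' 5 (by rw [hBp])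
  obtain ⟨b, hbM, hbb⟩ : ∃ b ∈ M, (b : G) = (b₀ : G) := by
    have := hB b₀.2
    rw [← hMmap] at this
    obtain ⟨b, hbM, hb⟩ := this
    exact ⟨b, hbM, hb⟩
  have hob : orderOf b = 5 := by
    rw [← Subgroup.orderOf_coe, hbb, Subgroup.orderOf_coe]; exact hb₀
  obtain ⟨g, hg⟩ := QuotientGroup.mk_surjective (e₁ (QuotientGroup.mk b))
  have hgS : g ∈ classStab frameV :=
    mem_classStab_of_commute hψ₁ hx (Subgroup.mem_centralizer_singleton_iff.1 hbM) hg
  have hb5 : b ^ 5 = 1 := by rw [← hob]; exact pow_orderOf_eq_one b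
  have hbQ : b ∉ Q := fun h => by
    rw [eq_one_of_pow_five hS h hb5, orderOf_one] at hob; omega
  -- a representative of order five
  have hg6 : (QuotientGroup.mk (g ^ 6) : Spor.Co1) = e₁ (QuotientGroup.mk b) := by
    rw [QuotientGroup.mk_pow, hg, ← map_pow, ← QuotientGroup.mk_pow, pow_succ, hb5, one_mul]
  have hg6o : orderOf (g ^ 6) = 5 := by
    refine orderOf_eq_prime ?_ fun h => hbQ ?_
    · have h5 : g ^ 5 ∈ Subgroup.center Co0 := by
        rw [← QuotientGroup.eq_one_iff, QuotientGroup.mk_pow, hg, ← map_pow, ← QuotientGroup.mk_pow,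
          hb5, QuotientGroup.mk_one, map_one]
      rw [← pow_mul, show 6 * 5 = 5 * 2 * 3 from rfl, pow_mul, pow_mul]
      rcases center_cases h5 with h | h <;> rw [h]
      · rw [one_pow, one_pow]
      · rw [sq, negCo0_sq, one_pow]
    · rw [h, QuotientGroup.mk_one, eq_comm, map_eq_one_iff e₁ e₁.injective,
        QuotientGroup.eq_one_iff] at hg6
      exact hg6
  have hSdvd : ¬ 5 ^ 2 ∣ Nat.card (classStab frameV) := by
    refine not_five_sq (dvd_mul_of_dvd_right (dvd_of_eq ?_) _)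
    rw [← card_crossStab]
    refine Nat.card_congr (Equiv.subtypeEquivRight fun g => ⟨preservesCross_of_classStab, fun h => ?_⟩)
    obtain ⟨τ, hτ, c, hc, rfl⟩ := eq_monoCo0 h
    exact monoCo0_mem_classStab _ _
  obtain ⟨k, i, hki⟩ := conj_of_prime_order
    (a := (⟨Five.T, Five.T_mem_classStab⟩ : classStab frameV))
    (c := (⟨g ^ 6, pow_mem hgS 6⟩ : classStab frameV))
    (by rw [← Subgroup.orderOf_coe]; exact Five.orderOf_T)
    (by rw [← Subgroup.orderOf_coe]; exact hg6o) hSdvd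
  have hki' : (k : Co0) * g ^ 6 * (k : Co0)⁻¹ = Five.T ^ i := congrArg Subtype.val hki
  obtain ⟨e₂, ψ₂, hψ₂, hval₂, he₂⟩ : ∃ (e₂ : (Subgroup.centralizer ({z} : Set G)) ⧸ Q ≃* Spor.Co1)
      (ψ₂ : leechLattice → Q ⧸ Subgroup.center Q), IsLeechModTwoIso Q e₂ ψ₂ ∧
      (∀ v, ψ₂ v = ψ₁ ((k : Co0)⁻¹ • v)) ∧ ∀ c, e₂ c =
        (QuotientGroup.mk (k : Co0) : Spor.Co1) * e₁ c * (QuotientGroup.mk (k : Co0) : Spor.Co1)⁻¹ :=
    exists_adapted' hψ₁ (k : Co0)
  have hx₂ : ψ₂ frameV = QuotientGroup.mk x := by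
    rw [hval₂, psi_eq_of_cong hψ₁ (inv_mem k.2), hx]
  have hbi : e₂ (QuotientGroup.mk b) = Five.Tbar ^ i := by
    rw [he₂, ← hg6, ← QuotientGroup.mk_inv, ← QuotientGroup.mk_mul, ← QuotientGroup.mk_mul, hki',
      QuotientGroup.mk_pow]
    rfl
  have hi : i % 5 ≠ 0 := fun h0 => hbQ (by
    rw [← QuotientGroup.eq_one_iff, ← map_eq_one_iff e₂ e₂.injective, hbi, Five.Tbar,
      ← QuotientGroup.mk_pow, ← pow_mod_orderOf, Five.orderOf_T, h0, pow_zero, QuotientGroup.mk_one])
  obtain ⟨j, hj⟩ : ∃ j : ℕ, i * j % 5 = 1 := by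
    have : ∀ r < 5, r ≠ 0 → ∃ j < 5, r * j % 5 = 1 := by decide
    obtain ⟨j, -, hj⟩ := this (i % 5) (Nat.mod_lt _ (by norm_num)) hi
    exact ⟨j, by rwa [Nat.mul_mod, Nat.mod_mod, ← Nat.mul_mod] at hj⟩
  have hbj : e₂ (QuotientGroup.mk (b ^ j)) = Five.Tbar := by
    rw [QuotientGroup.mk_pow, map_pow, hbi, ← pow_mul, Five.Tbar, ← QuotientGroup.mk_pow,
      ← pow_mod_orderOf, Five.orderOf_T, hj, pow_one]
  have hbj5 : (b ^ j) ^ 5 = 1 := by rw [← pow_mul, mul_comm, pow_mul, hb5, one_pow]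
  refine haradaNortonType hS hψ₂ hbj hbj5 hx₂ B (Subgroup.eq_of_le_of_card_ge ?_ ?_).symm
  · rw [Subgroup.zpowers_le, SubgroupClass.coe_pow, hbb]
    exact pow_mem b₀.2 j
  · rw [hBp, Nat.card_zpowers, Subgroup.orderOf_coe]
    exact (orderOf_b hbj hbj5).ge

end CfsgLib.MonsterType
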