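import Cfsg.Agent.MonsterType.Setup
import Cfsg.Agent.MonsterType.FrameClass
import Cfsg.Agent.MonsterType.Counting
import Cfsg.Agent.Leech.Orbits
import Cfsg.Agent.S5552

/-!
# Conjugates of `z` inside the extraspecial subgroup
-/

set_option autoImplicit false

namespace CfsgLib.MonsterType

open Cfsg CfsgLib.Leech
open scoped commutatorElement

variable {G : Type*} [Group G] [Finite G] {z : G}
  {Q : Subgroup (Subgroup.centralizer ({z} : Set G))} [Q.Normal]
  {e : (Subgroup.centralizer ({z} : Set G)) ⧸ Q ≃* Spor.Co1}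
  {ψ : leechLattice → Q ⧸ Subgroup.center Q}

/-! ### Classes in the quotient by the centre -/

section classes

variable (hS : IsExtraspecialCentralizerSetting z Q 12) (hψ : IsLeechModTwoIso Q e ψ)
include hS hψ

theorem sqForm_eq_norm (v : leechLattice) :
    sqForm ψ v = ((sqNorm (v : GolayPt → ℤ) / 16 : ℤ) : ZMod 2) :=
  Cfsg.Agent.S5552.result (sqForm ψ) (sqForm_coset hS hψ) (sqForm_quadratic hS hψ)
    (sqForm_co0 hS hψ) (sqForm_ne_zero hS hψ) v

theorem sq_one_iff {v : leechLattice} {q : Q} (h : ψ v = QuotientGroup.mk q) :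
    q * q = 1 ↔ (32 : ℤ) ∣ sqNorm (v : GolayPt → ℤ) := by
  rw [← sqForm_eq_zero_iff hS hψ h, sqForm_eq_norm hS hψ, ZMod.intCast_zmod_eq_zero_iff_dvd]
  have := sixteen_dvd v.2
  push_cast
  omega

theorem commute_iff_dot {v w : leechLattice} {p q : Q} (hp : ψ v = QuotientGroup.mk p)
    (hq : ψ w = QuotientGroup.mk q) :
    Commute p q ↔ (16 : ℤ) ∣ dotInt (v : GolayPt → ℤ) (w : GolayPt → ℤ) := by
  have h := sqForm_add hS hψ v w
  rw [← commForm_eq_zero_iff hS hψ hp hq]
  simp only [sqForm_eq_norm hS hψ, AddSubgroup.coe_add, sqNorm_add] at h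
  have e8 := eight_dvd_dot' v w
  have h1 := sixteen_dvd v.2
  have h2 := sixteen_dvd w.2
  obtain ⟨a, ha⟩ := h1
  obtain ⟨b, hb⟩ := h2
  obtain ⟨c, hc⟩ := e8
  rw [ha, hb, hc, show (16 * a + 2 * (8 * c) + 16 * b) / 16 = a + c + b by omega,
    Int.mul_ediv_cancel_left _ (by norm_num), Int.mul_ediv_cancel_left _ (by norm_num)] at h
  have e : commForm ψ v w = (c : ZMod 2) := by
    push_cast at h
    revert h
    generalize (a : ZMod 2) = a', (b : ZMod 2) = b', (c : ZMod 2) = c', commForm ψ v w = d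
    revert a' b' c' d; decide
  rw [e, hc, ZMod.intCast_zmod_eq_zero_iff_dvd]
  push_cast
  omega
where
  eight_dvd_dot' (v w : leechLattice) : (8 : ℤ) ∣ dotInt (v : GolayPt → ℤ) (w : GolayPt → ℤ) := by
    have h3 := sixteen_dvd (v + w).2
    have h1 := sixteen_dvd v.2
    have h2 := sixteen_dvd w.2
    rw [AddSubgroup.coe_add, sqNorm_add] at h3
    omega

omit [Finite G] in
omit hS in
theorem psi_eq_of_cong {v w : leechLattice} (h : Cong v w) : ψ v = ψ w := (psi_eq_iff hψ v w).2 h

theorem exists_class {x : Q} (hx : x ∉ Subgroup.center Q) : ∃ v : leechLattice,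
    ψ v = QuotientGroup.mk x ∧ (sqNorm (v : GolayPt → ℤ) = 32 ∨ sqNorm (v : GolayPt → ℤ) = 48 ∨
      sqNorm (v : GolayPt → ℤ) = 64) := by
  obtain ⟨v₀, hv₀⟩ := hψ.2.1 (QuotientGroup.mk x)
  obtain ⟨y, hy, hyn, u, hu, he⟩ := exists_short_congr v₀.2
  have hc : Cong v₀ ⟨y, hy⟩ := ⟨⟨u, hu⟩, Subtype.ext (by
    show (v₀ : GolayPt → ℤ) = y + (u + u)
    rw [← two_nsmul, ← he]; abel)⟩
  refine ⟨⟨y, hy⟩, (psi_eq_of_cong hψ hc).symm.trans hv₀, ?_⟩
  have h16 := sixteen_dvd hy
  have h0 : y ≠ 0 := fun h => hx ((QuotientGroup.eq_one_iff x).1 (by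
    rw [← hv₀, psi_eq_of_cong hψ hc, show (⟨y, hy⟩ : leechLattice) = 0 from Subtype.ext h,
      psi_zero hψ]))
  have := min_norm hy h0
  show sqNorm y = 32 ∨ sqNorm y = 48 ∨ sqNorm y = 64
  omega

/-- Lifts of classes in one orbit are conjugate in the centralizer. -/
theorem conj_of_smul {v w : leechLattice} {x y : Q} (hv : ψ v = QuotientGroup.mk x)
    (hw : ψ w = QuotientGroup.mk y) (hy : y ∉ Subgroup.center Q) (g : Co0) (hg : g • v = w) :
    ∃ h : Subgroup.centralizer ({z} : Set G),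
      (QuotientGroup.mk g : Spor.Co1) = e (QuotientGroup.mk h) ∧
      h * (x : Subgroup.centralizer ({z} : Set G)) * h⁻¹ = y := by
  obtain ⟨h, hh⟩ := exists_of_co0 hψ g
  have hc := psi_conj hψ h g hh v x hv
  rw [hg, hw] at hc
  obtain ⟨c, hc', ec⟩ : ∃ c ∈ Subgroup.center Q, (⟨h * x * h⁻¹,
      (inferInstance : Q.Normal).conj_mem (x : Subgroup.centralizer ({z} : Set G)) x.2 h⟩ : Q) = y * c :=
    ⟨_, QuotientGroup.eq.1 hc, by group⟩
  rcases (mem_center_iff hS).1 hc' with rfl | rfl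
  · exact ⟨h, hh, by simpa using congrArg Subtype.val ec⟩
  · obtain ⟨b, hb⟩ := exists_not_commute hS hy
    refine ⟨(b : Subgroup.centralizer ({z} : Set G)) * h, ?_, ?_⟩
    · rw [hh, QuotientGroup.mk_mul, (QuotientGroup.eq_one_iff _).2 b.2, one_mul]
    · have hb' : b * (y * zQ hS) * b⁻¹ = y := by
        have h1 := conj_eq_mul_of_not_commute hS hb
        have hz2 : zQ hS * zQ hS = 1 := by
          rw [← pow_two]
          exact CfsgLib.ExtraspecialBasic.pow_center_eq_one hS.2.2.1 (zQ_mem_center hS)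
        have hcz := Subgroup.mem_center_iff.1 (zQ_mem_center hS)
        calc b * (y * zQ hS) * b⁻¹ = b * y * (zQ hS * b⁻¹) := by group
          _ = b * y * b⁻¹ * zQ hS := by rw [← hcz b⁻¹]; group
          _ = zQ hS * y * zQ hS := by rw [h1]
          _ = zQ hS * zQ hS * y := by rw [mul_assoc, hcz y, mul_assoc]
          _ = y := by rw [hz2, one_mul]
      have h2 := congrArg (fun q : Q => (q : Subgroup.centralizer ({z} : Set G))) hb'
      simp only [Subgroup.coe_mul, Subgroup.coe_inv] at h2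
      have h3 := congrArg Subtype.val ec
      simp only [Subgroup.coe_mul] at h3
      calc (b : Subgroup.centralizer ({z} : Set G)) * h * x * ((b : Subgroup.centralizer ({z} : Set G)) * h)⁻¹
          = (b : Subgroup.centralizer ({z} : Set G)) * (h * x * h⁻¹) *
            (b : Subgroup.centralizer ({z} : Set G))⁻¹ := by group
        _ = y := by rw [h3, h2]

/-- An element of the class stabiliser lifts to an element commuting with a lift of the class. -/
theorem lift_centralising {v : leechLattice} {x : Q} (hv : ψ v = QuotientGroup.mk x)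
    (hx : x ∉ Subgroup.center Q) {g : Co0} (hg : g ∈ classStab v) :
    ∃ h : Subgroup.centralizer ({z} : Set G),
      (QuotientGroup.mk g : Spor.Co1) = e (QuotientGroup.mk h) ∧
      Commute h (x : Subgroup.centralizer ({z} : Set G)) := by
  obtain ⟨h, hh, hc⟩ := conj_of_smul hS hψ hv ((psi_eq_of_cong hψ hg).trans hv) hx g rfl
  exact ⟨h, hh, mul_inv_eq_iff_eq_mul.1 hc⟩

omit hS in
omit [Finite G] in
theorem mem_classStab_of_commute {v : leechLattice} {x : Q} (hv : ψ v = QuotientGroup.mk x)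
    {h : Subgroup.centralizer ({z} : Set G)} (hc : Commute h (x : Subgroup.centralizer ({z} : Set G)))
    {g : Co0} (hg : (QuotientGroup.mk g : Spor.Co1) = e (QuotientGroup.mk h)) : g ∈ classStab v := by
  refine mem_classStab.2 ((psi_eq_iff hψ _ _).1 ?_)
  rw [psi_conj hψ h g hg v x hv, hv]
  congr 1
  exact Subtype.ext (mul_inv_eq_iff_eq_mul.2 hc.eq)

end classes

/-! ### A conjugate of `Q` -/

/-- `Q` as a subgroup of `G`. -/
abbrev inG (Q : Subgroup (Subgroup.centralizer ({z} : Set G))) : Subgroup G :=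
  Q.map (Subgroup.centralizer ({z} : Set G)).subtype

/-- A conjugate of `Q`. -/
abbrev conjQ (Q : Subgroup (Subgroup.centralizer ({z} : Set G))) (g : G) : Subgroup G :=
  (inG Q).map (MulAut.conj g).toMonoidHom

/-- An element of `Q` in `G`. -/
abbrev toG (x : Q) : G := ((x : Subgroup.centralizer ({z} : Set G)) : G)

omit [Finite G] [Q.Normal] in
theorem mem_inG {a : G} : a ∈ inG Q ↔ ∃ q : Q, toG q = a :=
  ⟨fun ⟨c, hc, e⟩ => ⟨⟨c, hc⟩, e⟩, fun ⟨q, e⟩ => ⟨q.1, q.2, e⟩⟩

omit [Finite G] [Q.Normal] in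
theorem mem_conjQ {g a : G} : a ∈ conjQ Q g ↔ g⁻¹ * a * g ∈ inG Q := by
  constructor
  · rintro ⟨b, hb, rfl⟩
    simpa [mul_assoc] using hb
  · intro h
    exact ⟨_, h, by simp [mul_assoc]⟩

omit [Finite G] [Q.Normal] in
theorem inG_le : inG Q ≤ Subgroup.centralizer ({z} : Set G) := by
  rintro _ ⟨c, -, rfl⟩; exact c.2

omit [Finite G] in
theorem inG_conj {h a : G} (hh : h ∈ Subgroup.centralizer ({z} : Set G)) (ha : a ∈ inG Q) :
    h * a * h⁻¹ ∈ inG Q := by
  obtain ⟨q, rfl⟩ := mem_inG.1 ha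
  exact ⟨⟨h, hh⟩ * q * ⟨h, hh⟩⁻¹,
    (inferInstance : Q.Normal).conj_mem (q : Subgroup.centralizer ({z} : Set G)) q.2 _, rfl⟩

section pair

variable (hS : IsExtraspecialCentralizerSetting z Q 12) {g : G} {x : Q}
  (hgx : g * z * g⁻¹ = toG x)
include hS

omit [Q.Normal] in
theorem z_mem_inG : z ∈ inG Q := mem_inG.2 ⟨zQ hS, rfl⟩

omit [Q.Normal] in
theorem comm_inG {a b : G} (ha : a ∈ inG Q) (hb : b ∈ inG Q) : ⁅a, b⁆ = 1 ∨ ⁅a, b⁆ = z := by
  obtain ⟨p, rfl⟩ := mem_inG.1 ha
  obtain ⟨q, rfl⟩ := mem_inG.1 hb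
  rcases commutator_cases hS p q with h | h
  · exact Or.inl (congrArg toG h)
  · exact Or.inr (congrArg toG h)

omit [Q.Normal] in
theorem sq_inG {a : G} (ha : a ∈ inG Q) : a * a = 1 ∨ a * a = z := by
  obtain ⟨p, rfl⟩ := mem_inG.1 ha
  rcases sq_cases hS p with h | h
  · exact Or.inl (congrArg toG h)
  · exact Or.inr (congrArg toG h)

omit [Q.Normal] in
theorem commute_z {a : G} (ha : a ∈ inG Q) : Commute a z :=
  Subgroup.mem_centralizer_singleton_iff.1 (inG_le ha)

include hgx

omit [Q.Normal] in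
theorem x_mem_conjQ : toG x ∈ conjQ Q g := by
  rw [mem_conjQ, ← hgx]
  simpa [mul_assoc] using z_mem_inG hS

omit [Q.Normal] in
theorem conjQ_commute {a : G} (ha : a ∈ conjQ Q g) : Commute a (toG x) := by
  have h := (commute_z hS (mem_conjQ.1 ha)).map (MulAut.conj g).toMonoidHom
  simpa [hgx, mul_assoc] using h

omit [Q.Normal] in
theorem comm_conjQ {a b : G} (ha : a ∈ conjQ Q g) (hb : b ∈ conjQ Q g) :
    ⁅a, b⁆ = 1 ∨ ⁅a, b⁆ = toG x := by
  obtain ⟨a', ha', rfl⟩ := ha
  obtain ⟨b', hb', rfl⟩ := hb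
  rw [← map_commutatorElement]
  rcases comm_inG hS ha' hb' with h | h <;> rw [h]
  · exact Or.inl (map_one _)
  · exact Or.inr hgx

omit [Q.Normal] in
theorem sq_conjQ {a : G} (ha : a ∈ conjQ Q g) : a * a = 1 ∨ a * a = toG x := by
  obtain ⟨a', ha', rfl⟩ := ha
  rw [← map_mul]
  rcases sq_inG hS ha' with h | h <;> rw [h]
  · exact Or.inl (map_one _)
  · exact Or.inr hgx

omit hS in
theorem conjQ_conj {h a : G} (hh : Commute h (toG x)) (ha : a ∈ conjQ Q g) :
    h * a * h⁻¹ ∈ conjQ Q g := by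
  rw [mem_conjQ] at ha ⊢
  have hc : g⁻¹ * h * g ∈ Subgroup.centralizer ({z} : Set G) := by
    rw [Subgroup.mem_centralizer_singleton_iff]
    have h' := hh.eq
    rw [← hgx] at h'
    calc g⁻¹ * h * g * z = g⁻¹ * (h * (g * z * g⁻¹)) * g := by group
      _ = g⁻¹ * (g * z * g⁻¹ * h) * g := by rw [h']
      _ = z * (g⁻¹ * h * g) := by group
  have := inG_conj (Q := Q) hc ha
  convert this using 1
  group

omit [Q.Normal] hgx in
theorem card_conjQ : Nat.card (conjQ Q g) = 2 ^ 25 := by
  rw [Subgroup.card_map_of_injective (MulAut.conj g).injective,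
    Subgroup.card_map_of_injective (Subgroup.subtype_injective _), hS.2.2.2.1]

omit [Q.Normal] in
/-- In the centralizer of `x` inside `Q`, commutators with the conjugate lie in both. -/
theorem z_commute_x : Commute z (toG x) := (commute_z hS (mem_inG.2 ⟨x, rfl⟩)).symm

variable (hx : x ∉ Subgroup.center Q)
include hx

omit [Q.Normal] hgx in
theorem x_sq_ne : toG x ≠ z ∧ toG x ≠ 1 := by
  refine ⟨fun h => hx ?_, fun h => hx ?_⟩
  · rw [show x = zQ hS from Subtype.ext (Subtype.ext h)]; exact zQ_mem_center hS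
  · rw [show x = 1 from Subtype.ext (Subtype.ext h)]; exact one_mem _

omit [Q.Normal] in
theorem x_order : toG x * toG x = 1 := by
  rw [← hgx]
  have hz2 : z * z = 1 := by rw [← pow_two, ← hS.1]; exact pow_orderOf_eq_one z
  calc g * z * g⁻¹ * (g * z * g⁻¹) = g * (z * z) * g⁻¹ := by group
    _ = 1 := by rw [hz2, mul_one, mul_inv_cancel]

/-- Two elements of `Q` commuting with `x` have commutator one if one also lies in the conjugate
and `z` does not. -/
theorem commute_of_mem_both (hzg : z ∉ conjQ Q g) {a r : G} (ha : a ∈ inG Q)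
    (hax : Commute a (toG x)) (hr : r ∈ inG Q) (hr' : r ∈ conjQ Q g) : Commute a r := by
  rcases comm_inG hS ha hr with h | h
  · exact commutatorElement_eq_one_iff_commute.1 h
  · refine absurd ?_ hzg
    have hm : ⁅a, r⁆ ∈ conjQ Q g := by
      rw [commutatorElement_def]
      exact Subgroup.mul_mem _ (conjQ_conj hgx hax hr') (Subgroup.inv_mem _ hr')
    rwa [h] at hm

/-- Without `z`, the meeting of `Q` with the conjugate is `{1, x}`. -/
theorem both_eq (hzg : z ∉ conjQ Q g) {r : G} (hr : r ∈ inG Q) (hr' : r ∈ conjQ Q g) :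
    r = 1 ∨ r = toG x := by
  obtain ⟨u, rfl⟩ := mem_inG.1 hr
  have hcx : ∀ a : Q, Commute a x → Commute a u := fun a ha =>
    Subtype.ext (Subtype.ext (commute_of_mem_both hS hgx hx hzg (mem_inG.2 ⟨a, rfl⟩)
      (congrArg toG ha.eq) hr hr'))
  obtain ⟨b, hb⟩ := exists_not_commute hS hx
  have hcen : ∀ w : Q, (∀ a : Q, Commute a x → Commute a w) → Commute b w →
      w ∈ Subgroup.center Q := by
    intro w hw hbw
    refine Subgroup.mem_center_iff.2 fun a => ?_
    by_cases ha : Commute a x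
    · exact (hw a ha).eq
    · have hba : Commute (b⁻¹ * a) x := by
        have e1 := conj_eq_mul_of_not_commute hS hb
        have e2 := conj_eq_mul_of_not_commute hS ha
        show b⁻¹ * a * x = x * (b⁻¹ * a)
        calc b⁻¹ * a * x = b⁻¹ * (a * x * a⁻¹) * a := by group
          _ = b⁻¹ * (b * x * b⁻¹) * a := by rw [e2, ← e1]
          _ = x * (b⁻¹ * a) := by group
      have h4 : Commute (b * (b⁻¹ * a)) w := hbw.mul_left (hw _ hba)
      rw [mul_inv_cancel_left] at h4
      exact h4.eq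
  obtain ⟨hxz, -⟩ := x_sq_ne hS hx
  have hzx : z * toG x ∉ conjQ Q g := fun h => hzg (by
    have := Subgroup.mul_mem _ h (x_mem_conjQ hS hgx)
    rwa [mul_assoc, x_order hS hgx hx, mul_one] at this)
  by_cases hbu : Commute b u
  · rcases (mem_center_iff hS).1 (hcen u hcx hbu) with rfl | rfl
    · exact Or.inl rfl
    · exact absurd hr' hzg
  · have h5 : Commute b (u * x) := by
      show b * (u * x) = u * x * b
      have hz2 : zQ hS * zQ hS = 1 := by
        rw [← pow_two]
        exact CfsgLib.ExtraspecialBasic.pow_center_eq_one hS.2.2.1 (zQ_mem_center hS)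
      calc b * (u * x) = (b * u * b⁻¹) * (b * x * b⁻¹) * b := by group
        _ = zQ hS * u * (zQ hS * x) * b := by
          rw [conj_eq_mul_of_not_commute hS hbu, conj_eq_mul_of_not_commute hS hb]
        _ = zQ hS * (u * zQ hS) * x * b := by group
        _ = zQ hS * zQ hS * (u * x) * b := by
          rw [Subgroup.mem_center_iff.1 (zQ_mem_center hS) u]; group
        _ = u * x * b := by rw [hz2, one_mul]
    have hx2 : x * x = 1 := Subtype.ext (Subtype.ext (x_order hS hgx hx))
    have eu : u = u * x * x := by rw [mul_assoc, hx2, mul_one]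
    rcases (mem_center_iff hS).1 (hcen (u * x) (fun a ha => (hcx a ha).mul_right ha) h5) with h | h
    · rw [h, one_mul] at eu
      exact Or.inr (congrArg toG eu)
    · rw [h] at eu
      refine absurd ?_ hzx
      have := hr'
      rw [show toG u = z * toG x from congrArg toG eu] at this
      exact this

omit [Q.Normal] in
theorem index_two_of_mem (hzg : z ∈ conjQ Q g) :
    2 ^ 24 ≤ Nat.card (conjQ Q g ⊓ Subgroup.centralizer ({z} : Set G) : Subgroup G) := by
  classical
  have h := card_le_fix_mul (z := z) (P := conjQ Q g)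
    (fun a ha => Subgroup.mul_mem _ (Subgroup.mul_mem _ hzg ha) (Subgroup.inv_mem _ hzg))
    ({1, toG x} : Set G) (fun a ha => by
      have e : a⁻¹ * (z * a * z⁻¹) = ⁅a⁻¹, z⁆ := by rw [commutatorElement_def, inv_inv]; group
      rw [e]
      rcases comm_conjQ hS hgx (Subgroup.inv_mem _ ha) hzg with h | h <;> rw [h] <;> simp)
  have h2 : ({1, toG x} : Set G).ncard ≤ 2 := by
    refine (Set.ncard_insert_le _ _).trans ?_
    simp
  rw [card_conjQ hS] at h
  have := h.trans (Nat.mul_le_mul_left _ h2)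
  omega

omit [Q.Normal] hgx in
theorem card_centralizer_x :
    Nat.card (Subgroup.centralizer ({x} : Set Q)) ≤ 2 ^ 24 := by
  have h1 := Subgroup.card_subgroup_dvd_card (Subgroup.centralizer ({x} : Set Q))
  rw [hS.2.2.2.1] at h1
  obtain ⟨k, hk, e⟩ := (Nat.dvd_prime_pow Nat.prime_two).1 h1
  rw [e]
  refine Nat.pow_le_pow_right (by norm_num) ?_
  by_contra hlt
  have : Subgroup.centralizer ({x} : Set Q) = ⊤ := Subgroup.eq_top_of_card_eq _ (by
    rw [e, hS.2.2.2.1]; congr 1; omega)
  obtain ⟨b, hb⟩ := exists_not_commute hS hx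
  exact hb (Subgroup.mem_centralizer_singleton_iff.1 (this ▸ Subgroup.mem_top b))

/-- The conjugate does not meet the centralizer of `z` inside `Q` only. -/
theorem not_le_inG (hwit : ∃ p q : Q, Commute p x ∧ Commute q x ∧ ¬ Commute p q) :
    ¬ conjQ Q g ⊓ Subgroup.centralizer ({z} : Set G) ≤ inG Q := by
  classical
  intro hle
  set R := conjQ Q g ⊓ Subgroup.centralizer ({z} : Set G) with hR
  by_cases hzg : z ∈ conjQ Q g
  · -- abelian of index two
    have hab : ∀ a ∈ R, ∀ b ∈ R, Commute a b := by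
      intro a ha b hb
      rcases comm_inG hS (hle ha) (hle hb) with h | h
      · exact commutatorElement_eq_one_iff_commute.1 h
      rcases comm_conjQ hS hgx ha.1 hb.1 with h' | h'
      · exact commutatorElement_eq_one_iff_commute.1 h'
      · exact absurd (h'.symm.trans h) (x_sq_ne hS hx).1
    let j : Subgroup.centralizer ({x} : Set Q) → G := fun a => toG a.1
    have hsub : (R : Set G) ⊆ Set.range j := fun a ha => by
      obtain ⟨q, rfl⟩ := mem_inG.1 (hle ha)
      exact ⟨⟨q, Subgroup.mem_centralizer_singleton_iff.2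
        (Subtype.ext (Subtype.ext (conjQ_commute hS hgx ha.1).eq))⟩, rfl⟩
    have hjinj : Function.Injective j := fun a b h => Subtype.ext (Subtype.ext (Subtype.ext h))
    have heq : (R : Set G) = Set.range j := by
      refine Set.eq_of_subset_of_ncard_le hsub ?_ (Set.toFinite _)
      rw [← Nat.card_coe_set_eq, Nat.card_range_of_injective hjinj, ← Nat.card_coe_set_eq]
      exact (card_centralizer_x hS hx).trans (index_two_of_mem hS hgx hx hzg)
    obtain ⟨p, q, hp, hq, hpq⟩ := hwit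
    refine hpq (Subtype.ext (Subtype.ext (hab (toG p) ?_ (toG q) ?_).eq))
    · show toG p ∈ (R : Set G)
      rw [heq]
      exact ⟨⟨p, Subgroup.mem_centralizer_singleton_iff.2 hp⟩, rfl⟩
    · show toG q ∈ (R : Set G)
      rw [heq]
      exact ⟨⟨q, Subgroup.mem_centralizer_singleton_iff.2 hq⟩, rfl⟩
  · have hR2 : Nat.card R ≤ 2 := by
      have hsub : (R : Set G) ⊆ {1, toG x} := fun r hr => both_eq hS hgx hx hzg (hle hr) hr.1
      refine le_trans ((Nat.card_coe_set_eq (R : Set G)).le.trans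
        (Set.ncard_le_ncard hsub (Set.toFinite _))) ?_
      refine (Set.ncard_insert_le _ _).trans ?_
      simp
    have h := card_le_two_mul_fix_sq (z := z) (P := conjQ Q g)
      (fun a ha => conjQ_conj hgx (z_commute_x hS hgx) ha)
      (by rw [← pow_two, ← hS.1]; exact pow_orderOf_eq_one z) (z_commute_x hS hgx)
      (x_order hS hgx hx) (fun a ha => sq_conjQ hS hgx ha)
    rw [card_conjQ hS] at h
    have h4 := h.trans (Nat.mul_le_mul hR2 (Nat.mul_le_mul_left _ hR2))
    norm_num at h4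

end pair

/-! ### The image of the conjugate in the automorphism group of the lattice -/

/-- The preimage in `Co0` of the image of the conjugate. -/
def imageN (e : (Subgroup.centralizer ({z} : Set G)) ⧸ Q ≃* Spor.Co1) (g : G) : Subgroup Co0 :=
  ((((conjQ Q g ⊓ Subgroup.centralizer ({z} : Set G)).subgroupOf
    (Subgroup.centralizer ({z} : Set G))).map (QuotientGroup.mk' Q)).map e.toMonoidHom).comap
      (QuotientGroup.mk' (Subgroup.center Co0))

omit [Finite G] in
theorem mem_imageN {g : G} {n : Co0} : n ∈ imageN e g ↔ ∃ r : Subgroup.centralizer ({z} : Set G),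
    (r : G) ∈ conjQ Q g ∧ (QuotientGroup.mk n : Spor.Co1) = e (QuotientGroup.mk r) := by
  constructor
  · rintro ⟨_, ⟨r, hr, rfl⟩, he⟩
    exact ⟨r, hr.1, he.symm⟩
  · rintro ⟨r, hr, he⟩
    exact ⟨_, ⟨r, ⟨hr, r.2⟩, rfl⟩, he.symm⟩

section image

variable (hS : IsExtraspecialCentralizerSetting z Q 12) (hψ : IsLeechModTwoIso Q e ψ)
  {g : G} {x : Q} (hgx : g * z * g⁻¹ = toG x) (hx : x ∉ Subgroup.center Q)
  {v : leechLattice} (hv : ψ v = QuotientGroup.mk x)
include hS

omit hψ hgx hx hv in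
theorem imageN_isPGroup : IsPGroup 2 (imageN e g) := by
  have h1 : IsPGroup 2 (conjQ Q g ⊓ Subgroup.centralizer ({z} : Set G) : Subgroup G) :=
    (IsPGroup.of_card (card_conjQ hS (g := g))).to_le inf_le_left
  have h2 := h1.comap_of_injective (Subgroup.centralizer ({z} : Set G)).subtype
    (Subgroup.subtype_injective _)
  refine ((h2.map (QuotientGroup.mk' Q)).map e.toMonoidHom).comap_of_ker_isPGroup _ ?_
  rw [QuotientGroup.ker_mk']
  refine IsPGroup.of_card (n := 1) ?_
  rw [← SetLike.coe_sort_coe, Nat.card_coe_set_eq, center_eq,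
    Set.ncard_pair (Ne.symm negCo0_ne_one), pow_one]

include hψ hgx hv

omit hx in
theorem imageN_le : imageN e g ≤ classStab v := by
  intro n hn
  obtain ⟨r, hr, he⟩ := mem_imageN.1 hn
  exact mem_classStab_of_commute hψ hv (Subtype.ext (conjQ_commute hS hgx hr).eq) he

include hx

theorem imageN_conj {m : Co0} (hm : m ∈ classStab v) {n : Co0} (hn : n ∈ imageN e g) :
    m * n * m⁻¹ ∈ imageN e g := by
  obtain ⟨r, hr, he⟩ := mem_imageN.1 hn
  obtain ⟨h, hh, hc⟩ := lift_centralising hS hψ hv hx hm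
  refine mem_imageN.2 ⟨h * r * h⁻¹, conjQ_conj hgx (congrArg Subtype.val hc.eq) hr, ?_⟩
  rw [QuotientGroup.mk_mul, QuotientGroup.mk_mul, QuotientGroup.mk_inv, hh, he,
    QuotientGroup.mk_mul, QuotientGroup.mk_mul, QuotientGroup.mk_inv, map_mul, map_mul, map_inv]

omit hψ hgx hx hv in
omit [Finite G] in
theorem negCo0_mem_imageN : negCo0 ∈ imageN e g := by
  refine mem_imageN.2 ⟨1, by simp, ?_⟩
  rw [QuotientGroup.mk_one, map_one, (QuotientGroup.eq_one_iff _).2 negCo0_mem_center]

theorem le_inG_of_central (hN : ∀ n ∈ imageN e g, n ∈ Subgroup.center Co0) :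
    conjQ Q g ⊓ Subgroup.centralizer ({z} : Set G) ≤ inG Q := by
  rintro r ⟨hr, hrC⟩
  obtain ⟨n, hn⟩ := QuotientGroup.mk_surjective (e (QuotientGroup.mk ⟨r, hrC⟩))
  have := hN n (mem_imageN.2 ⟨⟨r, hrC⟩, hr, hn⟩)
  have h1 : e (QuotientGroup.mk ⟨r, hrC⟩) = 1 := by
    rw [← hn, (QuotientGroup.eq_one_iff n).2 this]
  rw [map_eq_one_iff e e.injective, QuotientGroup.eq_one_iff] at h1
  exact mem_inG.2 ⟨⟨_, h1⟩, rfl⟩

end image

end CfsgLib.MonsterType
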