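import Cfsg.Agent.MonsterType.QConj

/-!
# Classes of conjugates of `z` inside the extraspecial subgroup and their conjugates of `Q`
-/

set_option autoImplicit false

namespace CfsgLib.MonsterType

open Cfsg CfsgLib.Leech CfsgLib.Mathieu
open scoped commutatorElement symmDiff

variable {G : Type*} [Group G] [Finite G] {z : G}
  {Q : Subgroup (Subgroup.centralizer ({z} : Set G))} [Q.Normal]
  {e : (Subgroup.centralizer ({z} : Set G)) ⧸ Q ≃* Spor.Co1}
  {ψ : leechLattice → Q ⧸ Subgroup.center Q}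

theorem witness_row : ∃ r ∈ codeRows, r.testBit 1 ≠ r.testBit 2 ∧ r.testBit 0 = r.testBit 23 := by
  decide +kernel

theorem witness_dots : ∀ r ∈ codeRows, r.testBit 1 ≠ r.testBit 2 → r.testBit 0 = r.testBit 23 →
    leechB (twiceMask r) = true ∧ ¬ (16 : ℤ) ∣ dotInt (pairFun (pt 1) (pt 2)) (twiceMask r) ∧
    (16 : ℤ) ∣ dotInt (twiceMask r) (pairFun none (some 0)) ∧
    (16 : ℤ) ∣ dotInt (twiceMask r) (eight none) := by decide +kernel

theorem witness_pair : (16 : ℤ) ∣ dotInt (pairFun (pt 1) (pt 2)) (pairFun none (some 0)) ∧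
    (16 : ℤ) ∣ dotInt (pairFun (pt 1) (pt 2)) (eight none) := by decide +kernel

variable (hS : IsExtraspecialCentralizerSetting z Q 12) (hψ : IsLeechModTwoIso Q e ψ)
include hS hψ

theorem exists_noncommuting {v : leechLattice} (hv : v = shortV ∨ v = frameV) {x : Q}
    (hx : ψ v = QuotientGroup.mk x) : ∃ p q : Q, Commute p x ∧ Commute q x ∧ ¬ Commute p q := by
  obtain ⟨r, hr, h1, h2⟩ := witness_row
  obtain ⟨hL, hne, hs, hf⟩ := witness_dots r hr h1 h2
  let w : leechLattice := ⟨twiceMask r, leechB_iff.1 hL⟩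
  refine ⟨lift ψ (pairV (pt 1) (pt 2)), lift ψ w, ?_, ?_, ?_⟩
  · rw [commute_iff_dot hS hψ (psi_lift _) hx]
    rcases hv with rfl | rfl
    exacts [witness_pair.1, witness_pair.2]
  · rw [commute_iff_dot hS hψ (psi_lift _) hx]
    rcases hv with rfl | rfl
    exacts [hs, hf]
  · rw [commute_iff_dot hS hψ (psi_lift _) (psi_lift _)]
    exact hne

theorem not_mem_center {v : leechLattice} {x : Q} (hx : ψ v = QuotientGroup.mk x)
    (h0 : sqNorm (v : GolayPt → ℤ) ≠ 0) (h64 : sqNorm (v : GolayPt → ℤ) ≤ 64) :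
    x ∉ Subgroup.center Q := by
  intro hc
  obtain ⟨u, hu⟩ := (hψ.2.2.1 v).1 (hx.trans ((QuotientGroup.eq_one_iff x).2 hc))
  have e : (v : GolayPt → ℤ) = (2 : ℤ) • (u : GolayPt → ℤ) := by rw [hu, two_zsmul]; rfl
  have hne : (2 : ℤ) • (u : GolayPt → ℤ) ≠ 0 := fun h => h0 (by rw [e, h]; simp [sqNorm])
  have := norm_two_smul u.2 hne
  rw [← e] at this
  omega

/-- A lift of a short class is not conjugate to `z`. -/
theorem not_conj_short {v : leechLattice} (hn : sqNorm (v : GolayPt → ℤ) = 32) {x : Q}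
    (hv : ψ v = QuotientGroup.mk x) (g : G) : g * z * g⁻¹ ≠ toG x := by
  intro hgx
  obtain ⟨m, hm⟩ := transitive_norm32 v shortV hn (by decide +kernel)
  obtain ⟨y, hy⟩ : ∃ y : Q, ψ shortV = QuotientGroup.mk y := ⟨_, psi_lift _⟩
  have hyc : y ∉ Subgroup.center Q :=
    not_mem_center hS hψ hy (by decide +kernel) (by decide +kernel)
  obtain ⟨h, -, hh⟩ := conj_of_smul hS hψ hv hy hyc m hm
  have hgy : ((h : G) * g) * z * ((h : G) * g)⁻¹ = toG y := by
    calc ((h : G) * g) * z * ((h : G) * g)⁻¹ = (h : G) * (g * z * g⁻¹) * (h : G)⁻¹ := by group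
      _ = toG y := by rw [hgx]; exact congrArg Subtype.val hh
  refine not_le_inG hS hgy hyc (exists_noncommuting hS hψ (Or.inl rfl) hy) ?_
  refine le_inG_of_central hS hψ hgy hyc hy ?_
  exact short_core _ (imageN_isPGroup hS) (imageN_le hS hψ hgy hy)
    (fun a ha n hn => imageN_conj hS hψ hgy hyc hy ha hn)

omit hψ in
omit [Q.Normal] in
theorem sq_toG_conj {x : Q} {g : G} (hgx : g * z * g⁻¹ = toG x) :
    x * x = 1 ∧ (toG x ≠ z → x ∉ Subgroup.center Q) := by
  have hz2 : z * z = 1 := by rw [← pow_two, ← hS.1]; exact pow_orderOf_eq_one z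
  refine ⟨Subtype.ext (Subtype.ext ?_), fun hne hc => ?_⟩
  · show toG x * toG x = 1
    rw [← hgx]
    calc g * z * g⁻¹ * (g * z * g⁻¹) = g * (z * z) * g⁻¹ := by group
      _ = 1 := by rw [hz2, mul_one, mul_inv_cancel]
  · rcases (mem_center_iff hS).1 hc with rfl | rfl
    · refine z_ne_one hS ?_
      have h' : g * z * g⁻¹ = 1 := hgx
      calc z = g⁻¹ * (g * z * g⁻¹) * g := by group
        _ = 1 := by rw [h']; group
    · exact hne rfl

/-- The conjugates of `z` in `Q` other than `z` have classes of norm 64. -/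
theorem class_of_conj {x : Q} (hc : IsConj z (toG x)) (hne : toG x ≠ z) :
    ∃ v : leechLattice, sqNorm (v : GolayPt → ℤ) = 64 ∧ ψ v = QuotientGroup.mk x := by
  obtain ⟨g, hg⟩ := isConj_iff.1 hc
  obtain ⟨hsq, hcen⟩ := sq_toG_conj hS hg
  obtain ⟨v, hv, h | h | h⟩ := exists_class hS hψ (hcen hne)
  · exact absurd hg (not_conj_short hS hψ h hv g)
  · have := (sq_one_iff hS hψ hv).1 hsq
    rw [h] at this
    norm_num at this
  · exact ⟨v, h, hv⟩

/-- All lifts of classes of norm 64 are conjugates of `z`. -/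
theorem conj_of_class {x : Q} {v : leechLattice} (hn : sqNorm (v : GolayPt → ℤ) = 64)
    (hv : ψ v = QuotientGroup.mk x) : IsConj z (toG x) ∧ toG x ≠ z := by
  have hxc := not_mem_center hS hψ hv (by omega) (by omega)
  refine ⟨?_, fun h => hxc ?_⟩
  · obtain ⟨g, ⟨hgC, hgQ⟩, hgne⟩ := hS.2.2.2.2
    let x₀ : Q := ⟨_, hgQ⟩
    have hc₀ : IsConj z (toG x₀) := isConj_iff.2 ⟨g, rfl⟩
    obtain ⟨w, hwn, hw⟩ := class_of_conj hS hψ hc₀ hgne
    obtain ⟨m, hm⟩ := transitive_norm64 w v hwn hn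
    obtain ⟨h, -, hh⟩ := conj_of_smul hS hψ hw hv hxc m hm
    exact hc₀.trans (isConj_iff.2 ⟨(h : G), congrArg Subtype.val hh⟩)
  · rw [show x = zQ hS from Subtype.ext (Subtype.ext h)]
    exact zQ_mem_center hS

/-- The centralizer is transitive on conjugates of `z` in `Q` other than `z`. -/
theorem conj_transitive {x y : Q} (hx : IsConj z (toG x)) (hx' : toG x ≠ z)
    (hy : IsConj z (toG y)) (hy' : toG y ≠ z) :
    ∃ h : Subgroup.centralizer ({z} : Set G), h * (x : Subgroup.centralizer ({z} : Set G)) * h⁻¹ = y := by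
  obtain ⟨v, hvn, hv⟩ := class_of_conj hS hψ hx hx'
  obtain ⟨w, hwn, hw⟩ := class_of_conj hS hψ hy hy'
  obtain ⟨m, hm⟩ := transitive_norm64 v w hvn hwn
  obtain ⟨h, -, hh⟩ := conj_of_smul hS hψ hv hw (not_mem_center hS hψ hw (by omega) (by omega)) m hm
  exact ⟨h, hh⟩

/-- The centralizer is transitive on the other involutions of `Q`. -/
theorem invol_transitive {x y : Q} (hx2 : x * x = 1) (hxc : x ∉ Subgroup.center Q)
    (hx : ¬ IsConj z (toG x)) (hy2 : y * y = 1) (hyc : y ∉ Subgroup.center Q)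
    (hy : ¬ IsConj z (toG y)) :
    ∃ h : Subgroup.centralizer ({z} : Set G), h * (x : Subgroup.centralizer ({z} : Set G)) * h⁻¹ = y := by
  have key : ∀ u : Q, u * u = 1 → u ∉ Subgroup.center Q → ¬ IsConj z (toG u) →
      ∃ v : leechLattice, sqNorm (v : GolayPt → ℤ) = 32 ∧ ψ v = QuotientGroup.mk u := by
    intro u hu2 huc hu
    obtain ⟨v, hv, h | h | h⟩ := exists_class hS hψ huc
    · exact ⟨v, h, hv⟩
    · have := (sq_one_iff hS hψ hv).1 hu2
      rw [h] at this
      norm_num at this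
    · exact absurd (conj_of_class hS hψ h hv).1 hu
  obtain ⟨v, hvn, hv⟩ := key x hx2 hxc hx
  obtain ⟨w, hwn, hw⟩ := key y hy2 hyc hy
  obtain ⟨m, hm⟩ := transitive_norm32 v w hvn hwn
  obtain ⟨h, -, hh⟩ := conj_of_smul hS hψ hv hw hyc m hm
  exact ⟨h, hh⟩

/-! ### The conjugate of `Q` belonging to a class of norm 64 -/

section frame

variable {g : G} {x : Q} (hgx : g * z * g⁻¹ = toG x) (hv : ψ frameV = QuotientGroup.mk x)
include hgx hv

omit hgx in
theorem frame_not_center : x ∉ Subgroup.center Q :=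
  not_mem_center hS hψ hv (by decide +kernel) (by decide +kernel)

theorem frame_image : (∀ n ∈ imageN e g, ∃ (c : Finset GolayPt)
      (hc : c ∈ supports (golayCode : Set (GolayPt → ZMod 2))), n = monoCo0 1 (one_mem _) c hc) ∧
    ∀ (c : Finset GolayPt) (hc : c ∈ supports (golayCode : Set (GolayPt → ZMod 2))),
      monoCo0 1 (one_mem _) c hc ∈ imageN e g := by
  have hxc := frame_not_center hS hψ hv
  obtain ⟨h1, h2⟩ := frame_core _ (imageN_isPGroup hS) (imageN_le hS hψ hgx hv)
    (fun a ha n hn => imageN_conj hS hψ hgx hxc hv ha hn) (negCo0_mem_imageN hS)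
  refine ⟨h1, h2.resolve_left fun hcen => ?_⟩
  exact not_le_inG hS hgx hxc (exists_noncommuting hS hψ (Or.inr rfl) hv)
    (le_inG_of_central hS hψ hgx hxc hv hcen)

theorem frame_z_mem : z ∈ conjQ Q g := by
  by_contra hzg
  have hxc := frame_not_center hS hψ hv
  have hc : setOf24 4038912 ∈ supports (golayCode : Set (GolayPt → ZMod 2)) :=
    setOf24_mem_supports (by decide +kernel)
  let w : leechLattice := ⟨twiceMask 13062145, leechB_iff.1 (by decide +kernel)⟩
  let s := monoCo0 1 (one_mem _) (setOf24 4038912) hc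
  obtain ⟨r, hr, hrs⟩ := mem_imageN.1 ((frame_image hS hψ hgx hv).2 _ hc)
  obtain ⟨a, ha⟩ : ∃ a : Q, ψ w = QuotientGroup.mk a := ⟨_, psi_lift _⟩
  have hax : Commute (toG a) (toG x) := by
    have : Commute a x := (commute_iff_dot hS hψ ha hv).2 (by decide +kernel)
    exact congrArg toG this.eq
  let b : Q := ⟨r * a * r⁻¹, (inferInstance : Q.Normal).conj_mem (a : Subgroup.centralizer ({z} : Set G)) a.2 r⟩
  have hb : ψ (s • w) = QuotientGroup.mk b := psi_conj hψ r s hrs w a ha
  -- the commutator lies in both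
  have h1 : toG (b * a⁻¹) ∈ conjQ Q g := by
    have e : toG (b * a⁻¹) = (r : G) * (toG a * (r : G)⁻¹ * (toG a)⁻¹) := by
      show (r : G) * toG a * (r : G)⁻¹ * (toG a)⁻¹ = _
      group
    rw [e]
    exact Subgroup.mul_mem _ hr (conjQ_conj hgx hax (Subgroup.inv_mem _ hr))
  have key : ψ (s • w) = ψ w ∨ ψ (s • w) = ψ (w + frameV) := by
    rcases both_eq hS hgx hxc hzg (mem_inG.2 ⟨_, rfl⟩) h1 with h | h
    · left
      rw [hb, ha]
      exact congrArg QuotientGroup.mk (mul_inv_eq_one.1 (Subtype.ext (Subtype.ext h)))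
    · right
      have h' : b = x * a := mul_inv_eq_iff_eq_mul.1 (Subtype.ext (Subtype.ext h))
      rw [hb, h', add_comm w frameV, hψ.1, ha, hv, QuotientGroup.mk_mul]
  have h32 : sqNorm ((s • w : leechLattice) : GolayPt → ℤ) = 32 := by
    rw [co0_norm]; decide +kernel
  rcases key with h | h
  · rcases (show Cong (s • w) w from (psi_eq_iff hψ _ _).1 h).eq_or_neg h32 (by decide +kernel) with e' | e'
    · refine absurd (congrArg Subtype.val e') ?_
      show monoFun 1 (setOf24 4038912) (twiceMask 13062145) ≠ twiceMask 13062145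
      decide +kernel
    · refine absurd (congrArg Subtype.val e') ?_
      show monoFun 1 (setOf24 4038912) (twiceMask 13062145) ≠ -twiceMask 13062145
      decide +kernel
  · have h' : Cong (s • w) (w - frameV) :=
      Cong.trans ((psi_eq_iff hψ _ _).1 h) ⟨frameV, by abel⟩
    have h64 : sqNorm ((w - frameV : leechLattice) : GolayPt → ℤ) = 64 := by decide +kernel
    rcases h'.eq_or_neg h32 (by omega) with e' | e' <;> rw [e'] at h32
    · omega
    · rw [AddSubgroup.coe_neg] at h32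
      simp only [sqNorm, Pi.neg_apply, neg_sq] at h32 h64
      omega

omit [Finite G] hS hψ hgx hv in
omit [Q.Normal] in
theorem natCard_le_of_proper {H K : Subgroup G} (hle : H ≤ K) {n : ℕ} (hK : Nat.card K = 2 ^ (n + 1))
    (hne : H ≠ K) [Finite K] : Nat.card H ≤ 2 ^ n := by
  have h1 := Subgroup.card_dvd_of_le hle
  rw [hK] at h1
  obtain ⟨k, hk, e⟩ := (Nat.dvd_prime_pow Nat.prime_two).1 h1
  rw [e]
  refine Nat.pow_le_pow_right (by norm_num) ?_
  by_contra hlt
  refine hne (Subgroup.eq_of_le_of_card_ge hle ?_)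
  rw [e, hK]
  exact Nat.pow_le_pow_right (by norm_num) (by omega)

theorem frame_card_part :
    Nat.card (conjQ Q g ⊓ Subgroup.centralizer ({z} : Set G) : Subgroup G) = 2 ^ 24 := by
  have hxc := frame_not_center hS hψ hv
  have hzg := frame_z_mem hS hψ hgx hv
  refine le_antisymm (natCard_le_of_proper inf_le_left (card_conjQ hS) fun h => ?_)
    (index_two_of_mem hS hgx hxc hzg)
  -- otherwise `z` would be central in the conjugate
  have hall : ∀ a ∈ conjQ Q g, Commute a z := fun a ha =>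
    Subgroup.mem_centralizer_singleton_iff.1
      (show a ∈ conjQ Q g ⊓ Subgroup.centralizer ({z} : Set G) by rw [h]; exact ha).2
  obtain ⟨q, hq⟩ := mem_inG.1 (mem_conjQ.1 hzg)
  have hqc : q ∈ Subgroup.center Q := Subgroup.mem_center_iff.2 fun b => by
    have hbm : g * toG b * g⁻¹ ∈ conjQ Q g := ⟨_, mem_inG.2 ⟨b, rfl⟩, rfl⟩
    have hh := (hall _ hbm).eq
    refine Subtype.ext (Subtype.ext ?_)
    show toG b * toG q = toG q * toG b
    rw [hq]
    calc toG b * (g⁻¹ * z * g) = g⁻¹ * (g * toG b * g⁻¹ * z) * g := by group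
      _ = g⁻¹ * (z * (g * toG b * g⁻¹)) * g := by rw [hh]
      _ = g⁻¹ * z * g * toG b := by group
  obtain ⟨hne, -⟩ := x_sq_ne hS hxc
  rcases (mem_center_iff hS).1 hqc with rfl | rfl
  · refine z_ne_one hS ?_
    have hh : (1 : G) = g⁻¹ * z * g := hq
    calc z = g * (g⁻¹ * z * g) * g⁻¹ := by group
      _ = 1 := by rw [← hh]; group
  · refine hne ?_
    have hh : z = g⁻¹ * z * g := hq
    rw [← hgx]
    calc g * z * g⁻¹ = g * (g⁻¹ * z * g) * g⁻¹ := by rw [← hh]
      _ = z := by group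

/-- The image of the conjugate in `C / Q`. -/
theorem frame_card_image : Nat.card
    (((conjQ Q g ⊓ Subgroup.centralizer ({z} : Set G)).subgroupOf
      (Subgroup.centralizer ({z} : Set G))).map (QuotientGroup.mk' Q)) = 2 ^ 11 := by
  classical
  obtain ⟨h1, h2⟩ := frame_image hS hψ hgx hv
  have hN : Nat.card (imageN e g) = 4096 := by
    rw [← ncard_supports, ← Nat.card_coe_set_eq]
    refine (Nat.card_congr (Equiv.ofBijective
      (fun c : supports (golayCode : Set (GolayPt → ZMod 2)) =>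
        (⟨monoCo0 1 (one_mem _) c.1 c.2, h2 c.1 c.2⟩ : imageN e g)) ⟨?_, ?_⟩)).symm
    · intro c d h
      have h' : monoOf (⟨1, one_mem _⟩, c) = monoOf (⟨1, one_mem _⟩, d) := congrArg Subtype.val h
      exact (Prod.ext_iff.1 (monoOf_injective h')).2
    · rintro ⟨n, hn⟩
      obtain ⟨c, hc, rfl⟩ := h1 n hn
      exact ⟨⟨c, hc⟩, rfl⟩
  let M := (((conjQ Q g ⊓ Subgroup.centralizer ({z} : Set G)).subgroupOf
      (Subgroup.centralizer ({z} : Set G))).map (QuotientGroup.mk' Q)).map e.toMonoidHom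
  have hMc : Nat.card M = Nat.card (((conjQ Q g ⊓ Subgroup.centralizer ({z} : Set G)).subgroupOf
      (Subgroup.centralizer ({z} : Set G))).map (QuotientGroup.mk' Q)) :=
    Subgroup.card_map_of_injective e.injective
  let φ : imageN e g →* M := (QuotientGroup.mk' (Subgroup.center Co0)).subgroupComap M
  have hφ : Function.Surjective φ := MonoidHom.subgroupComap_surjective_of_surjective _ _
    (QuotientGroup.mk'_surjective _)
  have hk : Nat.card φ.ker = 2 := by
    have hc2 : Nat.card (Subgroup.center Co0) = 2 := by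
      rw [← SetLike.coe_sort_coe, Nat.card_coe_set_eq, center_eq,
        Set.ncard_pair (Ne.symm negCo0_ne_one)]
    rw [← hc2]
    refine Nat.card_congr ⟨fun a => ⟨a.1.1, ?_⟩, fun c => ⟨⟨c.1, ?_⟩, ?_⟩, fun _ => rfl, fun _ => rfl⟩
    · have := congrArg Subtype.val (MonoidHom.mem_ker.1 a.2)
      exact (QuotientGroup.eq_one_iff _).1 this
    · show (QuotientGroup.mk' _ c.1) ∈ M
      rw [QuotientGroup.mk'_apply, (QuotientGroup.eq_one_iff _).2 c.2]
      exact one_mem _
    · exact MonoidHom.mem_ker.2 (Subtype.ext ((QuotientGroup.eq_one_iff _).2 c.2))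
  have h3 := φ.ker.card_mul_index
  rw [Subgroup.index_ker, hk, hN, MonoidHom.range_eq_top.2 hφ, Subgroup.card_top] at h3
  rw [← hMc]
  omega

theorem frame_card_meet : Nat.card (inG Q ⊓ conjQ Q g : Subgroup G) = 2 ^ 13 := by
  have h1 := frame_card_part hS hψ hgx hv
  have h2 := frame_card_image hS hψ hgx hv
  set R := (conjQ Q g ⊓ Subgroup.centralizer ({z} : Set G)).subgroupOf
    (Subgroup.centralizer ({z} : Set G)) with hR
  have hRc : Nat.card R = 2 ^ 24 := by
    rw [← h1]
    exact Nat.card_congr (Subgroup.subgroupOfEquivOfLe inf_le_right).toEquiv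
  let φ := (QuotientGroup.mk' Q).comp R.subtype
  have hrange : φ.range = R.map (QuotientGroup.mk' Q) := by
    rw [MonoidHom.range_comp, Subgroup.range_subtype]
  have hk : Nat.card φ.ker = Nat.card (inG Q ⊓ conjQ Q g : Subgroup G) := by
    refine Nat.card_congr ⟨fun a => ⟨((a.1 : Subgroup.centralizer ({z} : Set G)) : G), ?_, a.1.2.1⟩,
      fun b => ⟨⟨⟨b.1, inG_le b.2.1⟩, b.2.2, inG_le b.2.1⟩, ?_⟩, fun _ => rfl, fun _ => rfl⟩
    · exact mem_inG.2 ⟨⟨_, (QuotientGroup.eq_one_iff _).1 (MonoidHom.mem_ker.1 a.2)⟩, rfl⟩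
    · obtain ⟨q, hq⟩ := mem_inG.1 b.2.1
      refine MonoidHom.mem_ker.2 ((QuotientGroup.eq_one_iff _).2 ?_)
      show (⟨b.1, inG_le b.2.1⟩ : Subgroup.centralizer ({z} : Set G)) ∈ Q
      rw [show (⟨b.1, inG_le b.2.1⟩ : Subgroup.centralizer ({z} : Set G)) = q from Subtype.ext hq.symm]
      exact q.2
  have h3 := φ.ker.card_mul_index
  rw [Subgroup.index_ker, hrange, h2, hk, hRc] at h3
  omega

end frame

end CfsgLib.MonsterType
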