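import Cfsg.Prelude.Def_MonsterType
import Cfsg.Agent.ExtraspecialBasic.Order
import Cfsg.Agent.Components.FStar
import Cfsg.Agent.Leech.Basic
import Cfsg.Agent.Leech.Co0

/-!
# Groups of Monster type: the centre, squares and commutators of the extraspecial subgroup
-/

set_option autoImplicit false

namespace CfsgLib.MonsterType

open Cfsg
open scoped commutatorElement

variable {G : Type*} [Group G] [Finite G] {z : G}
  {Q : Subgroup (Subgroup.centralizer ({z} : Set G))} [Q.Normal]
  {e : (Subgroup.centralizer ({z} : Set G)) ⧸ Q ≃* Spor.Co1}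
  {ψ : leechLattice → Q ⧸ Subgroup.center Q}

/-- The element `z` inside its centralizer. -/
def zC (z : G) : Subgroup.centralizer ({z} : Set G) :=
  ⟨z, Subgroup.mem_centralizer_singleton_iff.2 rfl⟩

omit [Finite G] in
theorem zC_mem_center : zC z ∈ Subgroup.center (Subgroup.centralizer ({z} : Set G)) :=
  Subgroup.mem_center_iff.2 fun g => Subtype.ext (Subgroup.mem_centralizer_singleton_iff.1 g.2)

variable (hS : IsExtraspecialCentralizerSetting z Q 12)
include hS

omit [Q.Normal] in
theorem zC_mem : zC z ∈ Q := by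
  rw [← hS.2.1]
  exact CfsgLib.Components.centralizer_generalizedFitting_le_self
    (Subgroup.center_le_centralizer _ zC_mem_center)

omit [Finite G] [Q.Normal] in
theorem z_ne_one : z ≠ 1 := fun h => by simpa [h] using hS.1

/-- `z` inside `Q`. -/
def zQ : Q := ⟨zC z, zC_mem hS⟩

omit [Q.Normal] in
theorem zQ_coe : ((zQ hS : Subgroup.centralizer ({z} : Set G)) : G) = z := rfl

omit [Q.Normal] in
theorem zQ_mem_center : zQ hS ∈ Subgroup.center Q :=
  Subgroup.mem_center_iff.2 fun g => Subtype.ext (Subgroup.mem_center_iff.1 zC_mem_center g.1)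

omit [Q.Normal] in
theorem zQ_ne_one : zQ hS ≠ 1 := fun h =>
  z_ne_one hS (congrArg (fun q : Q => ((q : Subgroup.centralizer ({z} : Set G)) : G)) h)

omit [Q.Normal] in
/-- The centre of `Q` is `{1, z}`. -/
theorem mem_center_iff {q : Q} : q ∈ Subgroup.center Q ↔ q = 1 ∨ q = zQ hS := by
  constructor
  · intro hq
    obtain ⟨a, b, hab, huniv⟩ := Nat.card_eq_two_iff.1 (hS.2.2.1.2 : Nat.card (Subgroup.center Q) = 2)
    have mem : ∀ w : Subgroup.center Q, w = a ∨ w = b := fun w => by
      have : w ∈ ({a, b} : Set (Subgroup.center Q)) := huniv ▸ Set.mem_univ w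
      simpa using this
    by_contra h
    push Not at h
    have h1 : (1 : Subgroup.center Q) ≠ ⟨zQ hS, zQ_mem_center hS⟩ :=
      fun e => zQ_ne_one hS (congrArg Subtype.val e).symm
    have h2 : (⟨q, hq⟩ : Subgroup.center Q) ≠ 1 := fun e => h.1 (congrArg Subtype.val e)
    have h3 : (⟨q, hq⟩ : Subgroup.center Q) ≠ ⟨zQ hS, zQ_mem_center hS⟩ :=
      fun e => h.2 (congrArg Subtype.val e)
    rcases mem 1 with e1 | e1 <;> rcases mem ⟨zQ hS, zQ_mem_center hS⟩ with e2 | e2 <;>
      rcases mem ⟨q, hq⟩ with e3 | e3 <;>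
      first
        | exact h1 (e1.trans e2.symm)
        | exact h2 (e3.trans e1.symm)
        | exact h3 (e3.trans e2.symm)
  · rintro (rfl | rfl)
    exacts [one_mem _, zQ_mem_center hS]

omit [Q.Normal] in
theorem commutator_cases (a b : Q) : ⁅a, b⁆ = 1 ∨ ⁅a, b⁆ = zQ hS :=
  (mem_center_iff hS).1 (CfsgLib.ExtraspecialBasic.commutator_mem_center hS.2.2.1 a b)

omit [Q.Normal] in
theorem sq_cases (a : Q) : a * a = 1 ∨ a * a = zQ hS := by
  haveI : Fact (Nat.Prime 2) := ⟨Nat.prime_two⟩
  rw [← pow_two]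
  exact (mem_center_iff hS).1 (CfsgLib.ExtraspecialBasic.pow_mem_center hS.2.2.1 a)

omit [Q.Normal] in
/-- Conjugation inside `Q` moves a noncentral element to its translate by `z`. -/
theorem conj_eq_mul_of_not_commute {a b : Q} (h : ¬ Commute b a) :
    b * a * b⁻¹ = zQ hS * a := by
  rcases commutator_cases hS b a with h1 | h1
  · exact absurd (commutatorElement_eq_one_iff_commute.1 h1) h
  · rw [← h1, commutatorElement_def, inv_mul_cancel_right]

omit [Q.Normal] in
theorem exists_not_commute {a : Q} (h : a ∉ Subgroup.center Q) : ∃ b : Q, ¬ Commute b a := by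
  by_contra h'
  push Not at h'
  exact h (Subgroup.mem_center_iff.2 fun b => h' b)

omit hS

/-! ### The squaring form on the lattice -/

variable (hψ : IsLeechModTwoIso Q e ψ)
include hψ

omit [Finite G] in
theorem psi_zero : ψ 0 = 1 := (hψ.2.2.1 0).2 ⟨0, (add_zero 0).symm⟩

omit [Finite G] in
theorem psi_eq_iff (v w : leechLattice) : ψ v = ψ w ↔ ∃ u : leechLattice, v = w + (u + u) := by
  have h0 := psi_zero hψ
  have hneg : ψ (-w) = (ψ w)⁻¹ := eq_inv_of_mul_eq_one_left (by rw [← hψ.1, neg_add_cancel, h0])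
  constructor
  · intro h
    obtain ⟨u, hu⟩ := (hψ.2.2.1 (v + -w)).1 (by rw [hψ.1, hneg, h, mul_inv_cancel])
    exact ⟨u, by rw [← hu]; abel⟩
  · rintro ⟨u, rfl⟩
    rw [hψ.1, (hψ.2.2.1 (u + u)).2 ⟨u, rfl⟩, mul_one]

omit [Finite G] in
theorem psi_conj (h : Subgroup.centralizer ({z} : Set G)) (g : Co0)
    (hg : (QuotientGroup.mk g : Spor.Co1) = e (QuotientGroup.mk h)) (v : leechLattice) (q : Q)
    (hq : ψ v = QuotientGroup.mk q) :
    ψ (g • v) = QuotientGroup.mk ⟨h * q * h⁻¹,
      (inferInstance : Q.Normal).conj_mem (q : Subgroup.centralizer ({z} : Set G)) q.2 h⟩ :=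
  hψ.2.2.2 h g hg v q hq

omit [Finite G] in
theorem exists_of_co0 (g : Co0) : ∃ h : Subgroup.centralizer ({z} : Set G),
    (QuotientGroup.mk g : Spor.Co1) = e (QuotientGroup.mk h) := by
  obtain ⟨h, hh⟩ := QuotientGroup.mk_surjective (e.symm (QuotientGroup.mk g : Spor.Co1))
  exact ⟨h, by rw [hh, e.apply_symm_apply]⟩

omit hψ

/-- A chosen lift of a lattice vector. -/
noncomputable def lift (ψ : leechLattice → Q ⧸ Subgroup.center Q) (v : leechLattice) : Q := (ψ v).out

omit [Finite G] in
theorem psi_lift (v : leechLattice) : ψ v = QuotientGroup.mk (lift ψ v) :=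
  (QuotientGroup.out_eq' (ψ v)).symm

open Classical in
/-- `1` where the lifts square to `z`. -/
noncomputable def sqForm (ψ : leechLattice → Q ⧸ Subgroup.center Q) (v : leechLattice) : ZMod 2 :=
  if lift ψ v * lift ψ v = 1 then 0 else 1

open Classical in
/-- `1` where two lifts do not commute. -/
noncomputable def commForm (ψ : leechLattice → Q ⧸ Subgroup.center Q) (v w : leechLattice) : ZMod 2 :=
  if Commute (lift ψ v) (lift ψ w) then 0 else 1

include hS

omit [Q.Normal] in
/-- Squares depend only on the class modulo the centre. -/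
theorem sq_eq_of_psi {q r : Q} (h : (QuotientGroup.mk q : Q ⧸ Subgroup.center Q) = QuotientGroup.mk r) :
    q * q = r * r := by
  obtain ⟨c, hc, rfl⟩ : ∃ c ∈ Subgroup.center Q, r = q * c :=
    ⟨q⁻¹ * r, QuotientGroup.eq.1 h, by group⟩
  have hc2 : c * c = 1 := by
    rw [← pow_two]; exact CfsgLib.ExtraspecialBasic.pow_center_eq_one hS.2.2.1 hc
  calc q * q = q * q * (c * c) := by rw [hc2, mul_one]
    _ = q * (q * c) * c := by group
    _ = q * (c * q) * c := by rw [Subgroup.mem_center_iff.1 hc q]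
    _ = q * c * (q * c) := by group

include hψ

theorem sqForm_eq_zero_iff {v : leechLattice} {q : Q} (h : ψ v = QuotientGroup.mk q) :
    sqForm ψ v = 0 ↔ q * q = 1 := by
  rw [sq_eq_of_psi hS (h.symm.trans (psi_lift v))]
  unfold sqForm
  split_ifs with h' <;> simp [h']

omit hS hψ in
theorem sqForm_eq_of_iff {v w : leechLattice} (h : sqForm ψ v = 0 ↔ sqForm ψ w = 0) :
    sqForm ψ v = sqForm ψ w := by
  revert h
  generalize sqForm ψ v = a, sqForm ψ w = b
  revert a b; decide

theorem sqForm_coset (v w : leechLattice) : sqForm ψ (v + (w + w)) = sqForm ψ v := by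
  refine sqForm_eq_of_iff ?_
  rw [sqForm_eq_zero_iff hS hψ (q := lift ψ v)
      (((psi_eq_iff hψ _ _).2 ⟨w, rfl⟩).trans (psi_lift v)),
    sqForm_eq_zero_iff hS hψ (psi_lift v)]

theorem sqForm_co0 (g : Co0) (v : leechLattice) : sqForm ψ (g • v) = sqForm ψ v := by
  obtain ⟨h, hh⟩ := exists_of_co0 hψ g
  refine sqForm_eq_of_iff ?_
  rw [sqForm_eq_zero_iff hS hψ (psi_conj hψ h g hh v _ (psi_lift v)),
    sqForm_eq_zero_iff hS hψ (psi_lift v), Subtype.ext_iff,
    Subtype.ext_iff (a1 := lift ψ v * lift ψ v)]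
  show h * (lift ψ v : Subgroup.centralizer ({z} : Set G)) * h⁻¹ *
      (h * (lift ψ v : Subgroup.centralizer ({z} : Set G)) * h⁻¹) = 1 ↔
    (lift ψ v : Subgroup.centralizer ({z} : Set G)) *
      (lift ψ v : Subgroup.centralizer ({z} : Set G)) = 1
  generalize (lift ψ v : Subgroup.centralizer ({z} : Set G)) = q
  rw [show h * q * h⁻¹ * (h * q * h⁻¹) = h * (q * q) * h⁻¹ by group]
  exact ⟨fun e => by simpa using e, fun e => by rw [e]; group⟩

omit hψ in
theorem commute_congr {q q' r r' : Q}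
    (hq : (QuotientGroup.mk q : Q ⧸ Subgroup.center Q) = QuotientGroup.mk q')
    (hr : (QuotientGroup.mk r : Q ⧸ Subgroup.center Q) = QuotientGroup.mk r')
    (h : Commute q r) : Commute q' r' := by
  have hz : ∀ c ∈ Subgroup.center Q, ∀ x : Q, Commute c x := fun c hc x =>
    (Subgroup.mem_center_iff.1 hc x).symm
  have e1 : q' = q * (q⁻¹ * q') := by group
  have e2 : r' = r * (r⁻¹ * r') := by group
  rw [e1, e2]
  have hcq := hz _ (QuotientGroup.eq.1 hq)
  have hcr := hz _ (QuotientGroup.eq.1 hr)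
  exact ((h.mul_right (hcr q).symm).mul_left (hcq _))

theorem commForm_eq_zero_iff {v w : leechLattice} {q r : Q} (h : ψ v = QuotientGroup.mk q)
    (h' : ψ w = QuotientGroup.mk r) : commForm ψ v w = 0 ↔ Commute q r := by
  have h1 := h.symm.trans (psi_lift v)
  have h2 := h'.symm.trans (psi_lift w)
  unfold commForm
  split_ifs with hc
  · exact ⟨fun _ => commute_congr hS h1.symm h2.symm hc, fun _ => rfl⟩
  · exact ⟨fun h0 => absurd h0 (by decide), fun hqr => absurd (commute_congr hS h1 h2 hqr) hc⟩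

theorem sqForm_add (v w : leechLattice) :
    sqForm ψ (v + w) = sqForm ψ v + sqForm ψ w + commForm ψ v w := by
  have hp : ψ (v + w) = QuotientGroup.mk (lift ψ v * lift ψ w) := by
    rw [hψ.1, psi_lift (ψ := ψ) v, psi_lift (ψ := ψ) w, QuotientGroup.mk_mul]
  have key := sqForm_eq_zero_iff hS hψ hp
  have k1 := sqForm_eq_zero_iff hS hψ (psi_lift v)
  have k2 := sqForm_eq_zero_iff hS hψ (psi_lift w)
  have k3 := commForm_eq_zero_iff hS hψ (psi_lift v) (psi_lift w)
  generalize lift ψ v = q, lift ψ w = r at key k1 k2 k3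
  have hzz : zQ hS * zQ hS = 1 := by
    rw [← pow_two]
    exact CfsgLib.ExtraspecialBasic.pow_center_eq_one hS.2.2.1 (zQ_mem_center hS)
  have hzne := zQ_ne_one hS
  have hc := commutator_cases hS r q
  have expand : q * r * (q * r) = q * q * ⁅r, q⁆ * (r * r) := by
    have hcen := Subgroup.mem_center_iff.1
      (CfsgLib.ExtraspecialBasic.commutator_mem_center hS.2.2.1 r q) q
    calc q * r * (q * r) = q * (⁅r, q⁆ * q) * (r * r) := by
          simp only [commutatorElement_def]; group
      _ = q * q * ⁅r, q⁆ * (r * r) := by rw [← hcen]; group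
  generalize sqForm ψ (v + w) = a, sqForm ψ v = b, sqForm ψ w = c,
    commForm ψ v w = d at key k1 k2 k3
  rw [expand] at key
  have hd : d = 0 ↔ ⁅r, q⁆ = 1 := by
    rw [k3, commutatorElement_eq_one_iff_commute]
    exact ⟨Commute.symm, Commute.symm⟩
  clear k3
  rcases sq_cases hS q with h1 | h1 <;> rcases sq_cases hS r with h2 | h2 <;>
    rcases hc with h3 | h3 <;>
    simp only [h1, h2, h3, hzz, hzne, one_mul, mul_one, iff_true, iff_false] at key k1 k2 hd <;>
    · revert key k1 k2 hd
      revert a b c d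
      decide

theorem commForm_add_right (u v w : leechLattice) :
    commForm ψ u (v + w) = commForm ψ u v + commForm ψ u w := by
  have hp : ψ (v + w) = QuotientGroup.mk (lift ψ v * lift ψ w) := by
    rw [hψ.1, psi_lift (ψ := ψ) v, psi_lift (ψ := ψ) w, QuotientGroup.mk_mul]
  have k := commForm_eq_zero_iff hS hψ (psi_lift u) hp
  have k1 := commForm_eq_zero_iff hS hψ (psi_lift u) (psi_lift v)
  have k2 := commForm_eq_zero_iff hS hψ (psi_lift u) (psi_lift w)
  have hE := hS.2.2.1
  rw [← CfsgLib.ExtraspecialBasic.commHom_eq_one hE] at k k1 k2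
  rw [map_mul] at k
  generalize CfsgLib.ExtraspecialBasic.commHom hE (lift ψ u) (lift ψ v) = p,
    CfsgLib.ExtraspecialBasic.commHom hE (lift ψ u) (lift ψ w) = r at k k1 k2
  generalize commForm ψ u (v + w) = a, commForm ψ u v = b, commForm ψ u w = c at k k1 k2
  have hne : (⟨zQ hS, zQ_mem_center hS⟩ : Subgroup.center Q) ≠ 1 :=
    fun h => zQ_ne_one hS (congrArg Subtype.val h)
  have hsq : (⟨zQ hS, zQ_mem_center hS⟩ : Subgroup.center Q) * ⟨zQ hS, zQ_mem_center hS⟩ = 1 := by
    rw [← pow_two]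
    exact Subtype.ext (CfsgLib.ExtraspecialBasic.pow_center_eq_one hE (zQ_mem_center hS))
  have cases' : ∀ x : Subgroup.center Q, x = 1 ∨ x = ⟨zQ hS, zQ_mem_center hS⟩ := fun x =>
    ((mem_center_iff hS).1 x.2).imp (fun h => Subtype.ext h) (fun h => Subtype.ext h)
  rcases cases' p with h1 | h1 <;> rcases cases' r with h2 | h2 <;>
    simp only [h1, h2, hsq, hne, one_mul, mul_one, iff_true, iff_false] at k k1 k2 <;>
    · revert k k1 k2
      revert a b c
      decide

theorem sqForm_quadratic (u v w : leechLattice) :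
    sqForm ψ (u + v + w) + sqForm ψ u + sqForm ψ v + sqForm ψ w =
      sqForm ψ (u + v) + sqForm ψ (u + w) + sqForm ψ (v + w) := by
  rw [add_assoc u v w, sqForm_add hS hψ u (v + w), sqForm_add hS hψ u v, sqForm_add hS hψ u w,
    sqForm_add hS hψ v w, commForm_add_right hS hψ]
  generalize sqForm ψ u = a, sqForm ψ v = b, sqForm ψ w = c,
    commForm ψ u v = p, commForm ψ u w = q, commForm ψ v w = r
  revert a b c p q r; decide

theorem sqForm_ne_zero : ∃ v : leechLattice, sqForm ψ v ≠ 0 := by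
  by_contra h
  push Not at h
  haveI : Fact (Nat.Prime 2) := ⟨Nat.prime_two⟩
  have hall : ∀ q : Q, q * q = 1 := fun q => by
    obtain ⟨v, hv⟩ := hψ.2.1 (QuotientGroup.mk q)
    exact (sqForm_eq_zero_iff hS hψ hv).1 (h v)
  refine CfsgLib.ExtraspecialBasic.center_ne_top hS.2.2.1 (eq_top_iff.2 fun a _ => ?_)
  refine Subgroup.mem_center_iff.2 fun b => ?_
  calc b * a = (a * a) * b * a * (b * b) := by rw [hall, hall, one_mul, mul_one]
    _ = a * ((a * b) * (a * b)) * b := by group
    _ = a * b := by rw [hall, mul_one]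

end CfsgLib.MonsterType
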