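import Cfsg.Agent.MonsterType.SevenLift
import Cfsg.Agent.FrattiniTheory.Basic

/-!
# The centralizer of a Sylow 7-subgroup of a pair of conjugates of `z`: Held type
-/

set_option autoImplicit false
set_option linter.constructorNameAsVariable false

namespace CfsgLib.MonsterType

open Cfsg CfsgLib.Leech CfsgLib.Mathieu
open scoped commutatorElement

namespace Seven

theorem linear_two_core (P : Subgroup (Matrix.SpecialLinearGroup (Fin 3) (ZMod 2))) [P.Normal]
    (hP : IsPGroup 2 P) : P = ⊥ := by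
  haveI := linear_simple
  refine (IsSimpleGroup.eq_bot_or_eq_top_of_normal P inferInstance).resolve_right fun h => ?_
  obtain ⟨n, hn⟩ := IsPGroup.iff_card.1 hP
  rw [h, Subgroup.card_top, card_linear] at hn
  have h3 : 3 ∣ 2 ^ n := ⟨56, by rw [← hn]⟩
  exact absurd (Nat.le_of_dvd (by norm_num) (Nat.Prime.dvd_of_dvd_pow Nat.prime_three h3)) (by norm_num)

/-- An involution without nontrivial fixed points inverts. -/
theorem inverts_of_fpf {Y : Type*} [Group Y] [Finite Y] {t : Y} {M : Subgroup Y} [M.Normal]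
    (ht : t * t = 1) (h : ∀ a ∈ M, Commute a t → a = 1) : ∀ a ∈ M, t * a * t⁻¹ = a⁻¹ := by
  have hmem : ∀ a : M, (a : Y)⁻¹ * (t * (a : Y) * t⁻¹) ∈ M := fun a =>
    mul_mem (inv_mem a.2) ((inferInstance : M.Normal).conj_mem _ a.2 _)
  let φ : M → M := fun a => ⟨_, hmem a⟩
  have hφ : Function.Injective φ := by
    intro a c hac
    have h1 : (a : Y)⁻¹ * (t * (a : Y) * t⁻¹) = (c : Y)⁻¹ * (t * (c : Y) * t⁻¹) := congrArg Subtype.val hac
    have h2 : Commute ((c : Y) * (a : Y)⁻¹) t := by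
      refine (mul_inv_eq_iff_eq_mul.1 ?_).symm
      calc t * ((c : Y) * (a : Y)⁻¹) * t⁻¹
          = (c : Y) * ((c : Y)⁻¹ * (t * (c : Y) * t⁻¹)) * (t * (a : Y)⁻¹ * t⁻¹) := by group
        _ = (c : Y) * (a : Y)⁻¹ := by rw [← h1]; group
    exact Subtype.ext (mul_inv_eq_one.1 (h _ (mul_mem c.2 (inv_mem a.2)) h2)).symm
  intro a ha
  obtain ⟨c, hc⟩ := (Finite.injective_iff_surjective.1 hφ) ⟨a, ha⟩
  have hc' : (c : Y)⁻¹ * (t * (c : Y) * t⁻¹) = a := congrArg Subtype.val hc
  rw [← hc']
  have ht' : t⁻¹ = t := inv_eq_of_mul_eq_one_right ht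
  rw [ht']
  calc t * ((c : Y)⁻¹ * (t * (c : Y) * t)) * t = t * (c : Y)⁻¹ * t * (c : Y) * (t * t) := by group
    _ = ((c : Y)⁻¹ * (t * (c : Y) * t⁻¹))⁻¹ := by rw [ht, mul_one]; group; simp [ht']
    _ = _ := by rw [ht']

/-- A 2-group with a fixed point free involution is trivial. -/
theorem pgroup_eq_bot_of_fpf {Y : Type*} [Group Y] [Finite Y] {t : Y} {M : Subgroup Y} [M.Normal]
    (hM : IsPGroup 2 M) (ht : t * t = 1) (h : ∀ a ∈ M, Commute a t → a = 1) : M = ⊥ := by
  haveI : Fact (Nat.Prime 2) := ⟨Nat.prime_two⟩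
  by_contra hne
  obtain ⟨n, hn⟩ := IsPGroup.iff_card.1 hM
  have h2 : 2 ∣ Nat.card M := by
    rcases Nat.eq_zero_or_pos n with rfl | hpos
    · exact absurd (Subgroup.eq_bot_of_card_eq _ (by rw [hn, pow_zero])) hne
    · rw [hn]; exact dvd_pow_self 2 (by omega)
  obtain ⟨a, ha⟩ := exists_prime_orderOf_dvd_card' 2 h2
  have haa : (a : Y) * a = 1 := by
    rw [← pow_two, ← ha, ← Subgroup.orderOf_coe]; exact pow_orderOf_eq_one _
  have hc : Commute (a : Y) t := by
    refine (mul_inv_eq_iff_eq_mul.1 ?_).symm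
    rw [inverts_of_fpf ht h a a.2, inv_eq_of_mul_eq_one_right haa]
  have := h a a.2 hc
  rw [← Subgroup.orderOf_coe, this, orderOf_one] at ha
  omega

end Seven

variable {G : Type*} [Group G] [Finite G] {z : G}
variable {Q : Subgroup (Subgroup.centralizer ({z} : Set G))} [Q.Normal]
  {e : (Subgroup.centralizer ({z} : Set G)) ⧸ Q ≃* Spor.Co1}
  {ψ : leechLattice → Q ⧸ Subgroup.center Q}
  (hS : IsExtraspecialCentralizerSetting z Q 12) (hψ : IsLeechModTwoIso Q e ψ)
include hS hψ

variable {b : Subgroup.centralizer ({z} : Set G)}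
  (hb : e (QuotientGroup.mk b) = Seven.Tbar) (hb7 : b ^ 7 = 1)
include hb hb7

set_option maxHeartbeats 1600000 in
/-- As `held_core`, with the witness. The centraliser of `b` modulo `⟨b⟩`: of Held type, without normal subgroups of prime power
order, and each normal subgroup with trivial centraliser holds the image of the fixed part of `Q`. -/
theorem held_full (B : Subgroup G) (hB : B = Subgroup.zpowers (b : G))
    [hn : (B.subgroupOf (Subgroup.centralizer (B : Set G))).Normal] :
    IsOfHeldType (↥(Subgroup.centralizer (B : Set G)) ⧸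
      B.subgroupOf (Subgroup.centralizer (B : Set G))) ∧
    (∀ (p : ℕ), p.Prime → ∀ (P : Subgroup (↥(Subgroup.centralizer (B : Set G)) ⧸
      B.subgroupOf (Subgroup.centralizer (B : Set G)))), P.Normal → IsPGroup p P → P = ⊥) ∧
    (∀ (E : Subgroup (↥(Subgroup.centralizer (B : Set G)) ⧸
      B.subgroupOf (Subgroup.centralizer (B : Set G)))), E.Normal → Subgroup.centralizer (SetLike.coe E) = ⊥ →
      ∀ q : Q, Commute (q : Subgroup.centralizer ({z} : Set G)) b →
      ∀ u : Subgroup.centralizer (B : Set G), (u : G) = toG q → QuotientGroup.mk u ∈ E) ∧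
    (∀ zT : Subgroup.centralizer (B : Set G), (zT : G) = z →
      ∃ (R : Subgroup (Subgroup.centralizer ({(QuotientGroup.mk zT : ↥(Subgroup.centralizer (B : Set G)) ⧸
          B.subgroupOf (Subgroup.centralizer (B : Set G)))} : Set _))) (_ : R.Normal),
        IsExtraspecialCentralizerSetting (QuotientGroup.mk zT : ↥(Subgroup.centralizer (B : Set G)) ⧸
          B.subgroupOf (Subgroup.centralizer (B : Set G))) R 3 ∧
        Nonempty ((Subgroup.centralizer ({(QuotientGroup.mk zT : ↥(Subgroup.centralizer (B : Set G)) ⧸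
          B.subgroupOf (Subgroup.centralizer (B : Set G)))} : Set _)) ⧸ R ≃*
            Matrix.SpecialLinearGroup (Fin 3) (ZMod 2)) ∧
        Set.ncard {a | a ∈ R ∧ IsConj (QuotientGroup.mk zT : ↥(Subgroup.centralizer (B : Set G)) ⧸
          B.subgroupOf (Subgroup.centralizer (B : Set G))) (a : ↥(Subgroup.centralizer (B : Set G)) ⧸
          B.subgroupOf (Subgroup.centralizer (B : Set G)))} = 29 ∧
        (∃ E : Subgroup R, IsElementaryAbelian 2 E ∧ Nat.card E = 2 ^ 4) ∧
        ∀ a, a ∈ R → ∃ q : Q, Commute (q : Subgroup.centralizer ({z} : Set G)) b ∧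
          ∃ u : Subgroup.centralizer (B : Set G), (u : G) = toG q ∧
            QuotientGroup.mk u = (a : ↥(Subgroup.centralizer (B : Set G)) ⧸
              B.subgroupOf (Subgroup.centralizer (B : Set G)))) := by
  classical
  haveI : Fact (Nat.Prime 2) := ⟨Nat.prime_two⟩
  haveI : Fact (Nat.Prime 7) := ⟨by norm_num⟩
  have hob := Seven.orderOf_b hb hb7
  have hzb2 : z * z = 1 := by rw [← pow_two, ← hS.1]; exact pow_orderOf_eq_one z
  have hbB : (b : G) ∈ B := hB ▸ Subgroup.mem_zpowers _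
  set U := Subgroup.centralizer (B : Set G) with hT
  set N := B.subgroupOf U with hN
  have hbz : Commute (b : G) z := Subgroup.mem_centralizer_singleton_iff.1 b.2
  have hinB : ∀ {g : G}, g ∈ B → ∃ k : ℕ, (b : G) ^ k = g := fun {g} hg =>
    mem_powers_iff_mem_zpowers.2 (hB ▸ hg)
  have hTmem : ∀ {g : G}, Commute g (b : G) → g ∈ U := fun {g} hg => by
    refine Subgroup.mem_centralizer_iff.2 fun y hy => ?_
    obtain ⟨k, rfl⟩ := hinB hy
    exact (hg.pow_right k).eq.symm
  have hTb : ∀ a : U, Commute (a : G) (b : G) := fun a =>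
    (Subgroup.mem_centralizer_iff.1 a.2 _ hbB).symm
  let zT : U := ⟨z, hTmem hbz.symm⟩
  let zb : U ⧸ N := QuotientGroup.mk zT
  let Ct : Subgroup (Subgroup.centralizer ({z} : Set G)) := Subgroup.centralizer {b}
  let toT : Ct →* U :=
    { toFun := fun a => ⟨((a : Subgroup.centralizer ({z} : Set G)) : G),
        hTmem (congrArg Subtype.val (Subgroup.mem_centralizer_singleton_iff.1 a.2))⟩
      map_one' := rfl
      map_mul' := fun _ _ => rfl }
  have hD : ∀ a : Ct, (QuotientGroup.mk (toT a) : U ⧸ N) ∈ Subgroup.centralizer ({zb} : Set (U ⧸ N)) :=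
    fun a => Subgroup.mem_centralizer_singleton_iff.2 (by
      show (QuotientGroup.mk (toT a) : U ⧸ N) * QuotientGroup.mk zT =
        QuotientGroup.mk zT * QuotientGroup.mk (toT a)
      rw [← QuotientGroup.mk_mul, ← QuotientGroup.mk_mul]
      congr 1
      exact Subtype.ext (Subgroup.mem_centralizer_singleton_iff.1 a.1.2))
  let π : Ct →* Subgroup.centralizer ({zb} : Set (U ⧸ N)) :=
    ((QuotientGroup.mk' N).comp toT).codRestrict _ hD
  have hπ1 : ∀ a : Ct, π a = 1 ↔ ∃ k : ℕ, b ^ k = (a : Subgroup.centralizer ({z} : Set G)) := by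
    intro a
    refine Subtype.ext_iff.trans ((QuotientGroup.eq_one_iff (toT a)).trans ⟨fun h => ?_, ?_⟩)
    · obtain ⟨k, hk⟩ := hinB h
      exact ⟨k, Subtype.ext hk⟩
    · rintro ⟨k, hk⟩
      show ((a : Subgroup.centralizer ({z} : Set G)) : G) ∈ B
      rw [← hk, SubgroupClass.coe_pow]
      exact pow_mem hbB k
  have hπsurj : Function.Surjective π := by
    rintro ⟨q, hq⟩
    obtain ⟨a, rfl⟩ := QuotientGroup.mk_surjective q
    have hq' : (QuotientGroup.mk (a * zT) : U ⧸ N) = QuotientGroup.mk (zT * a) :=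
      Subgroup.mem_centralizer_singleton_iff.1 hq
    have hm : (zT * a)⁻¹ * (a * zT) ∈ N := QuotientGroup.eq.1 hq'.symm
    obtain ⟨k, hk⟩ := hinB (g := (z * (a : G))⁻¹ * ((a : G) * z)) hm
    have hk' : (z * (a : G))⁻¹ * ((a : G) * z) = (b : G) ^ k := hk.symm
    have h1 : (a : G) * z * (a : G)⁻¹ = z * (b : G) ^ k := by
      have e' : (a : G) * z = z * ((b : G) ^ k * (a : G)) := by
        rw [← ((hTb a).pow_right k).eq, ← mul_assoc]; exact inv_mul_eq_iff_eq_mul.1 hk'
      rw [e']; group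
    have hbk : (b : G) ^ k = 1 := by
      have h2 : (z * (b : G) ^ k) * (z * (b : G) ^ k) = 1 := by
        rw [← h1]
        calc (a : G) * z * (a : G)⁻¹ * ((a : G) * z * (a : G)⁻¹) = (a : G) * (z * z) * (a : G)⁻¹ := by group
          _ = 1 := by rw [hzb2, mul_one, mul_inv_cancel]
      rw [mul_assoc, ← mul_assoc ((b : G) ^ k) z, (hbz.pow_left k).eq, ← mul_assoc, ← mul_assoc, hzb2,
        one_mul, ← pow_add] at h2
      have hd : 7 ∣ k + k := by
        rw [← hob, ← Subgroup.orderOf_coe b]; exact orderOf_dvd_of_pow_eq_one h2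
      obtain ⟨l, rfl⟩ : 7 ∣ k := by omega
      rw [pow_mul, ← SubgroupClass.coe_pow, hb7]
      exact one_pow l
    rw [hbk, mul_one] at h1
    exact ⟨⟨⟨(a : G), Subgroup.mem_centralizer_singleton_iff.2 (mul_inv_eq_iff_eq_mul.1 h1)⟩,
      Subgroup.mem_centralizer_singleton_iff.2 (Subtype.ext (hTb a).eq)⟩, rfl⟩
  -- the fixed part of `Q`
  let R : Subgroup (Subgroup.centralizer ({zb} : Set (U ⧸ N))) := (Q.subgroupOf Ct).map π
  haveI hQn : (Q.subgroupOf Ct).Normal := inferInstance
  haveI hRn : R.Normal := Subgroup.Normal.map hQn π hπsurj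
  let CQ : Subgroup Q := (Subgroup.centralizer ({b} : Set (Subgroup.centralizer ({z} : Set G)))).subgroupOf Q
  let ρ : CQ →* R :=
    (π.comp
      { toFun := fun q : CQ => (⟨(q : Q), q.2⟩ : Ct)
        map_one' := rfl
        map_mul' := fun _ _ => rfl }).codRestrict R fun q => ⟨_, (q : Q).2, rfl⟩
  have hρsurj : Function.Surjective ρ := by
    rintro ⟨_, a, ha, rfl⟩
    exact ⟨⟨⟨a.1, ha⟩, a.2⟩, rfl⟩
  have hQb : ∀ k : ℕ, b ^ k ∈ Q → b ^ k = 1 := fun k hk =>
    Seven.eq_one_of_pow_seven hS hk (by rw [← pow_mul, mul_comm, pow_mul, hb7, one_pow])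
  have hρinj : Function.Injective ρ := (injective_iff_map_eq_one ρ).2 fun q hq => by
    obtain ⟨k, hk⟩ := (hπ1 _).1 (congrArg Subtype.val hq)
    exact Subtype.ext (Subtype.ext (hk.symm.trans (hQb k (hk ▸ (q : Q).2))))
  have hRp : IsPGroup 2 R := (hS.2.2.1.1.1.to_subgroup CQ).of_surjective ρ hρsurj
  have hCQmem : ∀ {v : leechLattice} {q : Q}, ψ v = QuotientGroup.mk q → Cong (Seven.T • v) v → q ∈ CQ :=
    fun hv hc => Subgroup.mem_centralizer_singleton_iff.2 (Seven.commute_of_cong hS hψ hb hb7 hv hc).eq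
  have hclsC : ∀ k : Fin 64, Cong (Seven.T • Seven.cls k) (Seven.cls k) := fun k => by
    rw [Seven.cls_fixed]; exact Cong.refl _
  have hzCQ : zQ hS ∈ CQ :=
    Subgroup.mem_centralizer_singleton_iff.2 (Subgroup.mem_center_iff.1 zC_mem_center b).symm
  have hzq2 : zQ hS * zQ hS = 1 := Subtype.ext (Subtype.ext hzb2)
  -- every element is a lift of one of the classes
  have hCQclass : ∀ q : CQ, ∃ k : Fin 64, ψ (Seven.cls k) = QuotientGroup.mk (q : Q) := fun q => by
    obtain ⟨v, hv⟩ := hψ.2.1 (QuotientGroup.mk (q : Q))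
    refine ⟨Seven.clsIdx v, ?_⟩
    rw [← hv]
    exact ((psi_eq_iff hψ _ _).2 (Seven.cls_complete (Seven.cong_T_of_commute hψ hb hv
      (Subgroup.mem_centralizer_singleton_iff.1 q.2)))).symm
  have hz1 : (QuotientGroup.mk (zQ hS) : Q ⧸ Subgroup.center Q) = 1 :=
    (QuotientGroup.eq_one_iff _).2 (zQ_mem_center hS)
  let liftK : Fin 64 → Q := fun k => if k = 0 then 1 else lift ψ (Seven.cls k)
  have hliftK : ∀ k, ψ (Seven.cls k) = QuotientGroup.mk (liftK k) := fun k => by
    by_cases h : k = 0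
    · simp only [liftK, h, if_true, Seven.cls_zero, psi_zero hψ]; rfl
    · simp only [liftK, h, if_false]; exact psi_lift _
  let f : Fin 64 × Bool → CQ := fun y =>
    if y.2 then ⟨liftK y.1, hCQmem (hliftK _) (hclsC _)⟩ * ⟨zQ hS, hzCQ⟩
    else ⟨liftK y.1, hCQmem (hliftK _) (hclsC _)⟩
  have hmk : ∀ y, (QuotientGroup.mk ((f y : CQ) : Q) : Q ⧸ Subgroup.center Q) = ψ (Seven.cls y.1) := by
    rintro ⟨k, t⟩
    cases t
    · exact (hliftK _).symm
    · show (QuotientGroup.mk (liftK k * zQ hS) : Q ⧸ Subgroup.center Q) = _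
      rw [QuotientGroup.mk_mul, hz1, mul_one, ← hliftK]
  have hf : Function.Bijective f := by
    constructor
    · rintro ⟨k, t⟩ ⟨k', t'⟩ h
      have h1 := (hmk (k, t)).symm.trans ((congrArg (fun q : CQ => (QuotientGroup.mk (q : Q) :
        Q ⧸ Subgroup.center Q)) h).trans (hmk (k', t')))
      have hk : k = k' := by
        rw [← Seven.clsIdx_cls k, ← Seven.clsIdx_cls k']
        exact Seven.clsIdx_congr ((psi_eq_iff hψ _ _).1 h1)
      subst hk
      cases t <;> cases t' <;> first | rfl | exfalso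
      · exact zQ_ne_one hS (mul_eq_left.1 (congrArg Subtype.val h).symm)
      · exact zQ_ne_one hS (mul_eq_left.1 (congrArg Subtype.val h))
    · intro q
      obtain ⟨k, hk⟩ := hCQclass q
      rw [hliftK] at hk
      rcases psi_center hS hk with e' | e'
      · exact ⟨(k, false), Subtype.ext e'.symm⟩
      · exact ⟨(k, true), Subtype.ext e'.symm⟩
  have hCQcard : Nat.card CQ = 2 ^ 7 := by
    rw [← Nat.card_congr (Equiv.ofBijective f hf), Nat.card_prod]
    simp
  have hCQex : IsExtraspecial 2 CQ := by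
    refine extraspecial_of_two_valued ⟨zQ hS, hzCQ⟩ (hS.2.2.1.1.1.to_subgroup CQ)
      (Subgroup.mem_center_iff.2 fun a => Subtype.ext (Subgroup.mem_center_iff.1 (zQ_mem_center hS) a))
      (fun h => zQ_ne_one hS (congrArg Subtype.val h)) (Subtype.ext hzq2) (fun a c => ?_)
      (fun a => (sq_cases hS (a : Q)).imp Subtype.ext Subtype.ext) (fun a => ?_) ?_
    · rcases commutator_cases hS (a : Q) c with h | h
      · left
        exact Subtype.ext (mul_inv_eq_one.1 h)
      · right
        refine Subtype.ext ?_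
        show (a : Q) * c * (a : Q)⁻¹ = (c : Q) * zQ hS
        rw [Subgroup.mem_center_iff.1 (zQ_mem_center hS), ← h, commutatorElement_def]
        group
    · obtain ⟨k, hk⟩ := hCQclass a
      by_cases hk0 : k = 0
      · subst hk0
        rw [Seven.cls_zero, psi_zero hψ, ← QuotientGroup.mk_one] at hk
        rcases psi_center hS hk with e' | e'
        · exact Or.inl (Subtype.ext e')
        · exact Or.inr (Or.inl (Subtype.ext (e'.trans (one_mul _))))
      · obtain ⟨i, hi⟩ := Seven.cls_nondeg k hk0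
        refine Or.inr (Or.inr ⟨⟨lift ψ (Seven.bv i), ?_⟩, fun hc => hi ?_⟩)
        · refine hCQmem (psi_lift _) ?_
          rw [show Seven.bv i = Seven.cls ⟨2 ^ (i : ℕ), Nat.pow_lt_pow_right (by norm_num) i.2⟩ from
            Subtype.ext (funext (Seven.bv_eq_cls i))]
          exact hclsC _
        · exact (commute_iff_dot hS hψ hk (psi_lift _)).1 (congrArg Subtype.val hc.eq)
    · refine ⟨⟨lift ψ (Seven.cls 1), hCQmem (psi_lift _) (hclsC _)⟩, fun h => ?_, fun h => ?_⟩ <;>
      · have h' := congrArg (fun q : CQ => (QuotientGroup.mk (q : Q) : Q ⧸ Subgroup.center Q)) h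
        have h0 : ψ (Seven.cls 1) = ψ (Seven.cls 0) := by
          rw [Seven.cls_zero, psi_zero hψ, psi_lift (ψ := ψ)]
          refine h'.trans ?_
          first
            | exact QuotientGroup.mk_one _
            | exact (QuotientGroup.eq_one_iff _).2 (zQ_mem_center hS)
        have := Seven.clsIdx_congr ((psi_eq_iff hψ _ _).1 h0)
        rw [Seven.clsIdx_cls, Seven.clsIdx_cls] at this
        exact absurd this (by decide)
  have hREx : IsExtraspecial 2 R :=
    extraspecial_congr (MulEquiv.ofBijective ρ ⟨hρinj, hρsurj⟩) hCQex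
  have hRcard : Nat.card R = 2 ^ (2 * 3 + 1) := by
    rw [← Nat.card_congr (Equiv.ofBijective ρ ⟨hρinj, hρsurj⟩), hCQcard]
  -- the homomorphism to the wreath product
  have hF1 := Seven.linHom_eq_one_iff
  have hFsurj := Seven.linHom_surjective
  have hFfix := @Seven.linHom_eq_one_of_fix
  let F := Seven.linHom
  have hgC : ∀ a : Ct, ∀ g : Co0, (QuotientGroup.mk g : Spor.Co1) =
      e (QuotientGroup.mk (a : Subgroup.centralizer ({z} : Set G))) → g ∈ Seven.C0 := by
    intro a g hg
    have h := Seven.conj_pow_of_mk (g := g) (j := 1) (by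
      rw [pow_one, QuotientGroup.mk_mul, QuotientGroup.mk_mul, QuotientGroup.mk_inv, hg,
        show (QuotientGroup.mk Seven.T : Spor.Co1) = e (QuotientGroup.mk b) from hb.symm, ← map_mul,
        ← map_inv, ← map_mul, ← QuotientGroup.mk_mul, ← QuotientGroup.mk_inv, ← QuotientGroup.mk_mul,
        mul_inv_eq_iff_eq_mul.2 (Subgroup.mem_centralizer_singleton_iff.1 a.2), hb])
    rw [pow_one] at h
    exact Subgroup.mem_centralizer_singleton_iff.2 (mul_inv_eq_iff_eq_mul.1 h)
  have hrep : ∀ a : Ct, ∃ g : Seven.C0, (QuotientGroup.mk (g : Co0) : Spor.Co1) =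
      e (QuotientGroup.mk (a : Subgroup.centralizer ({z} : Set G))) := fun a => by
    obtain ⟨g, hg⟩ := QuotientGroup.mk_surjective (e (QuotientGroup.mk (a : Subgroup.centralizer ({z} : Set G))))
    exact ⟨⟨g, hgC a g hg⟩, hg⟩
  choose rep hrep' using hrep
  have hFcongr : ∀ g g' : Seven.C0, (QuotientGroup.mk (g : Co0) : Spor.Co1) = QuotientGroup.mk (g' : Co0) →
      F g = F g' := fun g g' h => by
    have h' : (g : Co0)⁻¹ * g' ∈ Subgroup.center Co0 := QuotientGroup.eq.1 h
    have h1 : F (g⁻¹ * g') = 1 := (hF1 _).2 ⟨0, by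
      rcases center_cases h' with e' | e'
      · exact Or.inl (by simpa using e')
      · exact Or.inr (by simpa using e')⟩
    rwa [map_mul, map_inv, inv_mul_eq_one] at h1
  let Ψ : Ct →* Matrix.SpecialLinearGroup (Fin 3) (ZMod 2) := MonoidHom.mk' (fun a => F (rep a)) fun a c => by
    rw [← map_mul]
    refine hFcongr _ _ ?_
    rw [hrep', Subgroup.coe_mul, Subgroup.coe_mul, QuotientGroup.mk_mul, map_mul, ← hrep', ← hrep',
      QuotientGroup.mk_mul]
  have hΨsurj : Function.Surjective Ψ := by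
    intro p
    obtain ⟨g, rfl⟩ := hFsurj p
    obtain ⟨h, hh⟩ := exists_of_co0 hψ (g : Co0)
    obtain ⟨h', ⟨i, hi⟩, hconj⟩ := Seven.exists_twist hS hb hb7 (g := (g : Co0)) (j := 1)
      (by rw [pow_one]; exact mul_inv_eq_iff_eq_mul.2 (Subgroup.mem_centralizer_singleton_iff.1 g.2)) hh
    rw [pow_one] at hconj
    refine ⟨⟨h', Subgroup.mem_centralizer_singleton_iff.2 (mul_inv_eq_iff_eq_mul.1 hconj)⟩, ?_⟩
    have hTi : F ⟨Seven.T ^ i, pow_mem Seven.T_mem i⟩ = 1 := (hF1 _).2 ⟨i, Or.inl rfl⟩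
    calc F (rep _) = F (⟨Seven.T ^ i, pow_mem Seven.T_mem i⟩ * g) := hFcongr _ _ (by
          rw [hrep', hi, Subgroup.coe_mul, QuotientGroup.mk_mul, QuotientGroup.mk_pow]; rfl)
      _ = F g := by rw [map_mul, hTi, one_mul]
  have hΨker : ∀ a : Ct, Ψ a = 1 ↔ π a ∈ R := by
    intro a
    constructor
    · intro h
      obtain ⟨k, hk⟩ := (hF1 _).1 h
      have hek : e (QuotientGroup.mk (a : Subgroup.centralizer ({z} : Set G))) = Seven.Tbar ^ k := by
        rw [← hrep']
        rcases hk with hk | hk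
        · rw [hk, QuotientGroup.mk_pow]; rfl
        · rw [hk, QuotientGroup.mk_mul, Five.mk_neg, one_mul, QuotientGroup.mk_pow]; rfl
      let bC : Ct := ⟨b, Subgroup.mem_centralizer_singleton_iff.2 rfl⟩
      refine ⟨a * (bC ^ k)⁻¹, ?_, ?_⟩
      · show (a : Subgroup.centralizer ({z} : Set G)) * (b ^ k)⁻¹ ∈ Q
        rw [← QuotientGroup.eq_one_iff, ← map_eq_one_iff e e.injective, QuotientGroup.mk_mul,
          QuotientGroup.mk_inv, map_mul, map_inv, hek, Seven.mk_b_pow hb hb7, mul_inv_cancel]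
      · rw [map_mul, map_inv, (hπ1 (bC ^ k)).2 ⟨k, rfl⟩, inv_one, mul_one]
    · rintro ⟨a', ha', he⟩
      obtain ⟨k, hk⟩ := (hπ1 (a'⁻¹ * a)).1 (by rw [map_mul, map_inv, he, inv_mul_cancel])
      refine (hFcongr _ ⟨Seven.T ^ k, pow_mem Seven.T_mem k⟩ ?_).trans ((hF1 _).2 ⟨k, Or.inl rfl⟩)
      have ha'' : (a' : Subgroup.centralizer ({z} : Set G)) ∈ Q := ha'
      have e1 : e (QuotientGroup.mk (a' : Subgroup.centralizer ({z} : Set G))) = 1 := by
        rw [(QuotientGroup.eq_one_iff _).2 ha'', map_one]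
      have e2 : (a : Subgroup.centralizer ({z} : Set G)) = (a' : Subgroup.centralizer ({z} : Set G)) * b ^ k := by
        rw [hk, Subgroup.coe_mul, Subgroup.coe_inv, mul_inv_cancel_left]
      rw [hrep', e2, QuotientGroup.mk_mul, map_mul, e1, one_mul, Seven.mk_b_pow hb hb7, QuotientGroup.mk_pow]
      rfl
  let θ : Ct →* Subgroup.centralizer ({zb} : Set (U ⧸ N)) ⧸ R := (QuotientGroup.mk' R).comp π
  have hθsurj : Function.Surjective θ := (QuotientGroup.mk'_surjective R).comp hπsurj
  have hθker : θ.ker = Ψ.ker := by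
    ext a
    rw [MonoidHom.mem_ker, MonoidHom.mem_ker, hΨker]
    exact QuotientGroup.eq_one_iff (π a)
  let iso : Subgroup.centralizer ({zb} : Set (U ⧸ N)) ⧸ R ≃* Matrix.SpecialLinearGroup (Fin 3) (ZMod 2) :=
    ((QuotientGroup.quotientKerEquivOfSurjective θ hθsurj).symm.trans
      (QuotientGroup.quotientMulEquivOfEq hθker)).trans
      (QuotientGroup.quotientKerEquivOfSurjective Ψ hΨsurj)
  -- `R` contains its centralizer
  have hself : Subgroup.centralizer (R : Set (Subgroup.centralizer ({zb} : Set (U ⧸ N)))) ≤ R := by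
    intro d hd
    obtain ⟨a, rfl⟩ := hπsurj d
    rw [← hΨker]
    refine hFfix fun k => Seven.act_eq_of_cong ((psi_eq_iff hψ _ _).1 ?_)
    rw [psi_conj hψ _ _ (hrep' a) _ _ (psi_lift _), psi_lift (ψ := ψ) (Seven.cls k)]
    congr 1
    let qC : CQ := ⟨lift ψ (Seven.cls k), hCQmem (psi_lift _) (hclsC _)⟩
    let aq : Ct := ⟨((qC : Q) : Subgroup.centralizer ({z} : Set G)), qC.2⟩
    have hc : π a * π aq = π aq * π a :=
      ((Subgroup.mem_centralizer_iff.1 hd) (π aq) ⟨aq, (qC : Q).2, rfl⟩).symm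
    obtain ⟨n, hn'⟩ := (hπ1 (aq⁻¹ * (a * aq * a⁻¹))).1 (by
      rw [map_mul, map_mul, map_mul, map_inv, map_inv, hc]; group)
    have hmem : (((aq⁻¹ * (a * aq * a⁻¹) : Ct)) : Subgroup.centralizer ({z} : Set G)) ∈ Q :=
      mul_mem (inv_mem (qC : Q).2) ((inferInstance : Q.Normal).conj_mem _ (qC : Q).2 _)
    have h1 : b ^ n = 1 := hQb n (hn'.symm ▸ hmem)
    rw [h1] at hn'
    exact Subtype.ext (inv_mul_eq_one.1 hn'.symm).symm
  have hRfit : R ≤ fittingSubgroup (Subgroup.centralizer ({zb} : Set (U ⧸ N))) :=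
    CfsgLib.Components.le_fittingSubgroup hRp.isNilpotent
  have hlayer : layer (Subgroup.centralizer ({zb} : Set (U ⧸ N))) = ⊥ := by
    have hle : layer (Subgroup.centralizer ({zb} : Set (U ⧸ N))) ≤ R :=
      (CfsgLib.Components.layer_le_centralizer_fittingSubgroup.trans
        (Subgroup.centralizer_le (SetLike.coe_subset_coe.2 hRfit))).trans hself
    refine sSup_eq_bot.2 fun K hK => ?_
    exfalso
    have hKR : K ≤ R := (le_sSup hK).trans hle
    haveI := (hRp.to_le hKR).isNilpotent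
    exact CfsgLib.Components.IsComponent.not_isSolvable hK inferInstance
  have hodd : ∀ M : Subgroup (Subgroup.centralizer ({zb} : Set (U ⧸ N))), M.Normal →
      (Nat.card M).Coprime 2 → M = ⊥ := by
    intro M hM hcop
    have hdis : Disjoint M R := by
      refine disjoint_iff.2 (Subgroup.eq_bot_iff_card _ |>.2 ?_)
      refine Nat.eq_one_of_dvd_coprimes (a := Nat.card M) (b := 2 ^ (2 * 3 + 1))
        (hcop.pow_right _) (Subgroup.card_dvd_of_le inf_le_left) ?_
      rw [← hRcard]
      exact Subgroup.card_dvd_of_le inf_le_right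
    have hMR : M ≤ R := fun a ha => hself (Subgroup.mem_centralizer_iff.2 fun r hr =>
      ((Subgroup.commute_of_normal_of_disjoint M R hM hRn hdis a r ha hr).eq).symm)
    exact disjoint_self.1 (hdis.mono_right hMR)
  have hpcore : pCore 2 (Subgroup.centralizer ({zb} : Set (U ⧸ N))) ≤ R := by
    let proj := iso.toMonoidHom.comp (QuotientGroup.mk' R)
    haveI : (pCore 2 (Subgroup.centralizer ({zb} : Set (U ⧸ N)))).Normal :=
      Subgroup.sSup_normal _ fun _ h => h.1
    haveI := Subgroup.Normal.map (inferInstance : (pCore 2 (Subgroup.centralizer ({zb} : Set (U ⧸ N)))).Normal)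
      proj (iso.surjective.comp (QuotientGroup.mk'_surjective R))
    have hbot := Seven.linear_two_core _ ((CfsgLib.Components.isPGroup_pCore 2).map proj)
    intro d hd
    have h1 : proj d = 1 := Subgroup.mem_bot.1 (hbot ▸ Subgroup.mem_map_of_mem proj hd)
    exact (QuotientGroup.eq_one_iff d).1 (iso.injective (h1.trans (map_one iso).symm))
  have hFS : generalizedFittingSubgroup (Subgroup.centralizer ({zb} : Set (U ⧸ N))) = R := by
    rw [CfsgLib.Components.generalizedFitting_eq_pCore 2 hlayer hodd]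
    exact le_antisymm hpcore (CfsgLib.Components.le_pCore hRp)
  have hzb : orderOf zb = 2 := by
    refine orderOf_eq_prime ?_ fun h => ?_
    · rw [pow_two, ← QuotientGroup.mk_mul, QuotientGroup.eq_one_iff]
      show z * z ∈ B
      rw [hzb2]; exact one_mem _
    · obtain ⟨k, hk⟩ := hinB ((QuotientGroup.eq_one_iff zT).1 h)
      have hk' : (b : G) ^ k = z := hk
      have h7 : z ^ 7 = 1 := by
        rw [← hk', ← pow_mul, mul_comm, pow_mul, ← SubgroupClass.coe_pow, hb7]
        exact one_pow k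
      rw [show (7 : ℕ) = 2 * 3 + 1 from rfl, pow_succ, pow_mul, show z ^ 2 = 1 by rw [pow_two, hzb2],
        one_pow, one_mul] at h7
      exact z_ne_one hS h7
  -- conjugates of `z` in the fixed part
  have hρval : ∀ q : CQ, ((ρ q : Subgroup.centralizer ({zb} : Set (U ⧸ N))) : U ⧸ N) =
      QuotientGroup.mk (toT ⟨(q : Q), q.2⟩) := fun q => rfl
  have hzρ : ((ρ ⟨zQ hS, hzCQ⟩ : Subgroup.centralizer ({zb} : Set (U ⧸ N))) : U ⧸ N) = zb := rfl
  have hconjY : ∀ (k : Fin 64) (t : Bool), Seven.isFrame k = true →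
      ∃ y : U ⧸ N, y * zb * y⁻¹ = ((ρ (f (k, t)) : Subgroup.centralizer ({zb} : Set (U ⧸ N))) : U ⧸ N) := by
    intro k t hk
    obtain ⟨v, hvn, hvc⟩ := Seven.exists_frame_vec k hk
    have hv : ψ v = QuotientGroup.mk ((f (k, t) : CQ) : Q) := by
      rw [(psi_eq_iff hψ _ _).2 hvc, hmk]
    obtain ⟨c, hcz, hcb⟩ := Seven.exists_conj_z hS hψ hb hb7 hvn hv
      (Subgroup.mem_centralizer_singleton_iff.1 (f (k, t)).2)
    refine ⟨QuotientGroup.mk (⟨c, hTmem hcb⟩ : U), ?_⟩
    rw [hρval]
    show QuotientGroup.mk ((⟨c, hTmem hcb⟩ : U) * zT * (⟨c, hTmem hcb⟩ : U)⁻¹) = _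
    congr 1
    exact Subtype.ext hcz
  have hρconj : ∀ q : CQ, IsConj zb ((ρ q : Subgroup.centralizer ({zb} : Set (U ⧸ N))) : U ⧸ N) →
      IsConj z (toG (q : Q)) := by
    intro q hq
    obtain ⟨y, hy⟩ := isConj_iff.1 hq
    obtain ⟨c, rfl⟩ := QuotientGroup.mk_surjective y
    rw [hρval] at hy
    have hm : (c * zT * c⁻¹)⁻¹ * toT ⟨(q : Q), q.2⟩ ∈ N := QuotientGroup.eq.1 hy
    obtain ⟨j, hj⟩ := hinB (g := ((c : G) * z * (c : G)⁻¹)⁻¹ * toG (q : Q)) hm
    have hcq : toG (q : Q) = (c : G) * z * (c : G)⁻¹ * (b : G) ^ j :=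
      inv_mul_eq_iff_eq_mul.1 hj.symm
    have hcomm : Commute ((c : G) * z * (c : G)⁻¹) ((b : G) ^ j) :=
      ((Commute.mul_left ((hTb c).mul_left hbz.symm) (hTb c).inv_left)).pow_right j
    have hsq : toG (q : Q) * toG (q : Q) = (b : G) ^ (j + j) := by
      have hsz : (c : G) * z * (c : G)⁻¹ * ((c : G) * z * (c : G)⁻¹) = 1 := by
        calc (c : G) * z * (c : G)⁻¹ * ((c : G) * z * (c : G)⁻¹) = (c : G) * (z * z) * (c : G)⁻¹ := by group
          _ = 1 := by rw [hzb2, mul_one, mul_inv_cancel]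
      rw [hcq, hcomm.symm.mul_mul_mul_comm, hsz, one_mul, ← pow_add]
    have h1 : b ^ (j + j) = 1 := hQb _ (by
      have e : b ^ (j + j) = ((q : Q) : Subgroup.centralizer ({z} : Set G)) * (q : Q) := Subtype.ext hsq.symm
      rw [e]; exact mul_mem (q : Q).2 (q : Q).2)
    have hd := orderOf_dvd_of_pow_eq_one h1
    rw [hob] at hd
    obtain ⟨l, rfl⟩ : 7 ∣ j := by omega
    refine isConj_iff.2 ⟨(c : G), ?_⟩
    rw [hcq, pow_mul, ← SubgroupClass.coe_pow, hb7, OneMemClass.coe_one, one_pow, mul_one]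
  let S : Finset (Fin 64 × Bool) := Finset.univ.filter fun y => Seven.isFrame y.1 = true ∨ y = (0, true)
  have h29 : {a : Subgroup.centralizer ({zb} : Set (U ⧸ N)) | a ∈ R ∧ IsConj zb (a : U ⧸ N)}.ncard = 29 := by
    have hset : {a : Subgroup.centralizer ({zb} : Set (U ⧸ N)) | a ∈ R ∧ IsConj zb (a : U ⧸ N)} =
        (fun y => (ρ (f y) : Subgroup.centralizer ({zb} : Set (U ⧸ N)))) '' (S : Set (Fin 64 × Bool)) := by
      ext a
      constructor
      · rintro ⟨haR, hac⟩
        obtain ⟨q, hq⟩ := hρsurj ⟨a, haR⟩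
        obtain ⟨⟨k, t⟩, rfl⟩ := hf.2 q
        have ha : a = (ρ (f (k, t)) : Subgroup.centralizer ({zb} : Set (U ⧸ N))) :=
          (congrArg Subtype.val hq).symm
        refine ⟨(k, t), ?_, ha.symm⟩
        rw [ha] at hac
        have hc := hρconj _ hac
        simp only [S, Finset.coe_filter, Finset.mem_univ, true_and, Set.mem_setOf_eq]
        by_cases hk : k = 0
        · subst hk
          cases t
          · exfalso
            obtain ⟨g, hg⟩ := isConj_iff.1 hc
            have h1 : toG ((f (0, false) : CQ) : Q) = 1 := by simp [f, liftK, toG]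
            rw [h1, mul_inv_eq_one, mul_eq_left] at hg
            exact z_ne_one hS hg
          · exact Or.inr rfl
        · left
          have hne : toG ((f (k, t) : CQ) : Q) ≠ z := fun h => hk (by
            have e : ((f (k, t) : CQ) : Q) = zQ hS := Subtype.ext (Subtype.ext h)
            have h0 := hmk (k, t)
            rw [e, hz1, ← psi_zero hψ, ← Seven.cls_zero] at h0
            have := Seven.clsIdx_congr ((psi_eq_iff hψ _ _).1 h0)
            rw [Seven.clsIdx_cls, Seven.clsIdx_cls] at this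
            exact this.symm)
          obtain ⟨v, hvn, hv⟩ := class_of_conj hS hψ hc hne
          exact Seven.isFrame_of_cong hk hvn ((psi_eq_iff hψ _ _).1 (hv.trans (hmk (k, t))))
      · rintro ⟨⟨k, t⟩, hy, rfl⟩
        refine ⟨(ρ (f (k, t))).2, ?_⟩
        simp only [S, Finset.coe_filter, Finset.mem_univ, true_and, Set.mem_setOf_eq] at hy
        rcases hy with hk | he
        · exact isConj_iff.2 (hconjY k t hk)
        · rw [he]
          have e : f (0, true) = ⟨zQ hS, hzCQ⟩ := Subtype.ext (by simp [f, liftK])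
          show IsConj zb ((ρ (f (0, true)) : Subgroup.centralizer ({zb} : Set (U ⧸ N))) : U ⧸ N)
          rw [e, hzρ]
    rw [hset, Set.ncard_image_of_injective _ (fun a c h => hf.1 (hρinj (Subtype.ext h))),
      Set.ncard_coe_finset]
    decide +kernel
  have hnwc : ∃ c : U ⧸ N, (∃ hq : c * zb * c⁻¹ ∈ Subgroup.centralizer ({zb} : Set (U ⧸ N)),
      (⟨c * zb * c⁻¹, hq⟩ : Subgroup.centralizer ({zb} : Set (U ⧸ N))) ∈ R) ∧
      c * zb * c⁻¹ ≠ zb := by
    obtain ⟨y, hy⟩ := hconjY 1 false (by decide)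
    refine ⟨y, ⟨hy ▸ (ρ (f (1, false))).1.2, ?_⟩, ?_⟩
    · have : (⟨y * zb * y⁻¹, hy ▸ (ρ (f (1, false))).1.2⟩ : Subgroup.centralizer ({zb} : Set (U ⧸ N))) =
        (ρ (f (1, false)) : Subgroup.centralizer ({zb} : Set (U ⧸ N))) := Subtype.ext hy
      rw [this]; exact (ρ (f (1, false))).2
    · intro h
      have e' := hρinj (Subtype.ext (Subtype.ext (hy.symm.trans (h.trans hzρ.symm))))
      have e : f (0, true) = ⟨zQ hS, hzCQ⟩ := Subtype.ext (by simp [f, liftK])
      exact absurd (hf.1 (e'.trans e.symm)) (by decide)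
  -- fixed points
  have hzb1 : zb ≠ 1 := fun h => by rw [h, orderOf_one] at hzb; omega
  have hzbzb : zb * zb = 1 := by rw [← pow_two, ← hzb]; exact pow_orderOf_eq_one zb
  have hholds : ∀ D : Subgroup (Subgroup.centralizer ({zb} : Set (U ⧸ N))), D.Normal → D ≤ R → D ≠ ⊥ →
      (ρ ⟨zQ hS, hzCQ⟩ : Subgroup.centralizer ({zb} : Set (U ⧸ N))) ∈ D := by
    intro D hD hDR hDne
    obtain ⟨d, hdD, hd1⟩ := D.bot_or_exists_ne_one.resolve_left hDne
    obtain ⟨q, hq⟩ := hρsurj ⟨d, hDR hdD⟩
    have hqd : (ρ q : Subgroup.centralizer ({zb} : Set (U ⧸ N))) = d := congrArg Subtype.val hq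
    obtain ⟨k, hk⟩ := hCQclass q
    by_cases hk0 : k = 0
    · subst hk0
      rw [Seven.cls_zero, psi_zero hψ, ← QuotientGroup.mk_one] at hk
      rcases psi_center hS hk with e' | e'
      · exfalso
        rw [show q = 1 from Subtype.ext e', map_one, OneMemClass.coe_one] at hqd
        exact hd1 hqd.symm
      · rw [← show q = ⟨zQ hS, hzCQ⟩ from Subtype.ext (e'.trans (one_mul _)), hqd]; exact hdD
    · obtain ⟨i, hi⟩ := Seven.cls_nondeg k hk0
      have hbi : (lift ψ (Seven.bv i)) ∈ CQ := by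
        refine hCQmem (psi_lift _) ?_
        rw [show Seven.bv i = Seven.cls ⟨2 ^ (i : ℕ), Nat.pow_lt_pow_right (by norm_num) i.2⟩ from
          Subtype.ext (funext (Seven.bv_eq_cls i))]
        exact hclsC _
      let q' : CQ := ⟨lift ψ (Seven.bv i), hbi⟩
      have hnc : ¬ Commute (q : Q) (q' : Q) := fun hc =>
        hi ((commute_iff_dot hS hψ hk (psi_lift _)).1 hc)
      have hcq : ⁅(q : Q), (q' : Q)⁆ = zQ hS := (commutator_cases hS _ _).resolve_left fun h =>
        hnc (commutatorElement_eq_one_iff_commute.1 h)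
      have hrel : (ρ ⟨zQ hS, hzCQ⟩ : Subgroup.centralizer ({zb} : Set (U ⧸ N))) =
          d * ((ρ q' : Subgroup.centralizer ({zb} : Set (U ⧸ N))) * d⁻¹ *
            (ρ q' : Subgroup.centralizer ({zb} : Set (U ⧸ N)))⁻¹) := by
        rw [← hqd, show (⟨zQ hS, hzCQ⟩ : CQ) = q * (q' * q⁻¹ * q'⁻¹) from Subtype.ext (by
          show zQ hS = (q : Q) * ((q' : Q) * (q : Q)⁻¹ * (q' : Q)⁻¹)
          rw [← hcq, commutatorElement_def]; group)]
        simp only [map_mul, map_inv, Subgroup.coe_mul, Subgroup.coe_inv]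
      rw [hrel]
      exact mul_mem hdD (hD.conj_mem _ (inv_mem hdD) _)
  -- a normal subgroup holding `zb` holds the fixed part
  have hgen : ∀ M : Subgroup (U ⧸ N), M.Normal → zb ∈ M →
      ∀ q : CQ, ((ρ q : Subgroup.centralizer ({zb} : Set (U ⧸ N))) : U ⧸ N) ∈ M := by
    intro M hM hzM
    let σ : CQ →* U ⧸ N := ((Subgroup.centralizer ({zb} : Set (U ⧸ N))).subtype.comp R.subtype).comp ρ
    let H : Subgroup CQ := M.comap σ
    have hzH : (⟨zQ hS, hzCQ⟩ : CQ) ∈ H := show σ _ ∈ M from (hzρ ▸ hzM :)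
    have hfr : ∀ k : Fin 64, (Seven.isFrame k = true ∨ k = 0) → f (k, false) ∈ H := by
      rintro k (hk | rfl)
      · obtain ⟨y, hy⟩ := hconjY k false hk
        show σ (f (k, false)) ∈ M
        rw [show σ (f (k, false)) = y * zb * y⁻¹ from hy.symm]
        exact hM.conj_mem _ hzM _
      · rw [show f (0, false) = 1 from Subtype.ext (by simp [f, liftK])]
        exact one_mem _
    intro q
    show q ∈ H
    obtain ⟨k, hk⟩ := hCQclass q
    obtain ⟨lo, hi, hlo, hhi, hsum⟩ := (by decide +kernel : ∀ k : Fin 64, ∃ lo hi : Fin 64,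
      (Seven.isFrame lo = true ∨ lo = 0) ∧ (Seven.isFrame hi = true ∨ hi = 0) ∧ Seven.xadd lo hi = k) k
    have hq : (QuotientGroup.mk ((f (lo, false) * f (hi, false) : CQ) : Q) : Q ⧸ Subgroup.center Q) =
        QuotientGroup.mk (q : Q) := by
      rw [Subgroup.coe_mul, QuotientGroup.mk_mul, hmk, hmk, ← hψ.1, ← hk,
        (psi_eq_iff hψ _ _).2 (Seven.cls_add lo hi), hsum]
    rcases psi_center hS hq with e' | e'
    · rw [show q = f (lo, false) * f (hi, false) from Subtype.ext e']
      exact mul_mem (hfr _ hlo) (hfr _ hhi)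
    · rw [show q = f (lo, false) * f (hi, false) * ⟨zQ hS, hzCQ⟩ from Subtype.ext e']
      exact mul_mem (mul_mem (hfr _ hlo) (hfr _ hhi)) hzH
  refine ⟨⟨zb, R, hRn, ⟨hzb, hFS, hREx, hRcard, hnwc⟩, ⟨iso⟩, h29⟩, ?_, ?_, ?_⟩
  · -- no normal subgroup of prime power order
    intro p hp P hP hPp
    haveI := Fact.mk hp
    haveI := hP
    let D : Subgroup (Subgroup.centralizer ({zb} : Set (U ⧸ N))) := P.subgroupOf _
    have hDn : D.Normal := inferInstance
    have hDp : IsPGroup p D := hPp.comap_of_injective _ (Subgroup.subtype_injective _)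
    rcases eq_or_ne p 2 with rfl | hp2
    · by_contra hne
      have hDR : D ≤ R := le_trans (CfsgLib.Components.le_pCore hDp) hpcore
      have hDne : D ≠ ⊥ := fun h => hne (Seven.pgroup_eq_bot_of_fpf hPp hzbzb
        fun a ha hc => by
          have : (⟨a, Subgroup.mem_centralizer_singleton_iff.2 hc.eq⟩ :
              Subgroup.centralizer ({zb} : Set (U ⧸ N))) ∈ D := ha
          rw [h, Subgroup.mem_bot] at this
          exact congrArg Subtype.val this)
      have hzP : zb ∈ P := hholds D hDn hDR hDne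
      -- the centre of `P`
      obtain ⟨w, hw1⟩ : ∃ w : Subgroup.center P, w ≠ 1 := by
        haveI : Nontrivial P := ⟨⟨⟨zb, hzP⟩, 1, fun h => hzb1 (congrArg Subtype.val h)⟩⟩
        haveI := hPp.center_nontrivial
        exact exists_ne 1
      have hwP : ∀ {a : U ⧸ N}, a ∈ P → a * (w : P) = (w : P) * a := fun {a} ha =>
        congrArg Subtype.val (Subgroup.mem_center_iff.1 w.2 ⟨a, ha⟩)
      let wD : Subgroup.centralizer ({zb} : Set (U ⧸ N)) :=
        ⟨(w : P), Subgroup.mem_centralizer_singleton_iff.2 (hwP hzP).symm⟩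
      have hwR : wD ∈ R := hDR (show ((w : P) : U ⧸ N) ∈ P from (w : P).2)
      obtain ⟨q, hq⟩ := hρsurj ⟨wD, hwR⟩
      have hwz : ((w : P) : U ⧸ N) = zb := by
        obtain ⟨k, hk⟩ := hCQclass q
        have hqv : ((ρ q : Subgroup.centralizer ({zb} : Set (U ⧸ N))) : U ⧸ N) = (w : P) :=
          congrArg (fun a : R => ((a : Subgroup.centralizer ({zb} : Set (U ⧸ N))) : U ⧸ N)) hq
        by_cases hk0 : k = 0
        · subst hk0
          rw [Seven.cls_zero, psi_zero hψ, ← QuotientGroup.mk_one] at hk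
          rcases psi_center hS hk with e' | e'
          · exfalso
            rw [show q = 1 from Subtype.ext e', map_one] at hqv
            exact hw1 (Subtype.ext (Subtype.ext hqv.symm))
          · rw [← hqv, show q = ⟨zQ hS, hzCQ⟩ from Subtype.ext (e'.trans (one_mul _)), hzρ]
        · exfalso
          obtain ⟨i, hi⟩ := Seven.cls_nondeg k hk0
          have hbi : (lift ψ (Seven.bv i)) ∈ CQ := by
            refine hCQmem (psi_lift _) ?_
            rw [show Seven.bv i = Seven.cls ⟨2 ^ (i : ℕ), Nat.pow_lt_pow_right (by norm_num) i.2⟩ from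
              Subtype.ext (funext (Seven.bv_eq_cls i))]
            exact hclsC _
          refine hi ((commute_iff_dot hS hψ hk (psi_lift _)).1 ?_)
          have hc : (ρ q) * ρ ⟨lift ψ (Seven.bv i), hbi⟩ = ρ ⟨lift ψ (Seven.bv i), hbi⟩ * ρ q := by
            refine Subtype.ext (Subtype.ext ?_)
            show ((ρ q : Subgroup.centralizer ({zb} : Set (U ⧸ N))) : U ⧸ N) *
              ((ρ ⟨lift ψ (Seven.bv i), hbi⟩ : Subgroup.centralizer ({zb} : Set (U ⧸ N))) : U ⧸ N) = _
            rw [hqv, ← hwP (hgen P hP hzP _)]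
            show _ = _ * ((ρ q : Subgroup.centralizer ({zb} : Set (U ⧸ N))) : U ⧸ N)
            rw [hqv]
          rw [← map_mul, ← map_mul] at hc
          exact congrArg Subtype.val (hρinj hc)
      obtain ⟨y, ⟨hq', hyR⟩, hyne⟩ := hnwc
      apply hyne
      -- the conjugate is central as well
      obtain ⟨q, hq⟩ := hρsurj ⟨_, hyR⟩
      have hyP : y * zb * y⁻¹ ∈ P := hP.conj_mem _ hzP _
      have hcen : ∀ a ∈ P, a * (y * zb * y⁻¹) = y * zb * y⁻¹ * a := by
        intro a ha
        have := hwP (hP.conj_mem a ha y⁻¹)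
        rw [hwz, inv_inv] at this
        calc a * (y * zb * y⁻¹) = y * (y⁻¹ * a * y * zb) * y⁻¹ := by group
          _ = y * (zb * (y⁻¹ * a * y)) * y⁻¹ := by rw [this]
          _ = y * zb * y⁻¹ * a := by group
      have hqv : ((ρ q : Subgroup.centralizer ({zb} : Set (U ⧸ N))) : U ⧸ N) = y * zb * y⁻¹ :=
        congrArg (fun a : R => ((a : Subgroup.centralizer ({zb} : Set (U ⧸ N))) : U ⧸ N)) hq
      obtain ⟨k, hk⟩ := hCQclass q
      have hk0 : k = 0 := by
        by_contra hk0
        obtain ⟨i, hi⟩ := Seven.cls_nondeg k hk0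
        have hbi : (lift ψ (Seven.bv i)) ∈ CQ := by
          refine hCQmem (psi_lift _) ?_
          rw [show Seven.bv i = Seven.cls ⟨2 ^ (i : ℕ), Nat.pow_lt_pow_right (by norm_num) i.2⟩ from
            Subtype.ext (funext (Seven.bv_eq_cls i))]
          exact hclsC _
        refine hi ((commute_iff_dot hS hψ hk (psi_lift _)).1 ?_)
        have hc : (ρ q) * ρ ⟨lift ψ (Seven.bv i), hbi⟩ = ρ ⟨lift ψ (Seven.bv i), hbi⟩ * ρ q := by
          refine Subtype.ext (Subtype.ext ?_)
          show ((ρ q : Subgroup.centralizer ({zb} : Set (U ⧸ N))) : U ⧸ N) *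
            ((ρ ⟨lift ψ (Seven.bv i), hbi⟩ : Subgroup.centralizer ({zb} : Set (U ⧸ N))) : U ⧸ N) = _
          rw [hqv, ← hcen _ (hgen P hP hzP _)]
          show _ = _ * ((ρ q : Subgroup.centralizer ({zb} : Set (U ⧸ N))) : U ⧸ N)
          rw [hqv]
        rw [← map_mul, ← map_mul] at hc
        exact congrArg Subtype.val (hρinj hc)
      subst hk0
      rw [Seven.cls_zero, psi_zero hψ, ← QuotientGroup.mk_one] at hk
      rcases psi_center hS hk with e' | e'
      · exfalso
        rw [show q = 1 from Subtype.ext e', map_one] at hqv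
        have hyz : y * zb * y⁻¹ = 1 := hqv.symm
        rw [mul_inv_eq_one, mul_eq_left] at hyz
        exact hzb1 hyz
      · rw [← hqv, show q = ⟨zQ hS, hzCQ⟩ from Subtype.ext (e'.trans (one_mul _)), hzρ]
    · -- odd order
      have hcopr : ∀ M : Subgroup (Subgroup.centralizer ({zb} : Set (U ⧸ N))), IsPGroup p M →
          (Nat.card M).Coprime 2 := fun M hM => by
        obtain ⟨n, hn⟩ := IsPGroup.iff_card.1 hM
        rw [hn]
        exact Nat.Coprime.pow_left n ((Nat.coprime_primes hp Nat.prime_two).2 hp2)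
      have hD1 : D = ⊥ := hodd D hDn (hcopr D hDp)
      have hfz : ∀ a ∈ P, Commute a zb → a = 1 := fun a ha hc => by
        have : (⟨a, Subgroup.mem_centralizer_singleton_iff.2 hc.eq⟩ :
            Subgroup.centralizer ({zb} : Set (U ⧸ N))) ∈ D := ha
        rw [hD1, Subgroup.mem_bot] at this
        exact congrArg Subtype.val this
      have hfy : ∀ (y : U ⧸ N), ∀ a ∈ P, Commute a (y * zb * y⁻¹) → a = 1 := fun y a ha hc => by
        have h1 := hfz (y⁻¹ * a * y) (by simpa using hP.conj_mem a ha y⁻¹) (by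
          have := hc.map (MulAut.conj y⁻¹)
          simp only [MulAut.conj_apply, inv_inv] at this
          rwa [show y⁻¹ * (y * zb * y⁻¹) * y = zb by group] at this)
        calc a = y * (y⁻¹ * a * y) * y⁻¹ := by group
          _ = 1 := by rw [h1]; group
      obtain ⟨y, hy⟩ := hconjY 1 false (by decide)
      obtain ⟨y', hy'⟩ := hconjY 1 true (by decide)
      have hprod : ((ρ (f (1, true)) : Subgroup.centralizer ({zb} : Set (U ⧸ N))) : U ⧸ N) =
          ((ρ (f (1, false)) : Subgroup.centralizer ({zb} : Set (U ⧸ N))) : U ⧸ N) * zb := by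
        rw [show f (1, true) = f (1, false) * ⟨zQ hS, hzCQ⟩ from rfl, map_mul, Subgroup.coe_mul,
          Subgroup.coe_mul, hzρ]
      set x₁ := ((ρ (f (1, false)) : Subgroup.centralizer ({zb} : Set (U ⧸ N))) : U ⧸ N) with hx₁
      have hxx : x₁ * x₁ = 1 := by
        rw [← hy]
        calc y * zb * y⁻¹ * (y * zb * y⁻¹) = y * (zb * zb) * y⁻¹ := by group
          _ = 1 := by rw [hzbzb, mul_one, mul_inv_cancel]
      have i1 := Seven.inverts_of_fpf hzbzb hfz
      have i2 := Seven.inverts_of_fpf (M := P) hxx (hy ▸ hfy y)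
      refine (Subgroup.eq_bot_iff_forall _).2 fun a ha => ?_
      have h12 : Commute a (x₁ * zb) := by
        refine (mul_inv_eq_iff_eq_mul.1 ?_).symm
        calc x₁ * zb * a * (x₁ * zb)⁻¹ = x₁ * (zb * a * zb⁻¹) * x₁⁻¹ := by group
          _ = a := by rw [i1 a ha, i2 _ (inv_mem ha), inv_inv]
      rw [← hprod, ← hy'] at h12
      exact hfy y' a ha h12
  · intro E hE hEc q hqb u hu
    haveI := hE
    let D : Subgroup (Subgroup.centralizer ({zb} : Set (U ⧸ N))) := E.subgroupOf _
    have hDn : D.Normal := inferInstance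
    haveI := hRn
    have hDRne : D ⊓ R ≠ ⊥ := by
      intro hbot
      have hDle : D ≤ R := fun a ha => hself (Subgroup.mem_centralizer_iff.2 fun r hr =>
        ((Subgroup.commute_of_normal_of_disjoint D R hDn hRn (disjoint_iff.2 hbot) a r ha hr).eq).symm)
      have hD1 : D = ⊥ := by rwa [inf_eq_left.2 hDle] at hbot
      have hfz : ∀ a ∈ E, Commute a zb → a = 1 := fun a ha hc => by
        have : (⟨a, Subgroup.mem_centralizer_singleton_iff.2 hc.eq⟩ :
            Subgroup.centralizer ({zb} : Set (U ⧸ N))) ∈ D := ha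
        rw [hD1, Subgroup.mem_bot] at this
        exact congrArg Subtype.val this
      have hinv := Seven.inverts_of_fpf hzbzb hfz
      have hEbot : E = ⊥ := by
        refine le_bot_iff.1 (hEc ▸ fun a ha => Subgroup.mem_centralizer_iff.2 fun c hc => ?_)
        have h1 := hinv _ (mul_mem ha hc)
        have h2 : zb * (a * c) * zb⁻¹ = a⁻¹ * c⁻¹ := by
          rw [← hinv a ha, ← hinv c hc]; group
        have h3 := congrArg Inv.inv (h1.symm.trans h2)
        rw [inv_inv, mul_inv_rev, inv_inv, inv_inv] at h3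
        exact h3.symm
      rw [hEbot] at hEc
      have : zb ∈ Subgroup.centralizer ((⊥ : Subgroup (U ⧸ N)) : Set (U ⧸ N)) :=
        Subgroup.mem_centralizer_iff.2 fun a ha => by
          rw [Subgroup.mem_bot.1 ha, one_mul, mul_one]
      rw [hEc, Subgroup.mem_bot] at this
      exact hzb1 this
    have hzE : zb ∈ E := (hholds (D ⊓ R) inferInstance inf_le_right hDRne).1
    have := hgen E hE hzE ⟨q, Subgroup.mem_centralizer_singleton_iff.2 hqb.eq⟩
    rw [hρval] at this
    rwa [show u = toT ⟨(q : Subgroup.centralizer ({z} : Set G)), Subgroup.mem_centralizer_singleton_iff.2 hqb.eq⟩ from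
      Subtype.ext hu]
  · intro zT' hzT'
    obtain rfl : zT = zT' := Subtype.ext hzT'.symm
    refine ⟨R, hRn, ⟨hzb, hFS, hREx, hRcard, hnwc⟩, ⟨iso⟩, h29, ?_, fun a ha => ?_⟩
    · -- an elementary abelian subgroup of order sixteen
      let S₀ : Set CQ := {q | ∃ k : Fin 64, (k : ℕ) < 8 ∧ ψ (Seven.cls k) = QuotientGroup.mk (q : Q)}
      have hxor : ∀ j k : Fin 64, (j : ℕ) < 8 → (k : ℕ) < 8 → (Seven.xadd j k : ℕ) < 8 := by decide +kernel
      have hsq : ∀ q ∈ S₀, q * q = 1 := by
        rintro q ⟨k, hk, hkq⟩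
        have h32 : ∀ k : Fin 64, (k : ℕ) < 8 → (32 : ℤ) ∣ sqNorm (Seven.cls k : GolayPt → ℤ) := by
          decide +kernel
        exact Subtype.ext ((sq_one_iff hS hψ hkq).2 (h32 k hk))
      let S : Subgroup CQ :=
        { carrier := S₀
          one_mem' := ⟨0, by norm_num, by rw [Seven.cls_zero, psi_zero hψ]; rfl⟩
          mul_mem' := fun {q q'} hq hq' => by
            obtain ⟨j, hj, hjq⟩ := hq
            obtain ⟨k, hk, hkq⟩ := hq'
            refine ⟨Seven.xadd j k, hxor j k hj hk, ?_⟩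
            rw [← (psi_eq_iff hψ _ _).2 (Seven.cls_add j k), hψ.1, hjq, hkq]
            rfl
          inv_mem' := fun {q} hq => by rw [inv_eq_of_mul_eq_one_right (hsq q hq)]; exact hq }
      refine ⟨S.map ρ, ⟨⟨⟨?_⟩⟩, ?_⟩, ?_⟩
      · rintro ⟨_, q, ⟨j, hj, hjq⟩, rfl⟩ ⟨_, q', ⟨k, hk, hkq⟩, rfl⟩
        have h16 : ∀ j k : Fin 64, (j : ℕ) < 8 → (k : ℕ) < 8 →
            (16 : ℤ) ∣ dotInt (Seven.cls j : GolayPt → ℤ) (Seven.cls k : GolayPt → ℤ) := by decide +kernel
        refine Subtype.ext ?_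
        show ρ q * ρ q' = ρ q' * ρ q
        rw [← map_mul, ← map_mul,
          show q * q' = q' * q from Subtype.ext ((commute_iff_dot hS hψ hjq hkq).2 (h16 j k hj hk)).eq]
      · rintro _ ⟨q, hq, rfl⟩
        rw [pow_two, ← map_mul, hsq q hq, map_one]
      · rw [Subgroup.card_map_of_injective hρinj]
        let P : Fin 64 × Bool → Prop := fun y => (y.1 : ℕ) < 8
        have key : ∀ y, P y ↔ f y ∈ S := fun y => by
          refine ⟨fun h => ⟨y.1, h, (hmk y).symm⟩, fun ⟨k, hk, hkq⟩ => ?_⟩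
          rw [hmk, psi_eq_iff hψ] at hkq
          have := Seven.clsIdx_congr hkq
          rw [Seven.clsIdx_cls, Seven.clsIdx_cls] at this
          subst this
          exact hk
        rw [← Nat.card_congr ((Equiv.ofBijective f hf).subtypeEquiv (p := P) (q := fun q => q ∈ S) key),
          Nat.card_eq_fintype_card]
        decide +kernel
    obtain ⟨q, hq⟩ := hρsurj ⟨a, ha⟩
    refine ⟨(q : Q), Subgroup.mem_centralizer_singleton_iff.1 q.2, _, rfl, (hρval q).symm.trans ?_⟩
    exact congrArg (fun r : R => ((r : Subgroup.centralizer ({zb} : Set (U ⧸ N))) : U ⧸ N)) hq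

/-- The centraliser of `b` modulo `⟨b⟩`: of Held type, without normal subgroups of prime power
order, and each normal subgroup with trivial centraliser holds the image of the fixed part of `Q`. -/
theorem held_core (B : Subgroup G) (hB : B = Subgroup.zpowers (b : G))
    [hn : (B.subgroupOf (Subgroup.centralizer (B : Set G))).Normal] :
    IsOfHeldType (↥(Subgroup.centralizer (B : Set G)) ⧸
      B.subgroupOf (Subgroup.centralizer (B : Set G))) ∧
    (∀ (p : ℕ), p.Prime → ∀ (P : Subgroup (↥(Subgroup.centralizer (B : Set G)) ⧸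
      B.subgroupOf (Subgroup.centralizer (B : Set G)))), P.Normal → IsPGroup p P → P = ⊥) ∧
    (∀ (E : Subgroup (↥(Subgroup.centralizer (B : Set G)) ⧸
      B.subgroupOf (Subgroup.centralizer (B : Set G)))), E.Normal → Subgroup.centralizer (SetLike.coe E) = ⊥ →
      ∀ q : Q, Commute (q : Subgroup.centralizer ({z} : Set G)) b →
      ∀ u : Subgroup.centralizer (B : Set G), (u : G) = toG q → QuotientGroup.mk u ∈ E) :=
  have h := held_full hS hψ hb hb7 B hB
  ⟨h.1, h.2.1, h.2.2.1⟩

end CfsgLib.MonsterType
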