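import Cfsg.Agent.MonsterType.SevenHeld

/-!
# Reduction to the standard element of order seven
-/

set_option autoImplicit false

namespace CfsgLib.MonsterType

open Cfsg CfsgLib.Leech CfsgLib.Mathieu

variable {G : Type*} [Group G] [Finite G] {z : G}
variable {Q : Subgroup (Subgroup.centralizer ({z} : Set G))} [Q.Normal]
  {e : (Subgroup.centralizer ({z} : Set G)) ⧸ Q ≃* Spor.Co1}
  {ψ : leechLattice → Q ⧸ Subgroup.center Q}
  (hS : IsExtraspecialCentralizerSetting z Q 12) (hψ : IsLeechModTwoIso Q e ψ)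
include hS hψ

/-- Seven divides the order of the joint centralizer exactly once. -/
theorem Seven.pair_factorization {s : G} (hsQ : ∃ hsc : s ∈ Subgroup.centralizer ({z} : Set G),
      (⟨s, hsc⟩ : Subgroup.centralizer ({z} : Set G)) ∈ Q) (hs : IsConj z s) (hs1 : s ≠ z) :
    (Nat.card ↥(Subgroup.centralizer ({z, s} : Set G))).factorization 7 = 1 := by
  classical
  haveI : Fact (Nat.Prime 7) := ⟨by norm_num⟩
  haveI := co0_finite
  obtain ⟨hsc, hsq⟩ := hsQ
  let x : Q := ⟨⟨s, hsc⟩, hsq⟩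
  obtain ⟨v, hvn, hv⟩ := class_of_conj hS hψ (x := x) hs hs1
  obtain ⟨m₀, hm₀⟩ := transitive_norm64 frameV v (sqNorm_eight none) hvn
  obtain ⟨e₁, ψ₁, hψ₁, hval⟩ := exists_adapted hψ m₀
  have hx : ψ₁ frameV = QuotientGroup.mk x := by rw [hval, hm₀, hv]
  let M : Subgroup (Subgroup.centralizer ({z} : Set G)) :=
    Subgroup.centralizer {(x : Subgroup.centralizer ({z} : Set G))}
  have hMmap : M.map (Subgroup.centralizer ({z} : Set G)).subtype =
      Subgroup.centralizer ({z, s} : Set G) := by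
    ext g
    constructor
    · rintro ⟨a, ha, rfl⟩
      refine Subgroup.mem_centralizer_iff.2 ?_
      rintro y (rfl | rfl)
      · exact (Subgroup.mem_centralizer_singleton_iff.1 a.2).symm
      · exact (congrArg Subtype.val (Subgroup.mem_centralizer_singleton_iff.1 ha)).symm
    · intro hg
      refine ⟨⟨g, Subgroup.mem_centralizer_singleton_iff.2
        (Subgroup.mem_centralizer_iff.1 hg z (by simp)).symm⟩,
        Subgroup.mem_centralizer_singleton_iff.2 (Subtype.ext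
          (Subgroup.mem_centralizer_iff.1 hg s (by simp)).symm), rfl⟩
  have hMdvd : Nat.card M ∣ 2 ^ 25 * (4096 * 244823040) :=
    card_frame_centralizer_dvd hS hψ₁ hx M fun m hm => Subgroup.mem_centralizer_singleton_iff.1 hm
  have hMcard : Nat.card ↥(Subgroup.centralizer ({z, s} : Set G)) = Nat.card M := by
    rw [← hMmap, Subgroup.card_map_of_injective (Subgroup.subtype_injective _)]
  -- five divides the order
  have h7M : 7 ∣ Nat.card M := by
    obtain ⟨h, hh, hc⟩ := lift_centralising hS hψ₁ hx (frame_not_center hS hψ₁ hx) Seven.T_mem_classStab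
    have hne : (QuotientGroup.mk Seven.T : Spor.Co1) ≠ 1 := fun h1 => Seven.T_ne_one (by
      simpa using Seven.pow_of_mk_eq (i := 1) (j := 0) (by simpa [Seven.Tbar] using h1))
    have ho : orderOf (QuotientGroup.mk Seven.T : Spor.Co1) = 7 := orderOf_eq_prime (by
      rw [← QuotientGroup.mk_pow, Seven.T_pow_seven]; rfl) hne
    have hd : orderOf (QuotientGroup.mk Seven.T : Spor.Co1) ∣ orderOf h := by
      rw [hh]
      exact orderOf_map_dvd (e₁.toMonoidHom.comp (QuotientGroup.mk' Q)) h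
    rw [ho] at hd
    exact hd.trans (Subgroup.orderOf_dvd_natCard M (Subgroup.mem_centralizer_singleton_iff.2 hc.eq))
  have hfac : (Nat.card M).factorization 7 = 1 := by
    have hne : Nat.card M ≠ 0 := Nat.card_pos.ne'
    refine le_antisymm ?_ ?_
    · by_contra h
      exact Seven.not_seven_sq hMdvd
        ((Nat.Prime.pow_dvd_iff_le_factorization (by norm_num) hne).2 (by omega))
    · exact (Nat.Prime.dvd_iff_one_le_factorization (by norm_num) hne).1 h7M
  rw [hMcard]; exact hfac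

/-- Adapted data for the joint centralizer: `s` becomes the standard cross. -/
theorem Seven.normal_form' {s : G} {hsc : s ∈ Subgroup.centralizer ({z} : Set G)}
    (hsq : (⟨s, hsc⟩ : Subgroup.centralizer ({z} : Set G)) ∈ Q) (hs : IsConj z s) (hs1 : s ≠ z)
    (B : Subgroup G) (hB : B ≤ Subgroup.centralizer ({z, s} : Set G)) (hBp : Nat.card B = 7) :
    ∃ (e' : (Subgroup.centralizer ({z} : Set G)) ⧸ Q ≃* Spor.Co1)
      (ψ' : leechLattice → Q ⧸ Subgroup.center Q) (b : Subgroup.centralizer ({z} : Set G)),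
      IsLeechModTwoIso Q e' ψ' ∧ e' (QuotientGroup.mk b) = Seven.Tbar ∧ b ^ 7 = 1 ∧
      B = Subgroup.zpowers (b : G) ∧ ψ' frameV = QuotientGroup.mk (⟨⟨s, hsc⟩, hsq⟩ : Q) := by
  classical
  haveI : Fact (Nat.Prime 7) := ⟨by norm_num⟩
  haveI := co0_finite
  let x : Q := ⟨⟨s, hsc⟩, hsq⟩
  obtain ⟨v, hvn, hv⟩ := class_of_conj hS hψ (x := x) hs hs1
  obtain ⟨m₀, hm₀⟩ := transitive_norm64 frameV v (sqNorm_eight none) hvn
  obtain ⟨e₁, ψ₁, hψ₁, hval⟩ := exists_adapted hψ m₀
  have hx : ψ₁ frameV = QuotientGroup.mk x := by rw [hval, hm₀, hv]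
  let M : Subgroup (Subgroup.centralizer ({z} : Set G)) :=
    Subgroup.centralizer {(x : Subgroup.centralizer ({z} : Set G))}
  have hMmap : M.map (Subgroup.centralizer ({z} : Set G)).subtype =
      Subgroup.centralizer ({z, s} : Set G) := by
    ext g
    constructor
    · rintro ⟨a, ha, rfl⟩
      refine Subgroup.mem_centralizer_iff.2 ?_
      rintro y (rfl | rfl)
      · exact (Subgroup.mem_centralizer_singleton_iff.1 a.2).symm
      · exact (congrArg Subtype.val (Subgroup.mem_centralizer_singleton_iff.1 ha)).symm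
    · intro hg
      refine ⟨⟨g, Subgroup.mem_centralizer_singleton_iff.2
        (Subgroup.mem_centralizer_iff.1 hg z (by simp)).symm⟩,
        Subgroup.mem_centralizer_singleton_iff.2 (Subtype.ext
          (Subgroup.mem_centralizer_iff.1 hg s (by simp)).symm), rfl⟩
  obtain ⟨b₀, hb₀⟩ : ∃ b₀ : B, orderOf b₀ = 7 := exists_prime_orderOf_dvd_card' 7 (by rw [hBp])
  obtain ⟨b, hbM, hbb⟩ : ∃ b ∈ M, (b : G) = (b₀ : G) := by
    have := hB b₀.2
    rw [← hMmap] at this
    obtain ⟨b, hbM, hb⟩ := this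
    exact ⟨b, hbM, hb⟩
  have hob : orderOf b = 7 := by
    rw [← Subgroup.orderOf_coe, hbb, Subgroup.orderOf_coe]; exact hb₀
  obtain ⟨g, hg⟩ := QuotientGroup.mk_surjective (e₁ (QuotientGroup.mk b))
  have hgS : g ∈ classStab frameV :=
    mem_classStab_of_commute hψ₁ hx (Subgroup.mem_centralizer_singleton_iff.1 hbM) hg
  have hb7 : b ^ 7 = 1 := by rw [← hob]; exact pow_orderOf_eq_one b
  have hbQ : b ∉ Q := fun h => by
    rw [Seven.eq_one_of_pow_seven hS h hb7, orderOf_one] at hob; omega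
  -- a representative of order five
  have hg8 : (QuotientGroup.mk (g ^ 8) : Spor.Co1) = e₁ (QuotientGroup.mk b) := by
    rw [QuotientGroup.mk_pow, hg, ← map_pow, ← QuotientGroup.mk_pow, pow_succ, hb7, one_mul]
  have hg8o : orderOf (g ^ 8) = 7 := by
    refine orderOf_eq_prime ?_ fun h => hbQ ?_
    · have h7 : g ^ 7 ∈ Subgroup.center Co0 := by
        rw [← QuotientGroup.eq_one_iff, QuotientGroup.mk_pow, hg, ← map_pow, ← QuotientGroup.mk_pow,
          hb7, QuotientGroup.mk_one, map_one]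
      rw [← pow_mul, show 8 * 7 = 7 * 2 * 4 from rfl, pow_mul, pow_mul]
      rcases center_cases h7 with h | h <;> rw [h]
      · rw [one_pow, one_pow]
      · rw [sq, negCo0_sq, one_pow]
    · rw [h, QuotientGroup.mk_one, eq_comm, map_eq_one_iff e₁ e₁.injective,
        QuotientGroup.eq_one_iff] at hg8
      exact hg8
  have hSdvd : ¬ 7 ^ 2 ∣ Nat.card (classStab frameV) := by
    refine Seven.not_seven_sq (dvd_mul_of_dvd_right (dvd_of_eq ?_) _)
    rw [← card_crossStab]
    refine Nat.card_congr (Equiv.subtypeEquivRight fun g => ⟨preservesCross_of_classStab, fun h => ?_⟩)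
    obtain ⟨τ, hτ, c, hc, rfl⟩ := eq_monoCo0 h
    exact monoCo0_mem_classStab _ _
  obtain ⟨k, i, hki⟩ := conj_of_prime_order
    (a := (⟨Seven.T, Seven.T_mem_classStab⟩ : classStab frameV))
    (c := (⟨g ^ 8, pow_mem hgS 8⟩ : classStab frameV))
    (by rw [← Subgroup.orderOf_coe]; exact Seven.orderOf_T)
    (by rw [← Subgroup.orderOf_coe]; exact hg8o) hSdvd
  have hki' : (k : Co0) * g ^ 8 * (k : Co0)⁻¹ = Seven.T ^ i := congrArg Subtype.val hki
  obtain ⟨e₂, ψ₂, hψ₂, hval₂, he₂⟩ : ∃ (e₂ : (Subgroup.centralizer ({z} : Set G)) ⧸ Q ≃* Spor.Co1)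
      (ψ₂ : leechLattice → Q ⧸ Subgroup.center Q), IsLeechModTwoIso Q e₂ ψ₂ ∧
      (∀ v, ψ₂ v = ψ₁ ((k : Co0)⁻¹ • v)) ∧ ∀ c, e₂ c =
        (QuotientGroup.mk (k : Co0) : Spor.Co1) * e₁ c * (QuotientGroup.mk (k : Co0) : Spor.Co1)⁻¹ :=
    exists_adapted' hψ₁ (k : Co0)
  have hx₂ : ψ₂ frameV = QuotientGroup.mk x := by
    rw [hval₂, psi_eq_of_cong hψ₁ (inv_mem k.2), hx]
  have hbi : e₂ (QuotientGroup.mk b) = Seven.Tbar ^ i := by
    rw [he₂, ← hg8, ← QuotientGroup.mk_inv, ← QuotientGroup.mk_mul, ← QuotientGroup.mk_mul, hki',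
      QuotientGroup.mk_pow]
    rfl
  have hi : i % 7 ≠ 0 := fun h0 => hbQ (by
    rw [← QuotientGroup.eq_one_iff, ← map_eq_one_iff e₂ e₂.injective, hbi, Seven.Tbar,
      ← QuotientGroup.mk_pow, ← pow_mod_orderOf, Seven.orderOf_T, h0, pow_zero, QuotientGroup.mk_one])
  obtain ⟨j, hj⟩ : ∃ j : ℕ, i * j % 7 = 1 := by
    have : ∀ r < 7, r ≠ 0 → ∃ j < 7, r * j % 7 = 1 := by decide
    obtain ⟨j, -, hj⟩ := this (i % 7) (Nat.mod_lt _ (by norm_num)) hi
    exact ⟨j, by rwa [Nat.mul_mod, Nat.mod_mod, ← Nat.mul_mod] at hj⟩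
  have hbj : e₂ (QuotientGroup.mk (b ^ j)) = Seven.Tbar := by
    rw [QuotientGroup.mk_pow, map_pow, hbi, ← pow_mul, Seven.Tbar, ← QuotientGroup.mk_pow,
      ← pow_mod_orderOf, Seven.orderOf_T, hj, pow_one]
  have hbj7 : (b ^ j) ^ 7 = 1 := by rw [← pow_mul, mul_comm, pow_mul, hb7, one_pow]
  refine ⟨e₂, ψ₂, b ^ j, hψ₂, hbj, hbj7, ?_, hx₂⟩
  refine (Subgroup.eq_of_le_of_card_ge ?_ ?_).symm
  · rw [Subgroup.zpowers_le, SubgroupClass.coe_pow, hbb]
    exact pow_mem b₀.2 j
  · rw [hBp, Nat.card_zpowers, Subgroup.orderOf_coe]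
    exact (Seven.orderOf_b hbj hbj7).ge


/-- The centralizer of a Sylow 7-subgroup of the joint centralizer, modulo it. -/
theorem Seven.normal_form {s : G} (hsQ : ∃ hsc : s ∈ Subgroup.centralizer ({z} : Set G),
      (⟨s, hsc⟩ : Subgroup.centralizer ({z} : Set G)) ∈ Q) (hs : IsConj z s) (hs1 : s ≠ z)
    (B : Subgroup G) (hB : B ≤ Subgroup.centralizer ({z, s} : Set G))
    (hBp : Nat.card B = 7 ^ (Nat.card ↥(Subgroup.centralizer ({z, s} : Set G))).factorization 7) :
    ∃ (e' : (Subgroup.centralizer ({z} : Set G)) ⧸ Q ≃* Spor.Co1)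
      (ψ' : leechLattice → Q ⧸ Subgroup.center Q) (b : Subgroup.centralizer ({z} : Set G)),
      IsLeechModTwoIso Q e' ψ' ∧ e' (QuotientGroup.mk b) = Seven.Tbar ∧ b ^ 7 = 1 ∧
      B = Subgroup.zpowers (b : G) := by
  rw [Seven.pair_factorization hS hψ hsQ hs hs1, pow_one] at hBp
  obtain ⟨hsc, hsq⟩ := hsQ
  obtain ⟨e', ψ', b, h1, h2, h3, h4, -⟩ := Seven.normal_form' hS hψ hsq hs hs1 B hB hBp
  exact ⟨e', ψ', b, h1, h2, h3, h4⟩

/-- The centralizer of a Sylow 7-subgroup of the joint centralizer, modulo it. -/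
theorem heldType_all {s : G} (hsQ : ∃ hsc : s ∈ Subgroup.centralizer ({z} : Set G),
      (⟨s, hsc⟩ : Subgroup.centralizer ({z} : Set G)) ∈ Q) (hs : IsConj z s) (hs1 : s ≠ z)
    (B : Subgroup G) (hB : B ≤ Subgroup.centralizer ({z, s} : Set G))
    (hBp : Nat.card B = 7 ^ (Nat.card ↥(Subgroup.centralizer ({z, s} : Set G))).factorization 7)
    [hn : (B.subgroupOf (Subgroup.centralizer (B : Set G))).Normal] :
    IsOfHeldType (↥(Subgroup.centralizer (B : Set G)) ⧸
      B.subgroupOf (Subgroup.centralizer (B : Set G))) := by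
  obtain ⟨e', ψ', b, hψ', hb, hb7, hBe⟩ := Seven.normal_form hS hψ hsQ hs hs1 B hB hBp
  exact (held_core hS hψ' hb hb7 B hBe).1

end CfsgLib.MonsterType
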