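import Cfsg.Agent.MonsterType.SevenClasses
import Cfsg.Agent.OrderType.L27
import Cfsg.Agent.Linear.Perfect

/-!
# The centraliser of the element of order seven and its normaliser on the fixed classes
-/

set_option autoImplicit false

namespace CfsgLib.MonsterType.Seven

open Cfsg CfsgLib.Leech CfsgLib.Mathieu
open CfsgLib.MonsterType.Five (halfB cong_of_half Acts exists_acts mono_inj)

/-- The table of the identity. -/
def idTab : ℕ := 566073426779046459040877649791461066728553822781039575296

/-- The moves of the mixing element. -/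
def gMoves : List Mv :=
  [.mono 468082387222695340316392619810390552839223770855485278721 3485468, .xi, .mono 344814523499238069828750143243669611882711661749675822341 15984983, .xi, .mono 491457407675022317368478260269612012689004420154409091846 6668540, .xi, .mono 171932845992698700214246104643070699311453218087742345491 7648025, .xi, .mono 344434359143619571450280077827587557834224978278583305736 5068055]

/-- The moves of a sign change in the centraliser. -/
def bMoves : List Mv := [.mono idTab 1722420]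

/-- The moves of an element turning the element into its cube. -/
def hMoves : List Mv :=
  [.mono 124132540854864109839106725166406585671449251829235911171 3396300, .xi, .mono 270106849300367474868535812402726479473035494654617911561 16598305, .xi, .mono 467893058488374139582002355229742944589844677878019329046 9988038, .xi, .mono 564916930268393062059408345038093083679710957114929255936 6837377]

/-- The moves of an element taking the standard cross to one fixed by an inverting involution. -/
def kMoves : List Mv :=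
  [.xi, .mono 393668039348075405535578790577779096140513994012158526231 11371519, .xi, .mono 539733281164013240639375870821422731087377612199719996686 4153500, .xi, .mono 98758433087378632992944481707562967012943332919571645186 9734122]

/-- The moves of its inverse. -/
def kIMoves : List Mv :=
  [.mono 320773486605546337764132826621005705427179883294699294986 2543385, .xi, .mono 468087249644196580610433185665042108946336886180677355786 10360784, .xi, .mono 2016271593962921794718920150275056486474736945716791056 14656235, .xi]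

/-- The word whose sign change, conjugated, inverts the element. -/
def invMask : ℕ := 13220500

theorem moves_ok : gMoves.all Mv.ok = true ∧ bMoves.all Mv.ok = true ∧ hMoves.all Mv.ok = true ∧
    kMoves.all Mv.ok = true ∧ kIMoves.all Mv.ok = true := by decide +kernel

/-- The mixing element. -/
noncomputable def gE : Co0 := Classical.choose (exists_acts gMoves moves_ok.1)

/-- The sign change. -/
noncomputable def bE : Co0 := Classical.choose (exists_acts bMoves moves_ok.2.1)

/-- The element turning the element into its cube. -/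
noncomputable def hE : Co0 := Classical.choose (exists_acts hMoves moves_ok.2.2.1)

/-- The element moving the cross. -/
noncomputable def kE : Co0 := Classical.choose (exists_acts kMoves moves_ok.2.2.2.1)

/-- Its inverse. -/
noncomputable def kIE : Co0 := Classical.choose (exists_acts kIMoves moves_ok.2.2.2.2)

theorem gE_acts : Acts gE (runMoves gMoves) := Classical.choose_spec (exists_acts gMoves moves_ok.1)

theorem bE_acts : Acts bE (runMoves bMoves) := Classical.choose_spec (exists_acts bMoves moves_ok.2.1)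

theorem hE_acts : Acts hE (runMoves hMoves) := Classical.choose_spec (exists_acts hMoves moves_ok.2.2.1)

theorem kE_acts : Acts kE (runMoves kMoves) := Classical.choose_spec (exists_acts kMoves moves_ok.2.2.2.1)

theorem kIE_acts : Acts kIE (runMoves kIMoves) := Classical.choose_spec (exists_acts kIMoves moves_ok.2.2.2.2)

theorem gE_mem : gE ∈ C0 :=
  Subgroup.mem_centralizer_singleton_iff.2 (mul_inv_eq_iff_eq_mul.1
    ((twist_of_check (d := 1) gE_acts (by decide +kernel)).trans (pow_one T)))

theorem bE_mem : bE ∈ C0 :=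
  Subgroup.mem_centralizer_singleton_iff.2 (mul_inv_eq_iff_eq_mul.1
    ((twist_of_check (d := 1) bE_acts (by decide +kernel)).trans (pow_one T)))

theorem hE_twist : hE * T * hE⁻¹ = T ^ 3 := twist_of_check hE_acts (by decide +kernel)

theorem hE_twist_inv : hE⁻¹ * T * hE = T ^ 5 := by
  have h : hE * T ^ 5 * hE⁻¹ = T := by
    rw [← conj_pow, hE_twist, ← pow_mul, pow_eq_pow_mod (3 * 5) T_pow_seven]
    exact pow_one T
  calc hE⁻¹ * T * hE = hE⁻¹ * (hE * T ^ 5 * hE⁻¹) * hE := by rw [h]
    _ = T ^ 5 := by group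

theorem kIE_eq : kIE = kE⁻¹ :=
  eq_inv_of_mul_eq_one_left (eq_of_acts (acts_mul kIE_acts kE_acts) acts_one (by decide +kernel))

theorem invMask_supp : setOf24 invMask ∈ supports (golayCode : Set (GolayPt → ZMod 2)) :=
  setOf24_mem_supports (by decide +kernel)

/-- The sign change of the word. -/
noncomputable def signE : Co0 := monoCo0 1 (one_mem _) (setOf24 invMask) invMask_supp

theorem signE_acts : Acts signE (Mv.act (.mono idTab invMask)) := fun x => funext fun p => by
  rw [signE, monoCo0_smul, Mv.act, vec_map_range]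
  simp only [monoFun, Equiv.Perm.one_apply, mem_setOf24,
    (by decide +kernel : ∀ p, app idTab (idx p) = idx p) p]
  rw [show (toList (x : GolayPt → ℤ)).getD (idx p) 0 = (x : GolayPt → ℤ) p from
    congrFun (vec_toList (x : GolayPt → ℤ)) p]

/-- The inverting involution of the lattice. -/
noncomputable def invE : Co0 := kE * signE * kE⁻¹

theorem inv_check : twistB (compL (compL (runMoves kMoves) (Mv.act (.mono idTab invMask)))
      (runMoves kIMoves)) 6 = true := by decide +kernel
theorem inv_acts : Acts (kE * signE * kIE)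
      (compL (compL (runMoves kMoves) (Mv.act (.mono idTab invMask))) (runMoves kIMoves)) :=
    acts_mul (acts_mul kE_acts signE_acts) kIE_acts
theorem inv_twist : (kE * signE * kIE) * T * (kE * signE * kIE)⁻¹ = T ^ 6 := twist_of_check inv_acts inv_check
theorem invE_twist : invE * T * invE⁻¹ = T ^ 6 := by
  have h : invE = kE * signE * kIE := by rw [invE, kIE_eq]
  rw [h]; exact inv_twist

theorem invE_sq : invE * invE = 1 := by
  have h : signE * signE = 1 := co0_ext fun v => Subtype.ext (funext fun p => by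
    rw [mul_smul, one_smul, signE, monoCo0_smul, monoCo0_smul]
    simp only [monoFun, Equiv.Perm.one_apply]
    by_cases hp : p ∈ setOf24 invMask <;> simp only [hp, if_true, if_false, neg_neg])
  rw [invE]
  calc kE * signE * kE⁻¹ * (kE * signE * kE⁻¹) = kE * (signE * signE) * kE⁻¹ := by group
    _ = 1 := by rw [h, mul_one, mul_inv_cancel]

/-- The images of the classes under an element, from those of the basis. -/
def linTab (ms : List ℕ) (k : Fin 64) : Fin 64 :=
  ⟨xorSel ms k % 64, Nat.mod_lt _ (by norm_num)⟩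

theorem act_linTab {g : Co0} (hg : Keeps g) (k : Fin 64) :
    act g k = linTab [(act g 1 : ℕ), (act g 2 : ℕ), (act g 4 : ℕ), (act g 8 : ℕ), (act g 16 : ℕ),
      (act g 32 : ℕ)] k := by
  set l : List ℕ := [(act g 1 : ℕ), (act g 2 : ℕ), (act g 4 : ℕ), (act g 8 : ℕ), (act g 16 : ℕ),
    (act g 32 : ℕ)] with hl
  have key : ∀ m : ℕ, ∀ hm : m < 64, act g ⟨m, hm⟩ = linTab l ⟨m, hm⟩ := by
    intro m
    induction m using Nat.strong_induction_on with
    | _ m ih =>
      intro hm
      by_cases h0 : m = 0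
      · subst h0
        rw [show (⟨0, hm⟩ : Fin 64) = 0 from rfl, act_zero]
        exact Fin.ext (by simp [linTab, xorSel, hl])
      obtain ⟨i, hi, hlt⟩ : ∃ i : Fin 6, m ^^^ 2 ^ (i : ℕ) < m ∧ m ^^^ 2 ^ (i : ℕ) < 64 := by
        have : ∀ m : Fin 64, (m : ℕ) ≠ 0 → ∃ i : Fin 6, (m : ℕ) ^^^ 2 ^ (i : ℕ) < (m : ℕ) ∧
            (m : ℕ) ^^^ 2 ^ (i : ℕ) < 64 := by decide +kernel
        exact this ⟨m, hm⟩ h0
      have hsplit : (⟨m, hm⟩ : Fin 64) = xadd ⟨m ^^^ 2 ^ (i : ℕ), hlt⟩
          ⟨2 ^ (i : ℕ), Nat.pow_lt_pow_right (by norm_num) i.2⟩ := by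
        refine Fin.ext ?_
        show m = m ^^^ 2 ^ (i : ℕ) ^^^ 2 ^ (i : ℕ)
        rw [Nat.xor_assoc, Nat.xor_self, Nat.xor_zero]
      have hbase : (act g ⟨2 ^ (i : ℕ), Nat.pow_lt_pow_right (by norm_num) i.2⟩ : ℕ) =
          xorSel l (2 ^ (i : ℕ)) := by
        fin_cases i <;> simp [hl, xorSel]
      rw [hsplit, act_xadd hg, ih _ hi hlt]
      refine Fin.ext ?_
      simp only [xadd, linTab]
      have hmod : ∀ a b : ℕ, b < 64 → a % 64 ^^^ b = (a ^^^ b) % 64 := fun a b hb => by
        rw [show (64 : ℕ) = 2 ^ 6 from rfl, Nat.xor_mod_two_pow (n := 6), Nat.mod_eq_of_lt (a := b) hb]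
      rw [hbase, hmod _ _ (by rw [← hbase]; exact Fin.isLt _), ← xorSel_xor]
  exact key k k.2

theorem act_of_check {g : Co0} {f : List ℤ → List ℤ} (hg : Acts g f) {k j : Fin 64}
    (h : halfB (fun p => vec (f (toList (cls k : GolayPt → ℤ))) p - (cls j : GolayPt → ℤ) p) = true) :
    act g k = j :=
  act_eq_of_cong (cong_of_half (by rw [hg]; exact h))

/-! ### The invariant subspace -/

theorem act_g_one : ∀ k : Fin 64, act gE k = linTab [2, 4, 1, 48, 24, 32] k := fun k => by
  rw [act_linTab (keeps_C0 gE_mem)]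
  congr 1
  have h : ∀ i : Fin 6, act gE ⟨2 ^ (i : ℕ), Nat.pow_lt_pow_right (by norm_num) i.2⟩ =
      ⟨[2, 4, 1, 48, 24, 32].getD i 0 % 64, Nat.mod_lt _ (by norm_num)⟩ := fun i =>
    act_of_check gE_acts ((by decide +kernel : ∀ i : Fin 6, halfB (fun p => vec (runMoves gMoves
      (toList (cls ⟨2 ^ (i : ℕ), Nat.pow_lt_pow_right (by norm_num) i.2⟩ : GolayPt → ℤ))) p -
      (cls ⟨[2, 4, 1, 48, 24, 32].getD i 0 % 64, Nat.mod_lt _ (by norm_num)⟩ : GolayPt → ℤ) p) = true) i)
  exact congrArg (List.map (fun x : Fin 64 => (x : ℕ)))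
    (show [act gE 1, act gE 2, act gE 4, act gE 8, act gE 16, act gE 32] =
        [(2 : Fin 64), 4, 1, 48, 24, 32] from
      List.ext_getElem (by rfl) fun n hn _ => by
        match n, hn with
        | 0, _ => exact h 0 | 1, _ => exact h 1 | 2, _ => exact h 2
        | 3, _ => exact h 3 | 4, _ => exact h 4 | 5, _ => exact h 5)

theorem act_b_one : ∀ k : Fin 64, act bE k = linTab [1, 3, 4, 16, 8, 56] k :=
  fun k => by
  rw [act_linTab (keeps_C0 bE_mem)]
  congr 1
  have h : ∀ i : Fin 6, act bE ⟨2 ^ (i : ℕ), Nat.pow_lt_pow_right (by norm_num) i.2⟩ =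
      ⟨[1, 3, 4, 16, 8, 56].getD i 0 % 64, Nat.mod_lt _ (by norm_num)⟩ := fun i =>
    act_of_check bE_acts ((by decide +kernel : ∀ i : Fin 6, halfB (fun p => vec (runMoves bMoves
      (toList (cls ⟨2 ^ (i : ℕ), Nat.pow_lt_pow_right (by norm_num) i.2⟩ : GolayPt → ℤ))) p -
      (cls ⟨[1, 3, 4, 16, 8, 56].getD i 0 % 64, Nat.mod_lt _ (by norm_num)⟩ : GolayPt → ℤ) p) = true) i)
  exact congrArg (List.map (fun x : Fin 64 => (x : ℕ)))
    (show [act bE 1, act bE 2, act bE 4, act bE 8, act bE 16, act bE 32] =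
        [(1 : Fin 64), 3, 4, 16, 8, 56] from
      List.ext_getElem (by rfl) fun n hn _ => by
        match n, hn with
        | 0, _ => exact h 0 | 1, _ => exact h 1 | 2, _ => exact h 2
        | 3, _ => exact h 3 | 4, _ => exact h 4 | 5, _ => exact h 5)

theorem keeps_hE : Keeps hE := keeps_of_twist hE_twist_inv

theorem act_hE_one : act hE 1 = 8 := act_of_check hE_acts (by decide +kernel)

/-- The seven-cycle. -/
noncomputable def yE : Co0 := gE * bE

theorem yE_mem : yE ∈ C0 := mul_mem gE_mem bE_mem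

/-- The map of classes of the seven-cycle. -/
def yFun (k : Fin 64) : Fin 64 := linTab [2, 4, 1, 48, 24, 32] (linTab [1, 3, 4, 16, 8, 56] k)

theorem act_yE (n : ℕ) (k : Fin 64) : act (yE ^ n) k = yFun^[n] k := by
  induction n with
  | zero => rw [pow_zero, act_one]; rfl
  | succ n ih =>
    rw [pow_succ', act_mul (keeps_C0 yE_mem) (keeps_C0 (pow_mem yE_mem n)), ih,
      Function.iterate_succ_apply', yE, act_mul (keeps_C0 gE_mem) (keeps_C0 bE_mem), act_b_one, act_g_one]
    rfl

theorem eq_cls_one {g : Co0} (hg : Keeps g) : Cong (g • frameV) (cls (act g 1)) :=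
  (frame_cls.smul g).trans (act_spec hg 1)

theorem classStab_of_act {g : Co0} (hg : Keeps g) (h : act g 1 = 1) : g ∈ classStab frameV := by
  have := eq_cls_one hg
  rw [h] at this
  exact mem_classStab.2 (this.trans frame_cls.symm)

/-- The centraliser does not move the first subspace to the second. -/
theorem act_one_lt {g : Co0} (hg : g ∈ C0) : (act g 1 : ℕ) < 8 ∧ act g 1 ≠ 0 := by
  have hf := act_isFrame (keeps_C0 hg) frame_norm frame_cls
  simp only [isFrame, decide_eq_true_eq] at hf
  refine ⟨?_, hf.1⟩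
  by_contra hlt
  obtain ⟨n, hn⟩ := (by decide +kernel : ∀ k : Fin 64, k ≠ 0 → (k : ℕ) % 8 = 0 →
    ∃ n : Fin 7, yFun^[(n : ℕ)] k = 8) (act g 1) hf.1 (hf.2.resolve_left hlt)
  set x : Co0 := hE⁻¹ * (yE ^ (n : ℕ) * g) with hx
  have hc : yE ^ (n : ℕ) * g ∈ C0 := mul_mem (pow_mem yE_mem _) hg
  have hxT : x * T * x⁻¹ = T ^ 5 := by
    rw [hx]
    calc hE⁻¹ * (yE ^ (n : ℕ) * g) * T * (hE⁻¹ * (yE ^ (n : ℕ) * g))⁻¹
        = hE⁻¹ * ((yE ^ (n : ℕ) * g) * T * (yE ^ (n : ℕ) * g)⁻¹) * hE := by group
      _ = T ^ 5 := by rw [mul_inv_eq_iff_eq_mul.2 (Subgroup.mem_centralizer_singleton_iff.1 hc), hE_twist_inv]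
  refine classStab_not_twist ?_ (by decide) hxT
  have h1 : Cong ((yE ^ (n : ℕ) * g) • frameV) (cls 8) := by
    have := eq_cls_one (keeps_C0 hc)
    rwa [act_mul (keeps_C0 (pow_mem yE_mem _)) (keeps_C0 hg), act_yE, hn] at this
  have h2 : Cong (hE • frameV) (cls 8) := by
    have := eq_cls_one keeps_hE
    rwa [act_hE_one] at this
  have h3 := (h1.trans h2.symm).smul hE⁻¹
  rw [inv_smul_smul, ← mul_smul] at h3
  exact mem_classStab.2 h3

theorem act_lt {g : Co0} (hg : g ∈ C0) (k : Fin 64) (hk : (k : ℕ) < 8) : (act g k : ℕ) < 8 := by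
  by_cases h0 : k = 0
  · subst h0; rw [act_zero]; norm_num
  obtain ⟨n, hn⟩ := (by decide +kernel : ∀ k : Fin 64, k ≠ 0 → (k : ℕ) < 8 →
    ∃ n : Fin 7, yFun^[(n : ℕ)] 1 = k) k h0 hk
  rw [← hn, ← act_yE, ← act_mul (keeps_C0 hg) (keeps_C0 (pow_mem yE_mem _))]
  exact (act_one_lt (mul_mem hg (pow_mem yE_mem _))).1

/-! ### The homomorphism -/

/-- The coordinates of a class of the subspace. -/
def vecOf (k : Fin 64) : Fin 3 → ZMod 2 := fun i => if (k : ℕ).testBit i then 1 else 0

/-- The matrix with given columns. -/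
def matCols (a b c : Fin 64) : Matrix (Fin 3) (Fin 3) (ZMod 2) :=
  Matrix.of fun i j => vecOf (![a, b, c] j) i

/-- The matrix of an element. -/
def matOf (g : Co0) : Matrix (Fin 3) (Fin 3) (ZMod 2) := matCols (act g 1) (act g 2) (act g 4)

theorem vecOf_lin : ∀ a b c k : Fin 8,
    vecOf ⟨xorSel [(a : ℕ), (b : ℕ), (c : ℕ)] k % 64, Nat.mod_lt _ (by norm_num)⟩ =
      (matCols ⟨a, by omega⟩ ⟨b, by omega⟩ ⟨c, by omega⟩).mulVec (vecOf ⟨k, by omega⟩) := by
  decide +kernel

theorem act_three {g : Co0} (hg : g ∈ C0) (k : Fin 64) (hk : (k : ℕ) < 8) :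
    vecOf (act g k) = (matOf g).mulVec (vecOf k) := by
  have h := vecOf_lin ⟨act g 1, act_lt hg 1 (by norm_num)⟩ ⟨act g 2, act_lt hg 2 (by decide)⟩
    ⟨act g 4, act_lt hg 4 (by decide)⟩ ⟨k, hk⟩
  rw [act_linTab (keeps_C0 hg) k]
  refine Eq.trans ?_ h
  congr 1
  refine Fin.ext ?_
  show xorSel _ (k : ℕ) % 64 = _
  congr 1
  have hsel : ∀ (a b c d e f m : ℕ), m < 8 → xorSel [a, b, c, d, e, f] m = xorSel [a, b, c] m := by
    intro a b c d e f m hm
    interval_cases m <;> simp [xorSel]
  exact hsel _ _ _ _ _ _ _ hk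

theorem matOf_mul {g h : Co0} (hg : g ∈ C0) (hh : h ∈ C0) : matOf (g * h) = matOf g * matOf h := by
  ext i j
  have hcol : ∀ k : Fin 64, (k : ℕ) < 8 → vecOf (act (g * h) k) = (matOf g).mulVec (vecOf (act h k)) :=
    fun k hk => by rw [act_mul (keeps_C0 hg) (keeps_C0 hh), act_three hg _ (act_lt hh k hk)]
  rw [Matrix.mul_apply']
  fin_cases j
  exacts [congrFun (hcol 1 (by norm_num)) i, congrFun (hcol 2 (by decide)) i,
    congrFun (hcol 4 (by decide)) i]

theorem matOf_one : matOf 1 = 1 := by
  simp only [matOf, act_one]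
  decide +kernel

theorem det_matOf {g : Co0} (hg : g ∈ C0) : (matOf g).det = 1 := by
  have h := congrArg Matrix.det (matOf_mul hg (inv_mem hg))
  rw [mul_inv_cancel, matOf_one, Matrix.det_one, Matrix.det_mul] at h
  exact (by decide : ∀ a b : ZMod 2, 1 = a * b → a = 1) _ _ h

/-- The homomorphism onto the linear group. -/
noncomputable def linHom : C0 →* Matrix.SpecialLinearGroup (Fin 3) (ZMod 2) :=
  MonoidHom.mk' (fun g => ⟨matOf g, det_matOf g.2⟩) fun g h => Subtype.ext (matOf_mul g.2 h.2)

theorem linHom_surjective : Function.Surjective linHom := by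
  rw [← MonoidHom.range_eq_top]
  refine CfsgLib.Linear.sl_eq_top_of_transvections fun i j hij c => ?_
  have hG : (⟨matCols 2 4 1, by decide +kernel⟩ : Matrix.SpecialLinearGroup (Fin 3) (ZMod 2)) ∈ linHom.range :=
    ⟨⟨gE, gE_mem⟩, Subtype.ext (by
      show matOf gE = _
      simp only [matOf, act_g_one]; decide +kernel)⟩
  have hB : (⟨matCols 1 3 4, by decide +kernel⟩ : Matrix.SpecialLinearGroup (Fin 3) (ZMod 2)) ∈ linHom.range :=
    ⟨⟨bE, bE_mem⟩, Subtype.ext (by
      show matOf bE = _
      simp only [matOf, act_b_one]; decide +kernel)⟩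
  set a : Matrix.SpecialLinearGroup (Fin 3) (ZMod 2) := ⟨matCols 2 4 1, by decide +kernel⟩ with ha
  set b : Matrix.SpecialLinearGroup (Fin 3) (ZMod 2) := ⟨matCols 1 3 4, by decide +kernel⟩ with hb
  have hwords : ∀ (i j : Fin 3) (hij : i ≠ j) (c : ZMod 2),
      Matrix.SpecialLinearGroup.transvection hij c =
      ((if c = 0 then [] else match i, j with
      | 0, 1 => [false]
      | 0, 2 => [true, false, true, true, false, true, false, true, true, false]
      | 1, 0 => [true, false, true, false, true, true, false, true, false, true]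
      | 1, 2 => [true, false, true, true]
      | 2, 0 => [true, true, false, true]
      | _, _ => [true, true, false, true, false, true, true, false, true, false]).map
        fun t => if t then a else b).prod := by decide +kernel
  rw [hwords i j hij c]
  refine list_prod_mem fun x hx => ?_
  obtain ⟨t, -, rfl⟩ := List.mem_map.1 hx
  cases t
  · exact hB
  · exact hG

theorem card_linear : Nat.card (Matrix.SpecialLinearGroup (Fin 3) (ZMod 2)) = 168 := by
  rw [Nat.card_eq_fintype_card]; decide +kernel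

theorem linear_simple : IsSimpleGroup (Matrix.SpecialLinearGroup (Fin 3) (ZMod 2)) := by
  haveI := CfsgLib.Linear.isSimpleGroup_PSL (F := ZMod 2) (ι := Fin 3) (by simp)
  have hc : Subgroup.center (Matrix.SpecialLinearGroup (Fin 3) (ZMod 2)) = ⊥ := by
    refine (Subgroup.eq_bot_iff_forall _).2 fun x hx => ?_
    exact (by decide +kernel : ∀ x : Matrix.SpecialLinearGroup (Fin 3) (ZMod 2),
      (∀ i j : Fin 3, ∀ h : i ≠ j, Matrix.SpecialLinearGroup.transvection h 1 * x =
        x * Matrix.SpecialLinearGroup.transvection h 1) → x = 1) x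
      fun i j h => Subgroup.mem_center_iff.1 hx _
  haveI : Nontrivial (Matrix.SpecialLinearGroup (Fin 3) (ZMod 2)) :=
    (Finite.one_lt_card_iff_nontrivial).1 (by rw [card_linear]; norm_num)
  exact IsSimpleGroup.isSimpleGroup_of_surjective
    (((QuotientGroup.quotientMulEquivOfEq hc).trans QuotientGroup.quotientBot).toMonoidHom :
      Matrix.ProjectiveSpecialLinearGroup (Fin 3) (ZMod 2) →* _) (MulEquiv.surjective _)

/-! ### The kernel -/

theorem card_C0_le : Nat.card C0 ≤ 7 * (42 * 8) := by
  classical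
  haveI := co0_finite
  let K : Subgroup C0 := (classStab frameV ⊓ C0).subgroupOf C0
  have hK : Nat.card K = Nat.card (classStab frameV ⊓ C0 : Subgroup Co0) :=
    Nat.card_congr (Subgroup.subgroupOfEquivOfLe inf_le_right).toEquiv
  let S : Finset (Fin 64) := Finset.univ.filter fun k => (k : ℕ) < 8 ∧ k ≠ 0
  have hrel : ∀ a b : C0, act a 1 = act b 1 → a⁻¹ * b ∈ K := by
    intro a b h
    refine ⟨classStab_of_act (keeps_C0 (a⁻¹ * b).2) ?_, (a⁻¹ * b).2⟩
    show act ((a : Co0)⁻¹ * (b : Co0)) 1 = 1
    rw [act_mul (keeps_C0 (inv_mem a.2)) (keeps_C0 b.2), ← h,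
      ← act_mul (keeps_C0 (inv_mem a.2)) (keeps_C0 a.2), inv_mul_cancel, act_one]
  have hrel' : ∀ a b : C0, a⁻¹ * b ∈ K → act a 1 = act b 1 := by
    intro a b h
    have h1 : act ((a⁻¹ * b : C0) : Co0) 1 = 1 :=
      act_eq_of_cong (((frame_cls.symm.smul _).trans (mem_classStab.1 h.1)).trans frame_cls)
    have h2 : (b : Co0) = (a : Co0) * ((a⁻¹ * b : C0) : Co0) := by simp
    rw [h2, act_mul (keeps_C0 a.2) (keeps_C0 (a⁻¹ * b).2), h1]
  let f : C0 ⧸ K → S := Quotient.lift (fun g : C0 => ⟨act g 1,
    Finset.mem_filter.2 ⟨Finset.mem_univ _, act_one_lt g.2⟩⟩)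
    fun a b h => Subtype.ext (hrel' a b (QuotientGroup.leftRel_apply.1 h))
  have hf : Function.Injective f := by
    intro a b
    induction a using QuotientGroup.induction_on with
    | H a =>
      induction b using QuotientGroup.induction_on with
      | H b => exact fun h => QuotientGroup.eq.2 (hrel a b (congrArg Subtype.val h :))
  rw [Subgroup.card_eq_card_quotient_mul_card_subgroup K, hK]
  refine Nat.mul_le_mul ((Nat.card_le_card_of_injective f hf).trans ?_) card_frame_stab_le
  rw [Nat.card_eq_finsetCard]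
  exact (by decide +kernel : S.card = 7).le

theorem T_mem : T ∈ C0 := Subgroup.mem_centralizer_singleton_iff.2 rfl

theorem neg_mem_C0 : negCo0 ∈ C0 :=
  Subgroup.mem_centralizer_singleton_iff.2 (Subgroup.mem_center_iff.1 negCo0_mem_center T).symm

theorem T_pow_cls (k : ℕ) (j : Fin 64) : T ^ k • cls j = cls j := by
  induction k with
  | zero => exact one_smul _ _
  | succ k ih => rw [pow_succ, mul_smul, cls_fixed, ih]

theorem act_of_scalar {g : Co0} {k : ℕ} (hk : g = T ^ k ∨ g = negCo0 * T ^ k) (j : Fin 64) :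
    act g j = j := by
  have hT : T ^ k • cls j = cls j := T_pow_cls k j
  refine act_eq_of_cong ?_
  rcases hk with rfl | rfl
  · rw [hT]; exact Cong.refl _
  · rw [mul_smul, hT, show negCo0 • cls j = -cls j from Subtype.ext (negCo0_smul _)]
    exact Cong.neg _

theorem linHom_eq_one_of_fix {g : C0} (h : ∀ k, act g k = k) : linHom g = 1 := by
  refine Subtype.ext ?_
  show matOf g = 1
  simp only [matOf, h]
  decide +kernel

theorem linHom_eq_one_iff (g : C0) :
    linHom g = 1 ↔ ∃ k : ℕ, (g : Co0) = T ^ k ∨ (g : Co0) = negCo0 * T ^ k := by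
  haveI := co0_finite
  refine ⟨fun hg => ?_, fun ⟨k, hk⟩ => linHom_eq_one_of_fix (act_of_scalar hk)⟩
  let kf : Fin 7 × Bool → linHom.ker := fun x =>
    ⟨⟨if x.2 then negCo0 * T ^ (x.1 : ℕ) else T ^ (x.1 : ℕ), by
      split
      · exact mul_mem neg_mem_C0 (pow_mem T_mem _)
      · exact pow_mem T_mem _⟩, linHom_eq_one_of_fix (act_of_scalar (k := (x.1 : ℕ)) (by
        cases x.2 <;> simp))⟩
  have hpow : ∀ i j : Fin 7, T ^ (i : ℕ) = T ^ (j : ℕ) → i = j := fun i j h =>
    Fin.ext (pow_injOn_Iio_orderOf (by simp [orderOf_T]) (by simp [orderOf_T]) h)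
  have hne : ∀ i j : ℕ, negCo0 * T ^ i ≠ T ^ j := fun i j h => by
    have h' : negCo0 = T ^ j * T ^ (6 * i) := by
      rw [← h, mul_assoc, ← pow_add, show i + 6 * i = 7 * i by ring, pow_mul, T_pow_seven, one_pow,
        mul_one]
    rw [← pow_add] at h'
    exact neg_ne_pow _ h'
  have hkf : Function.Injective kf := by
    rintro ⟨i, s⟩ ⟨j, t⟩ h
    have h' : (if s then negCo0 * T ^ (i : ℕ) else T ^ (i : ℕ)) =
        if t then negCo0 * T ^ (j : ℕ) else T ^ (j : ℕ) :=
      congrArg (fun y : linHom.ker => ((y : C0) : Co0)) h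
    cases s <;> cases t <;> simp only [if_true, Bool.false_eq_true, if_false] at h'
    · rw [hpow i j h']
    · exact absurd h'.symm (hne _ _)
    · exact absurd h' (hne _ _)
    · rw [hpow i j (mul_left_cancel h')]
  have hmul : Nat.card linHom.ker * 168 = Nat.card C0 := by
    rw [← card_linear, ← Nat.card_congr (QuotientGroup.quotientKerEquivOfSurjective linHom
      linHom_surjective).toEquiv]
    exact linHom.ker.card_mul_index
  have hb : Function.Bijective kf := hkf.bijective_of_nat_card_le (by
    have := card_C0_le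
    rw [Nat.card_prod, Nat.card_fin, Nat.card_eq_fintype_card (α := Bool), Fintype.card_bool]
    omega)
  obtain ⟨⟨i, s⟩, hx⟩ := hb.2 ⟨g, hg⟩
  have hx' : (if s then negCo0 * T ^ (i : ℕ) else T ^ (i : ℕ)) = (g : Co0) :=
    congrArg (fun y : linHom.ker => ((y : C0) : Co0)) hx
  refine ⟨i, ?_⟩
  cases s
  · exact Or.inl hx'.symm
  · exact Or.inr hx'.symm

end CfsgLib.MonsterType.Seven
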