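import Cfsg.Agent.MonsterType.SevenHeldAll
import Cfsg.Agent.Components.FStar

/-!
# The normaliser of the Sylow 7-subgroup: six automorphisms and an outer involution
-/

set_option autoImplicit false
set_option linter.constructorNameAsVariable false

namespace CfsgLib.MonsterType

open Cfsg CfsgLib.Leech CfsgLib.Mathieu
open scoped commutatorElement
open CfsgLib.MonsterType.Five (halfB)

namespace Seven

theorem half_of_cong {x y : leechLattice} (h : Cong x y) :
    halfB (fun p => (x : GolayPt → ℤ) p - (y : GolayPt → ℤ) p) = true := by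
  obtain ⟨u, rfl⟩ := h
  simp only [halfB, Bool.and_eq_true, decide_eq_true_eq]
  refine ⟨fun p => ?_, ?_⟩
  · simp only [AddSubgroup.coe_add, Pi.add_apply]; omega
  · rw [leechB_iff]
    convert u.2 using 1
    funext p
    simp only [AddSubgroup.coe_add, Pi.add_apply]; omega

/-- The octad of the correcting vector. -/
def corrMask : ℕ := 13062145

/-- The word of the correcting sign change. -/
def corrSign : ℕ := 4845570

theorem corrSign_supp : setOf24 corrSign ∈ supports (golayCode : Set (GolayPt → ZMod 2)) :=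
  setOf24_mem_supports (by decide +kernel)

/-- The vector whose translate by a sign change is used. -/
def corrW : leechLattice := ⟨twiceMask corrMask, leechB_iff.1 (by decide +kernel)⟩

/-- The correcting class. -/
noncomputable def corrV : leechLattice :=
  monoCo0 1 (one_mem _) (setOf24 corrSign) corrSign_supp • corrW - corrW

theorem corrW_frame : (16 : ℤ) ∣ dotInt (corrW : GolayPt → ℤ) (frameV : GolayPt → ℤ) := by
  decide +kernel

theorem corrV_moves : ¬ Cong (signE • corrV) corrV := fun h => by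
  have := half_of_cong h
  simp only [signE, corrV, AddSubgroup.coe_sub, monoCo0_smul, Pi.sub_apply] at this
  revert this
  decide +kernel

/-- The automorphisms of a cyclic group of order seven. -/
theorem card_aut_seven {C : Type*} [Group C] [IsCyclic C] [Finite C] (h : Nat.card C = 7) :
    Nat.card (MulAut C) = 6 := by
  rw [IsCyclic.card_mulAut, h, Nat.totient_prime (by norm_num)]

/-- Without nontrivial normal subgroups of prime power order there are no nilpotent ones. -/
theorem nilpotent_normal_eq_bot {Y : Type*} [Group Y] [Finite Y]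
    (h : ∀ p : ℕ, p.Prime → ∀ P : Subgroup Y, P.Normal → IsPGroup p P → P = ⊥)
    (M : Subgroup Y) [M.Normal] (hM : Group.IsNilpotent M) : M = ⊥ := by
  by_contra hne
  haveI : Nontrivial M := (Subgroup.nontrivial_iff_ne_bot M).2 hne
  obtain ⟨p, hp, hdvd⟩ := Nat.exists_prime_and_dvd (n := Nat.card M) (Finite.one_lt_card (α := M)).ne'
  haveI := Fact.mk hp
  let P : Sylow p M := default
  haveI : (P : Subgroup M).Normal := ((Group.isNilpotent_of_finite_tfae (G := M)).out 0 3 rfl rfl).1 hM p inferInstance P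
  haveI := P.characteristic_of_normal inferInstance
  have hPn : ((P : Subgroup M).map M.subtype).Normal := ConjAct.normal_of_characteristic_of_normal
  have := h p hp _ hPn (P.isPGroup'.map _)
  rw [Subgroup.map_eq_bot_iff_of_injective _ (Subgroup.subtype_injective M)] at this
  exact P.ne_bot_of_dvd_card hdvd this

end Seven

variable {G : Type*} [Group G] [Finite G] {z : G}
variable {Q : Subgroup (Subgroup.centralizer ({z} : Set G))} [Q.Normal]
  {e : (Subgroup.centralizer ({z} : Set G)) ⧸ Q ≃* Spor.Co1}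
  {ψ : leechLattice → Q ⧸ Subgroup.center Q}
  (hS : IsExtraspecialCentralizerSetting z Q 12) (hψ : IsLeechModTwoIso Q e ψ)
include hS hψ

/-- The sign change lifts to an involution. -/
theorem exists_sign_involution : ∃ r : Subgroup.centralizer ({z} : Set G),
    (QuotientGroup.mk Seven.signE : Spor.Co1) = e (QuotientGroup.mk r) ∧ r * r = 1 := by
  obtain ⟨x, hv⟩ : ∃ x : Q, ψ frameV = QuotientGroup.mk x := ⟨_, psi_lift _⟩
  have hxc := frame_not_center hS hψ hv
  obtain ⟨g, hgx⟩ := isConj_iff.1 (conj_of_class hS hψ (sqNorm_eight none) hv).1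
  obtain ⟨-, hall⟩ := frame_image hS hψ hgx hv
  obtain ⟨r, hr, hre⟩ := mem_imageN.1 (hall _ Seven.invMask_supp)
  obtain ⟨rd, hrd, hrde⟩ := mem_imageN.1 (hall _ Seven.corrSign_supp)
  rcases sq_conjQ hS hgx hr with hsq | hsq
  · exact ⟨r, hre, Subtype.ext hsq⟩
  obtain ⟨a, ha⟩ : ∃ a : Q, ψ Seven.corrW = QuotientGroup.mk a := ⟨_, psi_lift _⟩
  have hax : Commute (toG a) (toG x) := by
    have : Commute a x := (commute_iff_dot hS hψ ha hv).2 Seven.corrW_frame
    exact congrArg toG this.eq
  let a' : Q := ⟨rd * a * rd⁻¹,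
    (inferInstance : Q.Normal).conj_mem (a : Subgroup.centralizer ({z} : Set G)) a.2 rd⟩
  let q : Q := a' * a⁻¹
  have hq : ψ Seven.corrV = QuotientGroup.mk q := by
    have h1 : ψ (Seven.corrV) * ψ Seven.corrW =
        ψ (monoCo0 1 (one_mem _) (setOf24 Seven.corrSign) Seven.corrSign_supp • Seven.corrW) := by
      rw [← hψ.1, Seven.corrV, sub_add_cancel]
    rw [psi_conj hψ rd _ hrde _ a ha, ha] at h1
    rw [eq_mul_inv_of_mul_eq h1]
    rfl
  have hqg : toG q ∈ conjQ Q g := by
    have e1 : toG q = (rd : G) * (toG a * (rd : G)⁻¹ * (toG a)⁻¹) := by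
      show (rd : G) * toG a * (rd : G)⁻¹ * (toG a)⁻¹ = _
      group
    rw [e1]
    exact Subgroup.mul_mem _ hrd (conjQ_conj hgx hax (Subgroup.inv_mem _ hrd))
  have hqx : Commute (toG q) (toG x) := conjQ_commute hS hgx hqg
  have hq2 : toG q * toG q = 1 := by
    rcases sq_conjQ hS hgx hqg with h | h
    · exact h
    rcases sq_inG hS (mem_inG.2 ⟨q, rfl⟩) with h' | h'
    · exact h'
    · exact absurd (h.symm.trans h') (x_sq_ne hS hxc).1
  have hne : ¬ Commute (r : G) (toG q) := by
    intro hc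
    have hc' : (⟨r * q * r⁻¹, (inferInstance : Q.Normal).conj_mem (q : Subgroup.centralizer ({z} : Set G)) q.2 r⟩ : Q) = q :=
      Subtype.ext (Subtype.ext (mul_inv_eq_iff_eq_mul.2 hc.eq))
    have h := psi_conj hψ r _ hre _ q hq
    rw [hc', ← hq] at h
    exact Seven.corrV_moves ((psi_eq_iff hψ _ _).1 h)
  have hcomm : ⁅(r : G), toG q⁆ = toG x := (comm_conjQ hS hgx hr hqg).resolve_left fun h =>
    hne (commutatorElement_eq_one_iff_commute.1 h)
  refine ⟨r * q, ?_, Subtype.ext ?_⟩
  · rw [QuotientGroup.mk_mul, (QuotientGroup.eq_one_iff _).2 q.2, mul_one]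
    exact hre
  · show (r : G) * toG q * ((r : G) * toG q) = 1
    calc (r : G) * toG q * ((r : G) * toG q)
        = ⁅(r : G), toG q⁆ * toG q * ((r : G) * (r : G)) * toG q := by rw [commutatorElement_def]; group
      _ = toG x * toG q * toG x * toG q := by rw [hcomm, hsq]
      _ = toG x * (toG x * toG q) * toG q := by rw [mul_assoc (toG x), hqx.eq]
      _ = 1 := by rw [← mul_assoc, x_order hS hgx hxc, one_mul, hq2]

section elt

variable {b : Subgroup.centralizer ({z} : Set G)}
  (hb : e (QuotientGroup.mk b) = Seven.Tbar) (hb7 : b ^ 7 = 1)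
include hb hb7

/-- An involution of the centralizer inverting `b`. -/
theorem Seven.exists_inverting : ∃ t : Subgroup.centralizer ({z} : Set G),
    orderOf t = 2 ∧ t * b * t⁻¹ = b ^ 6 := by
  haveI : Fact (Nat.Prime 2) := ⟨Nat.prime_two⟩
  haveI : Fact (Nat.Prime 7) := ⟨by norm_num⟩
  haveI := co0_finite
  haveI : Finite Spor.Co1 := inferInstanceAs (Finite (Co0 ⧸ Subgroup.center Co0))
  have hob := Seven.orderOf_b hb hb7
  obtain ⟨r, hr, hr2⟩ := exists_sign_involution hS hψ
  obtain ⟨hk, hhk⟩ := exists_of_co0 hψ Seven.kE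
  let φ : Subgroup.centralizer ({z} : Set G) →* Spor.Co1 := e.toMonoidHom.comp (QuotientGroup.mk' Q)
  let y : Subgroup.centralizer ({z} : Set G) := hk * r * hk⁻¹
  have hy2 : y * y = 1 := by
    calc y * y = hk * (r * r) * hk⁻¹ := by simp only [y]; group
      _ = 1 := by rw [hr2, mul_one, mul_inv_cancel]
  have hy : φ y = QuotientGroup.mk Seven.invE := by
    rw [Seven.invE, QuotientGroup.mk_mul, QuotientGroup.mk_mul, QuotientGroup.mk_inv, hhk, hr]
    simp only [y, map_mul, map_inv]
    rfl
  let y₂ : Subgroup.centralizer ({z} : Set G) := b ^ 3 * y * (b ^ 3)⁻¹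
  have hy22 : y₂ * y₂ = 1 := by
    calc y₂ * y₂ = b ^ 3 * (y * y) * (b ^ 3)⁻¹ := by simp only [y₂]; group
      _ = 1 := by rw [hy2, mul_one, mul_inv_cancel]
  let c : Subgroup.centralizer ({z} : Set G) := y * y₂
  have hinv : y * c * y⁻¹ = c⁻¹ := by
    rw [inv_eq_of_mul_eq_one_right hy2]
    calc y * (y * y₂) * y = y * y * (y₂ * y) := by group
      _ = (y * y₂)⁻¹ := by
        rw [hy2, one_mul, mul_inv_rev, inv_eq_of_mul_eq_one_right hy2, inv_eq_of_mul_eq_one_right hy22]
  have hc : φ c = Seven.Tbar := by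
    have h3 : φ (b ^ 3) = Seven.Tbar ^ 3 := Seven.mk_b_pow hb hb7 3
    have hrel : Seven.invE * (Seven.T ^ 3 * Seven.invE * (Seven.T ^ 3)⁻¹) = Seven.T := by
      have hi : Seven.invE⁻¹ = Seven.invE := inv_eq_of_mul_eq_one_right Seven.invE_sq
      calc Seven.invE * (Seven.T ^ 3 * Seven.invE * (Seven.T ^ 3)⁻¹)
          = Seven.invE * Seven.T ^ 3 * Seven.invE⁻¹ * (Seven.T ^ 3)⁻¹ := by rw [hi]; group
        _ = (Seven.T ^ 6) ^ 3 * (Seven.T ^ 3)⁻¹ := by rw [← conj_pow, Seven.invE_twist]
        _ = Seven.T := by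
          rw [← pow_mul, show 6 * 3 = 1 + 3 + 7 * 2 from rfl, pow_add _ (1 + 3), pow_mul _ 7,
            Seven.T_pow_seven, one_pow, mul_one, pow_add, mul_inv_cancel_right, pow_one]
    simp only [c, y₂, map_mul, map_inv, hy, h3, Seven.Tbar]
    rw [← QuotientGroup.mk_pow, ← QuotientGroup.mk_inv, ← QuotientGroup.mk_mul,
      ← QuotientGroup.mk_mul, ← QuotientGroup.mk_mul, hrel]
  let K : Subgroup (Subgroup.centralizer ({z} : Set G)) := (Subgroup.zpowers Seven.Tbar).comap φ
  have hK : Nat.card K ∣ 2 ^ 25 * 7 := by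
    let φK : K →* Spor.Co1 := φ.comp K.subtype
    have hk' : Nat.card φK.ker ∣ 2 ^ 25 := by
      have hmem : ∀ a : φK.ker, ((a : K) : Subgroup.centralizer ({z} : Set G)) ∈ Q := fun a => by
        have h := MonoidHom.mem_ker.1 a.2
        rwa [← QuotientGroup.eq_one_iff, ← map_eq_one_iff e e.injective]
      have h := Subgroup.card_dvd_of_injective ((K.subtype.comp φK.ker.subtype).codRestrict Q hmem)
        fun a b h => Subtype.ext (Subtype.ext (congrArg Subtype.val h :))
      rwa [hS.2.2.2.1] at h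
    have hr' : Nat.card φK.range ∣ 7 := by
      have hle : φK.range ≤ Subgroup.zpowers Seven.Tbar := by rintro _ ⟨a, rfl⟩; exact a.2
      refine (Subgroup.card_dvd_of_le hle).trans ?_
      rw [Nat.card_zpowers]
      refine orderOf_dvd_of_pow_eq_one ?_
      rw [← Seven.mk_b_pow hb hb7, hb7, QuotientGroup.mk_one, map_one]
    rw [← φK.ker.card_mul_index, Subgroup.index_ker]
    exact Nat.mul_dvd_mul hk' hr'
  have hT7 : Seven.Tbar ^ 7 = 1 := by
    rw [← Seven.mk_b_pow hb hb7, hb7, QuotientGroup.mk_one, map_one]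
  have hcK : c ∈ K := show φ c ∈ Subgroup.zpowers Seven.Tbar by rw [hc]; exact Subgroup.mem_zpowers _
  let d : Subgroup.centralizer ({z} : Set G) := c ^ 2 ^ 27
  have hd : φ d = Seven.Tbar := by
    rw [map_pow, hc, pow_eq_pow_mod _ hT7]
    norm_num
  have hd7 : d ^ 7 = 1 := by
    rw [← pow_mul]
    refine orderOf_dvd_iff_pow_eq_one.1 ((Subgroup.orderOf_dvd_natCard K hcK).trans (hK.trans ?_))
    exact Nat.mul_dvd_mul (pow_dvd_pow 2 (by norm_num)) dvd_rfl
  have hod : orderOf d = 7 := Seven.orderOf_b (b := d) hd hd7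
  have hdy : y * d * y⁻¹ = d ^ 6 := by
    rw [← conj_pow, hinv, inv_pow, show (6 : ℕ) = 7 - 1 from rfl, pow_sub _ (by norm_num), hd7, one_mul, pow_one]
  have hord : ∀ a : K, orderOf a = orderOf (a : Subgroup.centralizer ({z} : Set G)) :=
    fun a => (orderOf_injective K.subtype (Subgroup.subtype_injective K) a).symm
  have hbK : b ∈ K := show e (QuotientGroup.mk b) ∈ Subgroup.zpowers Seven.Tbar by
    rw [hb]; exact Subgroup.mem_zpowers _
  have hdK : d ∈ K := K.pow_mem hcK _
  obtain ⟨k, i, hki⟩ := conj_of_prime_order (p := 7) (a := (⟨b, hbK⟩ : K)) (c := (⟨d, hdK⟩ : K))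
    (by rw [hord]; exact hob) (by rw [hord]; exact hod) (fun h => by
      have := h.trans hK
      norm_num at this)
  have hki' : (k : Subgroup.centralizer ({z} : Set G)) * d * (k : Subgroup.centralizer ({z} : Set G))⁻¹ =
      b ^ i := congrArg Subtype.val hki
  have hbi : b ^ i = b := by
    obtain ⟨l, hl⟩ : ∃ l : ℕ, Seven.Tbar ^ l = φ k := (mem_powers_iff_mem_zpowers.2 k.2)
    have himg := congrArg φ hki'
    rw [map_mul, map_mul, map_inv, ← hl, hd, ← pow_succ, pow_succ', mul_inv_cancel_right] at himg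
    refine (Seven.b_pow_eq hb hb7 (i := i) (j := 1) ?_).trans (pow_one b)
    rw [pow_one, ← Seven.mk_b_pow hb hb7]
    exact himg.symm
  rw [hbi] at hki'
  let t : Subgroup.centralizer ({z} : Set G) :=
    (k : Subgroup.centralizer ({z} : Set G)) * y * (k : Subgroup.centralizer ({z} : Set G))⁻¹
  have htb : t * b * t⁻¹ = b ^ 6 := by
    rw [← hki']
    calc t * ((k : Subgroup.centralizer ({z} : Set G)) * d * (k : Subgroup.centralizer ({z} : Set G))⁻¹) * t⁻¹
        = (k : Subgroup.centralizer ({z} : Set G)) * (y * d * y⁻¹) *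
          (k : Subgroup.centralizer ({z} : Set G))⁻¹ := by simp only [t]; group
      _ = _ := by rw [hdy, conj_pow]
  refine ⟨t, orderOf_eq_prime ?_ fun h => ?_, htb⟩
  · calc t ^ 2 = (k : Subgroup.centralizer ({z} : Set G)) * (y * y) *
          (k : Subgroup.centralizer ({z} : Set G))⁻¹ := by simp only [t, pow_two]; group
      _ = 1 := by rw [hy2, mul_one, mul_inv_cancel]
  · rw [h, one_mul, inv_one, mul_one] at htb
    have : b ^ 5 = 1 := by
      have h6 : b ^ 1 * b ^ 5 = b ^ 1 * 1 := by rw [← pow_add, mul_one, pow_one]; exact htb.symm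
      exact mul_left_cancel h6
    have hd5 := orderOf_dvd_of_pow_eq_one this
    rw [hob] at hd5
    norm_num at hd5

/-- An element of the centralizer inverting `b` commutes with no lift of the class of the cross. -/
theorem Seven.not_commute_frame {x : Subgroup.centralizer ({z} : Set G)} (hx : x * b * x⁻¹ = b ^ 6)
    (q : Q) (hq : ψ frameV = QuotientGroup.mk q) : ¬ Commute x (q : Subgroup.centralizer ({z} : Set G)) := by
  intro hc
  obtain ⟨g, hg⟩ := QuotientGroup.mk_surjective (e (QuotientGroup.mk x))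
  refine Seven.classStab_not_twist (mem_classStab_of_commute hψ hq hc hg) (d := 6) (by decide)
    (Seven.conj_pow_of_mk ?_)
  rw [QuotientGroup.mk_mul, QuotientGroup.mk_mul, QuotientGroup.mk_inv, hg, ← Seven.mk_b_pow hb hb7 6,
    ← hx, QuotientGroup.mk_mul, QuotientGroup.mk_mul, QuotientGroup.mk_inv, map_mul, map_mul, map_inv, hb]
  rfl

end elt

/-- The index and the outer involution. -/
theorem heldNormalizer_all {s : G} (hsQ : ∃ hsc : s ∈ Subgroup.centralizer ({z} : Set G),
      (⟨s, hsc⟩ : Subgroup.centralizer ({z} : Set G)) ∈ Q) (hs : IsConj z s) (hs1 : s ≠ z)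
    (B : Subgroup G) (hB : B ≤ Subgroup.centralizer ({z, s} : Set G))
    (hBp : Nat.card B = 7 ^ (Nat.card ↥(Subgroup.centralizer ({z, s} : Set G))).factorization 7) :
    (Subgroup.centralizer (B : Set G)).relIndex (Subgroup.normalizer (B : Set G)) = 6 ∧
    ∃ t : G, orderOf t = 2 ∧ (∀ b ∈ B, t * b * t⁻¹ = b⁻¹) ∧
      (∀ x ∈ (layer ↥(Subgroup.centralizer (B : Set G))).map (Subgroup.centralizer (B : Set G)).subtype,
        t * x * t⁻¹ ∈ (layer ↥(Subgroup.centralizer (B : Set G))).map (Subgroup.centralizer (B : Set G)).subtype) ∧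
      ¬ ∃ l ∈ (layer ↥(Subgroup.centralizer (B : Set G))).map (Subgroup.centralizer (B : Set G)).subtype,
        ∀ x ∈ (layer ↥(Subgroup.centralizer (B : Set G))).map (Subgroup.centralizer (B : Set G)).subtype,
          t * x * t⁻¹ = l * x * l⁻¹ := by
  classical
  obtain ⟨e', ψ', b, hψ', hb, hb7, hBe⟩ := Seven.normal_form hS hψ hsQ hs hs1 B hB hBp
  haveI : Fact (Nat.Prime 7) := ⟨by norm_num⟩
  have hob := Seven.orderOf_b hb hb7
  have hobG : orderOf (b : G) = 7 := (Subgroup.orderOf_coe b).trans hob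
  have hbB : (b : G) ∈ B := hBe ▸ Subgroup.mem_zpowers _
  have hinB : ∀ {g : G}, g ∈ B → ∃ k : ℕ, (b : G) ^ k = g := fun {g} hg =>
    mem_powers_iff_mem_zpowers.2 (hBe ▸ hg)
  have hnorm : ∀ (y : G) (j : ℕ), y * (b : G) * y⁻¹ = (b : G) ^ j → j % 7 ≠ 0 →
      y ∈ Subgroup.normalizer (B : Set G) := by
    intro y j hy hj
    rw [Subgroup.mem_normalizer_iff_map_conj_eq, hBe, MonoidHom.map_zpowers]
    show Subgroup.zpowers (y * (b : G) * y⁻¹) = _
    rw [hy]
    refine Subgroup.eq_of_le_of_card_ge (Subgroup.zpowers_le.2 (Subgroup.pow_mem _ (Subgroup.mem_zpowers _) j)) ?_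
    rw [Nat.card_zpowers, Nat.card_zpowers, orderOf_pow, hobG,
      (Nat.Prime.coprime_iff_not_dvd (by norm_num)).2 fun h => hj (Nat.mod_eq_zero_of_dvd h), Nat.div_one]
  set U := Subgroup.centralizer (B : Set G) with hU
  have hUb : ∀ u : U, Commute (u : G) (b : G) := fun u =>
    (Subgroup.mem_centralizer_iff.1 u.2 _ hbB).symm
  have hUmem : ∀ {g : G}, Commute g (b : G) → g ∈ U := fun {g} hg => by
    refine Subgroup.mem_centralizer_iff.2 fun y hy => ?_
    obtain ⟨k, rfl⟩ := hinB hy
    exact (hg.pow_right k).eq.symm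
  refine ⟨?_, ?_⟩
  · -- six automorphisms
    obtain ⟨h, hh⟩ := Seven.exists_cube hS hψ' hb hb7
    have hhG : ∀ m : ℕ, ((h ^ m : Subgroup.centralizer ({z} : Set G)) : G) * (b : G) *
        ((h ^ m : Subgroup.centralizer ({z} : Set G)) : G)⁻¹ = (b : G) ^ 3 ^ m := by
      intro m
      induction m with
      | zero => simp
      | succ m ih =>
        have hh' : (h : G) * (b : G) * (h : G)⁻¹ = (b : G) ^ 3 := congrArg Subtype.val hh
        calc ((h ^ (m + 1) : Subgroup.centralizer ({z} : Set G)) : G) * (b : G) *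
              ((h ^ (m + 1) : Subgroup.centralizer ({z} : Set G)) : G)⁻¹
            = (h : G) * (((h ^ m : Subgroup.centralizer ({z} : Set G)) : G) * (b : G) *
              ((h ^ m : Subgroup.centralizer ({z} : Set G)) : G)⁻¹) * (h : G)⁻¹ := by
              rw [pow_succ', Subgroup.coe_mul]; group
          _ = (b : G) ^ 3 ^ (m + 1) := by rw [ih, ← conj_pow, hh', ← pow_mul, ← pow_succ']
    have h3 : ∀ m : ℕ, 3 ^ m % 7 ≠ 0 := fun m hm => by
      have := Nat.Prime.dvd_of_dvd_pow (show Nat.Prime 7 by norm_num) (Nat.dvd_of_mod_eq_zero hm)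
      norm_num at this
    haveI : IsCyclic B := by rw [hBe]; infer_instance
    have hcardB : Nat.card B = 7 := by rw [hBe, Nat.card_zpowers, hobG]
    let f := Subgroup.normalizerMonoidHom B
    have hker : f.ker = U.subgroupOf (Subgroup.normalizer (B : Set G)) :=
      Subgroup.normalizerMonoidHom_ker B
    rw [Subgroup.relIndex, ← hker, Subgroup.index_ker]
    refine le_antisymm ((Nat.card_le_card_of_injective _ Subtype.val_injective).trans
      (Seven.card_aut_seven hcardB).le) ?_
    let y : Fin 6 → f.range := fun m => ⟨f ⟨((h ^ (m : ℕ) : Subgroup.centralizer ({z} : Set G)) : G),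
      hnorm _ _ (hhG _) (h3 _)⟩, ⟨_, rfl⟩⟩
    have hy : Function.Injective y := by
      intro m n hmn
      have h1 := congrArg (fun w : f.range => (((w : MulAut B) ⟨(b : G), hbB⟩ : B) : G)) hmn
      have h2 : (b : G) ^ 3 ^ (m : ℕ) = (b : G) ^ 3 ^ (n : ℕ) :=
        (hhG _).symm.trans (h1.trans (hhG _))
      rw [pow_eq_pow_iff_modEq, hobG] at h2
      exact (by decide : ∀ m n : Fin 6, 3 ^ (m : ℕ) % 7 = 3 ^ (n : ℕ) % 7 → m = n) m n h2
    have := Nat.card_le_card_of_injective y hy
    rwa [Nat.card_fin] at this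
  -- the involution
  obtain ⟨t, ht2, htb⟩ := Seven.exists_inverting hS hψ' hb hb7
  have htbG : (t : G) * (b : G) * (t : G)⁻¹ = (b : G) ^ 6 := congrArg Subtype.val htb
  have htN : (t : G) ∈ Subgroup.normalizer (B : Set G) := hnorm _ 6 htbG (by norm_num)
  refine ⟨(t : G), by rw [Subgroup.orderOf_coe, ht2], ?_, ?_, ?_⟩
  · intro c hc
    obtain ⟨k, rfl⟩ := hinB hc
    rw [← conj_pow, htbG, ← pow_mul]
    refine eq_inv_of_mul_eq_one_left ?_
    rw [← pow_add, show 6 * k + k = 7 * k by ring, pow_mul, ← hobG, pow_orderOf_eq_one, one_pow]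
  · -- the layer is respected
    have hconj : ∀ u : U, (t : G) * (u : G) * (t : G)⁻¹ ∈ U ∧ (t : G)⁻¹ * (u : G) * (t : G) ∈ U := by
      intro u
      refine ⟨Subgroup.mem_centralizer_iff.2 fun c hc => ?_, Subgroup.mem_centralizer_iff.2 fun c hc => ?_⟩
      · have h1 := Subgroup.mem_centralizer_iff.1 u.2 _
          ((Subgroup.mem_normalizer_iff''.1 htN c).1 hc)
        calc c * ((t : G) * u * (t : G)⁻¹) = (t : G) * ((t : G)⁻¹ * c * t * u) * (t : G)⁻¹ := by group
          _ = (t : G) * (u * ((t : G)⁻¹ * c * t)) * (t : G)⁻¹ := by rw [h1]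
          _ = (t : G) * u * (t : G)⁻¹ * c := by group
      · have h1 := Subgroup.mem_centralizer_iff.1 u.2 _
          ((Subgroup.mem_normalizer_iff.1 htN c).1 hc)
        calc c * ((t : G)⁻¹ * u * t) = (t : G)⁻¹ * ((t : G) * c * (t : G)⁻¹ * u) * t := by group
          _ = (t : G)⁻¹ * (u * ((t : G) * c * (t : G)⁻¹)) * t := by rw [h1]
          _ = (t : G)⁻¹ * u * t * c := by group
    let α : U ≃* U :=
      { toFun := fun u => ⟨_, (hconj u).1⟩
        invFun := fun u => ⟨_, (hconj u).2⟩
        left_inv := fun u => Subtype.ext (by simp [mul_assoc])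
        right_inv := fun u => Subtype.ext (by simp [mul_assoc])
        map_mul' := fun u v => Subtype.ext (by simp [mul_assoc]) }
    rintro _ ⟨u, hu, rfl⟩
    refine ⟨α u, ?_, rfl⟩
    rw [← CfsgLib.Components.map_layer_equiv α]
    exact Subgroup.mem_map_of_mem _ hu
  · -- it is outer
    rintro ⟨_, ⟨l, hl, rfl⟩, hlx⟩
    haveI hn : (B.subgroupOf U).Normal := ⟨fun n hn u => by
      rw [Subgroup.mem_subgroupOf] at hn ⊢
      obtain ⟨k, hk⟩ := hinB hn
      show (u : G) * (n : G) * (u : G)⁻¹ ∈ B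
      rw [← hk, mul_inv_eq_iff_eq_mul.2 ((hUb u).pow_right k).eq]
      exact pow_mem hbB k⟩
    obtain ⟨-, hnop, hin⟩ := held_core hS hψ' hb hb7 B hBe
    set N := B.subgroupOf U with hNdef
    have hNcen : ∀ n ∈ N, ∀ u : U, u * n = n * u := fun n hn u => by
      obtain ⟨k, hk⟩ := hinB (Subgroup.mem_subgroupOf.1 hn)
      refine Subtype.ext ?_
      show (u : G) * (n : G) = (n : G) * (u : G)
      rw [← hk]
      exact ((hUb u).pow_right k).eq
    set π := QuotientGroup.mk' N with hπ
    have hFit : fittingSubgroup U ≤ N := by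
      refine sSup_le fun M ⟨hMn, hMnil⟩ => ?_
      haveI := hMn
      haveI : (M.map π).Normal := hMn.map π (QuotientGroup.mk'_surjective N)
      haveI := hMnil
      have h1 : M.map π = ⊥ := Seven.nilpotent_normal_eq_bot hnop _
        (Group.nilpotent_of_surjective (π.subgroupMap M) (π.subgroupMap_surjective M))
      rw [Subgroup.map_eq_bot_iff, hπ, QuotientGroup.ker_mk'] at h1
      exact h1
    have hCL : Subgroup.centralizer (layer U : Set U) ≤ N := by
      intro a ha
      have haF : a ∈ Subgroup.centralizer (generalizedFittingSubgroup U : Set U) := by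
        have hle : generalizedFittingSubgroup U ≤ Subgroup.centralizer ({a} : Set U) := by
          refine sup_le (fun c hc => ?_) (fun c hc => ?_)
          · exact Subgroup.mem_centralizer_singleton_iff.2 (Subgroup.mem_centralizer_iff.1 ha c hc)
          · exact Subgroup.mem_centralizer_singleton_iff.2 (hNcen c (hFit hc) a).symm
        exact Subgroup.mem_centralizer_iff.2 fun c hc => Subgroup.mem_centralizer_singleton_iff.1 (hle hc)
      exact hFit (CfsgLib.Components.centralizer_generalizedFitting_le haF)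
    -- the image of the layer has trivial centraliser
    have hEc : Subgroup.centralizer (SetLike.coe ((layer U).map π)) = ⊥ := by
      refine (Subgroup.eq_bot_iff_forall _).2 fun a ha => ?_
      obtain ⟨a, rfl⟩ := QuotientGroup.mk_surjective a
      refine (QuotientGroup.eq_one_iff a).2 (hCL ?_)
      have hcm : ∀ c ∈ layer U, ⁅a, c⁆ ∈ N := fun c hc => by
        rw [← QuotientGroup.eq_one_iff]
        show π ⁅a, c⁆ = 1
        rw [map_commutatorElement, commutatorElement_eq_one_iff_commute]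
        exact (Subgroup.mem_centralizer_iff.1 ha (π c) (Subgroup.mem_map_of_mem π hc)).symm
      let φ : layer U →* N := MonoidHom.mk' (fun c => ⟨⁅a, (c : U)⁆, hcm _ c.2⟩) fun c c' => Subtype.ext (by
        show ⁅a, (c : U) * (c' : U)⁆ = ⁅a, (c : U)⁆ * ⁅a, (c' : U)⁆
        have h1 := hNcen _ (hcm _ c'.2) (c : U)
        calc ⁅a, (c : U) * (c' : U)⁆ = ⁅a, (c : U)⁆ * ((c : U) * ⁅a, (c' : U)⁆ * (c : U)⁻¹) := by
              simp only [commutatorElement_def]; group
          _ = _ := by rw [h1, mul_inv_cancel_right])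
      refine Subgroup.mem_centralizer_iff.2 fun c hc => ?_
      have hker : (⟨c, hc⟩ : layer U) ∈ φ.ker := by
        have hle : commutator (layer U) ≤ φ.ker := by
          rw [commutator_def, Subgroup.commutator_le]
          intro p _ q _
          rw [MonoidHom.mem_ker, map_commutatorElement, commutatorElement_eq_one_iff_commute]
          exact Subtype.ext (hNcen _ (φ q).2 _)
        refine hle ?_
        have h2 : (⟨c, hc⟩ : layer U).1 ∈ (commutator (layer U)).map (layer U).subtype := by
          rw [commutator_def, Subgroup.map_commutator, ← MonoidHom.range_eq_map, Subgroup.range_subtype,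
            CfsgLib.Components.layer_commutator_self]
          exact hc
        obtain ⟨c', hc', he⟩ := h2
        rwa [show (⟨c, hc⟩ : layer U) = c' from Subtype.ext he.symm]
      have h3 : ⁅a, c⁆ = 1 := congrArg Subtype.val (MonoidHom.mem_ker.1 hker)
      exact ((commutatorElement_eq_one_iff_commute.1 h3).eq).symm
    haveI : ((layer U).map π).Normal :=
      CfsgLib.Components.layer_normal.map π (QuotientGroup.mk'_surjective N)
    -- the fixed part of `Q` lies in the layer
    have hlayer : ∀ q : Q, Commute (q : Subgroup.centralizer ({z} : Set G)) b →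
        ∀ u : U, (u : G) = toG q → u ∈ layer U := by
      intro q hq u hu
      obtain ⟨c, hc, hce⟩ := hin _ this hEc q hq u hu
      have hn' : c⁻¹ * u ∈ N := QuotientGroup.eq.1 hce
      have hn7 : (c⁻¹ * u) ^ 7 = 1 := by
        obtain ⟨k, hk⟩ := hinB (Subgroup.mem_subgroupOf.1 hn')
        refine Subtype.ext ?_
        rw [SubgroupClass.coe_pow, ← hk, ← pow_mul, mul_comm, pow_mul, ← hobG, pow_orderOf_eq_one, one_pow]
        rfl
      have hu8 : u ^ 8 = 1 := by
        refine Subtype.ext ?_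
        rw [SubgroupClass.coe_pow, hu]
        have h2 : toG q ^ 2 = 1 ∨ toG q ^ 2 = z := by
          rw [pow_two]; exact sq_inG hS (mem_inG.2 ⟨q, rfl⟩)
        have hz2 : z ^ 2 = 1 := by rw [← hS.1]; exact pow_orderOf_eq_one z
        rcases h2 with h2 | h2
        · rw [show (8 : ℕ) = 2 * 4 from rfl, pow_mul, h2, one_pow]; rfl
        · rw [show (8 : ℕ) = 2 * (2 * 2) from rfl, pow_mul, h2, pow_mul, hz2, one_pow]; rfl
      have hcu : Commute c (c⁻¹ * u) := hNcen _ hn' c
      have h7 : c ^ 7 = u ^ 7 := by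
        conv_rhs => rw [show u = c * (c⁻¹ * u) by group, hcu.mul_pow, hn7, mul_one]
      have : u = (c ^ 7)⁻¹ := by
        rw [h7]; exact eq_inv_of_mul_eq_one_left (by rw [← pow_succ', hu8])
      rw [this]
      exact inv_mem (pow_mem hc 7)
    obtain ⟨q₁, hq₁⟩ : ∃ q : Q, ψ' frameV = QuotientGroup.mk q := ⟨_, psi_lift _⟩
    have hq₁b : Commute (q₁ : Subgroup.centralizer ({z} : Set G)) b :=
      Seven.commute_of_cong hS hψ' hb hb7 hq₁ (mem_classStab.1 Seven.T_mem_classStab)
    have hzb : Commute (zQ hS : Subgroup.centralizer ({z} : Set G)) b :=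
      (Subgroup.mem_center_iff.1 zC_mem_center b).symm
    set x : G := (l : G)⁻¹ * (t : G) with hx
    have hfix : ∀ u : U, u ∈ layer U → Commute x (u : G) := fun u hu => by
      refine mul_inv_eq_iff_eq_mul.1 ?_
      have h1 : (t : G) * (u : G) * (t : G)⁻¹ = (l : G) * (u : G) * (l : G)⁻¹ :=
        hlx _ (Subgroup.mem_map_of_mem _ hu)
      calc x * (u : G) * x⁻¹ = (l : G)⁻¹ * ((t : G) * (u : G) * (t : G)⁻¹) * (l : G) := by rw [hx]; group
        _ = (u : G) := by rw [h1]; group
    have hxz : Commute x z := hfix ⟨z, hUmem (congrArg Subtype.val hzb.eq :)⟩ (hlayer _ hzb _ rfl)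
    have hxq : Commute x (toG q₁) :=
      hfix ⟨toG q₁, hUmem (congrArg Subtype.val hq₁b.eq :)⟩ (hlayer _ hq₁b _ rfl)
    have hxb : x * (b : G) * x⁻¹ = (b : G) ^ 6 := by
      calc x * (b : G) * x⁻¹ = (l : G)⁻¹ * ((t : G) * (b : G) * (t : G)⁻¹) * (l : G) := by rw [hx]; group
        _ = (b : G) ^ 6 := by rw [htbG, mul_assoc, ← ((hUb l).pow_right 6).eq, inv_mul_cancel_left]
    exact Seven.not_commute_frame hS hψ' hb hb7 (x := ⟨x, Subgroup.mem_centralizer_singleton_iff.2 hxz.eq⟩)
      (Subtype.ext hxb) q₁ hq₁ (Subtype.ext hxq.eq)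

end CfsgLib.MonsterType
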