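import Cfsg.Agent.MonsterType.SevenImage
import Cfsg.Agent.MonsterType.HaradaNortonType

/-!
# An element of order seven of the centralizer of `z` commuting with a conjugate of `z` in `Q`
-/

set_option autoImplicit false

namespace CfsgLib.MonsterType

open Cfsg CfsgLib.Leech CfsgLib.Mathieu
open scoped commutatorElement

namespace Seven

/-- The class of the element in the first Conway group. -/
noncomputable def Tbar : Spor.Co1 := QuotientGroup.mk T

theorem pow_of_mk_eq {i j : ℕ} (h : Tbar ^ i = Tbar ^ j) : T ^ i = T ^ j := by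
  have h' : (T ^ i)⁻¹ * T ^ j ∈ Subgroup.center Co0 :=
    QuotientGroup.eq.1 (by simpa [Tbar] using h)
  rcases center_cases h' with e | e
  · exact inv_mul_eq_one.1 e
  · exfalso
    rw [← inv_pow, inv_eq_of_mul_eq_one_right (a := T) (b := T ^ 6) (by
      rw [← pow_succ']; exact T_pow_seven), ← pow_mul, ← pow_add] at e
    exact neg_ne_pow _ e.symm

theorem conj_pow_of_mk {g : Co0} {j : ℕ}
    (h : (QuotientGroup.mk (g * T * g⁻¹) : Spor.Co1) = Tbar ^ j) : g * T * g⁻¹ = T ^ j := by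
  have h' : (g * T * g⁻¹)⁻¹ * T ^ j ∈ Subgroup.center Co0 := QuotientGroup.eq.1 (by simpa [Tbar] using h)
  rcases center_cases h' with e | e
  · exact inv_mul_eq_one.1 e
  · exfalso
    rw [inv_mul_eq_iff_eq_mul] at e
    have h7 : (T ^ j) ^ 7 = 1 := by rw [← pow_mul, mul_comm, pow_mul, T_pow_seven, one_pow]
    rw [e, (show Commute (g * T * g⁻¹) negCo0 from
      (Subgroup.mem_center_iff.1 negCo0_mem_center _)).mul_pow, conj_pow, T_pow_seven, mul_one,
      mul_inv_cancel, one_mul] at h7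
    refine negCo0_ne_one ?_
    rwa [pow_succ, show (6 : ℕ) = 2 * 3 from rfl, pow_mul, sq negCo0, negCo0_sq, one_pow, one_mul] at h7

theorem not_seven_sq {n : ℕ} (h : n ∣ 2 ^ 25 * (4096 * 244823040)) : ¬ 7 ^ 2 ∣ n := fun h' => by
  have := h'.trans h
  norm_num at this

theorem exists_exponent {i : ℕ} (hi : i % 7 ≠ 0) : ∃ m : ℕ, 3 ^ m * i % 7 = 1 := by
  have : ∀ r < 7, r ≠ 0 → ∃ m < 6, 3 ^ m * r % 7 = 1 := by decide
  obtain ⟨m, -, hm⟩ := this (i % 7) (Nat.mod_lt _ (by norm_num)) hi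
  exact ⟨m, by rwa [Nat.mul_mod, Nat.mod_mod, ← Nat.mul_mod] at hm⟩

/-- The classes of vectors of crosses among the fixed classes. -/
theorem exists_frame_vec (k : Fin 64) (hk : isFrame k = true) :
    ∃ v : leechLattice, sqNorm (v : GolayPt → ℤ) = 64 ∧ Cong v (cls k) := by
  have key : ∀ k : Fin 64, isFrame k = true →
      ∃ n : Fin 7, yFun^[(n : ℕ)] 1 = k ∨ yFun^[(n : ℕ)] 8 = k := by decide +kernel
  obtain ⟨n, hn | hn⟩ := key k hk
  · refine ⟨yE ^ (n : ℕ) • frameV, by rw [co0_norm]; exact frame_norm, ?_⟩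
    have := eq_cls_one (keeps_C0 (pow_mem yE_mem (n : ℕ)))
    rwa [act_yE, hn] at this
  · refine ⟨yE ^ (n : ℕ) • hE • frameV, by rw [co0_norm, co0_norm]; exact frame_norm, ?_⟩
    have h8 := eq_cls_one keeps_hE
    rw [act_hE_one] at h8
    have := (h8.smul (yE ^ (n : ℕ))).trans (act_spec (keeps_C0 (pow_mem yE_mem (n : ℕ))) 8)
    rwa [act_yE, hn] at this

end Seven

variable {G : Type*} [Group G] [Finite G] {z : G}
variable {Q : Subgroup (Subgroup.centralizer ({z} : Set G))} [Q.Normal]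
  {e : (Subgroup.centralizer ({z} : Set G)) ⧸ Q ≃* Spor.Co1}
  {ψ : leechLattice → Q ⧸ Subgroup.center Q}
  (hS : IsExtraspecialCentralizerSetting z Q 12) (hψ : IsLeechModTwoIso Q e ψ)
include hS hψ

namespace Seven

omit hψ in
omit [Q.Normal] in
theorem eq_one_of_pow_seven {q : Subgroup.centralizer ({z} : Set G)} (hq : q ∈ Q) (h7 : q ^ 7 = 1) :
    q = 1 := by
  have h1 : orderOf q ∣ 7 := orderOf_dvd_of_pow_eq_one h7
  have h2 : orderOf q ∣ 2 ^ (2 * 12 + 1) := hS.2.2.2.1 ▸ Subgroup.orderOf_dvd_natCard Q hq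
  exact orderOf_eq_one_iff.1 (Nat.eq_one_of_dvd_coprimes (by decide) h1 h2)

section elt

variable {b : Subgroup.centralizer ({z} : Set G)}
  (hb : e (QuotientGroup.mk b) = Tbar) (hb7 : b ^ 7 = 1)
include hb hb7

omit hS hψ in
theorem mk_b_pow (k : ℕ) : e (QuotientGroup.mk (b ^ k)) = Tbar ^ k := by
  rw [QuotientGroup.mk_pow, map_pow, hb]

omit hS hψ in
theorem orderOf_b : orderOf b = 7 := by
  haveI : Fact (Nat.Prime 7) := ⟨by norm_num⟩
  refine orderOf_eq_prime hb7 fun h => T_ne_one ?_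
  have h' := mk_b_pow hb hb7 1
  rw [h, one_pow, QuotientGroup.mk_one, map_one, ← pow_zero Tbar] at h'
  simpa using (pow_of_mk_eq h').symm

omit hS hψ in
theorem b_pow_eq {i j : ℕ} (h : Tbar ^ i = Tbar ^ j) : b ^ i = b ^ j := by
  rw [pow_eq_pow_iff_modEq, orderOf_b hb hb7, ← orderOf_T, ← pow_eq_pow_iff_modEq]
  exact pow_of_mk_eq h

omit hψ in
/-- An element of `⟨b⟩ Q` correction: a conjugate of `b` is a power of `b` after a correction. -/
theorem adjust (M : Subgroup (Subgroup.centralizer ({z} : Set G))) (hbM : b ∈ M)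
    {h : Subgroup.centralizer ({z} : Set G)} (hh : h ∈ M) {j : ℕ}
    (hj : e (QuotientGroup.mk (h * b * h⁻¹)) = Tbar ^ j) :
    ∃ h' ∈ M, (∃ i : ℕ, e (QuotientGroup.mk h') = Tbar ^ i * e (QuotientGroup.mk h)) ∧
      h' * b * h'⁻¹ = b ^ j := by
  haveI : Fact (Nat.Prime 7) := ⟨by norm_num⟩
  haveI := co0_finite
  haveI : Finite Spor.Co1 := inferInstanceAs (Finite (Co0 ⧸ Subgroup.center Co0))
  let φ : Subgroup.centralizer ({z} : Set G) →* Spor.Co1 := e.toMonoidHom.comp (QuotientGroup.mk' Q)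
  let K : Subgroup (Subgroup.centralizer ({z} : Set G)) := M ⊓ (Subgroup.zpowers Tbar).comap φ
  have hbK : b ∈ K := ⟨hbM, by
    show e (QuotientGroup.mk b) ∈ Subgroup.zpowers Tbar
    rw [hb]; exact Subgroup.mem_zpowers _⟩
  have hcK : h * b * h⁻¹ ∈ K := ⟨M.mul_mem (M.mul_mem hh hbM) (M.inv_mem hh), by
    show e (QuotientGroup.mk (h * b * h⁻¹)) ∈ Subgroup.zpowers Tbar
    rw [hj]; exact Subgroup.pow_mem _ (Subgroup.mem_zpowers _) j⟩
  have hcard : ¬ 7 ^ 2 ∣ Nat.card K := by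
    let φK : K →* Spor.Co1 := φ.comp K.subtype
    have hk : Nat.card φK.ker ∣ 2 ^ 25 := by
      have hmem : ∀ a : φK.ker, ((a : K) : Subgroup.centralizer ({z} : Set G)) ∈ Q := fun a => by
        have h := MonoidHom.mem_ker.1 a.2
        rwa [← QuotientGroup.eq_one_iff, ← map_eq_one_iff e e.injective]
      have h := Subgroup.card_dvd_of_injective ((K.subtype.comp φK.ker.subtype).codRestrict Q hmem)
        fun a b h => Subtype.ext (Subtype.ext (congrArg Subtype.val h :))
      rwa [hS.2.2.2.1] at h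
    have hr : Nat.card φK.range ∣ 7 := by
      have hle : φK.range ≤ Subgroup.zpowers Tbar := by rintro _ ⟨a, rfl⟩; exact a.2.2
      refine (Subgroup.card_dvd_of_le hle).trans ?_
      rw [Nat.card_zpowers]
      refine orderOf_dvd_of_pow_eq_one ?_
      rw [← mk_b_pow hb hb7, hb7, QuotientGroup.mk_one, map_one]
    intro h49
    rw [← φK.ker.card_mul_index, Subgroup.index_ker] at h49
    have := h49.trans (Nat.mul_dvd_mul hk hr)
    norm_num at this
  have hord : ∀ a : K, orderOf a = orderOf (a : Subgroup.centralizer ({z} : Set G)) :=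
    fun a => (orderOf_injective K.subtype (Subgroup.subtype_injective K) a).symm
  obtain ⟨k, i, hki⟩ := conj_of_prime_order (a := (⟨b, hbK⟩ : K)) (c := (⟨_, hcK⟩ : K))
    (by rw [hord]; exact orderOf_b hb hb7)
    (by rw [hord]; exact ((MulAut.conj h).orderOf_eq b).trans (orderOf_b hb hb7)) hcard
  have hki' : (k : Subgroup.centralizer ({z} : Set G)) * (h * b * h⁻¹) *
      (k : Subgroup.centralizer ({z} : Set G))⁻¹ = b ^ i := congrArg Subtype.val hki
  obtain ⟨l, hl⟩ : ∃ l : ℕ, Tbar ^ l = φ k := (mem_powers_iff_mem_zpowers.2 k.2.2)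
  refine ⟨k * h, mul_mem k.2.1 hh, ⟨l, by rw [QuotientGroup.mk_mul, map_mul, hl]; rfl⟩, ?_⟩
  have himg := congrArg φ hki'
  rw [map_mul, map_mul, map_inv, ← hl] at himg
  have himg' : Tbar ^ l * Tbar ^ j * (Tbar ^ l)⁻¹ = Tbar ^ i := by
    rw [← mk_b_pow hb hb7 i, ← hj]; exact himg
  rw [← pow_add, add_comm, pow_add, mul_inv_cancel_right] at himg'
  rw [b_pow_eq hb hb7 himg', ← hki']
  group

omit hS hb7 in
omit [Finite G] in
theorem cong_T_of_commute {v : leechLattice} {q : Q} (hv : ψ v = QuotientGroup.mk q)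
    (hc : Commute (q : Subgroup.centralizer ({z} : Set G)) b) : Cong (T • v) v := by
  refine (psi_eq_iff hψ _ _).1 ?_
  rw [psi_conj hψ b T hb.symm v q hv, hv]
  congr 1
  exact Subtype.ext (mul_inv_eq_iff_eq_mul.2 hc.eq.symm)

theorem commute_of_cong {v : leechLattice} {q : Q} (hv : ψ v = QuotientGroup.mk q)
    (hc : Cong (T • v) v) : Commute (q : Subgroup.centralizer ({z} : Set G)) b := by
  have h := psi_conj hψ b T hb.symm v q hv
  rw [(psi_eq_iff hψ _ _).2 hc, hv] at h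
  rcases psi_center hS h with e' | e'
  · exact (mul_inv_eq_iff_eq_mul.1 (congrArg Subtype.val e')).symm
  · exfalso
    have hstep : b * (q : Subgroup.centralizer ({z} : Set G)) * b⁻¹ =
        (q : Subgroup.centralizer ({z} : Set G)) * zC z := congrArg Subtype.val e'
    have hzc : Commute (zC z) b := (Subgroup.mem_center_iff.1 zC_mem_center b).symm
    have hz2 : zC z ^ 2 = 1 := Subtype.ext (show z ^ 2 = 1 by rw [← hS.1]; exact pow_orderOf_eq_one z)
    have hit : ∀ n : ℕ, b ^ n * (q : Subgroup.centralizer ({z} : Set G)) * (b ^ n)⁻¹ =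
        (q : Subgroup.centralizer ({z} : Set G)) * zC z ^ n := by
      intro n
      induction n with
      | zero => simp
      | succ n ih =>
        calc b ^ (n + 1) * (q : Subgroup.centralizer ({z} : Set G)) * (b ^ (n + 1))⁻¹
            = b * (b ^ n * q * (b ^ n)⁻¹) * b⁻¹ := by rw [pow_succ']; group
          _ = b * q * b⁻¹ * (b * zC z ^ n * b⁻¹) := by rw [ih]; group
          _ = q * zC z ^ (n + 1) := by
            rw [hstep, ((hzc.pow_left n).symm).eq, mul_inv_cancel_right, mul_assoc, ← pow_succ']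
    have h5 := hit 7
    rw [hb7, one_mul, inv_one, mul_one, pow_succ, show (6 : ℕ) = 2 * 3 from rfl, pow_mul, hz2, one_pow,
      one_mul] at h5
    exact z_ne_one hS (congrArg Subtype.val (mul_eq_left.1 h5.symm) :)

omit hψ in
/-- A lift of an element of the normaliser adjusted to normalise `⟨b⟩`. -/
theorem exists_twist {g : Co0} {j : ℕ} (hg : g * T * g⁻¹ = T ^ j)
    {h : Subgroup.centralizer ({z} : Set G)} (hh : (QuotientGroup.mk g : Spor.Co1) = e (QuotientGroup.mk h)) :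
    ∃ h' : Subgroup.centralizer ({z} : Set G), (∃ i : ℕ, e (QuotientGroup.mk h') =
      Tbar ^ i * (QuotientGroup.mk g : Spor.Co1)) ∧ h' * b * h'⁻¹ = b ^ j := by
  obtain ⟨h', -, ⟨i, hi⟩, hc⟩ := adjust hS hb hb7 ⊤ trivial (h := h) trivial (j := j) (by
    rw [QuotientGroup.mk_mul, QuotientGroup.mk_mul, QuotientGroup.mk_inv, map_mul, map_mul,
      map_inv, hb, ← hh, Tbar, ← QuotientGroup.mk_inv, ← QuotientGroup.mk_mul,
      ← QuotientGroup.mk_mul, hg, QuotientGroup.mk_pow])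
  exact ⟨h', ⟨i, by rw [hi, hh]⟩, hc⟩

/-- An element of the centralizer turning `b` into its cube. -/
theorem exists_cube : ∃ h : Subgroup.centralizer ({z} : Set G), h * b * h⁻¹ = b ^ 3 := by
  obtain ⟨h, hh⟩ := exists_of_co0 hψ hE
  obtain ⟨h', -, hc⟩ := exists_twist hS hb hb7 hE_twist hh
  exact ⟨h', hc⟩

/-- Lifts of classes of norm 64 commuting with `b` are conjugate to `z` under its centralizer. -/
theorem exists_conj_z {x : Q} {v : leechLattice} (hn : sqNorm (v : GolayPt → ℤ) = 64)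
    (hv : ψ v = QuotientGroup.mk x) (hxb : Commute (x : Subgroup.centralizer ({z} : Set G)) b) :
    ∃ c : G, c * z * c⁻¹ = toG x ∧ Commute c (b : G) := by
  haveI : Fact (Nat.Prime 7) := ⟨by norm_num⟩
  have hob := orderOf_b hb hb7
  have hbz : Commute (b : G) z := Subgroup.mem_centralizer_singleton_iff.1 b.2
  obtain ⟨h₃, h₃b⟩ := exists_cube hS hψ hb hb7
  obtain ⟨m₀, hm₀⟩ := transitive_norm64 frameV v (sqNorm_eight none) hn
  obtain ⟨e₁, ψ₁, hψ₁, hval⟩ := exists_adapted hψ m₀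
  have hx : ψ₁ frameV = QuotientGroup.mk x := by rw [hval, hm₀, hv]
  obtain ⟨hconjx, hxne⟩ := conj_of_class hS hψ hn hv
  obtain ⟨g₀, hg₀⟩ := isConj_iff.1 hconjx
  obtain ⟨y, hy⟩ := mem_inG.1 (mem_conjQ.1 (frame_z_mem hS hψ₁ hg₀ hx))
  have hy1 : IsConj z (toG y) := isConj_iff.2 ⟨g₀⁻¹, by rw [hy]; group⟩
  have hyne : toG y ≠ z := fun h => by
    rw [hy] at h
    apply hxne
    rw [← hg₀]
    calc g₀ * z * g₀⁻¹ = g₀ * (g₀⁻¹ * z * g₀) * g₀⁻¹ := by rw [h]
      _ = z := by group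
  obtain ⟨c, hc⟩ := conj_transitive hS hψ hconjx hxne hy1 hyne
  set w : G := g₀ * (c : G) with hw
  have hcz : (c : G) * z * (c : G)⁻¹ = z :=
    mul_inv_eq_iff_eq_mul.2 (Subgroup.mem_centralizer_singleton_iff.1 c.2)
  have hc' : (c : G) * toG x * (c : G)⁻¹ = g₀⁻¹ * z * g₀ := (congrArg Subtype.val hc).trans hy
  have hwz : w * z * w⁻¹ = toG x := by
    calc w * z * w⁻¹ = g₀ * ((c : G) * z * (c : G)⁻¹) * g₀⁻¹ := by rw [hw]; group
      _ = toG x := by rw [hcz, hg₀]
  have hwx : w * toG x * w⁻¹ = z := by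
    calc w * toG x * w⁻¹ = g₀ * ((c : G) * toG x * (c : G)⁻¹) * g₀⁻¹ := by rw [hw]; group
      _ = z := by rw [hc']; group
  let M : Subgroup (Subgroup.centralizer ({z} : Set G)) :=
    Subgroup.centralizer {(x : Subgroup.centralizer ({z} : Set G))}
  have hbM : b ∈ M := Subgroup.mem_centralizer_singleton_iff.2 hxb.eq.symm
  have hxbG : Commute (toG x) (b : G) := congrArg Subtype.val hxb.eq
  have hb'z : Commute (w * (b : G) * w⁻¹) z := by
    have h := hxbG.symm.map (MulAut.conj w)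
    simp only [MulAut.conj_apply, hwx] at h
    exact h
  have hb'x : Commute (w * (b : G) * w⁻¹) (toG x) := by
    have h := hbz.map (MulAut.conj w)
    simp only [MulAut.conj_apply, hwz] at h
    exact h
  let b' : Subgroup.centralizer ({z} : Set G) :=
    ⟨w * (b : G) * w⁻¹, Subgroup.mem_centralizer_singleton_iff.2 hb'z.eq⟩
  have hb'M : b' ∈ M := Subgroup.mem_centralizer_singleton_iff.2 (Subtype.ext hb'x.eq)
  have hordM : ∀ a : M, orderOf a = orderOf (((a : Subgroup.centralizer ({z} : Set G))) : G) := fun a => by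
    rw [Subgroup.orderOf_coe, Subgroup.orderOf_coe]
  obtain ⟨k, i, hki⟩ := conj_of_prime_order (a := (⟨b, hbM⟩ : M)) (c := (⟨b', hb'M⟩ : M))
    (by rw [hordM, Subgroup.orderOf_coe]; exact hob)
    (by
      rw [hordM]
      show orderOf (w * (b : G) * w⁻¹) = 7
      exact ((MulAut.conj w).orderOf_eq (b : G)).trans ((Subgroup.orderOf_coe b).trans hob))
    (not_seven_sq (card_frame_centralizer_dvd hS hψ₁ hx M fun m hm =>
      Subgroup.mem_centralizer_singleton_iff.1 hm))
  have hki' : (k : Subgroup.centralizer ({z} : Set G)) * b' * (k : Subgroup.centralizer ({z} : Set G))⁻¹ =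
      b ^ i := congrArg Subtype.val hki
  have hi7 : i % 7 ≠ 0 := fun h0 => by
    have h1 : b ^ i = 1 := by rw [← pow_mod_orderOf, hob, h0, pow_zero]
    rw [h1, mul_inv_eq_one, mul_eq_left] at hki'
    have h2 : w * (b : G) * w⁻¹ = 1 := congrArg Subtype.val hki'
    rw [mul_inv_eq_one, mul_eq_left] at h2
    have h3 := hob
    rw [show b = 1 from Subtype.ext h2, orderOf_one] at h3
    omega
  obtain ⟨m, hm⟩ := exists_exponent hi7
  have hpow : ∀ m : ℕ, h₃ ^ m * b * (h₃ ^ m)⁻¹ = b ^ 3 ^ m := by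
    intro m
    induction m with
    | zero => simp
    | succ m ih =>
      calc h₃ ^ (m + 1) * b * (h₃ ^ (m + 1))⁻¹ = h₃ * (h₃ ^ m * b * (h₃ ^ m)⁻¹) * h₃⁻¹ := by
            rw [pow_succ']; group
        _ = (h₃ * b * h₃⁻¹) ^ 3 ^ m := by rw [ih, conj_pow]
        _ = b ^ 3 ^ (m + 1) := by rw [h₃b, ← pow_mul, ← pow_succ']
  let d : Subgroup.centralizer ({z} : Set G) := h₃ ^ m
  refine ⟨((k : Subgroup.centralizer ({z} : Set G)) : G) * w * (d : G), ?_, ?_⟩
  · have hdz : (d : G) * z * (d : G)⁻¹ = z :=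
      mul_inv_eq_iff_eq_mul.2 (Subgroup.mem_centralizer_singleton_iff.1 d.2)
    have hkx : ((k : Subgroup.centralizer ({z} : Set G)) : G) * toG x *
        ((k : Subgroup.centralizer ({z} : Set G)) : G)⁻¹ = toG x :=
      mul_inv_eq_iff_eq_mul.2 (congrArg Subtype.val (Subgroup.mem_centralizer_singleton_iff.1 k.2))
    calc _ = ((k : Subgroup.centralizer ({z} : Set G)) : G) * (w * ((d : G) * z * (d : G)⁻¹) * w⁻¹) *
          ((k : Subgroup.centralizer ({z} : Set G)) : G)⁻¹ := by group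
      _ = toG x := by rw [hdz, hwz, hkx]
  · refine mul_inv_eq_iff_eq_mul.1 ?_
    have hd : (d : G) * (b : G) * (d : G)⁻¹ = (b : G) ^ 3 ^ m := congrArg Subtype.val (hpow m)
    have hk : ((k : Subgroup.centralizer ({z} : Set G)) : G) * (w * (b : G) * w⁻¹) *
        ((k : Subgroup.centralizer ({z} : Set G)) : G)⁻¹ = (b : G) ^ i := congrArg Subtype.val hki'
    calc _ = ((k : Subgroup.centralizer ({z} : Set G)) : G) * (w * ((d : G) * (b : G) * (d : G)⁻¹) * w⁻¹) *
          ((k : Subgroup.centralizer ({z} : Set G)) : G)⁻¹ := by group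
      _ = (((k : Subgroup.centralizer ({z} : Set G)) : G) * (w * (b : G) * w⁻¹) *
          ((k : Subgroup.centralizer ({z} : Set G)) : G)⁻¹) ^ 3 ^ m := by rw [hd, conj_pow, conj_pow]
      _ = (b : G) := by
        rw [hk, ← pow_mul, ← pow_mod_orderOf, Subgroup.orderOf_coe, hob, mul_comm, hm, pow_one]

end elt

end Seven

end CfsgLib.MonsterType
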