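import Cfsg.Agent.MonsterType.SevenHeldAll

/-!
# The meeting of the radical with a conjugate radical on the classes fixed by the element of order seven
-/

set_option autoImplicit false

namespace CfsgLib.MonsterType

open Cfsg CfsgLib.Leech CfsgLib.Mathieu
open scoped commutatorElement

variable {G : Type*} [Group G] [Finite G] {z : G}
variable {Q : Subgroup (Subgroup.centralizer ({z} : Set G))} [Q.Normal]
  {e : (Subgroup.centralizer ({z} : Set G)) ⧸ Q ≃* Spor.Co1}
  {ψ : leechLattice → Q ⧸ Subgroup.center Q}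
  (hS : IsExtraspecialCentralizerSetting z Q 12) (hψ : IsLeechModTwoIso Q e ψ)
include hS hψ

omit hψ [Q.Normal] in
/-- Two elements in both `Q` and its conjugate commute. -/
theorem commute_both {g : G} {x : Q} (hgx : g * z * g⁻¹ = toG x) (hx : x ∉ Subgroup.center Q)
    {a a' : G} (ha : a ∈ inG Q) (ha' : a' ∈ inG Q) (hc : a ∈ conjQ Q g) (hc' : a' ∈ conjQ Q g) :
    Commute a a' := by
  rcases comm_inG hS ha ha' with h | h
  · exact commutatorElement_eq_one_iff_commute.1 h
  rcases comm_conjQ hS hgx hc hc' with h' | h'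
  · exact commutatorElement_eq_one_iff_commute.1 h'
  · exact absurd (h'.symm.trans h) (x_sq_ne hS hx).1

/-- In the meeting with the radical of the frame conjugate, the only fixed class of norm 64 is the frame. -/
theorem Seven.meet_frame_class {b : Subgroup.centralizer ({z} : Set G)}
    (hb : e (QuotientGroup.mk b) = Seven.Tbar) (hb7 : b ^ 7 = 1)
    {g : G} {x : Q} (hgx : g * z * g⁻¹ = toG x) (hv : ψ frameV = QuotientGroup.mk x)
    {y : Q} (hy : toG y ∈ conjQ Q g) (hyb : Commute (y : Subgroup.centralizer ({z} : Set G)) b)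
    (hyz : IsConj z (toG y)) (hy1 : toG y ≠ z) :
    ψ frameV = QuotientGroup.mk y := by
  have hxc := frame_not_center hS hψ hv
  obtain ⟨v, hvn, hvy⟩ := class_of_conj hS hψ hyz hy1
  have hfix := Seven.cls_complete (Seven.cong_T_of_commute hψ hb hvy hyb)
  set k := Seven.clsIdx v with hk
  have hk0 : k ≠ 0 := by
    intro h0
    rw [h0, Seven.cls_zero] at hfix
    have h1 : ψ v = 1 := by rw [(psi_eq_iff hψ _ _).2 hfix, psi_zero hψ]
    have hc : y ∈ Subgroup.center Q := (QuotientGroup.eq_one_iff _).1 (hvy.symm.trans h1)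
    exact not_mem_center hS hψ hvy (by omega) (by omega) hc
  have hkf := Seven.isFrame_of_cong hk0 hvn hfix
  by_cases hk1 : k = 1
  · rw [← hvy]
    refine (psi_eq_iff hψ _ _).2 ?_
    rw [hk1] at hfix
    exact Seven.frame_cls.trans hfix.symm
  exfalso
  -- a monomial element with an odd product
  have key : ∀ k : Fin 64, Seven.isFrame k = true → k ≠ 1 → ∃ i : Fin 12,
      ¬ (16 : ℤ) ∣ dotInt (monoFun shiftOne (setOf24 (codeRows.getD i 0)) (Seven.cls k : GolayPt → ℤ))
        (Seven.cls k : GolayPt → ℤ) := by decide +kernel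
  obtain ⟨i, hi⟩ := key k hkf hk1
  have hsupp : setOf24 (codeRows.getD (i : ℕ) 0) ∈ supports (golayCode : Set (GolayPt → ZMod 2)) :=
    (by decide +kernel : ∀ i : Fin 12, isCode (codeRows.getD (i : ℕ) 0) = true) i |> setOf24_mem_supports
  obtain ⟨r, hrs, hrx⟩ := lift_centralising hS hψ hv hxc
    (monoCo0_mem_classStab shiftOne_mem_M24 hsupp)
  let y' : Q := ⟨r * y * r⁻¹,
    (inferInstance : Q.Normal).conj_mem (y : Subgroup.centralizer ({z} : Set G)) y.2 r⟩
  have hy' : ψ (monoCo0 shiftOne shiftOne_mem_M24 _ hsupp • v) = QuotientGroup.mk y' :=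
    psi_conj hψ r _ hrs v y hvy
  have hy'c : toG y' ∈ conjQ Q g := conjQ_conj hgx (congrArg Subtype.val hrx.eq) hy
  have hc : Commute y' y := Subtype.ext (Subtype.ext
    (commute_both hS hgx hxc (mem_inG.2 ⟨y', rfl⟩) (mem_inG.2 ⟨y, rfl⟩) hy'c hy).eq)
  have h16 := (commute_iff_dot hS hψ hy' hvy).1 hc
  refine hi ?_
  rw [← monoCo0_smul shiftOne shiftOne_mem_M24 _ hsupp]
  rw [dot_dvd_of_cong (hfix.smul _)] at h16
  have hc2 : ∀ a b : GolayPt → ℤ, dotInt a b = dotInt b a := fun a b =>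
    Finset.sum_congr rfl fun p _ => mul_comm _ _
  rwa [hc2, dot_dvd_of_cong hfix, hc2] at h16


/-- In the centraliser of `B` modulo `B`, a normal subgroup of the centraliser of the image of `z`
inside the radical and containing that image is normalised only by elements fixing it. -/
theorem Seven.open_sides {b : Subgroup.centralizer ({z} : Set G)}
    (hb : e (QuotientGroup.mk b) = Seven.Tbar) (hb7 : b ^ 7 = 1)
    (B : Subgroup G) (hB : B = Subgroup.zpowers (b : G))
    [hn : (B.subgroupOf (Subgroup.centralizer (B : Set G))).Normal]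
    (zT : Subgroup.centralizer (B : Set G)) (hzT : (zT : G) = z)
    (E : Subgroup (↥(Subgroup.centralizer (B : Set G)) ⧸ B.subgroupOf (Subgroup.centralizer (B : Set G))))
    (hE : ∀ a ∈ E, ∃ q : Q, Commute (q : Subgroup.centralizer ({z} : Set G)) b ∧
      ∃ u : Subgroup.centralizer (B : Set G), (u : G) = toG q ∧ QuotientGroup.mk u = a)
    (hEC : ∀ m a : ↥(Subgroup.centralizer (B : Set G)) ⧸ B.subgroupOf (Subgroup.centralizer (B : Set G)),
      m * QuotientGroup.mk zT = QuotientGroup.mk zT * m → a ∈ E → m * a * m⁻¹ ∈ E)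
    (hzE : QuotientGroup.mk zT ∈ E)
    (g : ↥(Subgroup.centralizer (B : Set G)) ⧸ B.subgroupOf (Subgroup.centralizer (B : Set G)))
    (hg : g ∈ Subgroup.normalizer (E : Set _)) :
    g * QuotientGroup.mk zT * g⁻¹ = QuotientGroup.mk zT := by
  classical
  haveI : Fact (Nat.Prime 7) := ⟨by norm_num⟩
  by_contra hne
  obtain ⟨c, rfl⟩ := QuotientGroup.mk_surjective g
  have hob : orderOf (b : G) = 7 := (Subgroup.orderOf_coe b).trans (Seven.orderOf_b hb hb7)
  have hbU : ∀ u : Subgroup.centralizer (B : Set G), Commute (u : G) (b : G) := fun u =>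
    (Subgroup.mem_centralizer_iff.1 u.2 _ (hB ▸ Subgroup.mem_zpowers _)).symm
  -- equal images of elements killed by four are equal
  have hlift : ∀ u w : Subgroup.centralizer (B : Set G), (u : G) ^ 4 = 1 → (w : G) ^ 4 = 1 →
      (QuotientGroup.mk u : ↥(Subgroup.centralizer (B : Set G)) ⧸ B.subgroupOf (Subgroup.centralizer (B : Set G))) = QuotientGroup.mk w → (u : G) = (w : G) := by
    intro u w hu hw huw
    have hm0 := QuotientGroup.eq.1 huw
    have hm : (u : G)⁻¹ * (w : G) ∈ Subgroup.zpowers (b : G) := hB.le hm0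
    obtain ⟨j, hj⟩ := mem_powers_iff_mem_zpowers.2 hm
    have hj' : (b : G) ^ j = (u : G)⁻¹ * (w : G) := hj
    have e1 : (w : G) = (u : G) * (b : G) ^ j := by rw [hj']; group
    rw [e1, ((hbU u).pow_right j).mul_pow, hu, one_mul, ← pow_mul] at hw
    have hd := orderOf_dvd_of_pow_eq_one hw
    rw [hob] at hd
    obtain ⟨l, rfl⟩ : 7 ∣ j := by omega
    rw [e1, pow_mul, ← hob, pow_orderOf_eq_one, one_pow, mul_one]
  have hfour : ∀ q : Q, toG q ^ 4 = 1 := fun q => by
    have hz2 : z * z = 1 := by rw [← pow_two, ← hS.1]; exact pow_orderOf_eq_one z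
    have : toG q * toG q = 1 ∨ toG q * toG q = z := sq_inG hS (mem_inG.2 ⟨q, rfl⟩)
    rcases this with h | h <;> rw [show (4 : ℕ) = 2 * 2 from rfl, pow_mul, pow_two (toG q), h, pow_two]
    · exact one_mul _
    · exact hz2
  have hconj4 : ∀ (x a : G), a ^ 4 = 1 → (x * a * x⁻¹) ^ 4 = 1 := fun x a h => by
    rw [conj_pow, h, mul_one, mul_inv_cancel]
  -- the moved involution
  have ha := (Subgroup.mem_set_normalizer_iff.1 hg _).1 hzE
  obtain ⟨q, hqb, uq, huq, hquot⟩ := hE _ ha
  have hcz : toG q = (c : G) * z * (c : G)⁻¹ := by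
    have h4 : ((c * zT * c⁻¹ : Subgroup.centralizer (B : Set G)) : G) ^ 4 = 1 := by
      show ((c : G) * (zT : G) * (c : G)⁻¹) ^ 4 = 1
      rw [hzT]
      exact hconj4 _ _ (hfour (zQ hS))
    have h := hlift uq (c * zT * c⁻¹) (by rw [huq]; exact hfour q) h4 hquot
    rw [huq] at h
    rw [h, ← hzT]
    rfl
  have hqz : toG q ≠ z := fun h => hne (by
    show QuotientGroup.mk (c * zT * c⁻¹) = _
    congr 1
    refine Subtype.ext ?_
    show (c : G) * (zT : G) * (c : G)⁻¹ = (zT : G)
    rw [hzT, ← hcz, h])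
  have hqc : IsConj z (toG q) := isConj_iff.2 ⟨c, hcz.symm⟩
  -- adapted data
  have hB7 : Nat.card B = 7 := by rw [hB, Nat.card_zpowers, hob]
  have hBle : B ≤ Subgroup.centralizer ({z, toG q} : Set G) := by
    rw [hB, Subgroup.zpowers_le]
    refine Subgroup.mem_centralizer_iff.2 ?_
    rintro y (rfl | rfl)
    · exact (Subgroup.mem_centralizer_singleton_iff.1 b.2).symm
    · exact congrArg Subtype.val hqb.eq
  obtain ⟨e', ψ', b', hψ', hb', hb'7, hBe, hframe⟩ :=
    Seven.normal_form' hS hψ (hsc := q.1.2) q.2 hqc hqz B hBle hB7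
  have hqb' : Commute (q : Subgroup.centralizer ({z} : Set G)) b' := by
    have h : b' ∈ Subgroup.centralizer ({(q : Subgroup.centralizer ({z} : Set G))} : Set _) := by
      refine Subgroup.mem_centralizer_singleton_iff.2 (Subtype.ext ?_)
      have hm : (b' : G) ∈ B := hBe ▸ Subgroup.mem_zpowers _
      exact (Subgroup.mem_centralizer_iff.1 (hBle hm) _ (by simp)).symm
    exact (Subgroup.mem_centralizer_singleton_iff.1 h).symm
  have hframe' : ψ' frameV = QuotientGroup.mk q := hframe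
  -- an element of the centraliser moving the frame
  obtain ⟨h₀, hh₀⟩ := exists_of_co0 hψ' Seven.gE
  obtain ⟨h, ⟨i, hi⟩, hhb⟩ := Seven.exists_twist hS hb' hb'7 (g := Seven.gE) (j := 1) (by
    rw [pow_one]
    exact mul_inv_eq_iff_eq_mul.2 (Subgroup.mem_centralizer_singleton_iff.1 Seven.gE_mem)) hh₀
  rw [pow_one] at hhb
  have hhU : (h : G) ∈ Subgroup.centralizer (B : Set G) := by
    refine Subgroup.mem_centralizer_iff.2 fun y hy => ?_
    obtain ⟨k, rfl⟩ := mem_powers_iff_mem_zpowers.2 (hBe.le hy)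
    have hc : Commute (h : G) (b' : G) := congrArg Subtype.val (mul_inv_eq_iff_eq_mul.1 hhb)
    exact (hc.pow_right k).eq.symm
  let hu : Subgroup.centralizer (B : Set G) := ⟨(h : G), hhU⟩
  have hm : (QuotientGroup.mk hu : ↥(Subgroup.centralizer (B : Set G)) ⧸ B.subgroupOf (Subgroup.centralizer (B : Set G))) * QuotientGroup.mk zT =
      QuotientGroup.mk zT * QuotientGroup.mk hu := by
    rw [← QuotientGroup.mk_mul, ← QuotientGroup.mk_mul]
    congr 1
    refine Subtype.ext ?_
    show (h : G) * (zT : G) = (zT : G) * (h : G)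
    rw [hzT]
    exact Subgroup.mem_centralizer_singleton_iff.1 h.2
  have he := hEC _ _ hm ha
  let y : Q := ⟨h * q * h⁻¹,
    (inferInstance : Q.Normal).conj_mem (q : Subgroup.centralizer ({z} : Set G)) q.2 h⟩
  have hy : (y : Subgroup.centralizer ({z} : Set G)) = h * q * h⁻¹ := rfl
  have hyG : toG y = (h : G) * toG q * (h : G)⁻¹ := rfl
  -- it lies in the other radical
  have hback := (Subgroup.mem_set_normalizer_iff''.1 hg _).1 he
  obtain ⟨q', -, uq', huq', hquot'⟩ := hE _ hback
  have hymem : toG y ∈ conjQ Q (c : G) := by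
    refine mem_conjQ.2 (mem_inG.2 ⟨q', ?_⟩)
    have h' := hlift uq' (c⁻¹ * (hu * (c * zT * c⁻¹) * hu⁻¹) * c) (by rw [huq']; exact hfour q') ?_
      (by rw [hquot']; rfl)
    · rw [huq'] at h'
      rw [h']
      show (c : G)⁻¹ * ((h : G) * ((c : G) * (zT : G) * (c : G)⁻¹) * (h : G)⁻¹) * (c : G) = _
      rw [hzT, hyG, hcz]
    · show ((c : G)⁻¹ * ((h : G) * ((c : G) * (zT : G) * (c : G)⁻¹) * (h : G)⁻¹) * (c : G)) ^ 4 = 1
      rw [hzT, ← hcz]
      simpa using hconj4 (c : G)⁻¹ _ (hconj4 (h : G) _ (hfour q))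
  have hyb : Commute (y : Subgroup.centralizer ({z} : Set G)) b' := by
    have h1 := hqb'.map (MulAut.conj h).toMonoidHom
    simp only [MulEquiv.coe_toMonoidHom, MulAut.conj_apply, hhb] at h1
    exact h1
  have hyz : IsConj z (toG y) := hqc.trans (isConj_iff.2 ⟨(h : G), hyG.symm⟩)
  have hy1 : toG y ≠ z := fun h1 => hqz (by
    rw [hyG, mul_inv_eq_iff_eq_mul, ← Subgroup.mem_centralizer_singleton_iff.1 h.2] at h1
    exact mul_left_cancel h1)
  have hfr := Seven.meet_frame_class hS hψ' hb' hb'7 hcz.symm hframe' hymem hyb hyz hy1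
  -- but its class is another one
  obtain ⟨g₁, hg₁⟩ : ∃ g₁ : Co0, g₁ = Seven.T ^ i * Seven.gE := ⟨_, rfl⟩
  have hg₁' : (QuotientGroup.mk g₁ : Spor.Co1) = e' (QuotientGroup.mk h) := by
    rw [hi, hg₁, QuotientGroup.mk_mul, QuotientGroup.mk_pow]; rfl
  have hval := psi_conj hψ' h g₁ hg₁' frameV q hframe'
  have hc1 : Cong (g₁ • frameV) frameV := (psi_eq_iff hψ' _ _).1 (hval.trans hfr.symm)
  have hc2 : Cong (g₁ • frameV) (Seven.cls 2) := by
    rw [hg₁, mul_smul]
    refine ((Seven.eq_cls_one (Seven.keeps_C0 Seven.gE_mem)).smul (Seven.T ^ i)).trans ?_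
    rw [Seven.T_pow_cls, Seven.act_g_one]
    exact Cong.refl _
  have h12 := Seven.clsIdx_congr ((Seven.frame_cls.symm.trans hc1.symm).trans hc2)
  rw [Seven.clsIdx_cls, Seven.clsIdx_cls] at h12
  exact absurd h12 (by decide)

end CfsgLib.MonsterType
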