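import Cfsg.Agent.MonsterType.ModTwo
import Cfsg.Agent.Leech.Co0Order

/-!
# Normal 2-subgroups of the stabiliser of a short class modulo twice the lattice

The stabiliser of the class of a minimal vector has only the centre as such a subgroup.
-/

set_option autoImplicit false

namespace CfsgLib.MonsterType

open Cfsg CfsgLib.Leech CfsgLib.Mathieu

/-- Congruence modulo twice the lattice. -/
def Cong (x y : leechLattice) : Prop := ∃ u : leechLattice, x = y + (u + u)

theorem Cong.refl (x : leechLattice) : Cong x x := ⟨0, by simp⟩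

theorem Cong.symm {x y : leechLattice} : Cong x y → Cong y x := by
  rintro ⟨u, rfl⟩; exact ⟨-u, by abel⟩

theorem Cong.trans {x y w : leechLattice} : Cong x y → Cong y w → Cong x w := by
  rintro ⟨u, rfl⟩ ⟨u', rfl⟩; exact ⟨u + u', by abel⟩

theorem Cong.smul (g : Co0) {x y : leechLattice} : Cong x y → Cong (g • x) (g • y) := by
  rintro ⟨u, rfl⟩; exact ⟨g • u, by rw [co0_add, co0_add]⟩

theorem Cong.neg (x : leechLattice) : Cong (-x) x := ⟨-x, by abel⟩

theorem Cong.cases {x y : leechLattice} (h : Cong x y)
    (hx : sqNorm (x : GolayPt → ℤ) ≤ 64) (hy : sqNorm (y : GolayPt → ℤ) ≤ 64) :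
    x = y ∨ x = -y ∨ (sqNorm (x : GolayPt → ℤ) = 64 ∧ sqNorm (y : GolayPt → ℤ) = 64) := by
  obtain ⟨u, hu⟩ := h
  have e : (x : GolayPt → ℤ) - (y : GolayPt → ℤ) = 2 • (u : GolayPt → ℤ) := by
    rw [hu, two_nsmul]; simp
  rcases congr_cases y.2 hx hy u.2 e with e' | e' | ⟨a, b, -⟩
  · exact Or.inl (Subtype.ext e'.symm)
  · exact Or.inr (Or.inl (Subtype.ext (by rw [AddSubgroup.coe_neg, e', neg_neg])))
  · exact Or.inr (Or.inr ⟨a, b⟩)

theorem Cong.eq_or_neg {x y : leechLattice} (h : Cong x y)
    (hx : sqNorm (x : GolayPt → ℤ) = 32) (hy : sqNorm (y : GolayPt → ℤ) ≤ 64) :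
    x = y ∨ x = -y := by
  rcases h.cases (by omega) hy with e | e | ⟨a, -⟩
  · exact Or.inl e
  · exact Or.inr e
  · omega

/-- The stabiliser of a class modulo twice the lattice. -/
def classStab (v : leechLattice) : Subgroup Co0 where
  carrier := {g | Cong (g • v) v}
  one_mem' := by show Cong ((1 : Co0) • v) v; rw [one_smul]; exact Cong.refl v
  mul_mem' {g h} hg hh := by
    show Cong ((g * h) • v) v
    rw [mul_smul]
    exact (Cong.smul g hh).trans hg
  inv_mem' {g} hg := by
    show Cong (g⁻¹ • v) v
    have h' := Cong.smul g⁻¹ (Cong.symm hg)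
    rwa [inv_smul_smul] at h'

theorem mem_classStab {v : leechLattice} {g : Co0} : g ∈ classStab v ↔ Cong (g • v) v := Iff.rfl

/-- Twice the lattice with the multiples of `v`. -/
def twoSpan (v : leechLattice) : AddSubgroup leechLattice where
  carrier := {x | ∃ (w : leechLattice) (t : ℤ), x = w + w + t • v}
  zero_mem' := ⟨0, 0, by simp⟩
  add_mem' := by
    rintro _ _ ⟨w, t, rfl⟩ ⟨w', t', rfl⟩
    exact ⟨w + w', t + t', by rw [add_smul]; abel⟩
  neg_mem' := by
    rintro _ ⟨w, t, rfl⟩
    exact ⟨-w, -t, by rw [neg_smul]; abel⟩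

theorem twoSpan_smul {v : leechLattice} {g : Co0} (hg : g ∈ classStab v) {x : leechLattice}
    (hx : x ∈ twoSpan v) : g • x ∈ twoSpan v := by
  obtain ⟨w, t, rfl⟩ := hx
  obtain ⟨u, hu⟩ := mem_classStab.1 hg
  refine ⟨g • w + t • u, t, ?_⟩
  rw [co0_add, co0_add, co0_zsmul, hu, smul_add, smul_add]
  abel

theorem cong_or_of_sub_mem {v x y : leechLattice} (h : x - y ∈ twoSpan v) :
    Cong x y ∨ Cong x (y + v) := by
  obtain ⟨w, t, e⟩ := h
  rw [sub_eq_iff_eq_add] at e
  rcases Int.even_or_odd' t with ⟨k, rfl | rfl⟩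
  · refine Or.inl ⟨w + k • v, ?_⟩
    rw [e, mul_smul, two_zsmul]; abel
  · refine Or.inr ⟨w + k • v, ?_⟩
    rw [e, add_smul, one_smul, mul_smul, two_zsmul]; abel

/-- The short vector `4 (e ∞ + e 0)`. -/
def shortV : leechLattice := pairV none (some 0)

theorem shortV_coe : (shortV : GolayPt → ℤ) = pairFun none (some 0) := rfl

/-- The mask of the two special points. -/
def baseMask : ℕ := 8388609

theorem setOf24_baseMask : setOf24 baseMask = ({none, some 0} : Finset GolayPt) := by decide +kernel

theorem exists_allowed_cut : allBelow 4096 (fun m => (wt (codeMask m) != 8 && wt (codeMask m) != 12) ||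
    (List.range 4096).any (fun n =>
      ((codeMask n).testBit 0 == (codeMask n).testBit 23) &&
      !isCode (codeMask n &&& codeMask m) &&
      !isCode ((codeMask n &&& codeMask m) ^^^ baseMask))) = true := by
  decide +kernel

theorem sign_mem_classStab {c : Finset GolayPt}
    (hc : c ∈ supports (golayCode : Set (GolayPt → ZMod 2))) (h : none ∈ c ↔ some 0 ∈ c) :
    monoCo0 1 (one_mem _) c hc ∈ classStab shortV := by
  rw [mem_classStab]
  by_cases hn : none ∈ c
  · have e : monoCo0 1 (one_mem _) c hc • shortV = -shortV := by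
      refine Subtype.ext (funext fun q => ?_)
      rw [monoCo0_smul]
      simp only [monoFun, Equiv.Perm.one_apply, AddSubgroup.coe_neg, Pi.neg_apply, shortV_coe, pairFun]
      by_cases hq : q ∈ c
      · rw [if_pos hq]
      · have h1 : q ≠ none := fun e => hq (e ▸ hn)
        have h2 : q ≠ some 0 := fun e => hq (e ▸ h.1 hn)
        rw [if_neg hq, if_neg h1, if_neg h2]; simp
    rw [e]; exact Cong.neg _
  · have e : monoCo0 1 (one_mem _) c hc • shortV = shortV := by
      refine Subtype.ext (funext fun q => ?_)
      rw [monoCo0_smul]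
      simp only [monoFun, Equiv.Perm.one_apply, shortV_coe, pairFun]
      by_cases hq : q ∈ c
      · have h1 : q ≠ none := fun e => hn (e ▸ hq)
        have h2 : q ≠ some 0 := fun e => hn (h.2 (e ▸ hq))
        rw [if_pos hq, if_neg h1, if_neg h2]; simp
      · rw [if_neg hq]
    rw [e]; exact Cong.refl _

theorem perm_mem_classStab {σ : Equiv.Perm GolayPt} (hσ : σ ∈ M24) (h1 : σ none = none)
    (h2 : σ (some 0) = some 0) :
    monoCo0 σ hσ ∅ Spor.empty_mem_supports_golayCode ∈ classStab shortV := by
  rw [mem_classStab]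
  have e : monoCo0 σ hσ ∅ Spor.empty_mem_supports_golayCode • shortV = shortV := by
    refine Subtype.ext (funext fun q => ?_)
    rw [monoCo0_smul]
    simp only [monoFun, Finset.notMem_empty, if_false, shortV_coe, pairFun]
    conv_lhs => rw [← h2, ← h1]
    simp only [σ.injective.eq_iff]
  rw [e]; exact Cong.refl _

/-- An element outside the monomial group fixing the short vector. -/
theorem exists_swap : ∃ g ∈ classStab shortV,
    ((g • pairV none none : leechLattice) : GolayPt → ℤ) =
      pairFun none (some 0) + pairFun (pt 1) (pt 2) - pairFun (pt 2) (pt 2) := by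
  obtain ⟨σ, hσ, hmap⟩ := M24_map_five ![pt 0, pt 23, pt 1, pt 2, pt 5]
    ![pt 1, pt 2, pt 0, pt 23, pt 5] (by decide +kernel) (by decide +kernel)
  have e0 : σ (pt 0) = pt 1 := hmap 0
  have e1 : σ (pt 23) = pt 2 := hmap 1
  have e2 : σ (pt 1) = pt 0 := hmap 2
  have e3 : σ (pt 2) = pt 23 := hmap 3
  refine ⟨monoCo0 σ hσ ∅ Spor.empty_mem_supports_golayCode * xiCo0, ?_, ?_⟩
  · rw [mem_classStab]
    have e : (monoCo0 σ hσ ∅ Spor.empty_mem_supports_golayCode * xiCo0) • shortV = shortV := by
      refine Subtype.ext (funext fun q => ?_)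
      rw [mul_smul, monoCo0_smul, xiCo0_smul]
      simp only [monoFun, Finset.notMem_empty, if_false, shortV_coe]
      have hx : ∀ r, xiFun (pairFun none (some 0)) r = pairFun (pt 1) (pt 2) r := by decide +kernel
      rw [hx]
      simp only [pairFun, show (none : GolayPt) = pt 23 by decide +kernel,
        show (some 0 : GolayPt) = pt 0 by decide +kernel]
      conv_lhs => rw [← e0, ← e1]
      simp only [σ.injective.eq_iff]
      ring
    rw [e]; exact Cong.refl _
  · funext q
    rw [mul_smul, monoCo0_smul, xiCo0_smul]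
    simp only [monoFun, Finset.notMem_empty, if_false]
    have hx : ∀ r, xiFun (pairV none none : GolayPt → ℤ) r =
        pairFun (pt 1) (pt 2) r + pairFun (pt 0) (pt 23) r - pairFun (pt 23) (pt 23) r := by
      decide +kernel
    rw [hx]
    simp only [pairFun, Pi.add_apply, Pi.sub_apply, show (none : GolayPt) = pt 23 by decide +kernel,
      show (some 0 : GolayPt) = pt 0 by decide +kernel]
    have k : ∀ a b, σ a = b → (σ q = b ↔ q = a) := fun a b e => by rw [← e, σ.injective.eq_iff]
    simp only [k _ _ e0, k _ _ e1, k _ _ e2, k _ _ e3]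
    ring

section

variable {M : AddSubgroup (GolayPt → ℤ)}
  (h2 : ∀ v ∈ leechLattice, (2 : ℤ) • v ∈ M) (hle : M ≤ leechLattice)
  (hv : pairFun none (some 0) ∈ M)
  (hinv : ∀ g ∈ classStab shortV, ∀ w : leechLattice, (w : GolayPt → ℤ) ∈ M →
    ((g • w : leechLattice) : GolayPt → ℤ) ∈ M)

include hle hinv in
theorem allowed_signs_mem {c : Finset GolayPt}
    (hc : c ∈ supports (golayCode : Set (GolayPt → ZMod 2))) (hcv : none ∈ c ↔ some 0 ∈ c)
    {x : GolayPt → ℤ} (hx : x ∈ M) : (fun p => if p ∈ c then 2 * x p else 0) ∈ M := by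
  have h := sub_mem hx (hinv _ (sign_mem_classStab hc hcv) ⟨x, hle hx⟩ hx)
  rw [monoCo0_smul] at h
  convert h using 1
  funext p
  simp only [Pi.sub_apply, monoFun, Equiv.Perm.one_apply]
  split_ifs <;> ring

include h2 hle in
/-- Four times a vector with parities in the code. -/
theorem diag_or_two (b : GolayPt → ℤ) (hM : (4 : ℤ) • b ∈ M) (hcode : res2 b ∈ golayCode) :
    pairFun none none ∈ M ∨ ∃ w ∈ leechLattice, (4 : ℤ) • b = (2 : ℤ) • w := by
  have hsum : (2 : ℤ) ∣ ∑ q, b q := by
    obtain ⟨n, c, hc, hcs, -⟩ := mem_leech.1 (hle hM)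
    have h0 := hc none
    simp only [Pi.smul_apply, smul_eq_mul, ← Finset.mul_sum] at h0 hcs
    unfold Int.ModEq at hcs
    omega
  obtain ⟨s, hs⟩ := hsum
  have hb2 : ∀ t : ℤ, (2 : ℤ) ∣ s - t →
      ((2 : ℤ) • b - (t • fun q => if q = (none : GolayPt) then (4 : ℤ) else 0)) ∈ leechLattice := by
    intro t hd
    rw [mem_leech]
    refine ⟨0, fun q => b q - 2 * t * (if q = (none : GolayPt) then 1 else 0), fun q => ?_, ?_, ?_⟩
    · simp only [Pi.sub_apply, Pi.smul_apply, smul_eq_mul]; split_ifs <;> ring
    · simp [Finset.sum_sub_distrib, ← Finset.mul_sum, hs]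
      unfold Int.ModEq
      omega
    · convert hcode using 1
      funext q
      simp [res2, show (2 : ZMod 2) = 0 from rfl]
  rcases Int.even_or_odd' s with ⟨k, hk | hk⟩
  · refine Or.inr ⟨(2 : ℤ) • b, ?_, by rw [smul_smul]; norm_num⟩
    simpa using hb2 0 (by omega)
  · refine Or.inl ?_
    have := sub_mem hM (h2 _ (hb2 1 (by omega)))
    convert this using 1
    funext q
    simp only [Pi.sub_apply, Pi.smul_apply, smul_eq_mul, pairFun]
    split_ifs <;> ring

include h2 hle hinv in
/-- Four times a vector gives the diagonal vector unless its parities are in a short list. -/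
theorem diag_or_parity (b : GolayPt → ℤ) (hM : (4 : ℤ) • b ∈ M) :
    pairFun none none ∈ M ∨ res2 b ∈ golayCode ∨ res2 b + wordOf baseMask ∈ golayCode := by
  by_cases hU : pairFun none none ∈ M
  · exact Or.inl hU
  refine Or.inr ?_
  have horth : ∀ c ∈ golayCode, c none = c (some 0) → CfsgLib.GolayModule.dot (res2 b) c = 0 := by
    intro c hc hcv
    by_contra hdot
    apply hU
    have hiff : none ∈ support₂ c ↔ some 0 ∈ support₂ c := by
      simp only [support₂, Finset.mem_filter, Finset.mem_univ, true_and, hcv]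
    have h1 := allowed_signs_mem hle hinv ⟨c, hc, rfl⟩ hiff hM
    have h1' : (fun q => (0 : GolayPt → ℤ) q + 8 * (if q ∈ support₂ c then b q else 0)) ∈ M := by
      convert h1 using 1
      funext q
      simp only [Pi.zero_apply, zero_add, Pi.smul_apply, smul_eq_mul]
      split_ifs <;> ring
    have h3 := reduce_eight h2 (none : GolayPt) _ _ h1'
    rw [zero_add] at h3
    have hodd : ¬ (2 : ℤ) ∣ ∑ q, (if q ∈ support₂ c then b q else 0) := by
      intro hd
      apply hdot
      rw [CfsgLib.GolayModule.dot]
      have e : ∀ q, res2 b q * c q = (((if q ∈ support₂ c then b q else 0) : ℤ) : ZMod 2) :=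
        fun q => by
        by_cases hq : q ∈ support₂ c
        · have : c q = 1 := (by decide : ∀ z : ZMod 2, z ≠ 0 → z = 1) _
            (Finset.mem_filter.1 hq).2
          simp [hq, this, res2]
        · have : c q = 0 := by
            by_contra h'; exact hq (Finset.mem_filter.2 ⟨Finset.mem_univ _, h'⟩)
          simp [hq, this]
      rw [Finset.sum_congr rfl fun q _ => e q, ← Int.cast_sum,
        ZMod.intCast_zmod_eq_zero_iff_dvd]
      exact_mod_cast hd
    obtain ⟨k, hk | hk⟩ := Int.even_or_odd' (∑ q, (if q ∈ support₂ c then b q else 0))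
    · exact absurd ⟨k, hk⟩ hodd
    · rw [hk, add_smul, one_smul, mul_smul] at h3
      simpa using sub_mem h3 (h2 _ (zsmul_mem (pairFun_mem none none) k))
  -- a code word separating the two points
  obtain ⟨d, hd, hdv⟩ : ∃ d ∈ golayCode, d none ≠ d (some 0) := by
    obtain ⟨r, hr, hrv⟩ : ∃ r ∈ codeRows, wordOf r none ≠ wordOf r (some 0) := by decide +kernel
    exact ⟨_, CfsgLib.GolayModule.wordOf_mem_of_row hr, hrv⟩
  have hw0 : ∀ c : GolayPt → ZMod 2,
      CfsgLib.GolayModule.dot (wordOf baseMask) c = c none + c (some 0) := by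
    intro c
    have e : ∀ q, wordOf baseMask q * c q =
        if q ∈ ({none, some 0} : Finset GolayPt) then c q else 0 := fun q => by
      rw [← setOf24_baseMask]
      by_cases hq : baseMask.testBit (idx q) = true <;> simp [wordOf, hq]
    rw [CfsgLib.GolayModule.dot, Finset.sum_congr rfl fun q _ => e q, Finset.sum_ite_mem,
      Finset.univ_inter, Finset.sum_pair (by decide +kernel)]
  have key : ∀ w : GolayPt → ZMod 2, (∀ c ∈ golayCode, c none = c (some 0) →
      CfsgLib.GolayModule.dot w c = 0) → CfsgLib.GolayModule.dot w d = 0 → w ∈ golayCode := by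
    intro w hw hwd
    rw [CfsgLib.GolayModule.mem_code_iff_orth]
    intro c hc
    by_cases hcv : c none = c (some 0)
    · exact hw c hc hcv
    · have := hw (c + d) (add_mem hc hd) (by
        simp only [Pi.add_apply]
        revert hcv hdv
        generalize c none = p, c (some 0) = q, d none = r, d (some 0) = s
        revert p q r s; decide)
      rw [CfsgLib.GolayModule.dot_add, hwd, add_zero] at this
      exact this
  by_cases hbd : CfsgLib.GolayModule.dot (res2 b) d = 0
  · exact Or.inl (key _ horth hbd)
  · refine Or.inr (key _ (fun c hc hcv => ?_) ?_)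
    · rw [CfsgLib.GolayModule.add_dot, horth c hc hcv, hw0, hcv, zero_add]
      exact (by decide : ∀ t : ZMod 2, t + t = 0) _
    · rw [CfsgLib.GolayModule.add_dot, hw0]
      revert hbd hdv
      generalize CfsgLib.GolayModule.dot (res2 b) d = p, d none = q, d (some 0) = r
      revert p q r; decide

include h2 hle hinv in
/-- A cut with parities outside the short list gives the diagonal vector. -/
theorem diag_of_cut (f : GolayPt → ℤ) {S : ℕ} (hS : S < 2 ^ 24) (hS1 : isCode S = false)
    (hS2 : isCode (S ^^^ baseMask) = false) {C : Finset GolayPt}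
    (hC : ∀ q, (q ∈ C ∧ ¬ (2 : ℤ) ∣ f q) ↔ S.testBit (idx q) = true)
    (h : (fun q => if q ∈ C then 4 * f q else 0) ∈ M) : pairFun none none ∈ M := by
  let b : GolayPt → ℤ := fun q => if q ∈ C then f q else 0
  have hb : (4 : ℤ) • b ∈ M := by
    convert h using 1
    funext q
    simp only [b, Pi.smul_apply, smul_eq_mul]
    split_ifs <;> ring
  have hres : res2 b = wordOf S := by
    funext q
    simp only [res2, b, wordOf]
    by_cases hq : S.testBit (idx q) = true
    · obtain ⟨h1, h3⟩ := (hC q).2 hq
      rw [if_pos h1, if_pos hq]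
      exact ((by decide : ∀ z : ZMod 2, z ≠ 0 → z = 1) _
        (by rwa [ne_eq, ZMod.intCast_zmod_eq_zero_iff_dvd]))
    · rw [if_neg hq]
      by_cases hqC : q ∈ C
      · rw [if_pos hqC, ZMod.intCast_zmod_eq_zero_iff_dvd]
        by_contra h'
        exact hq ((hC q).1 ⟨hqC, h'⟩)
      · rw [if_neg hqC]; simp
  have hno : ∀ K, K < 2 ^ 24 → isCode K = false → wordOf K ∉ golayCode := by
    intro K hK hKc hmem
    obtain ⟨N, hN, he⟩ := exists_isCode_of_mem hmem
    rw [CfsgLib.GolayModule.wordOf_eq_zero_or N hK (isCode_lt hN) he, hN] at hKc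
    exact Bool.noConfusion hKc
  rcases diag_or_parity h2 hle hinv b hb with e | e | e
  · exact e
  · exact absurd (hres ▸ e) (hno S hS hS1)
  · rw [hres, ← wordOf_xor] at e
    exact absurd e (hno _ (Nat.xor_lt_two_pow hS (by decide)) hS2)

include h2 hle hv hinv in
set_option maxHeartbeats 1600000 in
/-- A vector outside the span of `v` gives the diagonal vector. -/
theorem diag_of_not_span {x : GolayPt → ℤ} (hx : x ∈ M)
    (hne : ∀ w ∈ leechLattice, ∀ t : ℤ, x ≠ (2 : ℤ) • w + t • pairFun none (some 0)) :
    pairFun none none ∈ M := by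
  obtain ⟨m, a, ha, -, hw⟩ := mem_leech.1 (hle hx)
  obtain ⟨n, rfl | rfl⟩ := m.even_or_odd'
  · let y : GolayPt → ℤ := fun i => n + a i
    have hxy : x = (2 : ℤ) • y := funext fun i => by simp [y, ha i]; ring
    have hyw : res2 y ∈ golayCode := by
      have e : res2 y = res2 a + (n : ZMod 2) • (1 : GolayPt → ZMod 2) := by
        ext i; simp [res2, y]; ring
      rw [e]; exact add_mem hw (Submodule.smul_mem _ _ one_mem_golayCode)
    subst hxy
    have hoL : oddVec ∈ leechLattice := (genSet_spec _ (by simp [genSet])).1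
    obtain ⟨A, hA, hAw, hAlow, hAne⟩ : ∃ A : GolayPt → ℤ, (2 : ℤ) • A ∈ M ∧ res2 A ∈ golayCode ∧
        (support₂ (res2 A)).card ≤ 12 ∧
        ∀ w ∈ leechLattice, ∀ t : ℤ, (2 : ℤ) • A ≠ (2 : ℤ) • w + t • pairFun none (some 0) := by
      by_cases hlow : (support₂ (res2 y)).card ≤ 12
      · exact ⟨y, hx, hyw, hlow, hne⟩
      have hr : res2 (y + oddVec) = res2 y + 1 := by
        have ho : ∀ q, ((oddVec q : ℤ) : ZMod 2) = 1 := by decide +kernel
        ext q; simp [res2, ho q]
      refine ⟨y + oddVec, ?_, ?_, ?_, ?_⟩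
      · rw [smul_add]; exact add_mem hx (h2 _ hoL)
      · rw [hr]; exact add_mem hyw one_mem_golayCode
      · have hcompl : support₂ (res2 (y + oddVec)) = (support₂ (res2 y))ᶜ := by
          rw [hr]; ext q
          simp only [support₂, Finset.mem_compl, Finset.mem_filter, Finset.mem_univ, true_and,
            Pi.add_apply, Pi.one_apply]
          generalize res2 y q = z
          revert z; decide
        rw [hcompl, Finset.card_compl]
        have : Fintype.card GolayPt = 24 := by simp [ZMod.card]
        omega
      · intro w hwL t e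
        refine hne (w - oddVec) (sub_mem hwL hoL) t ?_
        rw [smul_sub, sub_add_eq_add_sub, ← e, smul_add, add_sub_cancel_right]
    obtain ⟨M₀, hM₀, hwM⟩ := exists_isCode_of_mem hAw
    have hset : support₂ (res2 A) = setOf24 M₀ := by rw [hwM, support₂_wordOf]
    have hmem : ∀ q, ¬ (2 : ℤ) ∣ A q ↔ q ∈ setOf24 M₀ := fun q => by
      rw [← hset]
      simp [support₂, res2, ZMod.intCast_zmod_eq_zero_iff_dvd]
    rw [hset, card_setOf24] at hAlow
    obtain ⟨m, hm, rfl⟩ := exists_codeMask hM₀
    by_cases hzero : wt (codeMask m) = 0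
    · have hev : ∀ q, (2 : ℤ) ∣ A q := fun q => by
        by_contra hq
        have hin := (hmem q).1 hq
        rw [Finset.card_eq_zero.1 ((card_setOf24 _).trans hzero)] at hin
        simp at hin
      choose b hb using hev
      have h4 : (2 : ℤ) • A = (4 : ℤ) • b := funext fun q => by simp [hb q]; ring
      rw [h4] at hA hAne
      rcases diag_or_parity h2 hle hinv b hA with e | e | e
      · exact e
      · rcases diag_or_two h2 hle b hA e with e' | ⟨w, hwL, e'⟩
        · exact e'
        · exact absurd (by rw [e', zero_smul, add_zero]) (hAne w hwL 0)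
      · let ind : GolayPt → ℤ := fun q => (if q = none then 1 else 0) + (if q = some 0 then 1 else 0)
        have hind : (4 : ℤ) • ind = pairFun none (some 0) := funext fun q => by
          simp only [ind, Pi.smul_apply, smul_eq_mul, pairFun]; split_ifs <;> ring
        have hres : res2 (b - ind) = res2 b + wordOf baseMask := by
          have hi : ∀ q, ((-ind q : ℤ) : ZMod 2) = wordOf baseMask q := by decide +kernel
          funext q
          rw [Pi.add_apply, ← hi q]
          simp [res2, sub_eq_add_neg]
        have hM' : (4 : ℤ) • (b - ind) ∈ M := by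
          rw [smul_sub, hind]; exact sub_mem hA hv
        rcases diag_or_two h2 hle (b - ind) hM' (hres ▸ e) with e' | ⟨w, hwL, e'⟩
        · exact e'
        · refine absurd ?_ (hAne w hwL 1)
          rw [← e', smul_sub, hind, one_smul, sub_add_cancel]
    · have hc := allBelow_iff.1 exists_allowed_cut m hm
      simp only [Bool.or_eq_true, Bool.and_eq_true, bne_iff_ne, ne_eq, List.any_eq_true,
        beq_iff_eq, Bool.not_eq_true'] at hc
      rcases hc with ⟨h8, h12⟩ | ⟨k, -, ⟨hk, hk1⟩, hk2⟩
      · rcases weight_cases hM₀ with e | e | e | e | e <;> omega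
      refine diag_of_cut h2 hle hinv A (S := codeMask k &&& codeMask m)
        (Nat.lt_of_le_of_lt Nat.and_le_left (isCode_lt (isCode_codeMask k))) hk1 hk2
        (C := setOf24 (codeMask k)) (fun q => ?_) ?_
      · rw [hmem q, mem_setOf24, mem_setOf24, Nat.testBit_and, Bool.and_eq_true]
      · have hiff : none ∈ setOf24 (codeMask k) ↔ some 0 ∈ setOf24 (codeMask k) := by
          rw [mem_setOf24, mem_setOf24, show idx (none : GolayPt) = 23 from rfl,
            show idx (some 0 : GolayPt) = 0 by decide +kernel, hk]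
        have := allowed_signs_mem hle hinv (setOf24_mem_supports (isCode_codeMask k)) hiff hA
        convert this using 1
        funext q
        simp only [Pi.smul_apply, smul_eq_mul]
        split_ifs <;> ring
  · have hxodd : ∀ q, ¬ (2 : ℤ) ∣ x q := fun q => by rw [ha q]; omega
    have hA : setOf24 13062145 ∈ supports (golayCode : Set (GolayPt → ZMod 2)) :=
      setOf24_mem_supports (by decide +kernel)
    have hB : setOf24 4845570 ∈ supports (golayCode : Set (GolayPt → ZMod 2)) :=
      setOf24_mem_supports (by decide +kernel)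
    refine diag_of_cut h2 hle hinv x (S := 13062145 &&& 4845570) (by decide +kernel)
      (by decide +kernel) (by decide +kernel) (C := setOf24 13062145 ∩ setOf24 4845570)
      (fun q => ?_) ?_
    · simp only [hxodd q, not_false_eq_true, and_true, ← setOf24_and, mem_setOf24]
    · have h1 := allowed_signs_mem hle hinv hA
        (by decide +kernel) hx
      have h3 := allowed_signs_mem hle hinv hB (by decide +kernel) h1
      convert h3 using 1
      funext q
      simp only [Finset.mem_inter]
      by_cases hq : q ∈ setOf24 13062145 <;> by_cases hq' : q ∈ setOf24 4845570 <;>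
        simp [hq, hq'] <;> ring

include h2 hle hv hinv in
set_option maxHeartbeats 1600000 in
/-- The diagonal vector gives the pairs away from the two points. -/
theorem pairs_of_diag (hU : pairFun none none ∈ M) {a b : GolayPt} (hab : a ≠ b) (ha1 : a ≠ none)
    (ha2 : a ≠ some 0) (hb1 : b ≠ none) (hb2 : b ≠ some 0) : pairFun a b ∈ M := by
  obtain ⟨g, hg, hgU⟩ := exists_swap
  have h1 := hinv g hg (pairV none none) hU
  rw [hgU] at h1
  have hU2 : pairFun (pt 2) (pt 2) ∈ M := (diag_mem_iff h2 none (pt 2)).1 hU
  have h12 : pairFun (pt 1) (pt 2) ∈ M := by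
    have := sub_mem (add_mem h1 hU2) hv
    simpa using this
  obtain ⟨e, hen, he0, hea, heb⟩ : ∃ e : GolayPt, e ≠ none ∧ e ≠ some 0 ∧ e ≠ a ∧ e ≠ b := by
    clear * -
    revert a b; decide +kernel
  obtain ⟨σ, hσ, hmap⟩ := M24_map_five ![none, some 0, a, b, e] ![none, some 0, pt 1, pt 2, pt 5]
    (by
      intro i j hij
      fin_cases i <;> fin_cases j <;>
        first
          | rfl
          | simp [ha1, ha2, hb1, hb2, hen, he0, hea, heb, hab, Ne.symm ha1, Ne.symm ha2, Ne.symm hb1,
              Ne.symm hb2, Ne.symm hen, Ne.symm he0, Ne.symm hea, Ne.symm heb, Ne.symm hab] at hij)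
      (by decide +kernel)
  have e1 : σ none = none := hmap 0
  have e2 : σ (some 0) = some 0 := hmap 1
  have e3 : σ a = pt 1 := hmap 2
  have e4 : σ b = pt 2 := hmap 3
  have h3 := hinv _ (perm_mem_classStab hσ e1 e2) ⟨_, hle h12⟩ h12
  rw [monoCo0_smul] at h3
  convert h3 using 1
  funext q
  simp only [monoFun, Finset.notMem_empty, if_false, pairFun, ← e3, ← e4, σ.injective.eq_iff]

end

/-- Norms of the pairs away from the two points. -/
theorem pair_norms : ∀ a b : GolayPt, a ≠ b → a ≠ none → a ≠ some 0 → b ≠ none → b ≠ some 0 →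
    sqNorm (pairFun a b) = 32 ∧ sqNorm (pairFun a b + pairFun none (some 0)) = 64 := by
  decide +kernel

/-- The classes are finite in number. -/
theorem finite_quot (v : leechLattice) : Finite (leechLattice ⧸ twoSpan v) := by
  refine Finite.of_surjective (fun r : Fin 24 → Fin 2 =>
    (QuotientAddGroup.mk (coordEquiv fun i => (r i : ℤ)) : leechLattice ⧸ twoSpan v)) fun q => ?_
  obtain ⟨x, rfl⟩ := QuotientAddGroup.mk_surjective q
  obtain ⟨a, rfl⟩ := coordEquiv.surjective x
  refine ⟨fun i => ⟨(a i % 2).toNat, by omega⟩, ?_⟩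
  rw [QuotientAddGroup.eq]
  refine ⟨coordEquiv fun i => a i / 2, 0, ?_⟩
  rw [zero_smul, add_zero, ← map_neg, ← map_add, ← map_add]
  congr 1
  funext i
  simp only [Pi.add_apply, Pi.neg_apply]
  omega

set_option maxHeartbeats 1600000 in
/-- A partner of the short vector. -/
def shortW : leechLattice := shortV - pairV (some 0) (some 0)

/-- An automorphism fixing, up to sign, the partner and the pairs away from the two points is
central. -/
theorem center_of_fixes {n : Co0} (hn : n ∈ classStab shortV)
    (hnw1 : n • shortW = shortW ∨ n • shortW = -shortW)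
    (hpair : ∀ a b : GolayPt, a ≠ b → a ≠ none → a ≠ some 0 → b ≠ none → b ≠ some 0 →
      n • pairV a b = pairV a b ∨ n • pairV a b = -pairV a b) : n ∈ Subgroup.center Co0 := by
  have hsum : shortW + shortV = eightL none := Subtype.ext (funext (by decide +kernel))
  have hdiff : shortV - shortW = eightL (some 0) := Subtype.ext (funext (by decide +kernel))
  have hnv : n • shortV = shortV ∨ n • shortV = -shortV :=
    (mem_classStab.1 hn).eq_or_neg (by rw [co0_norm]; decide +kernel) (by decide +kernel)
  have hcross : ((n • eightL none : leechLattice) : GolayPt → ℤ) ∈ stdCross := by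
    rw [← hsum, co0_add, mem_stdCross_iff]
    rcases hnw1 with a | a <;> rcases hnv with b | b <;> rw [a, b]
    · exact ⟨none, Or.inl (congrArg Subtype.val hsum)⟩
    · refine ⟨some 0, Or.inr ?_⟩
      show _ = -((eightL (some 0) : leechLattice) : GolayPt → ℤ)
      rw [← hdiff, ← AddSubgroup.coe_neg]
      congr 1; abel
    · refine ⟨some 0, Or.inl ?_⟩
      show _ = ((eightL (some 0) : leechLattice) : GolayPt → ℤ)
      rw [← hdiff]
      congr 1; abel
    · refine ⟨none, Or.inr ?_⟩
      show _ = -((eightL none : leechLattice) : GolayPt → ℤ)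
      rw [← hsum, ← AddSubgroup.coe_neg]
      congr 1; abel
  obtain ⟨τ, hτ, c, hc, rfl⟩ := eq_monoCo0 (preservesCross_of_mem hcross)
  have hpair' : ∀ a b : GolayPt, a ≠ b → a ≠ none → a ≠ some 0 → b ≠ none → b ≠ some 0 →
      monoFun τ c (pairFun a b) = pairFun a b ∨ monoFun τ c (pairFun a b) = -pairFun a b :=
    fun a b hab ha1 ha2 hb1 hb2 => (hpair a b hab ha1 ha2 hb1 hb2).imp (congrArg Subtype.val)
      (congrArg Subtype.val)
  have hsupp : ∀ a b : GolayPt, a ≠ b → a ≠ none → a ≠ some 0 → b ≠ none → b ≠ some 0 →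
      (τ a = a ∨ τ a = b) ∧ (a ∈ c ↔ b ∈ c) := by
    intro a b hab ha1 ha2 hb1 hb2
    have h := hpair' a b hab ha1 ha2 hb1 hb2
    have key : (τ a = a ∨ τ a = b) ∧ (τ b = a ∨ τ b = b) := by
      constructor
      · by_contra hne
        push Not at hne
        rcases h with e | e <;> have := congrFun e a <;>
          simp [monoFun, pairFun, hne.1, hne.2, hab] at this
      · by_contra hne
        push Not at hne
        rcases h with e | e <;> have := congrFun e b <;>
          simp [monoFun, pairFun, hne.1, hne.2, Ne.symm hab] at this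
    refine ⟨key.1, ?_⟩
    have ea : pairFun a b (τ a) = 4 := by rcases key.1 with e | e <;> simp [e, pairFun, hab, Ne.symm hab]
    have eb : pairFun a b (τ b) = 4 := by rcases key.2 with e | e <;> simp [e, pairFun, hab, Ne.symm hab]
    have pa : pairFun a b a = 4 := by simp [pairFun, hab]
    have pb : pairFun a b b = 4 := by simp [pairFun, Ne.symm hab]
    rcases h with e | e <;> have e1 := congrFun e a <;> have e2 := congrFun e b <;>
      simp only [monoFun, Pi.neg_apply, ea, eb, pa, pb] at e1 e2 <;>
      by_cases h1 : a ∈ c <;> by_cases h2' : b ∈ c <;> simp [h1, h2'] at e1 e2 ⊢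
  have hfixpt : ∀ a : GolayPt, a ≠ none → a ≠ some 0 → τ a = a := by
    intro a ha1 ha2
    obtain ⟨b, b', hb, hb', hbb, hb1, hb2, hb1', hb2'⟩ : ∃ b b' : GolayPt, a ≠ b ∧ a ≠ b' ∧ b ≠ b' ∧
        b ≠ none ∧ b ≠ some 0 ∧ b' ≠ none ∧ b' ≠ some 0 := by
      clear * -
      revert a; decide +kernel
    rcases (hsupp a b hb ha1 ha2 hb1 hb2).1 with e | e
    · exact e
    · rcases (hsupp a b' hb' ha1 ha2 hb1' hb2').1 with e' | e'
      · exact e'
      · exact absurd (e.symm.trans e') hbb
  -- no transposition in the code automorphisms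
  have hτ1 : τ = 1 := by
    have hnone : τ none = none := by
      by_contra hne
      have h0 : τ none = some 0 := by
        by_contra h0
        exact hne (τ.injective (hfixpt _ hne h0))
      have hz : τ (some 0) = none := by
        by_contra hz
        by_cases hz0 : τ (some 0) = some 0
        · exact absurd (τ.injective (h0.trans hz0.symm)) (by decide)
        · exact hz0 (τ.injective (hfixpt _ hz hz0))
      obtain ⟨r, hr, hr0, hr23⟩ : ∃ r ∈ codeRows, r.testBit 0 = false ∧ r.testBit 23 = true := by
        decide +kernel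
      have hrc : isCode r = true := (by decide +kernel : ∀ r ∈ codeRows, isCode r = true) r hr
      have him := setSystemAut_image_mem hτ (setOf24_mem_supports hrc)
      rw [mem_supports_iff] at him
      have e : (setOf24 r).image τ = setOf24 (r ^^^ baseMask) := by
        ext q
        have ht : (r ^^^ baseMask).testBit (idx q) = true ↔ ¬(r.testBit (idx q) = true ↔ baseMask.testBit (idx q) = true) := by
          rw [Nat.testBit_xor]
          cases r.testBit (idx q) <;> cases baseMask.testBit (idx q) <;> simp
        simp only [Finset.mem_image, mem_setOf24, ht]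
        have hbase : ∀ p, baseMask.testBit (idx p) = true ↔ (p = none ∨ p = some 0) := fun p => by
          rw [← mem_setOf24, setOf24_baseMask]; simp
        have hbn : r.testBit (idx (none : GolayPt)) = true := hr23
        have hb0 : r.testBit (idx (some 0 : GolayPt)) = false := by
          rw [show idx (some 0 : GolayPt) = 0 by decide +kernel]; exact hr0
        constructor
        · rintro ⟨p, hp, rfl⟩
          by_cases hp1 : p = none
          · subst hp1; rw [h0, hbase]; simp [hb0]
          by_cases hp2 : p = some 0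
          · subst hp2; simp [hb0] at hp
          rw [hfixpt p hp1 hp2, hbase]; simp [hp, hp1, hp2]
        · intro hq
          rw [hbase] at hq
          by_cases hq1 : q = none
          · subst hq1; simp [hbn] at hq
          by_cases hq2 : q = some 0
          · exact ⟨none, hbn, by rw [h0, hq2]⟩
          exact ⟨q, by simpa [hq1, hq2] using hq, hfixpt q hq1 hq2⟩
      rw [e] at him
      have hno : ∀ r ∈ codeRows, isCode (maskOf (setOf24 (r ^^^ baseMask))) = false := by
        decide +kernel
      rw [hno r hr] at him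
      exact Bool.noConfusion him
    ext1 q
    by_cases h1 : q = none
    · subst h1; exact hnone
    by_cases h0 : q = some 0
    · subst h0
      by_contra hz
      simp only [Equiv.Perm.one_apply] at hz
      have hzn : τ (some 0) ≠ none := fun e => absurd (τ.injective (e.trans hnone.symm)) (by decide)
      exact hz (τ.injective (hfixpt _ hzn hz))
    exact hfixpt q h1 h0
  subst hτ1
  -- the signs are constant
  have hsign : ∀ a b : GolayPt, a ≠ none → a ≠ some 0 → b ≠ none → b ≠ some 0 → (a ∈ c ↔ b ∈ c) := by
    intro a b ha1 ha2 hb1 hb2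
    by_cases hab : a = b
    · rw [hab]
    · exact (hsupp a b hab ha1 ha2 hb1 hb2).2
  have hcard := supports_card hc
  rcases Classical.em (pt 5 ∈ c) with h5 | h5
  · have hsub : (Finset.univ \ ({none, some 0} : Finset GolayPt)) ⊆ c := fun q hq => by
      simp only [Finset.mem_sdiff, Finset.mem_univ, true_and, Finset.mem_insert,
        Finset.mem_singleton, not_or] at hq
      exact (hsign q (pt 5) hq.1 hq.2 (by decide +kernel) (by decide +kernel)).2 h5
    have h22 : (Finset.univ \ ({none, some 0} : Finset GolayPt)).card = 22 := by decide +kernel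
    have := Finset.card_le_card hsub
    have hall : c = Finset.univ := by
      refine Finset.eq_univ_of_card c ?_
      have hF : Fintype.card GolayPt = 24 := by simp [ZMod.card]
      omega
    subst hall
    exact negCo0_mem_center
  · have hsub : c ⊆ ({none, some 0} : Finset GolayPt) := fun q hq => by
      by_contra hq'
      simp only [Finset.mem_insert, Finset.mem_singleton, not_or] at hq'
      exact h5 ((hsign q (pt 5) hq'.1 hq'.2 (by decide +kernel) (by decide +kernel)).1 hq)
    have h2' : ({none, some 0} : Finset GolayPt).card = 2 := by decide +kernel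
    have := Finset.card_le_card hsub
    have hemp : c = ∅ := Finset.card_eq_zero.1 (by omega)
    subst hemp
    have e : monoCo0 1 hτ ∅ hc = 1 := co0_ext fun w => Subtype.ext (funext fun q => by
      rw [monoCo0_smul, one_smul]; simp [monoFun])
    rw [e]; exact one_mem _


set_option maxHeartbeats 1600000 in
/-- A normal 2-subgroup of the stabiliser of a short class is central. -/
theorem short_core (N : Subgroup Co0) (hN : IsPGroup 2 N) (hle : N ≤ classStab shortV)
    (hnorm : ∀ g ∈ classStab shortV, ∀ n ∈ N, g * n * g⁻¹ ∈ N) : N ≤ Subgroup.center Co0 := by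
  set D := twoSpan shortV with hD
  haveI : Finite (leechLattice ⧸ D) := finite_quot _
  haveI : Fact (Nat.Prime 2) := ⟨Nat.prime_two⟩
  -- the fixed vectors
  let F : AddSubgroup leechLattice :=
    { carrier := {x | ∀ n ∈ N, n • x - x ∈ D}
      zero_mem' := fun n _ => by
        rw [show n • (0 : leechLattice) = 0 from map_zero (co0Hom n), sub_zero]
        exact zero_mem _
      add_mem' := fun {x y} hx hy n hn => by
        rw [co0_add, add_sub_add_comm]; exact add_mem (hx n hn) (hy n hn)
      neg_mem' := fun {x} hx n hn => by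
        rw [co0_neg, ← neg_sub']; exact neg_mem (hx n hn) }
  -- a fixed class other than zero
  obtain ⟨x, hxF, hxD⟩ : ∃ x : leechLattice, x ∈ F ∧ x ∉ D := by
    letI : SMul N (leechLattice ⧸ D) :=
      ⟨fun n => QuotientAddGroup.map D D (co0Hom n.1) fun y hy => twoSpan_smul (hle n.2) hy⟩
    have hsmul : ∀ (n : N) (y : leechLattice), n • (y : leechLattice ⧸ D) =
        (((n : Co0) • y : leechLattice) : leechLattice ⧸ D) := fun n y => rfl
    letI : MulAction N (leechLattice ⧸ D) :=
      { one_smul := fun q => by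
          obtain ⟨y, rfl⟩ := QuotientAddGroup.mk_surjective q
          rw [hsmul]; simp
        mul_smul := fun g h q => by
          obtain ⟨y, rfl⟩ := QuotientAddGroup.mk_surjective q
          rw [hsmul, hsmul, hsmul, Subgroup.coe_mul, mul_smul] }
    have h0 : (0 : leechLattice ⧸ D) ∈ MulAction.fixedPoints N (leechLattice ⧸ D) := fun n => by
      rw [← QuotientAddGroup.mk_zero, hsmul, show (n : Co0) • (0 : leechLattice) = 0 from
        map_zero (co0Hom n)]
    have hcard : 2 ∣ Nat.card (leechLattice ⧸ D) := by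
      let o : leechLattice := ⟨oddVec, (genSet_spec _ (by simp [genSet])).1⟩
      have hord : addOrderOf (o : leechLattice ⧸ D) = 2 := by
        refine addOrderOf_eq_prime ?_ ?_
        · rw [← QuotientAddGroup.mk_nsmul, QuotientAddGroup.eq_zero_iff]
          exact ⟨o, 0, by rw [zero_smul, add_zero, two_nsmul]⟩
        · intro h
          obtain ⟨w, t, e⟩ := (QuotientAddGroup.eq_zero_iff o).1 h
          have e1 := congrArg (fun u : leechLattice => (u : GolayPt → ℤ) (pt 1)) e
          have h1 : oddVec (pt 1) = 1 := by decide +kernel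
          have h3 : pairFun none (some 0) (pt 1) = 0 := by decide +kernel
          simp only [o, AddSubgroup.coe_add, AddSubgroup.coe_zsmul, Pi.add_apply, Pi.smul_apply,
            shortV_coe, h1, h3, smul_zero, add_zero] at e1
          omega
      exact hord ▸ addOrderOf_dvd_natCard _
    obtain ⟨q, hq, hq0⟩ := hN.exists_fixed_point_of_prime_dvd_card_of_fixed_point _ hcard h0
    obtain ⟨y, rfl⟩ := QuotientAddGroup.mk_surjective q
    refine ⟨y, fun n hn => ?_, fun hy => hq0 ((QuotientAddGroup.eq_zero_iff y).2 hy).symm⟩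
    have h1 := hq ⟨n, hn⟩
    rw [hsmul, QuotientAddGroup.eq] at h1
    have := neg_mem h1
    simpa [sub_eq_add_neg, add_comm] using this
  let M : AddSubgroup (GolayPt → ℤ) := F.map leechLattice.subtype
  have hmemM : ∀ w : leechLattice, (w : GolayPt → ℤ) ∈ M ↔ w ∈ F := fun w => by
    refine ⟨fun ⟨w', hw', e⟩ => ?_, fun h => ⟨w, h, rfl⟩⟩
    rwa [show w' = w from Subtype.ext e] at hw'
  have hF0 : ∀ w ∈ D, w ∈ F := fun w hw n hn => sub_mem (twoSpan_smul (hle hn) hw) hw
  have h2 : ∀ w ∈ leechLattice, (2 : ℤ) • w ∈ M := fun w hw =>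
    (hmemM ((2 : ℤ) • ⟨w, hw⟩)).2 (hF0 _ ⟨⟨w, hw⟩, 0, by rw [zero_smul, add_zero, two_zsmul]⟩)
  have hleM : M ≤ leechLattice := by rintro _ ⟨w, -, rfl⟩; exact w.2
  have hvM : pairFun none (some 0) ∈ M :=
    (hmemM shortV).2 (hF0 _ ⟨0, 1, by rw [one_smul, zero_add, zero_add]⟩)
  have hinv : ∀ g ∈ classStab shortV, ∀ w : leechLattice, (w : GolayPt → ℤ) ∈ M →
      ((g • w : leechLattice) : GolayPt → ℤ) ∈ M := by
    intro g hg w hw
    rw [hmemM] at hw ⊢
    intro n hn
    have h := hw (g⁻¹ * n * g⁻¹⁻¹) (hnorm _ (inv_mem hg) n hn)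
    have h' := twoSpan_smul hg h
    rw [inv_inv, co0_sub, ← mul_smul, ← mul_assoc, ← mul_assoc, mul_inv_cancel, one_mul, mul_smul] at h'
    exact h'
  have hU : pairFun none none ∈ M := by
    refine diag_of_not_span h2 hleM hvM hinv ((hmemM x).2 hxF) fun w hw t e => ?_
    refine hxD ⟨⟨w, hw⟩, t, Subtype.ext ?_⟩
    rw [e]; funext q; simp [shortV_coe]; ring
  -- minimal vectors fixed up to sign
  have hfix : ∀ w : leechLattice, (w : GolayPt → ℤ) ∈ M → sqNorm (w : GolayPt → ℤ) = 32 →
      sqNorm ((w + shortV : leechLattice) : GolayPt → ℤ) = 64 →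
      ∀ n ∈ N, n • w = w ∨ n • w = -w := by
    intro w hw h32 h64 n hn
    have hnn : sqNorm ((n • w : leechLattice) : GolayPt → ℤ) = 32 := by rw [co0_norm, h32]
    rcases cong_or_of_sub_mem ((hmemM w).1 hw n hn) with e | e
    · exact e.eq_or_neg hnn (by omega)
    · exfalso
      rcases e.eq_or_neg hnn (by omega) with e' | e' <;> rw [e'] at hnn
      · omega
      · rw [AddSubgroup.coe_neg] at hnn
        simp only [sqNorm, Pi.neg_apply, neg_sq] at hnn h64
        omega
  intro n hn
  have hw1M : (shortW : GolayPt → ℤ) ∈ M := by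
    show pairFun none (some 0) - pairFun (some 0) (some 0) ∈ M
    exact sub_mem hvM ((diag_mem_iff h2 none (some 0)).1 hU)
  refine center_of_fixes (hle hn) (hfix shortW hw1M (by decide +kernel) (by decide +kernel) n hn)
    fun a b hab ha1 ha2 hb1 hb2 => ?_
  obtain ⟨h32, h64⟩ := pair_norms a b hab ha1 ha2 hb1 hb2
  exact hfix (pairV a b) (pairs_of_diag h2 hleM hvM hinv hU hab ha1 ha2 hb1 hb2) h32 h64 n hn

end CfsgLib.MonsterType
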