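import Cfsg.Agent.MonsterType.ThreeImage
import Cfsg.Agent.MonsterType.HaradaNortonType

/-!
# The centralizer of a subgroup of order three of a pair of conjugates of `z`: Thompson type
-/

set_option autoImplicit false

namespace CfsgLib.MonsterType

open Cfsg CfsgLib.Leech CfsgLib.Mathieu
open scoped commutatorElement

/-! ### Permutation parts of monomial elements -/

theorem exists_perm_of_classStab (g : classStab frameV) (p : GolayPt) :
    ∃ q, (((g : Co0) • eightL p : leechLattice) : GolayPt → ℤ) = eight q ∨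
      (((g : Co0) • eightL p : leechLattice) : GolayPt → ℤ) = -eight q :=
  mem_stdCross_iff.1 (preservesCross_of_classStab g.2 (eightL p) (mem_stdCross_iff.2 ⟨p, Or.inl rfl⟩))

/-- The permutation of a monomial element. -/
noncomputable def permFun (g : classStab frameV) (p : GolayPt) : GolayPt :=
  (exists_perm_of_classStab g p).choose

theorem permFun_mono {g : classStab frameV} {τ : Equiv.Perm GolayPt} {hτ : τ ∈ M24} {c : Finset GolayPt}
    {hc : c ∈ supports (golayCode : Set (GolayPt → ZMod 2))} (h : (g : Co0) = monoCo0 τ hτ c hc)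
    (p : GolayPt) : permFun g p = τ⁻¹ p := by
  refine eight_unique (exists_perm_of_classStab g p).choose_spec ?_
  rw [h, monoCo0_eight]
  split
  · exact Or.inr rfl
  · exact Or.inl rfl

theorem permFun_mul (g h : classStab frameV) (p : GolayPt) :
    permFun (g * h) p = permFun g (permFun h p) := by
  refine eight_unique (exists_perm_of_classStab (g * h) p).choose_spec ?_
  rw [Subgroup.coe_mul, mul_smul]
  rcases (exists_perm_of_classStab h p).choose_spec with e | e
  · rw [show (h : Co0) • eightL p = eightL (permFun h p) from Subtype.ext e]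
    exact (exists_perm_of_classStab g (permFun h p)).choose_spec
  · rw [show (h : Co0) • eightL p = -eightL (permFun h p) from Subtype.ext e, co0_neg,
      AddSubgroup.coe_neg]
    rcases (exists_perm_of_classStab g (permFun h p)).choose_spec with e' | e' <;> rw [e']
    · exact Or.inr rfl
    · exact Or.inl (neg_neg _)

theorem exists_permElt (g : classStab frameV) : ∃ σ : M24, ∀ p, (σ : Equiv.Perm GolayPt) p = permFun g p := by
  obtain ⟨τ, hτ, c, hc, h⟩ := eq_monoCo0 (preservesCross_of_classStab g.2)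
  exact ⟨⟨τ⁻¹, inv_mem hτ⟩, fun p => (permFun_mono h p).symm⟩

/-- The permutation part, a homomorphism. -/
noncomputable def permPart : classStab frameV →* M24 :=
  MonoidHom.mk' (fun g => (exists_permElt g).choose) fun g h => Subtype.ext (Equiv.ext fun p => by
    rw [Subgroup.coe_mul, Equiv.Perm.mul_apply, (exists_permElt (g * h)).choose_spec,
      (exists_permElt g).choose_spec, (exists_permElt h).choose_spec, permFun_mul])

theorem permPart_mono {g : classStab frameV} {τ : Equiv.Perm GolayPt} {hτ : τ ∈ M24} {c : Finset GolayPt}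
    {hc : c ∈ supports (golayCode : Set (GolayPt → ZMod 2))} (h : (g : Co0) = monoCo0 τ hτ c hc) :
    permPart g = (⟨τ, hτ⟩ : M24)⁻¹ :=
  Subtype.ext (Equiv.ext fun p => ((exists_permElt g).choose_spec p).trans (permFun_mono h p))

theorem permPart_surjective : Function.Surjective permPart := fun σ =>
  ⟨⟨_, monoCo0_mem_classStab (τ := (σ⁻¹ : M24).1) (σ⁻¹ : M24).2 Spor.empty_mem_supports_golayCode⟩,
    (permPart_mono (hc := Spor.empty_mem_supports_golayCode) rfl).trans (inv_inv σ)⟩

theorem card_classStab_frame : Nat.card (classStab frameV) = 4096 * 244823040 := by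
  rw [← card_crossStab]
  refine Nat.card_congr (Equiv.subtypeEquivRight fun g => ⟨preservesCross_of_classStab, fun h => ?_⟩)
  obtain ⟨τ, hτ, c, hc, rfl⟩ := eq_monoCo0 h
  exact monoCo0_mem_classStab _ _

theorem card_permPart_ker : Nat.card permPart.ker = 4096 := by
  haveI := co0_finite
  have h := permPart.ker.card_mul_index
  rw [Subgroup.index_ker, MonoidHom.range_eq_top.2 permPart_surjective, Subgroup.card_top, card_M24,
    card_classStab_frame] at h
  exact Nat.eq_of_mul_eq_mul_right (by norm_num) h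

theorem permPart_ne_one {g : classStab frameV} (h : orderOf g = 3) : permPart g ≠ 1 := fun h1 => by
  haveI := co0_finite
  have := Subgroup.orderOf_dvd_natCard permPart.ker (MonoidHom.mem_ker.2 h1)
  rw [h, card_permPart_ker] at this
  norm_num at this

theorem orderOf_permPart {g : classStab frameV} (h : orderOf g = 3) : orderOf (permPart g) = 3 := by
  haveI : Fact (Nat.Prime 3) := ⟨Nat.prime_three⟩
  exact orderOf_eq_prime (by rw [← map_pow, ← h, pow_orderOf_eq_one, map_one]) (permPart_ne_one h)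

/-- Elements of order three with permutations generating one subgroup are conjugate up to powers. -/
theorem conj_in_fibre {g g' : classStab frameV} (h : orderOf g = 3) (h' : orderOf g' = 3)
    (hp : permPart g' ∈ Subgroup.zpowers (permPart g)) :
    ∃ (k : classStab frameV) (i : ℕ), k * g' * k⁻¹ = g ^ i ∧
      permPart k ∈ Subgroup.zpowers (permPart g) := by
  haveI := co0_finite
  haveI : Fact (Nat.Prime 3) := ⟨Nat.prime_three⟩
  let S : Subgroup (classStab frameV) := (Subgroup.zpowers (permPart g)).comap permPart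
  have hS9 : ¬ 3 ^ 2 ∣ Nat.card S := by
    have hcard : Nat.card S ∣ 4096 * 3 := by
      have hk : Nat.card (permPart.comp S.subtype).ker ∣ 4096 := by
        rw [← card_permPart_ker]
        exact Subgroup.card_dvd_of_injective
          ((S.subtype.comp (permPart.comp S.subtype).ker.subtype).codRestrict permPart.ker fun a => a.2)
          fun a b e => Subtype.ext (Subtype.ext (congrArg Subtype.val e :))
      have hr : Nat.card (permPart.comp S.subtype).range ∣ 3 := by
        have hle : (permPart.comp S.subtype).range ≤ Subgroup.zpowers (permPart g) := by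
          rintro _ ⟨a, rfl⟩; exact a.2
        refine (Subgroup.card_dvd_of_le hle).trans ?_
        rw [Nat.card_zpowers, orderOf_permPart h]
      rw [← (permPart.comp S.subtype).ker.card_mul_index, Subgroup.index_ker]
      exact Nat.mul_dvd_mul hk hr
    intro h9
    have := h9.trans hcard
    norm_num at this
  obtain ⟨k, i, hk⟩ := conj_of_prime_order (a := (⟨g, Subgroup.mem_zpowers _⟩ : S))
    (c := (⟨g', hp⟩ : S)) (by rw [← Subgroup.orderOf_coe]; exact h)
    (by rw [← Subgroup.orderOf_coe]; exact h') hS9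
  exact ⟨k, i, congrArg Subtype.val hk, k.2⟩

/-- An element of order three of the monomial group is conjugate to a power of `T`, or centralises
a full Sylow subgroup. -/
theorem classStab_three_cases {g : classStab frameV} (h : orderOf g = 3) :
    (∃ (k : classStab frameV) (i : ℕ), (k : Co0) * g * (k : Co0)⁻¹ = Three.T ^ i) ∨
      27 ∣ Nat.card (Subgroup.centralizer ({g} : Set (classStab frameV))) := by
  haveI := co0_finite
  haveI : Fact (Nat.Prime 3) := ⟨Nat.prime_three⟩
  rcases Three.order_three_cases (orderOf_permPart h) with hc | hc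
  · left
    let t : classStab frameV := ⟨Three.T, Three.T_mem_classStab⟩
    have ht : permPart t = (⟨Three.tau, Three.tau_mem⟩ : M24)⁻¹ := permPart_mono (hc := Spor.empty_mem_supports_golayCode) rfl
    obtain ⟨ρ, hρ⟩ := isConj_iff.1 hc
    obtain ⟨r, rfl⟩ := permPart_surjective ρ
    obtain ⟨k, i, hk, -⟩ := conj_in_fibre (g := t) (g' := r * g * r⁻¹)
      (by rw [← Subgroup.orderOf_coe]; exact Three.orderOf_T)
      (((MulAut.conj r).orderOf_eq g).trans h)
      (by
        rw [map_mul, map_mul, map_inv, hρ, ← inv_inv (⟨Three.tau, Three.tau_mem⟩ : M24), ← ht]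
        exact Subgroup.inv_mem _ (Subgroup.mem_zpowers _))
    refine ⟨k * r, i, ?_⟩
    have hk' := congrArg Subtype.val hk
    simp only [Subgroup.coe_mul, Subgroup.coe_inv, SubgroupClass.coe_pow] at hk'
    rw [Subgroup.coe_mul, mul_inv_rev, ← hk']
    group
  · right
    let S := Subgroup.centralizer ({g} : Set (classStab frameV))
    let U := Subgroup.centralizer ({permPart g} : Set M24)
    let f : S →* U := (permPart.comp S.subtype).codRestrict U fun a =>
      Subgroup.mem_centralizer_singleton_iff.2 (by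
        show permPart (a : classStab frameV) * permPart g = permPart g * permPart (a : classStab frameV)
        rw [← map_mul, ← map_mul, Subgroup.mem_centralizer_singleton_iff.1 a.2])
    have hf : Function.Surjective f := by
      rintro ⟨u, hu⟩
      obtain ⟨r, rfl⟩ := permPart_surjective u
      have hu' : permPart (r * g * r⁻¹) = permPart g := by
        rw [map_mul, map_mul, map_inv]
        exact mul_inv_eq_iff_eq_mul.2 (Subgroup.mem_centralizer_singleton_iff.1 hu)
      obtain ⟨k, i, hk, hkz⟩ := conj_in_fibre (g := g) (g' := r * g * r⁻¹) h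
        (((MulAut.conj r).orderOf_eq g).trans h) (by rw [hu']; exact Subgroup.mem_zpowers _)
      obtain ⟨n, hn⟩ := (mem_powers_iff_mem_zpowers (x := permPart g)).2 hkz
      have hn' : permPart g ^ n = permPart k := hn
      have hi : g ^ i = g := by
        have e := congrArg permPart hk
        rw [map_mul, map_mul, map_inv, hu', ← hn', ← pow_succ, pow_succ', mul_inv_cancel_right,
          map_pow] at e
        have e' : permPart g ^ i = permPart g ^ 1 := by rw [pow_one]; exact e.symm
        rw [pow_eq_pow_iff_modEq, orderOf_permPart h, ← h, ← pow_eq_pow_iff_modEq, pow_one] at e'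
        exact e'
      have hmem : ∀ {a : classStab frameV}, a * g * a⁻¹ = g → a ∈ S := fun ha =>
        Subgroup.mem_centralizer_singleton_iff.2 (mul_inv_eq_iff_eq_mul.1 ha)
      refine ⟨⟨(g ^ n)⁻¹ * (k * r), hmem ?_⟩, Subtype.ext ?_⟩
      · calc (g ^ n)⁻¹ * (k * r) * g * ((g ^ n)⁻¹ * (k * r))⁻¹
            = (g ^ n)⁻¹ * (k * (r * g * r⁻¹) * k⁻¹) * g ^ n := by group
          _ = g := by rw [hk, hi]; group
      · show permPart ((g ^ n)⁻¹ * (k * r)) = permPart r
        rw [map_mul, map_mul, map_inv, map_pow, hn', inv_mul_cancel_left]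
    exact hc.trans (Subgroup.card_dvd_of_surjective f hf)

/-- The alternating group of degree nine has no nontrivial normal 2-subgroup. -/
theorem alternatingNine_two_core (P : Subgroup (alternatingGroup (Fin 9))) [P.Normal]
    (hP : IsPGroup 2 P) : P = ⊥ := by
  refine (alternatingGroup.isSimpleGroup (α := Fin 9) (by simp)).eq_bot_or_eq_top_of_normal P
    inferInstance |>.resolve_right ?_
  intro h
  obtain ⟨n, hn⟩ := IsPGroup.iff_card.1 hP
  rw [h, Subgroup.card_top, nat_card_alternatingGroup, Nat.card_fin] at hn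
  have h3 : 3 ∣ 2 ^ n := ⟨60480, by rw [← hn]; decide⟩
  exact absurd (Nat.le_of_dvd (by norm_num) (Nat.Prime.dvd_of_dvd_pow Nat.prime_three h3)) (by norm_num)

namespace Three

/-- The class of the element in the first Conway group. -/
noncomputable def Tbar : Spor.Co1 := QuotientGroup.mk T

theorem mk_neg : (QuotientGroup.mk negCo0 : Spor.Co1) = 1 :=
  (QuotientGroup.eq_one_iff _).2 negCo0_mem_center

theorem pow_of_mk_eq {i j : ℕ} (h : Tbar ^ i = Tbar ^ j) : T ^ i = T ^ j := by
  have h' : (T ^ i)⁻¹ * T ^ j ∈ Subgroup.center Co0 :=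
    QuotientGroup.eq.1 (by simpa [Tbar] using h)
  rcases center_cases h' with e | e
  · exact inv_mul_eq_one.1 e
  · exfalso
    rw [← inv_pow, inv_eq_of_mul_eq_one_right (a := T) (b := T ^ 2) (by
      rw [← pow_succ']; exact T_pow_three), ← pow_mul, ← pow_add] at e
    exact neg_ne_pow _ e.symm

theorem conj_pow_of_mk {g : Co0} {j : ℕ}
    (h : (QuotientGroup.mk (g * T * g⁻¹) : Spor.Co1) = Tbar ^ j) : g * T * g⁻¹ = T ^ j := by
  have h' : (g * T * g⁻¹)⁻¹ * T ^ j ∈ Subgroup.center Co0 := QuotientGroup.eq.1 (by simpa [Tbar] using h)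
  rcases center_cases h' with e | e
  · exact inv_mul_eq_one.1 e
  · exfalso
    rw [inv_mul_eq_iff_eq_mul] at e
    have h3 : (T ^ j) ^ 3 = 1 := by rw [← pow_mul, mul_comm, pow_mul, T_pow_three, one_pow]
    rw [e, (show Commute (g * T * g⁻¹) negCo0 from
      (Subgroup.mem_center_iff.1 negCo0_mem_center _)).mul_pow, conj_pow, T_pow_three, mul_one,
      mul_inv_cancel, one_mul] at h3
    refine negCo0_ne_one ?_
    rwa [pow_succ, sq negCo0, negCo0_sq, one_mul] at h3

theorem orderOf_Tbar : orderOf Tbar = 3 := by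
  haveI : Fact (Nat.Prime 3) := ⟨Nat.prime_three⟩
  refine orderOf_eq_prime (by rw [Tbar, ← QuotientGroup.mk_pow, T_pow_three]; rfl) fun h => T_ne_one ?_
  simpa using pow_of_mk_eq (i := 1) (j := 0) (by simpa using h)

end Three

variable {G : Type*} [Group G] [Finite G] {z : G}
  {Q : Subgroup (Subgroup.centralizer ({z} : Set G))} [Q.Normal]
  {e : (Subgroup.centralizer ({z} : Set G)) ⧸ Q ≃* Spor.Co1}
  {ψ : leechLattice → Q ⧸ Subgroup.center Q}
  (hS : IsExtraspecialCentralizerSetting z Q 12) (hψ : IsLeechModTwoIso Q e ψ)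
include hS hψ

omit hψ in
omit [Q.Normal] in
theorem eq_one_of_pow_three {q : Subgroup.centralizer ({z} : Set G)} (hq : q ∈ Q) (h3 : q ^ 3 = 1) :
    q = 1 := by
  have h1 : orderOf q ∣ 3 := orderOf_dvd_of_pow_eq_one h3
  have h2 : orderOf q ∣ 2 ^ (2 * 12 + 1) := hS.2.2.2.1 ▸ Subgroup.orderOf_dvd_natCard Q hq
  exact orderOf_eq_one_iff.1 (Nat.eq_one_of_dvd_coprimes (by decide) h1 h2)

omit hψ in
theorem orderOf_image {a : Subgroup.centralizer ({z} : Set G)} (ha : orderOf a = 3) :
    orderOf (e (QuotientGroup.mk a)) = 3 := by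
  haveI : Fact (Nat.Prime 3) := ⟨Nat.prime_three⟩
  have h3 : a ^ 3 = 1 := by rw [← ha]; exact pow_orderOf_eq_one a
  refine orderOf_eq_prime (by rw [← map_pow, ← QuotientGroup.mk_pow, h3, QuotientGroup.mk_one, map_one])
    fun h => ?_
  rw [map_eq_one_iff e e.injective, QuotientGroup.eq_one_iff] at h
  rw [eq_one_of_pow_three hS h h3, orderOf_one] at ha
  omega

omit hψ in
/-- A conjugation matching elements of order three with images in one cyclic group. -/
theorem adjust_three (M : Subgroup (Subgroup.centralizer ({z} : Set G)))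
    {a c : Subgroup.centralizer ({z} : Set G)} (haM : a ∈ M) (hcM : c ∈ M) (ha : orderOf a = 3)
    (hc : orderOf c = 3) {j : ℕ}
    (hj : e (QuotientGroup.mk c) = e (QuotientGroup.mk a) ^ j) :
    ∃ k ∈ M, (∃ l : ℕ, e (QuotientGroup.mk k) = e (QuotientGroup.mk a) ^ l) ∧ k * c * k⁻¹ = a ^ j := by
  haveI : Fact (Nat.Prime 3) := ⟨Nat.prime_three⟩
  haveI := co0_finite
  haveI : Finite Spor.Co1 := inferInstanceAs (Finite (Co0 ⧸ Subgroup.center Co0))
  have hob : orderOf (e (QuotientGroup.mk a)) = 3 := orderOf_image hS ha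
  set β := e (QuotientGroup.mk a) with hβ
  let φ : Subgroup.centralizer ({z} : Set G) →* Spor.Co1 := e.toMonoidHom.comp (QuotientGroup.mk' Q)
  let K : Subgroup (Subgroup.centralizer ({z} : Set G)) := M ⊓ (Subgroup.zpowers β).comap φ
  have haK : a ∈ K := ⟨haM, Subgroup.mem_zpowers β⟩
  have hcK : c ∈ K := ⟨hcM, by
    show e (QuotientGroup.mk c) ∈ Subgroup.zpowers β
    rw [hj]; exact Subgroup.pow_mem _ (Subgroup.mem_zpowers _) j⟩
  have hcard : ¬ 3 ^ 2 ∣ Nat.card K := by
    let φK : K →* Spor.Co1 := φ.comp K.subtype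
    have hk : Nat.card φK.ker ∣ 2 ^ 25 := by
      have hmem : ∀ a : φK.ker, ((a : K) : Subgroup.centralizer ({z} : Set G)) ∈ Q := fun a => by
        have h := MonoidHom.mem_ker.1 a.2
        rwa [← QuotientGroup.eq_one_iff, ← map_eq_one_iff e e.injective]
      have h := Subgroup.card_dvd_of_injective ((K.subtype.comp φK.ker.subtype).codRestrict Q hmem)
        fun a b h => Subtype.ext (Subtype.ext (congrArg Subtype.val h :))
      rwa [hS.2.2.2.1] at h
    have hr : Nat.card φK.range ∣ 3 := by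
      have hle : φK.range ≤ Subgroup.zpowers β := by rintro _ ⟨a, rfl⟩; exact a.2.2
      refine (Subgroup.card_dvd_of_le hle).trans ?_
      rw [Nat.card_zpowers, hob]
    intro h9
    rw [← φK.ker.card_mul_index, Subgroup.index_ker] at h9
    have := h9.trans (Nat.mul_dvd_mul hk hr)
    norm_num at this
  obtain ⟨k, i, hki⟩ := conj_of_prime_order (a := (⟨a, haK⟩ : K)) (c := (⟨c, hcK⟩ : K))
    (by rw [← Subgroup.orderOf_coe]; exact ha) (by rw [← Subgroup.orderOf_coe]; exact hc) hcard
  have hki' : (k : Subgroup.centralizer ({z} : Set G)) * c *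
      (k : Subgroup.centralizer ({z} : Set G))⁻¹ = a ^ i := congrArg Subtype.val hki
  obtain ⟨l, hl⟩ : ∃ l : ℕ, β ^ l = φ k := mem_powers_iff_mem_zpowers.2 k.2.2
  refine ⟨k, k.2.1, ⟨l, hl.symm⟩, ?_⟩
  have himg := congrArg φ hki'
  rw [map_mul, map_mul, map_inv, map_pow, ← hl] at himg
  have himg' : β ^ l * β ^ j * (β ^ l)⁻¹ = β ^ i := by rw [← hj]; exact himg
  rw [← pow_add, add_comm, pow_add, mul_inv_cancel_right] at himg'
  rw [pow_eq_pow_iff_modEq, hob, ← ha, ← pow_eq_pow_iff_modEq] at himg'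
  rw [hki', himg']

/-- An element of order three of the pair is conjugate there to one over a power of `T`, or
centralises a full Sylow subgroup. -/
theorem pair_three_cases {x : Q} (hx : ψ frameV = QuotientGroup.mk x)
    {a : Subgroup.centralizer ({z} : Set G)} (ha : orderOf a = 3)
    (haM : a ∈ Subgroup.centralizer {(x : Subgroup.centralizer ({z} : Set G))}) :
    (∃ (h : Subgroup.centralizer ({z} : Set G)) (i : ℕ),
      h ∈ Subgroup.centralizer {(x : Subgroup.centralizer ({z} : Set G))} ∧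
      e (QuotientGroup.mk (h * a * h⁻¹)) = Three.Tbar ^ i) ∨
      27 ∣ Nat.card (Subgroup.centralizer ({z, toG x, (a : G)} : Set G)) := by
  haveI := co0_finite
  haveI : Finite Spor.Co1 := inferInstanceAs (Finite (Co0 ⧸ Subgroup.center Co0))
  haveI : Fact (Nat.Prime 3) := ⟨Nat.prime_three⟩
  set M := Subgroup.centralizer {(x : Subgroup.centralizer ({z} : Set G))} with hM
  have hxc := frame_not_center hS hψ hx
  obtain ⟨g₁, hg₁⟩ := QuotientGroup.mk_surjective (e (QuotientGroup.mk a))
  have hgS : g₁ ∈ classStab frameV :=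
    mem_classStab_of_commute hψ hx (Subgroup.mem_centralizer_singleton_iff.1 haM) hg₁
  have hβ := orderOf_image (e := e) hS ha
  have hmk : (QuotientGroup.mk (g₁ ^ 4) : Spor.Co1) = e (QuotientGroup.mk a) := by
    rw [QuotientGroup.mk_pow, hg₁, ← pow_mod_orderOf, hβ, pow_one]
  have h4 : orderOf (g₁ ^ 4) = 3 := by
    refine orderOf_eq_prime ?_ fun h => ?_
    · have h3 : g₁ ^ 3 ∈ Subgroup.center Co0 := by
        rw [← QuotientGroup.eq_one_iff, QuotientGroup.mk_pow, hg₁, ← pow_mod_orderOf, hβ, pow_zero]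
      rw [← pow_mul, show 4 * 3 = 3 * 2 * 2 from rfl, pow_mul, pow_mul]
      rcases center_cases h3 with h | h <;> rw [h]
      · rw [one_pow, one_pow]
      · rw [sq negCo0, negCo0_sq, one_pow]
    · rw [h, QuotientGroup.mk_one] at hmk
      rw [← hmk, orderOf_one] at hβ
      omega
  let g : classStab frameV := ⟨g₁ ^ 4, pow_mem hgS 4⟩
  have hg : orderOf g = 3 := by rw [← Subgroup.orderOf_coe]; exact h4
  rcases classStab_three_cases hg with ⟨k, i, hk⟩ | h27
  · obtain ⟨h, hh, hc⟩ := lift_centralising hS hψ hx hxc k.2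
    refine Or.inl ⟨h, i, Subgroup.mem_centralizer_singleton_iff.2 hc.eq, ?_⟩
    rw [QuotientGroup.mk_mul, QuotientGroup.mk_mul, QuotientGroup.mk_inv, map_mul, map_mul, map_inv,
      ← hh, ← hmk, Three.Tbar, ← QuotientGroup.mk_inv, ← QuotientGroup.mk_mul, ← QuotientGroup.mk_mul,
      hk, QuotientGroup.mk_pow]
  · right
    let U := M ⊓ Subgroup.centralizer {a}
    let φ : U →* Spor.Co1 := (e.toMonoidHom.comp (QuotientGroup.mk' Q)).comp U.subtype
    let S := Subgroup.centralizer ({g} : Set (classStab frameV))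
    let ν : S →* Spor.Co1 :=
      ((QuotientGroup.mk' (Subgroup.center Co0)).comp (classStab frameV).subtype).comp S.subtype
    have hle : ν.range ≤ φ.range := by
      rintro _ ⟨m, rfl⟩
      obtain ⟨h, hh, hc⟩ := lift_centralising hS hψ hx hxc m.1.2
      have hhM : h ∈ M := Subgroup.mem_centralizer_singleton_iff.2 hc.eq
      have hcomm : ((m : classStab frameV) : Co0) * g₁ ^ 4 * ((m : classStab frameV) : Co0)⁻¹ = g₁ ^ 4 :=
        mul_inv_eq_iff_eq_mul.2 (congrArg Subtype.val (Subgroup.mem_centralizer_singleton_iff.1 m.2))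
      obtain ⟨h', hh'M, ⟨l, hl⟩, hconj⟩ := adjust_three hS M haM
        (M.mul_mem (M.mul_mem hhM haM) (M.inv_mem hhM)) ha (((MulAut.conj h).orderOf_eq a).trans ha)
        (j := 1) (by
          rw [pow_one, QuotientGroup.mk_mul, QuotientGroup.mk_mul, QuotientGroup.mk_inv, map_mul, map_mul,
            map_inv, ← hh, ← hmk, ← QuotientGroup.mk_inv, ← QuotientGroup.mk_mul, ← QuotientGroup.mk_mul,
            hcomm])
      rw [pow_one] at hconj
      have hu : (a ^ l)⁻¹ * h' * h ∈ U := by
        refine ⟨M.mul_mem (M.mul_mem (M.inv_mem (M.pow_mem haM l)) hh'M) hhM,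
          Subgroup.mem_centralizer_singleton_iff.2 (mul_inv_eq_iff_eq_mul.1 ?_)⟩
        calc (a ^ l)⁻¹ * h' * h * a * ((a ^ l)⁻¹ * h' * h)⁻¹
            = (a ^ l)⁻¹ * (h' * (h * a * h⁻¹) * h'⁻¹) * a ^ l := by group
          _ = a := by rw [hconj]; group
      refine ⟨⟨_, hu⟩, ?_⟩
      show e (QuotientGroup.mk ((a ^ l)⁻¹ * h' * h)) = QuotientGroup.mk ((m : classStab frameV) : Co0)
      rw [QuotientGroup.mk_mul, QuotientGroup.mk_mul, QuotientGroup.mk_inv, QuotientGroup.mk_pow,
        map_mul, map_mul, map_inv, map_pow, hl, inv_mul_cancel, one_mul, hh]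
    have hker : Nat.card ν.ker ∣ 2 := by
      have h := Subgroup.card_dvd_of_injective (((classStab frameV).subtype.comp
        (S.subtype.comp ν.ker.subtype)).codRestrict (Subgroup.center Co0) fun a =>
          (QuotientGroup.eq_one_iff _).1 (MonoidHom.mem_ker.1 a.2))
        fun a b h => Subtype.ext (Subtype.ext (Subtype.ext (congrArg Subtype.val h :)))
      rwa [card_center] at h
    have hS27 : 27 ∣ Nat.card ν.range := by
      have h := ν.ker.card_mul_index
      rw [Subgroup.index_ker] at h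
      rw [← h] at h27
      exact (Nat.Coprime.coprime_dvd_right hker (by decide : Nat.Coprime 27 2)).dvd_of_dvd_mul_left h27
    have hU : 27 ∣ Nat.card U :=
      (hS27.trans (Subgroup.card_dvd_of_le hle)).trans (Subgroup.card_range_dvd φ)
    refine hU.trans (Subgroup.card_dvd_of_injective
      (((Subgroup.centralizer ({z} : Set G)).subtype.comp U.subtype).codRestrict
        (Subgroup.centralizer ({z, toG x, (a : G)} : Set G)) fun u => ?_) fun u v h =>
        Subtype.ext (Subtype.ext (congrArg Subtype.val h :)))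
    refine Subgroup.mem_centralizer_iff.2 ?_
    rintro y (rfl | rfl | rfl)
    · exact (Subgroup.mem_centralizer_singleton_iff.1 u.1.2).symm
    · exact (congrArg Subtype.val (Subgroup.mem_centralizer_singleton_iff.1 u.2.1)).symm
    · exact (congrArg Subtype.val (Subgroup.mem_centralizer_singleton_iff.1 u.2.2)).symm

section three

variable {b : Subgroup.centralizer ({z} : Set G)}
  (hb : e (QuotientGroup.mk b) = Three.Tbar) (hb3 : b ^ 3 = 1)
include hb hb3

omit hS hψ in
theorem mk_b_pow_three (k : ℕ) : e (QuotientGroup.mk (b ^ k)) = Three.Tbar ^ k := by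
  rw [QuotientGroup.mk_pow, map_pow, hb]

omit hS hψ in
theorem orderOf_b_three : orderOf b = 3 := by
  haveI : Fact (Nat.Prime 3) := ⟨Nat.prime_three⟩
  refine orderOf_eq_prime hb3 fun h => Three.T_ne_one ?_
  have h' := mk_b_pow_three hb hb3 1
  rw [h, one_pow, QuotientGroup.mk_one, map_one, ← pow_zero Three.Tbar] at h'
  simpa using (Three.pow_of_mk_eq h').symm

omit hS hψ in
theorem b_pow_eq_three {i j : ℕ} (h : Three.Tbar ^ i = Three.Tbar ^ j) : b ^ i = b ^ j := by
  rw [pow_eq_pow_iff_modEq, orderOf_b_three hb hb3, ← Three.orderOf_T, ← pow_eq_pow_iff_modEq]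
  exact Three.pow_of_mk_eq h

omit hS hb3 in
omit [Finite G] in
theorem cong_T_of_commute_three {v : leechLattice} {q : Q} (hv : ψ v = QuotientGroup.mk q)
    (hc : Commute (q : Subgroup.centralizer ({z} : Set G)) b) : Cong (Three.T • v) v := by
  refine (psi_eq_iff hψ _ _).1 ?_
  rw [psi_conj hψ b Three.T hb.symm v q hv, hv]
  congr 1
  exact Subtype.ext (mul_inv_eq_iff_eq_mul.2 hc.eq.symm)

theorem commute_of_cong_three {v : leechLattice} {q : Q} (hv : ψ v = QuotientGroup.mk q)
    (hc : Cong (Three.T • v) v) : Commute (q : Subgroup.centralizer ({z} : Set G)) b := by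
  have h := psi_conj hψ b Three.T hb.symm v q hv
  rw [(psi_eq_iff hψ _ _).2 hc, hv] at h
  rcases psi_center hS h with e' | e'
  · exact (mul_inv_eq_iff_eq_mul.1 (congrArg Subtype.val e')).symm
  · exfalso
    have hstep : b * (q : Subgroup.centralizer ({z} : Set G)) * b⁻¹ =
        (q : Subgroup.centralizer ({z} : Set G)) * zC z := congrArg Subtype.val e'
    have hzc : Commute (zC z) b := (Subgroup.mem_center_iff.1 zC_mem_center b).symm
    have hz2 : zC z ^ 2 = 1 := Subtype.ext (show z ^ 2 = 1 by rw [← hS.1]; exact pow_orderOf_eq_one z)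
    have hit : ∀ n : ℕ, b ^ n * (q : Subgroup.centralizer ({z} : Set G)) * (b ^ n)⁻¹ =
        (q : Subgroup.centralizer ({z} : Set G)) * zC z ^ n := by
      intro n
      induction n with
      | zero => simp
      | succ n ih =>
        calc b ^ (n + 1) * (q : Subgroup.centralizer ({z} : Set G)) * (b ^ (n + 1))⁻¹
            = b * (b ^ n * q * (b ^ n)⁻¹) * b⁻¹ := by rw [pow_succ']; group
          _ = b * q * b⁻¹ * (b * zC z ^ n * b⁻¹) := by rw [ih]; group
          _ = q * zC z ^ (n + 1) := by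
            rw [hstep, ((hzc.pow_left n).symm).eq, mul_inv_cancel_right, mul_assoc, ← pow_succ']
    have h5 := hit 3
    rw [hb3, one_mul, inv_one, mul_one, pow_succ, hz2, one_mul] at h5
    exact z_ne_one hS (congrArg Subtype.val (mul_eq_left.1 h5.symm) :)

/-- The centraliser of `b` modulo `⟨b⟩` is of Thompson type. -/
theorem thompsonType {x : Q} (hx : ψ frameV = QuotientGroup.mk x) (B : Subgroup G)
    (hB : B = Subgroup.zpowers (b : G))
    (h27 : ¬ 27 ∣ Nat.card (Subgroup.centralizer ({z, toG x, (b : G)} : Set G)))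
    [hn : (B.subgroupOf (Subgroup.centralizer (B : Set G))).Normal] :
    IsOfThompsonType (↥(Subgroup.centralizer (B : Set G)) ⧸
      B.subgroupOf (Subgroup.centralizer (B : Set G))) := by
  classical
  haveI : Fact (Nat.Prime 2) := ⟨Nat.prime_two⟩
  haveI : Fact (Nat.Prime 3) := ⟨Nat.prime_three⟩
  have hob := orderOf_b_three hb hb3
  have hzb2 : z * z = 1 := by rw [← pow_two, ← hS.1]; exact pow_orderOf_eq_one z
  have hbB : (b : G) ∈ B := hB ▸ Subgroup.mem_zpowers _
  set T := Subgroup.centralizer (B : Set G) with hT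
  set N := B.subgroupOf T with hN
  have hbz : Commute (b : G) z := Subgroup.mem_centralizer_singleton_iff.1 b.2
  have hinB : ∀ {g : G}, g ∈ B → ∃ k : ℕ, (b : G) ^ k = g := fun {g} hg =>
    mem_powers_iff_mem_zpowers.2 (hB ▸ hg)
  have hTmem : ∀ {g : G}, Commute g (b : G) → g ∈ T := fun {g} hg => by
    refine Subgroup.mem_centralizer_iff.2 fun y hy => ?_
    obtain ⟨k, rfl⟩ := hinB hy
    exact (hg.pow_right k).eq.symm
  have hTb : ∀ a : T, Commute (a : G) (b : G) := fun a =>
    (Subgroup.mem_centralizer_iff.1 a.2 _ hbB).symm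
  let zT : T := ⟨z, hTmem hbz.symm⟩
  let zb : T ⧸ N := QuotientGroup.mk zT
  let Ct : Subgroup (Subgroup.centralizer ({z} : Set G)) := Subgroup.centralizer {b}
  let toT : Ct →* T :=
    { toFun := fun a => ⟨((a : Subgroup.centralizer ({z} : Set G)) : G),
        hTmem (congrArg Subtype.val (Subgroup.mem_centralizer_singleton_iff.1 a.2))⟩
      map_one' := rfl
      map_mul' := fun _ _ => rfl }
  have hD : ∀ a : Ct, (QuotientGroup.mk (toT a) : T ⧸ N) ∈ Subgroup.centralizer ({zb} : Set (T ⧸ N)) :=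
    fun a => Subgroup.mem_centralizer_singleton_iff.2 (by
      show (QuotientGroup.mk (toT a) : T ⧸ N) * QuotientGroup.mk zT =
        QuotientGroup.mk zT * QuotientGroup.mk (toT a)
      rw [← QuotientGroup.mk_mul, ← QuotientGroup.mk_mul]
      congr 1
      exact Subtype.ext (Subgroup.mem_centralizer_singleton_iff.1 a.1.2))
  let π : Ct →* Subgroup.centralizer ({zb} : Set (T ⧸ N)) :=
    ((QuotientGroup.mk' N).comp toT).codRestrict _ hD
  have hπ1 : ∀ a : Ct, π a = 1 ↔ ∃ k : ℕ, b ^ k = (a : Subgroup.centralizer ({z} : Set G)) := by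
    intro a
    refine Subtype.ext_iff.trans ((QuotientGroup.eq_one_iff (toT a)).trans ⟨fun h => ?_, ?_⟩)
    · obtain ⟨k, hk⟩ := hinB h
      exact ⟨k, Subtype.ext hk⟩
    · rintro ⟨k, hk⟩
      show ((a : Subgroup.centralizer ({z} : Set G)) : G) ∈ B
      rw [← hk, SubgroupClass.coe_pow]
      exact pow_mem hbB k
  have hπsurj : Function.Surjective π := by
    rintro ⟨q, hq⟩
    obtain ⟨a, rfl⟩ := QuotientGroup.mk_surjective q
    have hq' : (QuotientGroup.mk (a * zT) : T ⧸ N) = QuotientGroup.mk (zT * a) :=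
      Subgroup.mem_centralizer_singleton_iff.1 hq
    have hm : (zT * a)⁻¹ * (a * zT) ∈ N := QuotientGroup.eq.1 hq'.symm
    obtain ⟨k, hk⟩ := hinB (g := (z * (a : G))⁻¹ * ((a : G) * z)) hm
    have hk' : (z * (a : G))⁻¹ * ((a : G) * z) = (b : G) ^ k := hk.symm
    have h1 : (a : G) * z * (a : G)⁻¹ = z * (b : G) ^ k := by
      have e' : (a : G) * z = z * ((b : G) ^ k * (a : G)) := by
        rw [← ((hTb a).pow_right k).eq, ← mul_assoc]; exact inv_mul_eq_iff_eq_mul.1 hk'
      rw [e']; group
    have hbk : (b : G) ^ k = 1 := by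
      have h2 : (z * (b : G) ^ k) * (z * (b : G) ^ k) = 1 := by
        rw [← h1]
        calc (a : G) * z * (a : G)⁻¹ * ((a : G) * z * (a : G)⁻¹) = (a : G) * (z * z) * (a : G)⁻¹ := by group
          _ = 1 := by rw [hzb2, mul_one, mul_inv_cancel]
      rw [mul_assoc, ← mul_assoc ((b : G) ^ k) z, (hbz.pow_left k).eq, ← mul_assoc, ← mul_assoc, hzb2,
        one_mul, ← pow_add] at h2
      have hd : 3 ∣ k + k := by
        rw [← hob, ← Subgroup.orderOf_coe b]; exact orderOf_dvd_of_pow_eq_one h2
      obtain ⟨l, rfl⟩ : 3 ∣ k := by omega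
      rw [pow_mul, ← SubgroupClass.coe_pow, hb3]
      exact one_pow l
    rw [hbk, mul_one] at h1
    exact ⟨⟨⟨(a : G), Subgroup.mem_centralizer_singleton_iff.2 (mul_inv_eq_iff_eq_mul.1 h1)⟩,
      Subgroup.mem_centralizer_singleton_iff.2 (Subtype.ext (hTb a).eq)⟩, rfl⟩
  -- the fixed part of `Q`
  let R : Subgroup (Subgroup.centralizer ({zb} : Set (T ⧸ N))) := (Q.subgroupOf Ct).map π
  haveI hQn : (Q.subgroupOf Ct).Normal := inferInstance
  haveI hRn : R.Normal := Subgroup.Normal.map hQn π hπsurj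
  let CQ : Subgroup Q := (Subgroup.centralizer ({b} : Set (Subgroup.centralizer ({z} : Set G)))).subgroupOf Q
  let ρ : CQ →* R :=
    (π.comp
      { toFun := fun q : CQ => (⟨(q : Q), q.2⟩ : Ct)
        map_one' := rfl
        map_mul' := fun _ _ => rfl }).codRestrict R fun q => ⟨_, (q : Q).2, rfl⟩
  have hρsurj : Function.Surjective ρ := by
    rintro ⟨_, a, ha, rfl⟩
    exact ⟨⟨⟨a.1, ha⟩, a.2⟩, rfl⟩
  have hQb : ∀ k : ℕ, b ^ k ∈ Q → b ^ k = 1 := fun k hk =>
    eq_one_of_pow_three hS hk (by rw [← pow_mul, mul_comm, pow_mul, hb3, one_pow])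
  have hρinj : Function.Injective ρ := (injective_iff_map_eq_one ρ).2 fun q hq => by
    obtain ⟨k, hk⟩ := (hπ1 _).1 (congrArg Subtype.val hq)
    exact Subtype.ext (Subtype.ext (hk.symm.trans (hQb k (hk ▸ (q : Q).2))))
  have hRp : IsPGroup 2 R := (hS.2.2.1.1.1.to_subgroup CQ).of_surjective ρ hρsurj
  have hCQmem : ∀ {v : leechLattice} {q : Q}, ψ v = QuotientGroup.mk q → Cong (Three.T • v) v → q ∈ CQ :=
    fun hv hc => Subgroup.mem_centralizer_singleton_iff.2 (commute_of_cong_three hS hψ hb hb3 hv hc).eq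
  have hclsC : ∀ k : Fin 256, Cong (Three.T • Three.cls k) (Three.cls k) := fun k => by
    rw [Three.cls_fixed]; exact Cong.refl _
  have hzCQ : zQ hS ∈ CQ :=
    Subgroup.mem_centralizer_singleton_iff.2 (Subgroup.mem_center_iff.1 zC_mem_center b).symm
  have hzq2 : zQ hS * zQ hS = 1 := Subtype.ext (Subtype.ext hzb2)
  -- every element is a lift of one of the classes
  have hCQclass : ∀ q : CQ, ∃ k : Fin 256, ψ (Three.cls k) = QuotientGroup.mk (q : Q) := fun q => by
    obtain ⟨v, hv⟩ := hψ.2.1 (QuotientGroup.mk (q : Q))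
    refine ⟨Three.clsIdx v, ?_⟩
    rw [← hv]
    exact ((psi_eq_iff hψ _ _).2 (Three.cls_complete (cong_T_of_commute_three hψ hb hv
      (Subgroup.mem_centralizer_singleton_iff.1 q.2)))).symm
  have hCQcard : Nat.card CQ = 2 ^ 9 := by
    let f : Fin 256 × Bool → CQ := fun y =>
      if y.2 then ⟨lift ψ (Three.cls y.1), hCQmem (psi_lift _) (hclsC _)⟩ * ⟨zQ hS, hzCQ⟩
      else ⟨lift ψ (Three.cls y.1), hCQmem (psi_lift _) (hclsC _)⟩
    have hz1 : (QuotientGroup.mk (zQ hS) : Q ⧸ Subgroup.center Q) = 1 :=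
      (QuotientGroup.eq_one_iff _).2 (zQ_mem_center hS)
    have hmk : ∀ y, (QuotientGroup.mk ((f y : CQ) : Q) : Q ⧸ Subgroup.center Q) = ψ (Three.cls y.1) := by
      rintro ⟨k, t⟩
      cases t
      · exact (psi_lift _).symm
      · show (QuotientGroup.mk (lift ψ _ * zQ hS) : Q ⧸ Subgroup.center Q) = _
        rw [QuotientGroup.mk_mul, hz1, mul_one, ← psi_lift]
    have hf : Function.Bijective f := by
      constructor
      · rintro ⟨k, t⟩ ⟨k', t'⟩ h
        have h1 := (hmk (k, t)).symm.trans ((congrArg (fun q : CQ => (QuotientGroup.mk (q : Q) :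
          Q ⧸ Subgroup.center Q)) h).trans (hmk (k', t')))
        have hk : k = k' := by
          rw [← Three.clsIdx_cls k, ← Three.clsIdx_cls k']
          exact Three.clsIdx_congr ((psi_eq_iff hψ _ _).1 h1)
        subst hk
        cases t <;> cases t' <;> first | rfl | exfalso
        · exact zQ_ne_one hS (mul_eq_left.1 (congrArg Subtype.val h).symm)
        · exact zQ_ne_one hS (mul_eq_left.1 (congrArg Subtype.val h))
      · intro q
        obtain ⟨k, hk⟩ := hCQclass q
        rw [psi_lift (ψ := ψ)] at hk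
        rcases psi_center hS hk with e' | e'
        · exact ⟨(k, false), Subtype.ext e'.symm⟩
        · exact ⟨(k, true), Subtype.ext e'.symm⟩
    rw [← Nat.card_congr (Equiv.ofBijective f hf), Nat.card_prod]
    simp
  have hCQex : IsExtraspecial 2 CQ := by
    refine extraspecial_of_two_valued ⟨zQ hS, hzCQ⟩ (hS.2.2.1.1.1.to_subgroup CQ)
      (Subgroup.mem_center_iff.2 fun a => Subtype.ext (Subgroup.mem_center_iff.1 (zQ_mem_center hS) a))
      (fun h => zQ_ne_one hS (congrArg Subtype.val h)) (Subtype.ext hzq2) (fun a c => ?_)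
      (fun a => (sq_cases hS (a : Q)).imp Subtype.ext Subtype.ext) (fun a => ?_) ?_
    · rcases commutator_cases hS (a : Q) c with h | h
      · left
        exact Subtype.ext (mul_inv_eq_one.1 h)
      · right
        refine Subtype.ext ?_
        show (a : Q) * c * (a : Q)⁻¹ = (c : Q) * zQ hS
        rw [Subgroup.mem_center_iff.1 (zQ_mem_center hS), ← h, commutatorElement_def]
        group
    · obtain ⟨k, hk⟩ := hCQclass a
      by_cases hk0 : k = 0
      · subst hk0
        rw [Three.cls_zero, psi_zero hψ, ← QuotientGroup.mk_one] at hk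
        rcases psi_center hS hk with e' | e'
        · exact Or.inl (Subtype.ext e')
        · exact Or.inr (Or.inl (Subtype.ext (e'.trans (one_mul _))))
      · obtain ⟨i, hi⟩ := Three.cls_nondeg k hk0
        refine Or.inr (Or.inr ⟨⟨lift ψ (Three.bv i), ?_⟩, fun hc => hi ?_⟩)
        · refine hCQmem (psi_lift _) ?_
          rw [show Three.bv i = Three.cls ⟨2 ^ (i : ℕ), Nat.pow_lt_pow_right (by norm_num) i.2⟩ from
            Subtype.ext (funext (Three.bv_eq_cls i))]
          exact hclsC _
        · exact (commute_iff_dot hS hψ hk (psi_lift _)).1 (congrArg Subtype.val hc.eq)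
    · refine ⟨⟨lift ψ (Three.cls 1), hCQmem (psi_lift _) (hclsC _)⟩, fun h => ?_, fun h => ?_⟩ <;>
      · have h' := congrArg (fun q : CQ => (QuotientGroup.mk (q : Q) : Q ⧸ Subgroup.center Q)) h
        have h0 : ψ (Three.cls 1) = ψ (Three.cls 0) := by
          rw [Three.cls_zero, psi_zero hψ, psi_lift (ψ := ψ)]
          refine h'.trans ?_
          first
            | exact QuotientGroup.mk_one _
            | exact (QuotientGroup.eq_one_iff _).2 (zQ_mem_center hS)
        have := Three.clsIdx_congr ((psi_eq_iff hψ _ _).1 h0)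
        rw [Three.clsIdx_cls, Three.clsIdx_cls] at this
        exact absurd this (by decide)
  have hREx : IsExtraspecial 2 R :=
    extraspecial_congr (MulEquiv.ofBijective ρ ⟨hρinj, hρsurj⟩) hCQex
  have hRcard : Nat.card R = 2 ^ (2 * 4 + 1) := by
    rw [← Nat.card_congr (Equiv.ofBijective ρ ⟨hρinj, hρsurj⟩), hCQcard]
  -- the homomorphism to the alternating group
  obtain ⟨F, hFsurj, hF1, hFfix⟩ := Three.exists_hom
  have hgC : ∀ a : Ct, ∀ g : Co0, (QuotientGroup.mk g : Spor.Co1) =
      e (QuotientGroup.mk (a : Subgroup.centralizer ({z} : Set G))) → g ∈ Three.C0 := by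
    intro a g hg
    have h := Three.conj_pow_of_mk (g := g) (j := 1) (by
      rw [pow_one, QuotientGroup.mk_mul, QuotientGroup.mk_mul, QuotientGroup.mk_inv, hg,
        show (QuotientGroup.mk Three.T : Spor.Co1) = e (QuotientGroup.mk b) from hb.symm, ← map_mul,
        ← map_inv, ← map_mul, ← QuotientGroup.mk_mul, ← QuotientGroup.mk_inv, ← QuotientGroup.mk_mul,
        mul_inv_eq_iff_eq_mul.2 (Subgroup.mem_centralizer_singleton_iff.1 a.2), hb])
    rw [pow_one] at h
    exact Subgroup.mem_centralizer_singleton_iff.2 (mul_inv_eq_iff_eq_mul.1 h)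
  have hrep : ∀ a : Ct, ∃ g : Three.C0, (QuotientGroup.mk (g : Co0) : Spor.Co1) =
      e (QuotientGroup.mk (a : Subgroup.centralizer ({z} : Set G))) := fun a => by
    obtain ⟨g, hg⟩ := QuotientGroup.mk_surjective (e (QuotientGroup.mk (a : Subgroup.centralizer ({z} : Set G))))
    exact ⟨⟨g, hgC a g hg⟩, hg⟩
  choose rep hrep' using hrep
  have hFcongr : ∀ g g' : Three.C0, (QuotientGroup.mk (g : Co0) : Spor.Co1) = QuotientGroup.mk (g' : Co0) →
      F g = F g' := fun g g' h => by
    have h' : (g : Co0)⁻¹ * g' ∈ Subgroup.center Co0 := QuotientGroup.eq.1 h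
    have h1 : F (g⁻¹ * g') = 1 := (hF1 _).2 ⟨0, by
      rcases center_cases h' with e' | e'
      · exact Or.inl (by simpa using e')
      · exact Or.inr (by simpa using e')⟩
    rwa [map_mul, map_inv, inv_mul_eq_one] at h1
  let Ψ : Ct →* alternatingGroup (Fin 9) := MonoidHom.mk' (fun a => F (rep a)) fun a c => by
    rw [← map_mul]
    refine hFcongr _ _ ?_
    rw [hrep', Subgroup.coe_mul, Subgroup.coe_mul, QuotientGroup.mk_mul, map_mul, ← hrep', ← hrep',
      QuotientGroup.mk_mul]
  have hΨsurj : Function.Surjective Ψ := by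
    intro p
    obtain ⟨g, rfl⟩ := hFsurj p
    obtain ⟨h, hh⟩ := exists_of_co0 hψ (g : Co0)
    obtain ⟨h₁, -, ⟨i, hi'⟩, hconj⟩ := adjust_three hS ⊤ (a := b) (c := h * b * h⁻¹) trivial trivial
      hob (((MulAut.conj h).orderOf_eq b).trans hob) (j := 1) (by
      rw [pow_one, QuotientGroup.mk_mul, QuotientGroup.mk_mul, QuotientGroup.mk_inv, map_mul, map_mul,
        map_inv, hb, ← hh, Three.Tbar, ← QuotientGroup.mk_inv, ← QuotientGroup.mk_mul,
        ← QuotientGroup.mk_mul, Subgroup.mem_centralizer_singleton_iff.1 g.2, mul_inv_cancel_right])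
    let h' := h₁ * h
    have hi : e (QuotientGroup.mk h') = Three.Tbar ^ i * e (QuotientGroup.mk h) := by
      show e (QuotientGroup.mk (h₁ * h)) = _
      rw [QuotientGroup.mk_mul, map_mul, hi', hb]
    replace hconj : h' * b * h'⁻¹ = b ^ 1 := by
      show h₁ * h * b * (h₁ * h)⁻¹ = _
      rw [← hconj]; group
    rw [pow_one] at hconj
    refine ⟨⟨h', Subgroup.mem_centralizer_singleton_iff.2 (mul_inv_eq_iff_eq_mul.1 hconj)⟩, ?_⟩
    have hTi : F ⟨Three.T ^ i, pow_mem Three.T_mem i⟩ = 1 := (hF1 _).2 ⟨i, Or.inl rfl⟩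
    calc F (rep _) = F (⟨Three.T ^ i, pow_mem Three.T_mem i⟩ * g) := hFcongr _ _ (by
          rw [hrep', hi, Subgroup.coe_mul, QuotientGroup.mk_mul, QuotientGroup.mk_pow, hh]; rfl)
      _ = F g := by rw [map_mul, hTi, one_mul]
  have hΨker : ∀ a : Ct, Ψ a = 1 ↔ π a ∈ R := by
    intro a
    constructor
    · intro h
      obtain ⟨k, hk⟩ := (hF1 _).1 h
      have hek : e (QuotientGroup.mk (a : Subgroup.centralizer ({z} : Set G))) = Three.Tbar ^ k := by
        rw [← hrep']
        rcases hk with hk | hk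
        · rw [hk, QuotientGroup.mk_pow]; rfl
        · rw [hk, QuotientGroup.mk_mul, Three.mk_neg, one_mul, QuotientGroup.mk_pow]; rfl
      let bC : Ct := ⟨b, Subgroup.mem_centralizer_singleton_iff.2 rfl⟩
      refine ⟨a * (bC ^ k)⁻¹, ?_, ?_⟩
      · show (a : Subgroup.centralizer ({z} : Set G)) * (b ^ k)⁻¹ ∈ Q
        rw [← QuotientGroup.eq_one_iff, ← map_eq_one_iff e e.injective, QuotientGroup.mk_mul,
          QuotientGroup.mk_inv, map_mul, map_inv, hek, mk_b_pow_three hb hb3, mul_inv_cancel]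
      · rw [map_mul, map_inv, (hπ1 (bC ^ k)).2 ⟨k, rfl⟩, inv_one, mul_one]
    · rintro ⟨a', ha', he⟩
      obtain ⟨k, hk⟩ := (hπ1 (a'⁻¹ * a)).1 (by rw [map_mul, map_inv, he, inv_mul_cancel])
      refine (hFcongr _ ⟨Three.T ^ k, pow_mem Three.T_mem k⟩ ?_).trans ((hF1 _).2 ⟨k, Or.inl rfl⟩)
      have ha'' : (a' : Subgroup.centralizer ({z} : Set G)) ∈ Q := ha'
      have e1 : e (QuotientGroup.mk (a' : Subgroup.centralizer ({z} : Set G))) = 1 := by
        rw [(QuotientGroup.eq_one_iff _).2 ha'', map_one]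
      have e2 : (a : Subgroup.centralizer ({z} : Set G)) = (a' : Subgroup.centralizer ({z} : Set G)) * b ^ k := by
        rw [hk, Subgroup.coe_mul, Subgroup.coe_inv, mul_inv_cancel_left]
      rw [hrep', e2, QuotientGroup.mk_mul, map_mul, e1, one_mul, mk_b_pow_three hb hb3, QuotientGroup.mk_pow]
      rfl
  let θ : Ct →* Subgroup.centralizer ({zb} : Set (T ⧸ N)) ⧸ R := (QuotientGroup.mk' R).comp π
  have hθsurj : Function.Surjective θ := (QuotientGroup.mk'_surjective R).comp hπsurj
  have hθker : θ.ker = Ψ.ker := by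
    ext a
    rw [MonoidHom.mem_ker, MonoidHom.mem_ker, hΨker]
    exact QuotientGroup.eq_one_iff (π a)
  let iso : Subgroup.centralizer ({zb} : Set (T ⧸ N)) ⧸ R ≃* alternatingGroup (Fin 9) :=
    ((QuotientGroup.quotientKerEquivOfSurjective θ hθsurj).symm.trans
      (QuotientGroup.quotientMulEquivOfEq hθker)).trans
      (QuotientGroup.quotientKerEquivOfSurjective Ψ hΨsurj)
  -- `R` contains its centralizer
  have hself : Subgroup.centralizer (R : Set (Subgroup.centralizer ({zb} : Set (T ⧸ N)))) ≤ R := by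
    intro d hd
    obtain ⟨a, rfl⟩ := hπsurj d
    rw [← hΨker]
    refine hFfix _ fun k => Three.act_eq_of_cong ((psi_eq_iff hψ _ _).1 ?_)
    rw [psi_conj hψ _ _ (hrep' a) _ _ (psi_lift _), psi_lift (ψ := ψ) (Three.cls k)]
    congr 1
    let qC : CQ := ⟨lift ψ (Three.cls k), hCQmem (psi_lift _) (hclsC _)⟩
    let aq : Ct := ⟨((qC : Q) : Subgroup.centralizer ({z} : Set G)), qC.2⟩
    have hc : π a * π aq = π aq * π a :=
      ((Subgroup.mem_centralizer_iff.1 hd) (π aq) ⟨aq, (qC : Q).2, rfl⟩).symm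
    obtain ⟨n, hn'⟩ := (hπ1 (aq⁻¹ * (a * aq * a⁻¹))).1 (by
      rw [map_mul, map_mul, map_mul, map_inv, map_inv, hc]; group)
    have hmem : (((aq⁻¹ * (a * aq * a⁻¹) : Ct)) : Subgroup.centralizer ({z} : Set G)) ∈ Q :=
      mul_mem (inv_mem (qC : Q).2) ((inferInstance : Q.Normal).conj_mem _ (qC : Q).2 _)
    have h1 : b ^ n = 1 := hQb n (hn'.symm ▸ hmem)
    rw [h1] at hn'
    exact Subtype.ext (inv_mul_eq_one.1 hn'.symm).symm
  have hRfit : R ≤ fittingSubgroup (Subgroup.centralizer ({zb} : Set (T ⧸ N))) :=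
    CfsgLib.Components.le_fittingSubgroup hRp.isNilpotent
  have hlayer : layer (Subgroup.centralizer ({zb} : Set (T ⧸ N))) = ⊥ := by
    have hle : layer (Subgroup.centralizer ({zb} : Set (T ⧸ N))) ≤ R :=
      (CfsgLib.Components.layer_le_centralizer_fittingSubgroup.trans
        (Subgroup.centralizer_le (SetLike.coe_subset_coe.2 hRfit))).trans hself
    refine sSup_eq_bot.2 fun K hK => ?_
    exfalso
    have hKR : K ≤ R := (le_sSup hK).trans hle
    haveI := (hRp.to_le hKR).isNilpotent
    exact CfsgLib.Components.IsComponent.not_isSolvable hK inferInstance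
  have hodd : ∀ M : Subgroup (Subgroup.centralizer ({zb} : Set (T ⧸ N))), M.Normal →
      (Nat.card M).Coprime 2 → M = ⊥ := by
    intro M hM hcop
    have hdis : Disjoint M R := by
      refine disjoint_iff.2 (Subgroup.eq_bot_iff_card _ |>.2 ?_)
      refine Nat.eq_one_of_dvd_coprimes (a := Nat.card M) (b := 2 ^ (2 * 4 + 1))
        (hcop.pow_right _) (Subgroup.card_dvd_of_le inf_le_left) ?_
      rw [← hRcard]
      exact Subgroup.card_dvd_of_le inf_le_right
    have hMR : M ≤ R := fun a ha => hself (Subgroup.mem_centralizer_iff.2 fun r hr =>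
      ((Subgroup.commute_of_normal_of_disjoint M R hM hRn hdis a r ha hr).eq).symm)
    exact disjoint_self.1 (hdis.mono_right hMR)
  have hpcore : pCore 2 (Subgroup.centralizer ({zb} : Set (T ⧸ N))) ≤ R := by
    let proj := iso.toMonoidHom.comp (QuotientGroup.mk' R)
    haveI : (pCore 2 (Subgroup.centralizer ({zb} : Set (T ⧸ N)))).Normal :=
      Subgroup.sSup_normal _ fun _ h => h.1
    haveI := Subgroup.Normal.map (inferInstance : (pCore 2 (Subgroup.centralizer ({zb} : Set (T ⧸ N)))).Normal)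
      proj (iso.surjective.comp (QuotientGroup.mk'_surjective R))
    have hbot := alternatingNine_two_core _ ((CfsgLib.Components.isPGroup_pCore 2).map proj)
    intro d hd
    have h1 : proj d = 1 := Subgroup.mem_bot.1 (hbot ▸ Subgroup.mem_map_of_mem proj hd)
    exact (QuotientGroup.eq_one_iff d).1 (iso.injective (h1.trans (map_one iso).symm))
  have hFS : generalizedFittingSubgroup (Subgroup.centralizer ({zb} : Set (T ⧸ N))) = R := by
    rw [CfsgLib.Components.generalizedFitting_eq_pCore 2 hlayer hodd]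
    exact le_antisymm hpcore (CfsgLib.Components.le_pCore hRp)
  have hzb : orderOf zb = 2 := by
    refine orderOf_eq_prime ?_ fun h => ?_
    · rw [pow_two, ← QuotientGroup.mk_mul, QuotientGroup.eq_one_iff]
      show z * z ∈ B
      rw [hzb2]; exact one_mem _
    · obtain ⟨k, hk⟩ := hinB ((QuotientGroup.eq_one_iff zT).1 h)
      have hk' : (b : G) ^ k = z := hk
      have h5 : z ^ 3 = 1 := by
        rw [← hk', ← pow_mul, mul_comm, pow_mul, ← SubgroupClass.coe_pow, hb3]
        exact one_pow k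
      rw [pow_succ, pow_two, hzb2, one_mul] at h5
      exact z_ne_one hS h5
  -- not weakly closed
  have hxb : Commute (x : Subgroup.centralizer ({z} : Set G)) b :=
    commute_of_cong_three hS hψ hb hb3 hx Three.frame_cong_T
  have hnwc : ∃ c : T ⧸ N, (∃ hq : c * zb * c⁻¹ ∈ Subgroup.centralizer ({zb} : Set (T ⧸ N)),
      (⟨c * zb * c⁻¹, hq⟩ : Subgroup.centralizer ({zb} : Set (T ⧸ N))) ∈ R) ∧
      c * zb * c⁻¹ ≠ zb := by
    obtain ⟨hconjx, hxne⟩ := conj_of_class hS hψ (sqNorm_eight none) hx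
    obtain ⟨g₀, hg₀⟩ := isConj_iff.1 hconjx
    obtain ⟨y, hy⟩ := mem_inG.1 (mem_conjQ.1 (frame_z_mem hS hψ hg₀ hx))
    have hy1 : IsConj z (toG y) := isConj_iff.2 ⟨g₀⁻¹, by rw [hy]; group⟩
    have hyne : toG y ≠ z := fun h => by
      rw [hy] at h
      apply hxne
      rw [← hg₀]
      calc g₀ * z * g₀⁻¹ = g₀ * (g₀⁻¹ * z * g₀) * g₀⁻¹ := by rw [h]
        _ = z := by group
    obtain ⟨c, hc⟩ := conj_transitive hS hψ hconjx hxne hy1 hyne
    -- `w` interchanges `z` and `x`
    set w : G := g₀ * (c : G) with hw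
    have hcz : (c : G) * z * (c : G)⁻¹ = z :=
      mul_inv_eq_iff_eq_mul.2 (Subgroup.mem_centralizer_singleton_iff.1 c.2)
    have hc' : (c : G) * toG x * (c : G)⁻¹ = g₀⁻¹ * z * g₀ := (congrArg Subtype.val hc).trans hy
    have hwz : w * z * w⁻¹ = toG x := by
      calc w * z * w⁻¹ = g₀ * ((c : G) * z * (c : G)⁻¹) * g₀⁻¹ := by rw [hw]; group
        _ = toG x := by rw [hcz, hg₀]
    have hwx : w * toG x * w⁻¹ = z := by
      calc w * toG x * w⁻¹ = g₀ * ((c : G) * toG x * (c : G)⁻¹) * g₀⁻¹ := by rw [hw]; group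
        _ = z := by rw [hc']; group
    let M : Subgroup (Subgroup.centralizer ({z} : Set G)) :=
      Subgroup.centralizer {(x : Subgroup.centralizer ({z} : Set G))}
    have hbM : b ∈ M := Subgroup.mem_centralizer_singleton_iff.2 hxb.eq.symm
    have hxbG : Commute (toG x) (b : G) := congrArg Subtype.val hxb.eq
    have hb'z : Commute (w * (b : G) * w⁻¹) z := by
      have h := hxbG.symm.map (MulAut.conj w)
      simp only [MulAut.conj_apply, hwx] at h
      exact h
    have hb'x : Commute (w * (b : G) * w⁻¹) (toG x) := by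
      have h := hbz.map (MulAut.conj w)
      simp only [MulAut.conj_apply, hwz] at h
      exact h
    let b' : Subgroup.centralizer ({z} : Set G) :=
      ⟨w * (b : G) * w⁻¹, Subgroup.mem_centralizer_singleton_iff.2 hb'z.eq⟩
    have hb'M : b' ∈ M := Subgroup.mem_centralizer_singleton_iff.2 (Subtype.ext hb'x.eq)
    have hob' : orderOf b' = 3 := by
      rw [← Subgroup.orderOf_coe]
      exact ((MulAut.conj w).orderOf_eq (b : G)).trans ((Subgroup.orderOf_coe b).trans hob)
    have h27' : ¬ 27 ∣ Nat.card (Subgroup.centralizer ({z, toG x, (b' : G)} : Set G)) := fun h => by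
      refine h27 (h.trans (dvd_of_eq (Nat.card_congr (conjEquivOfIff w⁻¹ fun g => ?_).toEquiv)))
      simp only [Subgroup.mem_centralizer_iff, Set.mem_insert_iff, Set.mem_singleton_iff, forall_eq_or_imp,
        forall_eq, inv_inv]
      have key : ∀ u v : G, w * u * w⁻¹ = v → ((v * g = g * v) ↔ u * (w⁻¹ * g * w) = w⁻¹ * g * w * u) := by
        rintro u v rfl
        constructor
        · intro e'
          calc u * (w⁻¹ * g * w) = w⁻¹ * (w * u * w⁻¹ * g) * w := by group
            _ = w⁻¹ * g * w * u := by rw [e']; group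
        · intro e'
          calc w * u * w⁻¹ * g = w * (u * (w⁻¹ * g * w)) * w⁻¹ := by group
            _ = g * (w * u * w⁻¹) := by rw [e']; group
      rw [key z (toG x) hwz, key (toG x) z hwx, key (b : G) (b' : G) rfl, and_left_comm]
    obtain ⟨h1, i, h1M, hi⟩ := (pair_three_cases hS hψ hx hob' hb'M).resolve_right h27'
    obtain ⟨k, hkM, -, hki'⟩ := adjust_three hS M hbM (M.mul_mem (M.mul_mem h1M hb'M) (M.inv_mem h1M))
      hob (((MulAut.conj h1).orderOf_eq b').trans hob') (j := i) (by rw [hi, hb])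
    -- an element of `M` squaring `b`
    obtain ⟨σ, hσ, hσt⟩ := Three.exists_square
    let n := monoCo0 σ hσ ∅ Spor.empty_mem_supports_golayCode
    obtain ⟨hn0, hn1, hn2⟩ := lift_centralising hS hψ hx (frame_not_center hS hψ hx)
      (monoCo0_mem_classStab hσ Spor.empty_mem_supports_golayCode)
    have hnT : n * Three.T = Three.T ^ 2 * n := co0_ext fun v => Subtype.ext (funext fun p => by
      rw [pow_two, mul_smul, mul_smul, mul_smul, monoCo0_smul, Three.T_smul, Three.T_smul, monoCo0_smul]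
      simp only [monoFun, Finset.notMem_empty, if_false, Three.T_smul]
      rw [hσt])
    have hn0M : hn0 ∈ M := Subgroup.mem_centralizer_singleton_iff.2 hn2.eq
    obtain ⟨k2, hk2M, -, hk2⟩ := adjust_three hS M hbM (M.mul_mem (M.mul_mem hn0M hbM) (M.inv_mem hn0M))
      hob (((MulAut.conj hn0).orderOf_eq b).trans hob) (j := 2) (by
        rw [QuotientGroup.mk_mul, QuotientGroup.mk_mul, QuotientGroup.mk_inv, map_mul, map_mul,
          map_inv, hb, ← hn1, Three.Tbar, ← QuotientGroup.mk_inv, ← QuotientGroup.mk_mul,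
          ← QuotientGroup.mk_mul, ← QuotientGroup.mk_pow, hnT, mul_inv_cancel_right])
    have hki : k * h1 * b' * (k * h1)⁻¹ = b ^ i := by rw [← hki']; group
    have hi3 : i % 3 ≠ 0 := fun h0 => by
      have hbi : b ^ i = 1 := by rw [← pow_mod_orderOf, hob, h0, pow_zero]
      rw [hbi, mul_inv_eq_one, mul_eq_left] at hki
      rw [hki, orderOf_one] at hob'
      omega
    obtain ⟨u, huM, hub⟩ : ∃ u ∈ M, u * b' * u⁻¹ = b := by
      rcases (show i % 3 = 1 ∨ i % 3 = 2 by omega) with h | h
      · refine ⟨k * h1, M.mul_mem hkM h1M, ?_⟩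
        rw [hki, ← pow_mod_orderOf, hob, h, pow_one]
      · refine ⟨k2 * hn0 * (k * h1), M.mul_mem (M.mul_mem hk2M hn0M) (M.mul_mem hkM h1M), ?_⟩
        calc k2 * hn0 * (k * h1) * b' * (k2 * hn0 * (k * h1))⁻¹
            = k2 * hn0 * (k * h1 * b' * (k * h1)⁻¹) * (k2 * hn0)⁻¹ := by group
          _ = (k2 * (hn0 * b * hn0⁻¹) * k2⁻¹) ^ i := by
            rw [hki, show k2 * (hn0 * b * hn0⁻¹) * k2⁻¹ = k2 * hn0 * b * (k2 * hn0)⁻¹ by group, conj_pow]
          _ = b := by rw [hk2, ← pow_mul, ← pow_mod_orderOf, hob, Nat.mul_mod, h, pow_one]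
    have hux : (u : G) * toG x * (u : G)⁻¹ = toG x :=
      mul_inv_eq_iff_eq_mul.2 (congrArg Subtype.val (Subgroup.mem_centralizer_singleton_iff.1 huM))
    have hbu : Commute ((u : G) * w) (b : G) := mul_inv_eq_iff_eq_mul.1 (by
      calc (u : G) * w * (b : G) * ((u : G) * w)⁻¹ = ((u * b' * u⁻¹ : Subgroup.centralizer ({z} : Set G)) : G) := by
            show _ = (u : G) * (w * (b : G) * w⁻¹) * (u : G)⁻¹
            group
        _ = (b : G) := by rw [hub])
    have huz : (u : G) * w * z * ((u : G) * w)⁻¹ = toG x := by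
      calc (u : G) * w * z * ((u : G) * w)⁻¹ = (u : G) * (w * z * w⁻¹) * (u : G)⁻¹ := by group
        _ = toG x := by rw [hwz, hux]
    let xC : Ct := ⟨x, Subgroup.mem_centralizer_singleton_iff.2 hxb.eq⟩
    let cT : T := ⟨(u : G) * w, hTmem hbu⟩
    have hb1 : (QuotientGroup.mk cT : T ⧸ N) * zb * (QuotientGroup.mk cT : T ⧸ N)⁻¹ = (π xC : T ⧸ N) := by
      show (QuotientGroup.mk (cT * zT * cT⁻¹) : T ⧸ N) = QuotientGroup.mk (toT xC)
      congr 1
      exact Subtype.ext huz
    refine ⟨QuotientGroup.mk cT, ⟨hb1 ▸ (π xC).2, ?_⟩, ?_⟩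
    · have : (⟨_, hb1 ▸ (π xC).2⟩ : Subgroup.centralizer ({zb} : Set (T ⧸ N))) = π xC := Subtype.ext hb1
      rw [this]
      exact ⟨xC, x.2, rfl⟩
    · rw [hb1]
      intro h
      obtain ⟨j, hj⟩ := hinB (g := z⁻¹ * toG x) (show zT⁻¹ * toT xC ∈ N from QuotientGroup.eq.1 (show (QuotientGroup.mk zT : T ⧸ N) =
        QuotientGroup.mk (toT xC) from h.symm))
      have hj' : b ^ j = (zC z)⁻¹ * (x : Subgroup.centralizer ({z} : Set G)) := Subtype.ext hj
      have := hQb j (hj' ▸ mul_mem (inv_mem (zC_mem hS)) x.2)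
      rw [this] at hj'
      exact hxne (congrArg Subtype.val (inv_mul_eq_one.1 hj'.symm)).symm
  exact ⟨zb, R, hRn, ⟨hzb, hFS, hREx, hRcard, hnwc⟩, ⟨iso⟩⟩

end three

/-- The centralizer of a subgroup of order three that is not 3-central, modulo it. -/
theorem thompsonType_all {s : G} (hsQ : ∃ hsc : s ∈ Subgroup.centralizer ({z} : Set G),
      (⟨s, hsc⟩ : Subgroup.centralizer ({z} : Set G)) ∈ Q) (hs : IsConj z s) (hs1 : s ≠ z)
    (Y : Subgroup G) (hY : Y ≤ Subgroup.centralizer ({z, s} : Set G)) (hY3 : Nat.card Y = 3)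
    (hnc : ∀ P : Sylow 3 ↥(Subgroup.centralizer ({z, s} : Set G)),
      ¬ Y.subgroupOf (Subgroup.centralizer ({z, s} : Set G)) ≤
        (Subgroup.center ↥(P : Subgroup ↥(Subgroup.centralizer ({z, s} : Set G)))).map
          (P : Subgroup ↥(Subgroup.centralizer ({z, s} : Set G))).subtype)
    [hn : (Y.subgroupOf (Subgroup.centralizer (Y : Set G))).Normal] :
    IsOfThompsonType (↥(Subgroup.centralizer (Y : Set G)) ⧸
      Y.subgroupOf (Subgroup.centralizer (Y : Set G))) := by
  classical
  haveI : Fact (Nat.Prime 3) := ⟨Nat.prime_three⟩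
  haveI := co0_finite
  obtain ⟨hsc, hsq⟩ := hsQ
  let x : Q := ⟨⟨s, hsc⟩, hsq⟩
  obtain ⟨v, hvn, hv⟩ := class_of_conj hS hψ (x := x) hs hs1
  obtain ⟨m₀, hm₀⟩ := transitive_norm64 frameV v (sqNorm_eight none) hvn
  obtain ⟨e₁, ψ₁, hψ₁, hval⟩ := exists_adapted hψ m₀
  have hx : ψ₁ frameV = QuotientGroup.mk x := by rw [hval, hm₀, hv]
  let M : Subgroup (Subgroup.centralizer ({z} : Set G)) :=
    Subgroup.centralizer {(x : Subgroup.centralizer ({z} : Set G))}
  set L := Subgroup.centralizer ({z, s} : Set G) with hL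
  have hmemL : ∀ g : G, g ∈ L ↔ z * g = g * z ∧ s * g = g * s := fun g => by
    simp [hL, Subgroup.mem_centralizer_iff]
  obtain ⟨y, hy⟩ : ∃ y : Y, orderOf y = 3 := exists_prime_orderOf_dvd_card' 3 (by rw [hY3])
  have hyL := (hmemL _).1 (hY y.2)
  let a : Subgroup.centralizer ({z} : Set G) := ⟨y, Subgroup.mem_centralizer_singleton_iff.2 hyL.1.symm⟩
  have haM : a ∈ M := Subgroup.mem_centralizer_singleton_iff.2 (Subtype.ext hyL.2.symm)
  have ha : orderOf a = 3 := by
    rw [← Subgroup.orderOf_coe]; exact (Subgroup.orderOf_coe y).trans hy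
  have hYz : Y = Subgroup.zpowers (y : G) := by
    refine (Subgroup.eq_of_le_of_card_ge (Subgroup.zpowers_le.2 y.2) ?_).symm
    rw [hY3, Nat.card_zpowers, Subgroup.orderOf_coe, hy]
  -- the centralizer in the pair has no full Sylow subgroup
  have h27 : ¬ 27 ∣ Nat.card (Subgroup.centralizer ({z, toG x, (a : G)} : Set G)) := by
    intro h
    set U := Subgroup.centralizer ({z, toG x, (a : G)} : Set G)
    have hmemU : ∀ g : G, g ∈ U ↔ z * g = g * z ∧ s * g = g * s ∧ (y : G) * g = g * (y : G) := fun g => by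
      simp [U, Subgroup.mem_centralizer_iff, x, toG, a]
    have hUL : U ≤ L := fun g hg => (hmemL g).2 ⟨((hmemU g).1 hg).1, ((hmemU g).1 hg).2.1⟩
    have hLfac : (Nat.card L).factorization 3 ≤ 3 := by
      have hdvd : Nat.card M ∣ 2 ^ 25 * (4096 * 244823040) :=
        card_frame_centralizer_dvd hS hψ₁ hx M fun m hm => Subgroup.mem_centralizer_singleton_iff.1 hm
      have hML : Nat.card L ∣ Nat.card M := Subgroup.card_dvd_of_injective
        (MonoidHom.mk' (fun g : L => (⟨⟨g, Subgroup.mem_centralizer_singleton_iff.2 ((hmemL _).1 g.2).1.symm⟩,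
          Subgroup.mem_centralizer_singleton_iff.2 (Subtype.ext ((hmemL _).1 g.2).2.symm)⟩ : M)) fun _ _ => rfl)
        fun g g' h => Subtype.ext (congrArg (fun m : M => ((m : Subgroup.centralizer ({z} : Set G)) : G)) h)
      by_contra hc
      have h81 := ((Nat.Prime.pow_dvd_iff_le_factorization Nat.prime_three Nat.card_pos.ne').2
        (show 4 ≤ (Nat.card L).factorization 3 by omega)).trans (hML.trans hdvd)
      norm_num at h81
    obtain ⟨P, hP⟩ := (IsPGroup.of_bot (p := 3) (G := U)).exists_le_sylow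
    have hPcard : 27 ∣ Nat.card (P : Subgroup U) := P.pow_dvd_card_of_pow_dvd_card (n := 3) h
    let P' : Subgroup L := ((P : Subgroup U).map (Subgroup.inclusion hUL))
    have hP' : IsPGroup 3 P' := P.isPGroup'.map _
    obtain ⟨S, hS'⟩ := hP'.exists_le_sylow
    have hScard : Nat.card (S : Subgroup L) ≤ 27 := by
      rw [Sylow.card_eq_multiplicity]
      exact (Nat.pow_le_pow_right (by norm_num) hLfac).trans (by norm_num)
    have hSP : P' = (S : Subgroup L) := Subgroup.eq_of_le_of_card_ge hS' (by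
      refine hScard.trans (Nat.le_of_dvd Nat.card_pos ?_)
      rwa [Subgroup.card_map_of_injective (Subgroup.inclusion_injective hUL)])
    have hyU : (y : G) ∈ U := (hmemU _).2 ⟨hyL.1, hyL.2, rfl⟩
    have hcen : (⟨y, hyU⟩ : U) ∈ Subgroup.center U :=
      Subgroup.mem_center_iff.2 fun g => Subtype.ext (((hmemU _).1 g.2).2.2).symm
    have hzP : Subgroup.zpowers (⟨y, hyU⟩ : U) ≤ (P : Subgroup U) := by
      haveI : (Subgroup.zpowers (⟨y, hyU⟩ : U)).Normal :=
        ⟨fun a ha g => by
          rw [Subgroup.mem_center_iff.1 (Subgroup.zpowers_le.2 hcen ha) g, mul_inv_cancel_right]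
          exact ha⟩
      refine IsPGroup.le_sylow_of_normal (IsPGroup.of_card (n := 1) ?_) P
      rw [Nat.card_zpowers, ← Subgroup.orderOf_coe]
      exact ((Subgroup.orderOf_coe y).trans hy).trans (pow_one 3).symm
    refine hnc S fun g hg => ?_
    obtain ⟨n, hn'⟩ := Subgroup.mem_zpowers_iff.1 (hYz ▸ hg : (g : G) ∈ Subgroup.zpowers (y : G))
    have hgU : (g : G) ∈ U := hn' ▸ U.zpow_mem hyU n
    have hgP : g ∈ (S : Subgroup L) := by
      rw [← hSP]
      exact ⟨⟨g, hgU⟩, hzP (Subgroup.mem_zpowers_iff.2 ⟨n, Subtype.ext (by simpa using hn')⟩), Subtype.ext rfl⟩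
    refine ⟨⟨g, hgP⟩, Subgroup.mem_center_iff.2 fun p => ?_, rfl⟩
    have hpm : (p : L) ∈ P' := by rw [hSP]; exact p.2
    obtain ⟨q, -, hq⟩ := hpm
    refine Subtype.ext (Subtype.ext ?_)
    show ((p : L) : G) * (g : G) = (g : G) * ((p : L) : G)
    rw [← hq, ← hn']
    exact ((show Commute (y : G) (q : G) from ((hmemU _).1 q.2).2.2).zpow_left n).symm.eq
  obtain ⟨h, i, hhM, hi⟩ := (pair_three_cases hS hψ₁ hx ha haM).resolve_right h27
  obtain ⟨g, hg⟩ := QuotientGroup.mk_surjective (e₁ (QuotientGroup.mk h))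
  have hgS : g ∈ classStab frameV :=
    mem_classStab_of_commute hψ₁ hx (Subgroup.mem_centralizer_singleton_iff.1 hhM) hg
  obtain ⟨e₂, ψ₂, hψ₂, hval₂, he₂⟩ := exists_adapted' hψ₁ g
  have hx₂ : ψ₂ frameV = QuotientGroup.mk x := by
    rw [hval₂, psi_eq_of_cong hψ₁ (inv_mem hgS), hx]
  have hai : e₂ (QuotientGroup.mk a) = Three.Tbar ^ i := by
    rw [he₂, hg, ← map_inv, ← map_mul, ← map_mul, ← QuotientGroup.mk_inv, ← QuotientGroup.mk_mul,
      ← QuotientGroup.mk_mul, hi]
  have hi3 : i % 3 ≠ 0 := fun h0 => by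
    have h1 := orderOf_image (e := e₂) hS ha
    rw [hai, ← pow_mod_orderOf, Three.orderOf_Tbar, h0, pow_zero, orderOf_one] at h1
    omega
  obtain ⟨j, hj, hj3⟩ : ∃ j : ℕ, i * j % 3 = 1 ∧ j % 3 ≠ 0 := by
    rcases (show i % 3 = 1 ∨ i % 3 = 2 by omega) with h | h
    · exact ⟨1, by omega, by omega⟩
    · exact ⟨2, by omega, by omega⟩
  have hbj : e₂ (QuotientGroup.mk (a ^ j)) = Three.Tbar := by
    rw [QuotientGroup.mk_pow, map_pow, hai, ← pow_mul, ← pow_mod_orderOf, Three.orderOf_Tbar, hj, pow_one]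
  have hbj3 : (a ^ j) ^ 3 = 1 := by
    rw [← pow_mul, mul_comm, pow_mul, ← ha, pow_orderOf_eq_one, one_pow]
  refine thompsonType hS hψ₂ hbj hbj3 hx₂ Y (Subgroup.eq_of_le_of_card_ge ?_ ?_).symm ?_
  · rw [Subgroup.zpowers_le, SubgroupClass.coe_pow]
    exact pow_mem y.2 j
  · rw [hY3, Nat.card_zpowers, Subgroup.orderOf_coe]
    exact (orderOf_b_three hbj hbj3).ge
  · intro hd
    refine h27 (hd.trans (Subgroup.card_dvd_of_le fun g hg => ?_))
    have hC := Subgroup.mem_centralizer_iff.1 hg
    refine Subgroup.mem_centralizer_iff.2 ?_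
    rintro u (h | h | h) <;> rw [h]
    · exact hC z (by simp)
    · exact hC (toG x) (by simp)
    · have hpow : Commute ((a : G) ^ j) g := hC _ (by simp)
      have e' : (a : G) = ((a : G) ^ j) ^ i := by
        rw [← pow_mul, mul_comm, ← pow_mod_orderOf, Subgroup.orderOf_coe, ha, hj, pow_one]
      rw [e']
      exact (hpow.pow_left i).eq

end CfsgLib.MonsterType
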