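import Cfsg.Agent.Leech.Co0
import Cfsg.Agent.TwoBlockMathieu.M24Block

/-!
# A fixed-point-free element of order three of the group of the code
-/

set_option autoImplicit false

namespace CfsgLib.MonsterType.Three

open Cfsg CfsgLib.Leech CfsgLib.Mathieu CfsgLib.TwoBlockMathieu

/-- The table of the element. -/
def tauTab : ℕ := 515497693471297404274069168998234517242586538272715769861

theorem tauTab_valid : tableValid tauTab = true := by decide +kernel

/-- The element of order three. -/
noncomputable def tau : Equiv.Perm GolayPt :=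
  Equiv.ofBijective (tableFun tauTab) (tableFun_bijective tauTab_valid)

theorem tau_rep : Rep enc tau tauTab := fun p => by
  have h := tauTab_valid
  simp only [tableValid, Bool.and_eq_true, allBelow_iff, Nat.blt_eq] at h
  exact (idx_pt (h.1 _ (idx_lt p))).symm

theorem tau_mem : tau ∈ M24 := mem_M24_of_table tau_rep (by decide +kernel)

theorem tau_three : ∀ p, tau (tau (tau p)) = p := by decide +kernel

theorem tau_ne_fix : ∀ p, tau p ≠ p := by decide +kernel

theorem tau_eq_elt : (⟨tau, tau_mem⟩ : M24) = elt M24Data.valid (M24Data.ix 0) :=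
  Subtype.ext (Rep.unique tau_rep (by
    have h := rep_elt M24Data.valid (M24Data.ix 0)
    rwa [show (M24Data.cert.cls[M24Data.ix 0]).a = tauTab from rfl] at h))

/-- The table of an element conjugating `tau` to its square. -/
def squareTab : ℕ := 343859309498985225857078713352556029850006163540446544896

theorem exists_square : ∃ σ ∈ M24, ∀ p, tau (σ p) = σ (tau (tau p)) := by
  obtain ⟨σ, hr⟩ := exists_rep_of_valid (t := squareTab) (by decide +kernel)
  refine ⟨σ, mem_M24_of_table hr (by decide +kernel), fun p => ?_⟩
  have hs : ∀ q, σ q = tableFun squareTab q := fun q =>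
    idx_injective (by
      have := hr q
      have hv : app squareTab (idx q) < 24 :=
        (by decide +kernel : ∀ q : GolayPt, app squareTab (idx q) < 24) q
      rw [tableFun, idx_pt hv]
      exact this.symm)
  rw [hs, hs]
  exact (by decide +kernel : ∀ q, tau (tableFun squareTab q) = tableFun squareTab (tau (tau q))) p

theorem card_centralizer_tau :
    Nat.card (Subgroup.centralizer ({⟨tau, tau_mem⟩} : Set M24)) = 504 := by
  rw [tau_eq_elt, TwoBlockMathieu.card_centralizer M24Data.valid]
  decide +kernel

/-- The centraliser of `tau` in the group of the code has at most 504 elements. -/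
theorem card_centralizer_le :
    Nat.card {σ : Equiv.Perm GolayPt // σ ∈ M24 ∧ Commute σ tau} ≤ 504 := by
  rw [← card_centralizer_tau]
  refine Nat.card_le_card_of_injective (fun σ => ⟨⟨σ.1, σ.2.1⟩,
    Subgroup.mem_centralizer_singleton_iff.2 (Subtype.ext σ.2.2.eq)⟩) fun a b h => ?_
  exact Subtype.ext (congrArg (fun x : Subgroup.centralizer ({⟨tau, tau_mem⟩} : Set M24) =>
    ((x : M24) : Equiv.Perm GolayPt)) h)

theorem class_three : ∀ j : Fin M24Data.cert.cls.length, M24Data.cert.cls[j].r = 3 →
    j = M24Data.ix 0 ∨ j = M24Data.ix 1 := by decide +kernel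

/-- An element of order three is conjugate to `tau`, or centralises a full Sylow subgroup. -/
theorem order_three_cases {g : M24} (hg : orderOf g = 3) :
    IsConj g ⟨tau, tau_mem⟩ ∨ 27 ∣ Nat.card (Subgroup.centralizer ({g} : Set M24)) := by
  have hg1 : g ≠ 1 := fun h => by rw [h, orderOf_one] at hg; omega
  obtain ⟨i, hi⟩ := exists_isConj_elt M24Data.valid (by rw [hg]; decide) hg1
  obtain ⟨c, hc⟩ := isConj_iff.1 hi
  have hr : M24Data.cert.cls[i].r = 3 := by
    rw [← orderOf_elt M24Data.valid i, ← hc, ← MulAut.conj_apply, MulEquiv.orderOf_eq, hg]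
  rcases class_three i hr with h | h
  · left
    rwa [tau_eq_elt, ← h]
  · right
    have hcard : Nat.card (Subgroup.centralizer ({g} : Set M24)) =
        Nat.card (Subgroup.centralizer ({elt M24Data.valid i} : Set M24)) := by
      refine Nat.card_congr (conjEquivOfIff c fun x => ?_).toEquiv
      rw [Subgroup.mem_centralizer_singleton_iff, Subgroup.mem_centralizer_singleton_iff, ← hc]
      constructor
      · intro e
        calc c * x * c⁻¹ * (c * g * c⁻¹) = c * (x * g) * c⁻¹ := by group
          _ = c * g * c⁻¹ * (c * x * c⁻¹) := by rw [e]; group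
      · intro e
        calc x * g = c⁻¹ * (c * x * c⁻¹ * (c * g * c⁻¹)) * c := by group
          _ = g * x := by rw [e]; group
    rw [hcard, TwoBlockMathieu.card_centralizer M24Data.valid, h]
    decide +kernel

/-- The masks of the fixed code words. -/
def fixedMasks : List ℕ :=
  [0, 1041798, 1296699, 1846461, 4383469, 5048171, 5319638, 6213200, 10564015, 11457577, 11729044, 12393746, 14930754, 15480516, 15735417, 16777215]

theorem fixed_mask_check : allBelow 4096 (fun m => push tauTab 24 (codeMask m) != codeMask m ||
    fixedMasks.contains (codeMask m)) = true := by decide +kernel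

theorem fixed_mask (m : ℕ) (hm : m < 4096) (h : push tauTab 24 (codeMask m) = codeMask m) :
    codeMask m ∈ fixedMasks := by
  have := allBelow_iff.1 fixed_mask_check m hm
  simpa [h] using this

/-- A supported set invariant under `tau` is one of the sixteen. -/
theorem fixed_support {c : Finset GolayPt}
    (hc : c ∈ supports (golayCode : Set (GolayPt → ZMod 2))) (h : ∀ p, tau p ∈ c ↔ p ∈ c) :
    ∃ M ∈ fixedMasks, c = setOf24 M := by
  rw [supports_eq] at hc
  obtain ⟨M, hM, rfl⟩ := hc
  have hM' : isCode M = true := hM
  obtain ⟨m, hm, rfl⟩ := exists_codeMask hM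
  refine ⟨_, fixed_mask m hm (Nat.eq_of_testBit_eq fun i => ?_), rfl⟩
  rw [Bool.eq_iff_iff, testBit_push]
  constructor
  · rintro ⟨j, hj, hb, rfl⟩
    have hp : pt j ∈ setOf24 (codeMask m) := mem_setOf24.2 (by rwa [idx_pt hj])
    have := (h (pt j)).2 hp
    rw [mem_setOf24, show idx (tau (pt j)) = app tauTab (idx (pt j)) from (tau_rep (pt j)).symm,
      idx_pt hj] at this
    exact this
  · intro hb
    have hi : i < 24 := by
      by_contra hc'
      rw [Nat.testBit_lt_two_pow ((isCode_lt hM).trans_le
        (Nat.pow_le_pow_right (by norm_num) (by omega)))] at hb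
      exact Bool.false_ne_true hb
    obtain ⟨p, hp⟩ := tau.surjective (pt i)
    have hmem : p ∈ setOf24 (codeMask m) := (h p).1 (by rw [hp, mem_setOf24, idx_pt hi]; exact hb)
    refine ⟨idx p, idx_lt p, mem_setOf24.1 hmem, ?_⟩
    have : app tauTab (idx p) = idx (tau p) := tau_rep p
    rwa [hp, idx_pt hi] at this

end CfsgLib.MonsterType.Three
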