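import Cfsg.Agent.MonsterType.FiveClasses
import Cfsg.Agent.MonsterType.ThreeElement

/-!
# The classes of the lattice modulo two fixed by an element of order three
-/

set_option autoImplicit false

namespace CfsgLib.MonsterType

open Cfsg CfsgLib.Leech CfsgLib.Mathieu

namespace Three

open Five (halfB cong_of_half Acts exists_acts selSum selSum_xor smul_selSum mono_inj)

/-! ### The element -/

/-- The monomial element of order three. -/
noncomputable def T : Co0 := monoCo0 tau tau_mem ∅ Spor.empty_mem_supports_golayCode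

/-- Its centraliser. -/
noncomputable def C0 : Subgroup Co0 := Subgroup.centralizer {T}

theorem T_smul (v : leechLattice) (p : GolayPt) :
    ((T • v : leechLattice) : GolayPt → ℤ) p = (v : GolayPt → ℤ) (tau p) := by
  rw [T, monoCo0_smul]; simp [monoFun]

theorem T_pow_three : T ^ 3 = 1 := by
  refine co0_ext fun v => Subtype.ext (funext fun p => ?_)
  simp only [pow_succ, pow_zero, one_mul, mul_smul, one_smul, T_smul]
  rw [tau_three]

theorem T_ne_one : T ≠ 1 := fun h => by
  have := congrFun (congrArg (fun v : leechLattice => (v : GolayPt → ℤ))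
    (congrArg (fun g : Co0 => g • eightL (pt 3)) h)) (pt 3)
  simp only [T_smul, one_smul] at this
  exact absurd this (by decide +kernel)

theorem orderOf_T : orderOf T = 3 :=
  haveI : Fact (Nat.Prime 3) := ⟨Nat.prime_three⟩
  orderOf_eq_prime T_pow_three T_ne_one

theorem T_mem_classStab : T ∈ classStab frameV := monoCo0_mem_classStab _ _

theorem acts_T : Acts T (Mv.act (.mono tauTab 0)) := fun x => funext fun p => by
  rw [T_smul, Mv.act, vec_map_range, Nat.zero_testBit,
    show app tauTab (idx p) = idx (tau p) from tau_rep p]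
  exact (congrFun (vec_toList (x : GolayPt → ℤ)) (tau p)).symm

/-- A check that a list map commutes with the element on a set of vectors. -/
noncomputable def commB (f : List ℤ → List ℤ) (y : GolayPt → ℤ) : Bool :=
  decide (∀ p, vec (f (toList fun q => y (tau q))) p = vec (f (toList y)) (tau p))

theorem commute_T {g : Co0} {f : List ℤ → List ℤ} (hg : Acts g f)
    (h1 : commB f oddVec = true) (h2 : ∀ r ∈ codeRows, commB f (twiceMask r) = true)
    (h3 : ∀ p : ZMod 23, commB f (pairVec p 1) = true ∧ commB f (pairVec p (-1)) = true) :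
    g ∈ C0 := by
  have key : ∀ y ∈ genSet, commB f y = true := by
    intro y hy
    rcases hy with (rfl | ⟨r, hr, rfl⟩) | ⟨p, t, rfl | rfl, rfl⟩
    exacts [h1, h2 r hr, (h3 p).1, (h3 p).2]
  refine Subgroup.mem_centralizer_singleton_iff.2 (co0_ext fun v => ?_)
  obtain ⟨x, hx⟩ := v
  refine (AddSubgroup.closure_induction
    (p := fun y _ => ∀ hy : y ∈ leechLattice,
      (g * T) • (⟨y, hy⟩ : leechLattice) = (T * g) • ⟨y, hy⟩) ?_ ?_ ?_ ?_
    (mem_closure_genSet hx)) hx
  · intro y hy hy'
    refine Subtype.ext (funext fun p => ?_)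
    have := key y hy
    simp only [commB, decide_eq_true_eq] at this
    rw [mul_smul, mul_smul, T_smul, hg, hg, ← this p]
    congr 3
    try exact funext fun q => T_smul ⟨y, hy'⟩ q
  · intro _
    show (co0Hom (g * T)) 0 = co0Hom (T * g) 0
    rw [map_zero, map_zero]
  · intro a b ha hb iha ihb hab
    have hmem : ∀ c ∈ AddSubgroup.closure genSet, c ∈ leechLattice := fun c hc =>
      (AddSubgroup.closure_le _).2 (fun y hy => (genSet_spec y hy).1) hc
    have e : (⟨a + b, hab⟩ : leechLattice) = ⟨a, hmem a ha⟩ + ⟨b, hmem b hb⟩ := rfl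
    rw [e, co0_add, co0_add, iha, ihb]
  · intro a ha iha hab
    have hma : a ∈ leechLattice := (AddSubgroup.closure_le _).2 (fun y hy => (genSet_spec y hy).1) ha
    have e : (⟨-a, hab⟩ : leechLattice) = -⟨a, hma⟩ := rfl
    rw [e, co0_neg, co0_neg, iha]

/-! ### The classes -/

/-- The basis of the fixed classes. -/
def basisL : List (List ℤ) :=
  [
    [-2, -2, -2, -2, 0, -2, 0, -2, -2, 0, 0, 0, -2, -2, 0, 0, -2, 0, 0, 0, 0, -2, 0, -2],
    [-2, -2, 0, -2, -2, -2, 0, 0, -2, 0, 0, -2, 0, 0, -2, -2, -2, -2, 0, 0, -2, 0, 0, 0],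
    [-2, -2, 0, -2, 0, -2, -2, 0, -2, -2, -2, 0, 0, 0, 0, 0, -2, 0, -2, -2, 0, 0, -2, 0],
    [-2, -2, 0, -2, 0, -2, 2, 0, -2, 2, 2, 0, 0, 0, 0, 0, -2, 0, 2, 2, 0, 0, 2, 0],
    [-2, 0, -2, -2, -2, -2, 0, -2, 0, 0, -2, -2, 0, -2, 0, 0, 0, 0, -2, -2, -2, 0, 0, 0],
    [-2, 0, -2, -2, 0, -2, -2, -2, 0, -2, 0, 0, 0, -2, -2, -2, 0, -2, 0, 0, 0, 0, -2, 0],
    [-2, 0, 0, -2, -2, -2, -2, 0, 0, -2, 0, -2, -2, 0, 0, 0, 0, 0, 0, 0, -2, -2, -2, -2],
    [-3, -1, -1, -3, -1, -3, -1, -1, -1, -1, 1, -1, 1, -1, 1, 1, -1, 1, 1, 1, -1, 1, -1, 1]]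

theorem basisL_mem : ∀ i : Fin 8, leechB (vec (basisL.getD i [])) = true := by decide +kernel

/-- The basis vectors. -/
def bv (i : Fin 8) : leechLattice := ⟨vec (basisL.getD i []), leechB_iff.1 (basisL_mem i)⟩

/-- The class number `k`. -/
def cls (k : Fin 256) : leechLattice := selSum (List.ofFn bv) k

theorem cls_zero : cls 0 = 0 := by
  refine Subtype.ext (funext ?_)
  decide +kernel

theorem cls_add (j k : Fin 256) :
    Cong (cls j + cls k) (cls ⟨(j : ℕ) ^^^ k, Nat.xor_lt_two_pow (n := 8) j.2 k.2⟩) :=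
  selSum_xor _ _ _

theorem cls_fixed (k : Fin 256) : T • cls k = cls k := by
  refine Subtype.ext (funext fun p => ?_)
  rw [T_smul]
  exact (by decide +kernel : ∀ (k : Fin 256) (p : GolayPt),
    (cls k : GolayPt → ℤ) (tau p) = (cls k : GolayPt → ℤ) p) k p

/-- The parities of the products with the basis. -/
def parity (v : GolayPt → ℤ) : ℕ :=
  (List.finRange 8).foldr (fun i acc =>
    (if (16 : ℤ) ∣ dotInt v (bv i : GolayPt → ℤ) then 0 else 1) + 2 * acc) 0

theorem parity_congr {v w : leechLattice} (h : Cong v w) :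
    parity (v : GolayPt → ℤ) = parity (w : GolayPt → ℤ) := by
  simp only [parity, dot_dvd_of_cong h]

/-- The number of a class, from the parities. -/
def idxFun (v : GolayPt → ℤ) : Fin 256 :=
  ⟨xorSel [138, 137, 120, 247, 108, 92, 60, 11] (parity v) % 256, Nat.mod_lt _ (by norm_num)⟩

/-- The number of the class of a lattice vector. -/
def clsIdx (v : leechLattice) : Fin 256 := idxFun v

theorem clsIdx_cls : ∀ k, clsIdx (cls k) = k := by decide +kernel

theorem clsIdx_congr {v w : leechLattice} (h : Cong v w) : clsIdx v = clsIdx w :=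
  Fin.ext (by simp only [clsIdx, idxFun, parity_congr h])

theorem cls_nondeg : ∀ k : Fin 256, k ≠ 0 →
    ∃ i : Fin 8, ¬ (16 : ℤ) ∣ dotInt (cls k : GolayPt → ℤ) (bv i : GolayPt → ℤ) := by decide +kernel

theorem bv_eq_cls : ∀ i : Fin 8, ∀ p, (bv i : GolayPt → ℤ) p =
    (cls ⟨2 ^ (i : ℕ), Nat.pow_lt_pow_right (by norm_num) i.2⟩ : GolayPt → ℤ) p := by
  decide +kernel

/-- The sum of a vector over a cycle. -/
noncomputable def spread (y : GolayPt → ℤ) : GolayPt → ℤ := fun p =>
  y p + y (tau p) + y (tau (tau p))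

theorem spread_class : ∀ y ∈ genSet, ∃ k : Fin 256, ∀ hy : spread y ∈ leechLattice,
    Cong (⟨spread y, hy⟩ : leechLattice) (cls k) := by
  have h1 : halfB (fun p => spread oddVec p -
      (cls (idxFun (spread oddVec)) : GolayPt → ℤ) p) = true := by decide +kernel
  have h2 : ∀ r ∈ codeRows, halfB (fun p => spread (twiceMask r) p -
      (cls (idxFun (spread (twiceMask r))) : GolayPt → ℤ) p) = true := by decide +kernel
  have h3 : ∀ q : ZMod 23, halfB (fun p => spread (pairVec q 1) p -
      (cls (idxFun (spread (pairVec q 1))) : GolayPt → ℤ) p) = true ∧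
      halfB (fun p => spread (pairVec q (-1)) p -
      (cls (idxFun (spread (pairVec q (-1)))) : GolayPt → ℤ) p) = true := by decide +kernel
  intro y hy
  refine ⟨idxFun (spread y), fun _ => cong_of_half ?_⟩
  rcases hy with (rfl | ⟨r, hr, rfl⟩) | ⟨p, t, rfl | rfl, rfl⟩
  exacts [h1, h2 r hr, (h3 p).1, (h3 p).2]

/-- The sum of the images under the powers of the element. -/
noncomputable def orbitSum : leechLattice →+ leechLattice :=
  AddMonoidHom.mk' (fun v => v + T • v + T • T • v) fun a b => by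
    simp only [co0_add]; abel

theorem orbitSum_coe (v : leechLattice) :
    ((orbitSum v : leechLattice) : GolayPt → ℤ) = spread (v : GolayPt → ℤ) := funext fun p => by
  simp only [orbitSum, AddMonoidHom.mk'_apply, AddSubgroup.coe_add, Pi.add_apply, T_smul, spread]

theorem orbitSum_class (v : leechLattice) : ∃ k : Fin 256, Cong (orbitSum v) (cls k) := by
  obtain ⟨x, hx⟩ := v
  have hmem : ∀ c ∈ AddSubgroup.closure genSet, c ∈ leechLattice := fun c hc =>
    (AddSubgroup.closure_le _).2 (fun y hy => (genSet_spec y hy).1) hc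
  refine (AddSubgroup.closure_induction
    (p := fun y _ => ∀ hy : y ∈ leechLattice, ∃ k : Fin 256, Cong (orbitSum ⟨y, hy⟩) (cls k))
    ?_ ?_ ?_ ?_ (mem_closure_genSet hx)) hx
  · intro y hy hy'
    obtain ⟨k, hk⟩ := spread_class y hy
    have hs : spread y ∈ leechLattice := orbitSum_coe ⟨y, hy'⟩ ▸ (orbitSum ⟨y, hy'⟩).2
    exact ⟨k, (show orbitSum ⟨y, hy'⟩ = ⟨spread y, hs⟩ from Subtype.ext (orbitSum_coe _)) ▸ hk hs⟩
  · intro h0
    exact ⟨0, by rw [cls_zero, show (⟨0, h0⟩ : leechLattice) = 0 from rfl, map_zero]; exact Cong.refl _⟩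
  · intro a b ha hb iha ihb hab
    obtain ⟨j, hj⟩ := iha (hmem a ha)
    obtain ⟨k, hk⟩ := ihb (hmem b hb)
    refine ⟨_, Cong.trans ?_ (cls_add j k)⟩
    rw [show (⟨a + b, hab⟩ : leechLattice) = ⟨a, hmem a ha⟩ + ⟨b, hmem b hb⟩ from rfl, map_add]
    exact hj.add hk
  · intro a ha iha hab
    obtain ⟨j, hj⟩ := iha (hmem a ha)
    refine ⟨j, Cong.trans ?_ hj⟩
    rw [show (⟨-a, hab⟩ : leechLattice) = -⟨a, hmem a ha⟩ from rfl, map_neg]
    exact Cong.neg _

/-- A class fixed by the element is one of the 256. -/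
theorem cls_complete {v : leechLattice} (h : Cong (T • v) v) : Cong v (cls (clsIdx v)) := by
  obtain ⟨k, hk⟩ := orbitSum_class v
  have h2 := (h.smul T).trans h
  have hsum : Cong (orbitSum v) v :=
    Cong.trans (((Cong.refl v).add h).add h2) ⟨v, by abel⟩
  have hvk : Cong v (cls k) := hsum.symm.trans hk
  rwa [clsIdx_congr hvk, clsIdx_cls]

/-! ### The action of the centraliser -/

/-- The image of a class. -/
def act (g : Co0) (k : Fin 256) : Fin 256 := clsIdx (g • cls k)

theorem act_spec {g : Co0} (hg : g ∈ C0) (k : Fin 256) : Cong (g • cls k) (cls (act g k)) := by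
  refine cls_complete ?_
  rw [← mul_smul, ← Subgroup.mem_centralizer_singleton_iff.1 hg, mul_smul, cls_fixed]
  exact Cong.refl _

theorem act_eq_of_cong {g : Co0} {k j : Fin 256} (h : Cong (g • cls k) (cls j)) : act g k = j := by
  rw [act, clsIdx_congr h, clsIdx_cls]

theorem act_one (k : Fin 256) : act 1 k = k := by
  rw [act, one_smul, clsIdx_cls]

theorem act_mul {g h : Co0} (hg : g ∈ C0) (hh : h ∈ C0) (k : Fin 256) :
    act (g * h) k = act g (act h k) := by
  refine act_eq_of_cong ?_
  rw [mul_smul]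
  exact ((act_spec hh k).smul g).trans (act_spec hg _)

theorem act_injective {g : Co0} (hg : g ∈ C0) : Function.Injective (act g) := fun a b h => by
  have := congrArg (act g⁻¹) h
  rwa [← act_mul (inv_mem hg) hg, ← act_mul (inv_mem hg) hg, inv_mul_cancel, act_one, act_one] at this

theorem act_zero (g : Co0) : act g 0 = 0 := by
  have h : g • (0 : leechLattice) = 0 := map_zero (co0Hom g)
  rw [act, cls_zero, h, ← cls_zero, clsIdx_cls]

/-- The images of the classes under an element, from those of the basis. -/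
def linTab (ms : List ℕ) (k : Fin 256) : Fin 256 :=
  ⟨xorSel ms k % 256, Nat.mod_lt _ (by norm_num)⟩

theorem selSum_classes : ∀ (l : List leechLattice) (ms : List ℕ) (m : ℕ),
    List.Forall₂ (fun v c => ∃ h : c < 256, Cong v (cls ⟨c, h⟩)) l ms →
    ∃ h : xorSel ms m < 256, Cong (selSum l m) (cls ⟨xorSel ms m, h⟩)
  | _, _, _, .nil => ⟨(by norm_num : (0 : ℕ) < 256), by
      show Cong (0 : leechLattice) (cls 0)
      rw [cls_zero]; exact Cong.refl _⟩
  | _, _, m, .cons (a := v) (b := c) (l₁ := vs) (l₂ := cs) ⟨hc, hv⟩ hl => by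
    obtain ⟨h, hh⟩ := selSum_classes vs cs (m / 2) hl
    simp only [selSum, xorSel]
    by_cases hm : m % 2 = 1
    · simp only [hm, if_true]
      exact ⟨Nat.xor_lt_two_pow (n := 8) hc h, (hv.add hh).trans (cls_add ⟨c, hc⟩ ⟨_, h⟩)⟩
    · simp only [hm, if_false]
      simp only [zero_add, Nat.zero_xor]
      exact ⟨h, hh⟩

theorem act_eq_linTab {g : Co0} {f : List ℤ → List ℤ} (hg : Acts g f) {ms : List ℕ}
    (hlen : ms.length = 8) (hlt : ∀ i : Fin 8, ms.getD i 0 < 256)
    (h : ∀ i : Fin 8, halfB (fun p => vec (f (toList (bv i : GolayPt → ℤ))) p -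
      (cls ⟨ms.getD i 0 % 256, Nat.mod_lt _ (by norm_num)⟩ : GolayPt → ℤ) p) = true) (k : Fin 256) :
    act g k = linTab ms k := by
  have hF : List.Forall₂ (fun v c => ∃ h : c < 256, Cong v (cls ⟨c, h⟩))
      ((List.ofFn bv).map fun v => g • v) ms := by
    refine List.forall₂_iff_get.2 ⟨by simp [hlen], fun i h1 h2 => ?_⟩
    have hi : i < 8 := hlen ▸ h2
    have hge : ms.getD i 0 = ms.get ⟨i, h2⟩ := by
      simp [List.getD_eq_getElem?_getD, List.getElem?_eq_getElem h2]
    refine ⟨hge ▸ hlt ⟨i, hi⟩, ?_⟩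
    have hv : ((List.ofFn bv).map fun v => g • v).get ⟨i, h1⟩ = g • bv ⟨i, hi⟩ := by
      rw [List.get_eq_getElem, List.getElem_map, List.getElem_ofFn]
    rw [hv]
    refine cong_of_half ?_
    rw [hg]
    have e : (⟨ms.get ⟨i, h2⟩, hge ▸ hlt ⟨i, hi⟩⟩ : Fin 256) =
        ⟨ms.getD i 0 % 256, Nat.mod_lt _ (by norm_num)⟩ :=
      Fin.ext (hge.symm.trans (Nat.mod_eq_of_lt (hlt ⟨i, hi⟩)).symm)
    rw [e]
    exact h ⟨i, hi⟩
  obtain ⟨h', hc⟩ := selSum_classes _ _ (k : ℕ) hF
  rw [← smul_selSum] at hc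
  rw [act_eq_of_cong (j := ⟨_, h'⟩) hc]
  exact Fin.ext (Nat.mod_eq_of_lt h').symm

/-! ### The order of the centraliser -/

theorem frame_cls : Cong frameV (cls 11) := cong_of_half (by decide +kernel)

theorem frame_cong_T : Cong (T • frameV) frameV := mem_classStab.1 T_mem_classStab

theorem card_frame_stab_le : Nat.card (classStab frameV ⊓ C0 : Subgroup Co0) ≤ 504 * 16 := by
  classical
  have key : ∀ g : (classStab frameV ⊓ C0 : Subgroup Co0), ∃ x : {σ : Equiv.Perm GolayPt // σ ∈ M24 ∧
      Commute σ tau} × {M : ℕ // M ∈ fixedMasks}, ∀ v : leechLattice,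
      (((g : Co0) • v : leechLattice) : GolayPt → ℤ) = monoFun x.1.1 (setOf24 x.2.1) v := by
    rintro ⟨g, hgS, hgC⟩
    obtain ⟨σ, hσ, c, hc, rfl⟩ := eq_monoCo0 (preservesCross_of_classStab hgS)
    have hcomm := Subgroup.mem_centralizer_singleton_iff.1 hgC
    have hc' : c.image tau.symm ∈ supports (golayCode : Set (GolayPt → ZMod 2)) :=
      setSystemAut_image_mem (inv_mem tau_mem) hc
    have e1 : monoCo0 σ hσ c hc * T = monoCo0 (tau * σ) (mul_mem tau_mem hσ) c hc := by
      refine co0_ext fun v => Subtype.ext (funext fun p => ?_)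
      rw [mul_smul, monoCo0_smul, monoCo0_smul]
      simp only [monoFun, T_smul, Equiv.Perm.mul_apply]
    have e2 : T * monoCo0 σ hσ c hc =
        monoCo0 (σ * tau) (mul_mem hσ tau_mem) (c.image tau.symm) hc' := by
      refine co0_ext fun v => Subtype.ext (funext fun p => ?_)
      rw [mul_smul, T_smul, monoCo0_smul, monoCo0_smul]
      have hiff : p ∈ c.image tau.symm ↔ tau p ∈ c := by
        rw [Finset.mem_image]
        exact ⟨fun ⟨q, hq, e⟩ => by rw [← e, Equiv.apply_symm_apply]; exact hq,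
          fun h => ⟨_, h, Equiv.symm_apply_apply _ _⟩⟩
      simp only [monoFun, Equiv.Perm.mul_apply, hiff]
    rw [e1, e2] at hcomm
    obtain ⟨hp, hs⟩ := mono_inj hcomm
    have hinv : ∀ p, tau p ∈ c ↔ p ∈ c := fun p => by
      conv_rhs => rw [hs, Finset.mem_image]
      exact ⟨fun h => ⟨_, h, Equiv.symm_apply_apply _ _⟩,
        fun ⟨q, hq, e⟩ => by rw [← e, Equiv.apply_symm_apply]; exact hq⟩
    obtain ⟨M, hM, rfl⟩ := fixed_support hc hinv
    exact ⟨(⟨σ, hσ, hp.symm⟩, ⟨M, hM⟩), fun v => monoCo0_smul σ hσ _ hc v⟩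
  choose f hf using key
  have hfi : Function.Injective f := fun a b h => by
    refine Subtype.ext (co0_ext fun v => Subtype.ext ?_)
    rw [hf, hf, h]
  refine (Nat.card_le_card_of_injective f hfi).trans ?_
  rw [Nat.card_prod]
  refine Nat.mul_le_mul card_centralizer_le ?_
  let F : {M : ℕ // M ∈ fixedMasks} → fixedMasks.toFinset := fun M => ⟨M.1, List.mem_toFinset.2 M.2⟩
  refine (Nat.card_le_card_of_injective F fun a b h => Subtype.ext (congrArg Subtype.val h :)).trans ?_
  rw [Nat.card_eq_finsetCard]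
  exact (List.toFinset_card_le _).trans le_rfl

/-- The classes which can hold a vector of a cross. -/
def singular : Finset (Fin 256) :=
  Finset.univ.filter fun k => k ≠ 0 ∧ (32 : ℤ) ∣ sqNorm (cls k : GolayPt → ℤ)

theorem card_singular : singular.card = 135 := by decide +kernel

theorem act_frame_singular {g : Co0} (hg : g ∈ C0) : act g 11 ∈ singular := by
  refine Finset.mem_filter.2 ⟨Finset.mem_univ _, fun h => ?_, ?_⟩
  · rw [← act_zero g] at h
    exact absurd (act_injective hg h) (by decide)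
  · rw [← norm_dvd_of_cong (act_spec hg 11), co0_norm]
    exact (by decide +kernel : (32 : ℤ) ∣ sqNorm (cls 11 : GolayPt → ℤ))

theorem card_C0_le : Nat.card C0 ≤ 135 * (504 * 16) := by
  haveI := co0_finite
  let K : Subgroup C0 := (classStab frameV ⊓ C0).subgroupOf C0
  have hK : Nat.card K = Nat.card (classStab frameV ⊓ C0 : Subgroup Co0) :=
    Nat.card_congr (Subgroup.subgroupOfEquivOfLe inf_le_right).toEquiv
  have hiff : ∀ g : C0, g ∈ K ↔ act g 11 = 11 := by
    intro g
    constructor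
    · intro h
      refine act_eq_of_cong ?_
      exact ((frame_cls.symm.smul _).trans (mem_classStab.1 h.1)).trans frame_cls
    · intro h
      refine ⟨mem_classStab.2 ?_, g.2⟩
      have := act_spec g.2 11
      rw [h] at this
      exact ((frame_cls.smul _).trans this).trans frame_cls.symm
  have hrel : ∀ a b : C0, (a : Co0)⁻¹ * b ∈ classStab frameV ⊓ C0 ↔ act a 11 = act b 11 := by
    intro a b
    rw [show (a : Co0)⁻¹ * b ∈ classStab frameV ⊓ C0 ↔ a⁻¹ * b ∈ K from Iff.rfl, hiff,
      Subgroup.coe_mul, Subgroup.coe_inv, act_mul (inv_mem a.2) b.2]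
    constructor
    · intro h
      have := congrArg (act (a : Co0)) h
      rwa [← act_mul a.2 (inv_mem a.2), mul_inv_cancel, act_one, eq_comm] at this
    · intro h
      rw [← h, ← act_mul (inv_mem a.2) a.2, inv_mul_cancel, act_one]
  let f : C0 ⧸ K → singular := Quotient.lift (fun g : C0 => ⟨act g 11, act_frame_singular g.2⟩)
    fun a b h => Subtype.ext ((hrel a b).1 (show a⁻¹ * b ∈ K from QuotientGroup.leftRel_apply.1 h))
  have hf : Function.Injective f := by
    intro a b
    induction a using QuotientGroup.induction_on with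
    | H a =>
      induction b using QuotientGroup.induction_on with
      | H b => exact fun h => QuotientGroup.eq.2 ((hrel a b).2 (congrArg Subtype.val h :))
  rw [Subgroup.card_eq_card_quotient_mul_card_subgroup K, hK]
  refine Nat.mul_le_mul ((Nat.card_le_card_of_injective f hf).trans ?_) card_frame_stab_le
  rw [Nat.card_eq_finsetCard, card_singular]

end Three

end CfsgLib.MonsterType
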