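import Cfsg.Agent.MonsterType.ThreeFixClasses
import Cfsg.Agent.Leech.U43.PermImage
import Cfsg.Agent.Leech.U43.Data

/-!
# Kernel checks for the centraliser of the element of order three
-/

set_option autoImplicit false
set_option maxRecDepth 100000

namespace CfsgLib.MonsterType.ThreeFix

open Cfsg CfsgLib.Leech CfsgLib.Mathieu CfsgLib.Mathieu.Schreier
open CfsgLib.Leech.U43 (lowOK)

/-- The moves of a generator. -/
def moves (j : Fin 4) : List Mv := Data.gMoves.getD j []

theorem moves_ok : ∀ j : Fin 4, (moves j).all Mv.ok = true := by decide +kernel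

theorem moves_comm_odd : ∀ j : Fin 4, commB (runMoves (moves j)) oddVec = true := by decide +kernel

theorem moves_comm_rows : ∀ j : Fin 4, ∀ r ∈ codeRows,
    commB (runMoves (moves j)) (twiceMask r) = true := by decide +kernel

theorem moves_comm_pairs : ∀ j : Fin 4, ∀ p : ZMod 23,
    commB (runMoves (moves j)) (pairVec p 1) = true ∧
      commB (runMoves (moves j)) (pairVec p (-1)) = true := by decide +kernel

theorem moves_lin : ∀ j : Fin 4,
    (bvs.map fun v : leechLattice => idxOn idxPairs (vec (runMoves (moves j) (toList (v : GolayPt → ℤ))))) =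
      Data.gLin.getD j [] := by decide +kernel

/-! ### The triples -/

/-- A triple as a set of classes. -/
def line (i : Fin 126) : Finset (Fin 4096) :=
  ((Data.triples.getD i.val []).map fun n => (⟨n % 4096, Nat.mod_lt _ (by norm_num)⟩ : Fin 4096)).toFinset

theorem line_injective : Function.Injective line := by
  have : ∀ i j, line i = line j → i = j := by decide +kernel
  exact fun i j => this i j

/-- The map of the triples given by a generator. -/
def qFun (j : Fin 4) (x : Fin 126) : Fin 126 :=
  ⟨app (Data.qsP.getD j 0) x % 126, Nat.mod_lt _ (by norm_num)⟩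

theorem qFun_injective : ∀ j, Function.Injective (qFun j) := by
  have h : ∀ j, ((List.finRange 126).map (qFun j)).Nodup := by decide +kernel
  intro j a b e
  have := (h j).getElem_inj_iff (i := a.1) (j := b.1) (hi := by simp) (hj := by simp)
  exact Fin.ext (this.1 (by simpa using e))

theorem qFun_app : ∀ (j : Fin 4) (x : Fin 126), app (Data.qsP.getD j 0) x = qFun j x := by decide +kernel

theorem qFun_lines : ∀ (j : Fin 4) (i : Fin 126),
    (line i).image (linTab (Data.gLin.getD j [])) = line (qFun j i) := by decide +kernel

theorem qsP_eq : Data.qsP = (List.finRange 4).map fun j : Fin 4 => Data.qsP.getD j 0 := by decide +kernel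

theorem triple_word : ∀ x : Fin 126,
    Data.tripleWord.foldr (fun j y => qFun ⟨j % 4, Nat.mod_lt _ (by norm_num)⟩ y) x = x := by
  decide +kernel

/-- The image of a class under the word fixing all triples. -/
def wordAct (k : Fin 4096) : Fin 4096 :=
  Data.tripleWord.foldr (fun j y => linTab (Data.gLin.getD (j % 4) []) y) k

theorem word_act_moves : wordAct 2 ≠ 2 ∧ wordAct (wordAct 2) ≠ 2 ∧ wordAct (wordAct 2) ≠ wordAct 2 := by
  decide +kernel

/-! ### The chains -/

theorem chainP_low : lowOK 126 Data.chainP = true := by decide +kernel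

theorem chainP_order : (Data.chainP.map fun L => L.trans.length).prod = 6531840 := by decide +kernel

theorem chainP_slp :
    (let env := slp 126 Data.qsP Data.stepsP
     Data.chainP.all (fun L => L.gens.all fun t => env.contains t) &&
      Data.pairGens.all fun t => env.contains t) = true := by
  decide +kernel

/-- The transpositions making up the first generator. -/
def swaps : List (Fin 126 × Fin 126) :=
  Data.oddSwaps.map fun t => (⟨t.1 % 126, Nat.mod_lt _ (by norm_num)⟩, ⟨t.2 % 126, Nat.mod_lt _ (by norm_num)⟩)

theorem swap_prod_apply (l : List (Fin 126 × Fin 126)) (x : Fin 126) :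
    (l.map fun t => Equiv.swap t.1 t.2).prod x =
      l.foldr (fun t y => if y = t.1 then t.2 else if y = t.2 then t.1 else y) x := by
  induction l with
  | nil => rfl
  | cons t l ih =>
    rw [List.map_cons, List.prod_cons, Equiv.Perm.mul_apply, ih, List.foldr_cons, Equiv.swap_apply_def]

theorem swaps_fold : ∀ x : Fin 126,
    swaps.foldr (fun t y => if y = t.1 then t.2 else if y = t.2 then t.1 else y) x = qFun 0 x := by
  decide +kernel

theorem swaps_odd : swaps.length % 2 = 1 ∧ (∀ t ∈ swaps, t.1 ≠ t.2) ∧
    ∀ x, (swaps.map fun t => Equiv.swap t.1 t.2).prod x = qFun 0 x :=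
  ⟨by decide +kernel, by decide +kernel, fun x => (swap_prod_apply swaps x).trans (swaps_fold x)⟩

theorem pair_orders : allBelow 126 (fun x =>
    ((List.range 7).foldl (fun y _ => app (Data.pairGens.getD 0 0) y) x == x) &&
      ((List.range 5).foldl (fun y _ => app (Data.pairGens.getD 1 0) y) x == x)) = true := by
  decide +kernel

theorem pair_sets : ∀ i : Fin 2, allBelow 112 (fun j =>
    Nat.blt (app (CfsgLib.Leech.U43Data.qs.getD i 0) j) 112 && allBelow 126 fun x =>
      Nat.blt (app (Data.pairGens.getD i 0) x) 126 &&
        (Data.sets112.getD (app (CfsgLib.Leech.U43Data.qs.getD i 0) j) 0).testBit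
          (app (Data.pairGens.getD i 0) x) == (Data.sets112.getD j 0).testBit x) = true := by
  decide +kernel

theorem stab_fix : ∀ x : Fin 126, (∀ t ∈ topGens Data.chainP.tail, app t x = x) → x = 0 := by
  decide +kernel

theorem level_transitive : Data.chainP0.base = 0 ∧
    ∀ x : Fin 126, ∃ t ∈ Data.chainP0.trans, app t.1 0 = x := by decide +kernel

end CfsgLib.MonsterType.ThreeFix
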