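import Cfsg.Agent.Leech.Co0
import Cfsg.Agent.TwoBlockMathieu.M24Block
import Cfsg.Agent.MonsterType.ThreeFixData

/-!
# An element of order three of the group of the code with six fixed points
-/

set_option autoImplicit false

namespace CfsgLib.MonsterType.ThreeFix

open Cfsg CfsgLib.Leech CfsgLib.Mathieu CfsgLib.TwoBlockMathieu

theorem tauTab_valid : tableValid Data.tauTab = true := by decide +kernel

/-- The element of order three. -/
noncomputable def tau : Equiv.Perm GolayPt :=
  Equiv.ofBijective (tableFun Data.tauTab) (tableFun_bijective tauTab_valid)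

theorem tau_rep : Rep enc tau Data.tauTab := fun p => by
  have h := tauTab_valid
  simp only [tableValid, Bool.and_eq_true, allBelow_iff, Nat.blt_eq] at h
  exact (idx_pt (h.1 _ (idx_lt p))).symm

theorem tau_mem : tau ∈ M24 := mem_M24_of_table tau_rep (by decide +kernel)

theorem tau_three : ∀ p, tau (tau (tau p)) = p := by decide +kernel

theorem tau_eq_elt : (⟨tau, tau_mem⟩ : M24) = elt M24Data.valid (M24Data.ix 1) :=
  Subtype.ext (Rep.unique tau_rep (by
    have h := rep_elt M24Data.valid (M24Data.ix 1)
    rwa [show (M24Data.cert.cls[M24Data.ix 1]).a = Data.tauTab from rfl] at h))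

theorem exists_square : ∃ σ ∈ M24, ∀ p, tau (σ p) = σ (tau (tau p)) := by
  obtain ⟨σ, hr⟩ := exists_rep_of_valid (t := Data.squareTab) (by decide +kernel)
  refine ⟨σ, mem_M24_of_table hr (by decide +kernel), fun p => ?_⟩
  have hs : ∀ q, σ q = tableFun Data.squareTab q := fun q =>
    idx_injective (by
      have := hr q
      have hv : app Data.squareTab (idx q) < 24 :=
        (by decide +kernel : ∀ q : GolayPt, app Data.squareTab (idx q) < 24) q
      rw [tableFun, idx_pt hv]
      exact this.symm)
  rw [hs, hs]
  exact (by decide +kernel : ∀ q, tau (tableFun Data.squareTab q) = tableFun Data.squareTab (tau (tau q))) p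

theorem card_centralizer_tau :
    Nat.card (Subgroup.centralizer ({⟨tau, tau_mem⟩} : Set M24)) = 1080 := by
  rw [tau_eq_elt, TwoBlockMathieu.card_centralizer M24Data.valid]
  decide +kernel

/-- The centraliser of `tau` in the group of the code has at most 1080 elements. -/
theorem card_centralizer_le :
    Nat.card {σ : Equiv.Perm GolayPt // σ ∈ M24 ∧ Commute σ tau} ≤ 1080 := by
  rw [← card_centralizer_tau]
  refine Nat.card_le_card_of_injective (fun σ => ⟨⟨σ.1, σ.2.1⟩,
    Subgroup.mem_centralizer_singleton_iff.2 (Subtype.ext σ.2.2.eq)⟩) fun a b h => ?_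
  exact Subtype.ext (congrArg (fun x : Subgroup.centralizer ({⟨tau, tau_mem⟩} : Set M24) =>
    ((x : M24) : Equiv.Perm GolayPt)) h)

theorem fixed_mask_check : allBelow 4096 (fun m => push Data.tauTab 24 (codeMask m) != codeMask m ||
    Data.fixedMasks.contains (codeMask m)) = true := by decide +kernel

/-- A supported set invariant under `tau` is one of the sixty-four. -/
theorem fixed_support {c : Finset GolayPt}
    (hc : c ∈ supports (golayCode : Set (GolayPt → ZMod 2))) (h : ∀ p, tau p ∈ c ↔ p ∈ c) :
    ∃ M ∈ Data.fixedMasks, c = setOf24 M := by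
  rw [supports_eq] at hc
  obtain ⟨M, hM, rfl⟩ := hc
  have hM' : isCode M = true := hM
  obtain ⟨m, hm, rfl⟩ := exists_codeMask hM
  have hfix : push Data.tauTab 24 (codeMask m) = codeMask m := by
    refine Nat.eq_of_testBit_eq fun i => ?_
    rw [Bool.eq_iff_iff, testBit_push]
    constructor
    · rintro ⟨j, hj, hb, rfl⟩
      have hp : pt j ∈ setOf24 (codeMask m) := mem_setOf24.2 (by rwa [idx_pt hj])
      have := (h (pt j)).2 hp
      rw [mem_setOf24, show idx (tau (pt j)) = app Data.tauTab (idx (pt j)) from (tau_rep (pt j)).symm,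
        idx_pt hj] at this
      exact this
    · intro hb
      have hi : i < 24 := by
        by_contra hc'
        rw [Nat.testBit_lt_two_pow ((isCode_lt hM).trans_le
          (Nat.pow_le_pow_right (by norm_num) (by omega)))] at hb
        exact Bool.false_ne_true hb
      obtain ⟨p, hp⟩ := tau.surjective (pt i)
      have hmem : p ∈ setOf24 (codeMask m) := (h p).1 (by rw [hp, mem_setOf24, idx_pt hi]; exact hb)
      refine ⟨idx p, idx_lt p, mem_setOf24.1 hmem, ?_⟩
      have : app Data.tauTab (idx p) = idx (tau p) := tau_rep p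
      rwa [hp, idx_pt hi] at this
  have := allBelow_iff.1 fixed_mask_check m hm
  exact ⟨_, by simpa [hfix] using this, rfl⟩

end CfsgLib.MonsterType.ThreeFix
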