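import Cfsg.Agent.MonsterType.FiveClasses
import Cfsg.Agent.MonsterType.ThreeFixElement

/-!
# The classes of the lattice modulo two fixed by an element of order three with six fixed points
-/

set_option autoImplicit false
set_option linter.style.haveILetI false
set_option linter.unusedSimpArgs false

namespace CfsgLib.MonsterType

open Cfsg CfsgLib.Leech CfsgLib.Mathieu

namespace ThreeFix

open Five (halfB cong_of_half Acts exists_acts selSum selSum_xor smul_selSum mono_inj)

/-! ### The element -/

/-- The monomial element of order three. -/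
noncomputable def T : Co0 := monoCo0 tau tau_mem ∅ Spor.empty_mem_supports_golayCode

/-- Its centraliser. -/
noncomputable def C0 : Subgroup Co0 := Subgroup.centralizer {T}

theorem T_smul (v : leechLattice) (p : GolayPt) :
    ((T • v : leechLattice) : GolayPt → ℤ) p = (v : GolayPt → ℤ) (tau p) := by
  rw [T, monoCo0_smul]; simp [monoFun]

theorem T_pow_three : T ^ 3 = 1 := by
  refine co0_ext fun v => Subtype.ext (funext fun p => ?_)
  simp only [pow_succ, pow_zero, one_mul, mul_smul, one_smul, T_smul]
  rw [tau_three]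

theorem T_ne_one : T ≠ 1 := fun h => by
  have := congrFun (congrArg (fun v : leechLattice => (v : GolayPt → ℤ))
    (congrArg (fun g : Co0 => g • eightL (pt 1)) h)) (pt 1)
  simp only [T_smul, one_smul] at this
  exact absurd this (by decide +kernel)

theorem orderOf_T : orderOf T = 3 :=
  haveI : Fact (Nat.Prime 3) := ⟨Nat.prime_three⟩
  orderOf_eq_prime T_pow_three T_ne_one

theorem T_mem : T ∈ C0 := Subgroup.mem_centralizer_singleton_iff.2 rfl

theorem neg_mem_C0 : negCo0 ∈ C0 :=
  Subgroup.mem_centralizer_singleton_iff.2 (Subgroup.mem_center_iff.1 negCo0_mem_center T).symm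

theorem T_mem_classStab : T ∈ classStab frameV := monoCo0_mem_classStab _ _

/-- A check that a list map commutes with the element on a set of vectors. -/
noncomputable def commB (f : List ℤ → List ℤ) (y : GolayPt → ℤ) : Bool :=
  decide (∀ p, vec (f (toList fun q => y (tau q))) p = vec (f (toList y)) (tau p))

theorem commute_T {g : Co0} {f : List ℤ → List ℤ} (hg : Acts g f)
    (h1 : commB f oddVec = true) (h2 : ∀ r ∈ codeRows, commB f (twiceMask r) = true)
    (h3 : ∀ p : ZMod 23, commB f (pairVec p 1) = true ∧ commB f (pairVec p (-1)) = true) :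
    g ∈ C0 := by
  have key : ∀ y ∈ genSet, commB f y = true := by
    intro y hy
    rcases hy with (rfl | ⟨r, hr, rfl⟩) | ⟨p, t, rfl | rfl, rfl⟩
    exacts [h1, h2 r hr, (h3 p).1, (h3 p).2]
  refine Subgroup.mem_centralizer_singleton_iff.2 (co0_ext fun v => ?_)
  obtain ⟨x, hx⟩ := v
  refine (AddSubgroup.closure_induction
    (p := fun y _ => ∀ hy : y ∈ leechLattice,
      (g * T) • (⟨y, hy⟩ : leechLattice) = (T * g) • ⟨y, hy⟩) ?_ ?_ ?_ ?_
    (mem_closure_genSet hx)) hx
  · intro y hy hy'
    refine Subtype.ext (funext fun p => ?_)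
    have := key y hy
    simp only [commB, decide_eq_true_eq] at this
    rw [mul_smul, mul_smul, T_smul, hg, hg, ← this p]
    congr 3
    try exact funext fun q => T_smul ⟨y, hy'⟩ q
  · intro _
    show (co0Hom (g * T)) 0 = co0Hom (T * g) 0
    rw [map_zero, map_zero]
  · intro a b ha hb iha ihb hab
    have hmem : ∀ c ∈ AddSubgroup.closure genSet, c ∈ leechLattice := fun c hc =>
      (AddSubgroup.closure_le _).2 (fun y hy => (genSet_spec y hy).1) hc
    have e : (⟨a + b, hab⟩ : leechLattice) = ⟨a, hmem a ha⟩ + ⟨b, hmem b hb⟩ := rfl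
    rw [e, co0_add, co0_add, iha, ihb]
  · intro a ha iha hab
    have hma : a ∈ leechLattice := (AddSubgroup.closure_le _).2 (fun y hy => (genSet_spec y hy).1) ha
    have e : (⟨-a, hab⟩ : leechLattice) = -⟨a, hma⟩ := rfl
    rw [e, co0_neg, co0_neg, iha]

/-! ### Bits of products and squared lengths -/

/-- The product over eight, modulo two. -/
def dotBit (v w : GolayPt → ℤ) : Bool := decide (dotInt v w % 16 ≠ 0)

/-- The squared length over sixteen, modulo two. -/
def normBit (v : GolayPt → ℤ) : Bool := decide (sqNorm v % 32 ≠ 0)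

theorem dotInt_symm (a b : GolayPt → ℤ) : dotInt a b = dotInt b a :=
  Finset.sum_congr rfl fun _ _ => mul_comm _ _

theorem dotBit_comm (v w : GolayPt → ℤ) : dotBit v w = dotBit w v := by
  rw [dotBit, dotBit, dotInt_symm]

theorem dotBit_add (v w : leechLattice) (u : leechLattice) :
    dotBit ((v + w : leechLattice) : GolayPt → ℤ) (u : GolayPt → ℤ) =
      (dotBit (v : GolayPt → ℤ) (u : GolayPt → ℤ) ^^ dotBit (w : GolayPt → ℤ) (u : GolayPt → ℤ)) := by
  have h1 := eight_dvd_dot v.2 u.2
  have h2 := eight_dvd_dot w.2 u.2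
  simp only [dotBit, AddSubgroup.coe_add, dotInt_add_left]
  by_cases a : dotInt (v : GolayPt → ℤ) (u : GolayPt → ℤ) % 16 = 0 <;>
    by_cases b : dotInt (w : GolayPt → ℤ) (u : GolayPt → ℤ) % 16 = 0 <;>
    simp only [a, b, ne_eq, not_true_eq_false, not_false_eq_true, decide_false, decide_true,
      Bool.xor_false, Bool.xor_true, Bool.false_xor, Bool.true_xor, Bool.not_true, Bool.not_false,
      decide_eq_false_iff_not, decide_eq_true_eq, not_not] <;> omega

theorem normBit_add (v w : leechLattice) :
    normBit ((v + w : leechLattice) : GolayPt → ℤ) =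
      (normBit (v : GolayPt → ℤ) ^^ normBit (w : GolayPt → ℤ) ^^
        dotBit (v : GolayPt → ℤ) (w : GolayPt → ℤ)) := by
  have h1 := sixteen_dvd v.2
  have h2 := sixteen_dvd w.2
  have h3 := eight_dvd_dot v.2 w.2
  simp only [normBit, dotBit, AddSubgroup.coe_add, sqNorm_add]
  rw [Bool.eq_iff_iff]
  by_cases a : sqNorm (v : GolayPt → ℤ) % 32 = 0 <;> by_cases b : sqNorm (w : GolayPt → ℤ) % 32 = 0 <;>
    by_cases c : dotInt (v : GolayPt → ℤ) (w : GolayPt → ℤ) % 16 = 0 <;>
    simp only [a, b, c, ne_eq, not_true_eq_false, not_false_eq_true, decide_false, decide_true,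
      Bool.xor_false, Bool.xor_true, Bool.false_xor, Bool.true_xor, Bool.not_false, Bool.not_true,
      decide_eq_true_eq, Bool.false_eq_true, iff_false, iff_true] <;> omega

/-- The number attached to a vector by the pairs (vector, number). -/
def idxOn : List ((GolayPt → ℤ) × ℕ) → (GolayPt → ℤ) → ℕ
  | [], _ => 0
  | (b, r) :: t, v => (if dotBit v b then r else 0) ^^^ idxOn t v

theorem idxOn_add : ∀ (l : List ((GolayPt → ℤ) × ℕ)), (∀ x ∈ l, x.1 ∈ leechLattice) →
    ∀ v w : leechLattice, idxOn l ((v + w : leechLattice) : GolayPt → ℤ) =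
      idxOn l (v : GolayPt → ℤ) ^^^ idxOn l (w : GolayPt → ℤ)
  | [], _, _, _ => (Nat.xor_self 0).symm
  | (b, r) :: t, h, v, w => by
    have hb : b ∈ leechLattice := h _ List.mem_cons_self
    simp only [idxOn, idxOn_add t (fun x hx => h x (List.mem_cons_of_mem _ hx)) v w,
      dotBit_add v w ⟨b, hb⟩]
    cases dotBit (v : GolayPt → ℤ) b <;> cases dotBit (w : GolayPt → ℤ) b <;>
      simp only [Bool.xor_false, Bool.xor_true, Bool.not_false, Bool.not_true, if_true,
        Bool.false_eq_true, if_false, Nat.zero_xor]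
    · rw [Nat.xor_left_comm]
    · rw [Nat.xor_assoc]
    · calc idxOn t (v : GolayPt → ℤ) ^^^ idxOn t (w : GolayPt → ℤ) =
          (r ^^^ r) ^^^ (idxOn t (v : GolayPt → ℤ) ^^^ idxOn t (w : GolayPt → ℤ)) := by
            rw [Nat.xor_self, Nat.zero_xor]
        _ = r ^^^ idxOn t (v : GolayPt → ℤ) ^^^ (r ^^^ idxOn t (w : GolayPt → ℤ)) := by ac_rfl

/-- The rows used for squared lengths of sums. -/
def quadRows : List (GolayPt → ℤ) → List (Bool × List ℕ)
  | [] => []
  | v :: vs => (normBit v, vs.map fun w => if dotBit v w then 1 else 0) :: quadRows vs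

/-- The squared length over sixteen, modulo two, of a selected sum. -/
def quadSel : List (Bool × List ℕ) → ℕ → Bool
  | [], _ => false
  | (b, row) :: t, m =>
    if m % 2 = 1 then b ^^ quadSel t (m / 2) ^^ decide (xorSel row (m / 2) = 1) else quadSel t (m / 2)

theorem dotBit_selSum (v : leechLattice) : ∀ (l : List leechLattice) (m : ℕ),
    xorSel ((l.map fun u : leechLattice => (u : GolayPt → ℤ)).map
      fun w => if dotBit (v : GolayPt → ℤ) w then 1 else 0) m =
      if dotBit (v : GolayPt → ℤ) (selSum l m : GolayPt → ℤ) then 1 else 0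
  | [], m => by
    have : dotBit (v : GolayPt → ℤ) ((0 : leechLattice) : GolayPt → ℤ) = false := by
      simp [dotBit, dotInt]
    simp only [selSum, this, List.map_nil, xorSel, Bool.false_eq_true, if_false]
  | u :: us, m => by
    simp only [List.map_cons, xorSel, dotBit_selSum v us (m / 2)]
    by_cases h : m % 2 = 1
    · have hsum : selSum (u :: us) m = u + selSum us (m / 2) := by simp only [selSum, if_pos h]
      have hb : dotBit (v : GolayPt → ℤ) ((selSum (u :: us) m : leechLattice) : GolayPt → ℤ) =
          (dotBit (v : GolayPt → ℤ) (u : GolayPt → ℤ) ^^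
            dotBit (v : GolayPt → ℤ) (selSum us (m / 2) : GolayPt → ℤ)) := by
        rw [dotBit_comm, hsum, dotBit_add, dotBit_comm (u : GolayPt → ℤ),
          dotBit_comm (selSum us (m / 2) : GolayPt → ℤ)]
      simp only [if_pos h, hb]
      cases dotBit (v : GolayPt → ℤ) (u : GolayPt → ℤ) <;>
        cases dotBit (v : GolayPt → ℤ) (selSum us (m / 2) : GolayPt → ℤ) <;> simp
    · have hsum : selSum (u :: us) m = selSum us (m / 2) := by simp only [selSum, if_neg h, zero_add]
      simp only [if_neg h, hsum, Nat.zero_xor]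

theorem quadSel_spec : ∀ (l : List leechLattice) (m : ℕ),
    normBit (selSum l m : GolayPt → ℤ) =
      quadSel (quadRows (l.map fun u : leechLattice => (u : GolayPt → ℤ))) m
  | [], _ => by simp [selSum, quadRows, quadSel, normBit, sqNorm]
  | u :: us, m => by
    simp only [List.map_cons, quadRows, quadSel, selSum, dotBit_selSum u us (m / 2)]
    by_cases h : m % 2 = 1
    · rw [if_pos h, if_pos h, normBit_add, quadSel_spec us (m / 2)]
      cases dotBit (u : GolayPt → ℤ) (selSum us (m / 2) : GolayPt → ℤ) <;> simp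
    · rw [if_neg h, if_neg h, zero_add, quadSel_spec us (m / 2)]

/-! ### The classes -/

theorem basisL_mem : ∀ i : Fin 12, leechB (vec (Data.basisL.getD i [])) = true := by decide +kernel

/-- The basis vectors. -/
def bv (i : Fin 12) : leechLattice := ⟨vec (Data.basisL.getD i []), leechB_iff.1 (basisL_mem i)⟩

/-- The basis. -/
def bvs : List leechLattice := List.ofFn bv

theorem bv_fixed (i : Fin 12) : T • bv i = bv i :=
  Subtype.ext (funext fun p => by
    rw [T_smul]
    exact (by decide +kernel : ∀ (i : Fin 12) (p : GolayPt),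
      vec (Data.basisL.getD i []) (tau p) = vec (Data.basisL.getD i []) p) i p)

/-- The class number `k`. -/
def cls (k : Fin 4096) : leechLattice := selSum bvs k

theorem cls_zero : cls 0 = 0 := by
  refine Subtype.ext (funext ?_)
  decide +kernel

theorem cls_add (j k : Fin 4096) :
    Cong (cls j + cls k) (cls ⟨(j : ℕ) ^^^ k, Nat.xor_lt_two_pow (n := 12) j.2 k.2⟩) :=
  selSum_xor _ _ _

theorem cls_fixed (k : Fin 4096) : T • cls k = cls k := by
  rw [cls, smul_selSum, bvs, List.map_ofFn]
  congr 1
  exact congrArg List.ofFn (funext bv_fixed)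

/-- The pairs read by the numbering. -/
def idxPairs : List ((GolayPt → ℤ) × ℕ) :=
  List.ofFn fun i : Fin 12 => (vec (Data.basisL.getD i []), Data.invRows.getD i 0)

theorem idxPairs_mem : ∀ x ∈ idxPairs, x.1 ∈ leechLattice := by
  intro x hx
  obtain ⟨i, rfl⟩ := List.mem_ofFn.1 hx
  exact leechB_iff.1 (basisL_mem i)

/-- The number of a class, from the parities. -/
def idxFun (v : GolayPt → ℤ) : Fin 4096 := ⟨idxOn idxPairs v % 4096, Nat.mod_lt _ (by norm_num)⟩

/-- The number of the class of a lattice vector. -/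
def clsIdx (v : leechLattice) : Fin 4096 := idxFun v

theorem idxOn_bv : ∀ i : Fin 12, idxOn idxPairs (vec (Data.basisL.getD i [])) = 2 ^ (i : ℕ) := by
  decide +kernel

theorem idxOn_zero : idxOn idxPairs ((0 : leechLattice) : GolayPt → ℤ) = 0 := by
  have h := idxOn_add idxPairs idxPairs_mem 0 0
  rwa [add_zero, Nat.xor_self] at h

theorem idxOn_selSum : ∀ (l : List leechLattice) (m : ℕ),
    idxOn idxPairs (selSum l m : GolayPt → ℤ) =
      xorSel (l.map fun u : leechLattice => idxOn idxPairs (u : GolayPt → ℤ)) m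
  | [], _ => idxOn_zero
  | u :: us, m => by
    simp only [selSum, List.map_cons, xorSel]
    rw [idxOn_add _ idxPairs_mem, idxOn_selSum us]
    split
    · rfl
    · rw [idxOn_zero]

theorem xorSel_powers : allBelow 4096 (fun m =>
    xorSel [1, 2, 4, 8, 16, 32, 64, 128, 256, 512, 1024, 2048] m == m) = true := by decide +kernel

theorem bvs_idx : (bvs.map fun u : leechLattice => idxOn idxPairs (u : GolayPt → ℤ)) =
    [1, 2, 4, 8, 16, 32, 64, 128, 256, 512, 1024, 2048] := by
  rw [bvs, List.map_ofFn]
  exact (congrArg List.ofFn (funext idxOn_bv)).trans (by decide)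

theorem clsIdx_cls (k : Fin 4096) : clsIdx (cls k) = k := by
  refine Fin.ext ?_
  show idxOn idxPairs (selSum bvs k : GolayPt → ℤ) % 4096 = k
  rw [idxOn_selSum, bvs_idx, beq_iff_eq.1 (allBelow_iff.1 xorSel_powers k k.2), Nat.mod_eq_of_lt k.2]

theorem clsIdx_congr {v w : leechLattice} (h : Cong v w) : clsIdx v = clsIdx w := by
  obtain ⟨u, rfl⟩ := h
  refine Fin.ext ?_
  simp only [clsIdx, idxFun, idxOn_add _ idxPairs_mem, Nat.xor_self, Nat.xor_zero]

theorem idxOn_nondeg : ∀ (l : List ((GolayPt → ℤ) × ℕ)) (v : GolayPt → ℤ),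
    (∀ x ∈ l, dotBit v x.1 = false) → idxOn l v = 0
  | [], _, _ => rfl
  | (b, r) :: t, v, h => by
    have hb : dotBit v b = false := h _ List.mem_cons_self
    simp [idxOn, hb, idxOn_nondeg t v fun x hx => h x (List.mem_cons_of_mem _ hx)]

theorem cls_nondeg (k : Fin 4096) (hk : k ≠ 0) :
    ∃ i : Fin 12, ¬ (16 : ℤ) ∣ dotInt (cls k : GolayPt → ℤ) (bv i : GolayPt → ℤ) := by
  by_contra! h
  apply hk
  have h0 : idxOn idxPairs (cls k : GolayPt → ℤ) = 0 := idxOn_nondeg _ _ fun x hx => by
    obtain ⟨i, rfl⟩ := List.mem_ofFn.1 hx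
    exact decide_eq_false (not_not.2 (Int.emod_eq_zero_of_dvd (h i)))
  rw [← clsIdx_cls k]
  exact Fin.ext (by simp [clsIdx, idxFun, h0])

theorem bv_eq_cls : ∀ i : Fin 12, ∀ p, (bv i : GolayPt → ℤ) p =
    (cls ⟨2 ^ (i : ℕ), Nat.pow_lt_pow_right (by norm_num) i.2⟩ : GolayPt → ℤ) p := by
  decide +kernel

/-- The sum of a vector over a cycle. -/
noncomputable def spread (y : GolayPt → ℤ) : GolayPt → ℤ := fun p =>
  y p + y (tau p) + y (tau (tau p))

theorem spread_class : ∀ y ∈ genSet, ∃ k : Fin 4096, ∀ hy : spread y ∈ leechLattice,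
    Cong (⟨spread y, hy⟩ : leechLattice) (cls k) := by
  have h1 : halfB (fun p => spread oddVec p -
      (cls (idxFun (spread oddVec)) : GolayPt → ℤ) p) = true := by decide +kernel
  have h2 : ∀ r ∈ codeRows, halfB (fun p => spread (twiceMask r) p -
      (cls (idxFun (spread (twiceMask r))) : GolayPt → ℤ) p) = true := by decide +kernel
  have h3 : ∀ q : ZMod 23, halfB (fun p => spread (pairVec q 1) p -
      (cls (idxFun (spread (pairVec q 1))) : GolayPt → ℤ) p) = true ∧
      halfB (fun p => spread (pairVec q (-1)) p -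
      (cls (idxFun (spread (pairVec q (-1)))) : GolayPt → ℤ) p) = true := by decide +kernel
  intro y hy
  refine ⟨idxFun (spread y), fun _ => cong_of_half ?_⟩
  rcases hy with (rfl | ⟨r, hr, rfl⟩) | ⟨p, t, rfl | rfl, rfl⟩
  exacts [h1, h2 r hr, (h3 p).1, (h3 p).2]

/-- The sum of the images under the powers of the element. -/
noncomputable def orbitSum : leechLattice →+ leechLattice :=
  AddMonoidHom.mk' (fun v => v + T • v + T • T • v) fun a b => by
    simp only [co0_add]; abel

theorem orbitSum_coe (v : leechLattice) :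
    ((orbitSum v : leechLattice) : GolayPt → ℤ) = spread (v : GolayPt → ℤ) := funext fun p => by
  simp only [orbitSum, AddMonoidHom.mk'_apply, AddSubgroup.coe_add, Pi.add_apply, T_smul, spread]

theorem orbitSum_class (v : leechLattice) : ∃ k : Fin 4096, Cong (orbitSum v) (cls k) := by
  obtain ⟨x, hx⟩ := v
  have hmem : ∀ c ∈ AddSubgroup.closure genSet, c ∈ leechLattice := fun c hc =>
    (AddSubgroup.closure_le _).2 (fun y hy => (genSet_spec y hy).1) hc
  refine (AddSubgroup.closure_induction
    (p := fun y _ => ∀ hy : y ∈ leechLattice, ∃ k : Fin 4096, Cong (orbitSum ⟨y, hy⟩) (cls k))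
    ?_ ?_ ?_ ?_ (mem_closure_genSet hx)) hx
  · intro y hy hy'
    obtain ⟨k, hk⟩ := spread_class y hy
    have hs : spread y ∈ leechLattice := orbitSum_coe ⟨y, hy'⟩ ▸ (orbitSum ⟨y, hy'⟩).2
    exact ⟨k, (show orbitSum ⟨y, hy'⟩ = ⟨spread y, hs⟩ from Subtype.ext (orbitSum_coe _)) ▸ hk hs⟩
  · intro h0
    exact ⟨0, by rw [cls_zero, show (⟨0, h0⟩ : leechLattice) = 0 from rfl, map_zero]; exact Cong.refl _⟩
  · intro a b ha hb iha ihb hab
    obtain ⟨j, hj⟩ := iha (hmem a ha)
    obtain ⟨k, hk⟩ := ihb (hmem b hb)
    refine ⟨_, Cong.trans ?_ (cls_add j k)⟩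
    rw [show (⟨a + b, hab⟩ : leechLattice) = ⟨a, hmem a ha⟩ + ⟨b, hmem b hb⟩ from rfl, map_add]
    exact hj.add hk
  · intro a ha iha hab
    obtain ⟨j, hj⟩ := iha (hmem a ha)
    refine ⟨j, Cong.trans ?_ hj⟩
    rw [show (⟨-a, hab⟩ : leechLattice) = -⟨a, hmem a ha⟩ from rfl, map_neg]
    exact Cong.neg _

/-- A class fixed by the element is one of the 4096. -/
theorem cls_complete {v : leechLattice} (h : Cong (T • v) v) : Cong v (cls (clsIdx v)) := by
  obtain ⟨k, hk⟩ := orbitSum_class v
  have h2 := (h.smul T).trans h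
  have hsum : Cong (orbitSum v) v :=
    Cong.trans (((Cong.refl v).add h).add h2) ⟨v, by abel⟩
  have hvk : Cong v (cls k) := hsum.symm.trans hk
  rwa [clsIdx_congr hvk, clsIdx_cls]

/-! ### The action of the centraliser -/

/-- The image of a class. -/
def act (g : Co0) (k : Fin 4096) : Fin 4096 := clsIdx (g • cls k)

theorem act_spec {g : Co0} (hg : g ∈ C0) (k : Fin 4096) : Cong (g • cls k) (cls (act g k)) := by
  refine cls_complete ?_
  rw [← mul_smul, ← Subgroup.mem_centralizer_singleton_iff.1 hg, mul_smul, cls_fixed]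
  exact Cong.refl _

theorem act_eq_of_cong {g : Co0} {k j : Fin 4096} (h : Cong (g • cls k) (cls j)) : act g k = j := by
  rw [act, clsIdx_congr h, clsIdx_cls]

theorem act_one (k : Fin 4096) : act 1 k = k := by
  rw [act, one_smul, clsIdx_cls]

theorem act_mul {g h : Co0} (hg : g ∈ C0) (hh : h ∈ C0) (k : Fin 4096) :
    act (g * h) k = act g (act h k) := by
  refine act_eq_of_cong ?_
  rw [mul_smul]
  exact ((act_spec hh k).smul g).trans (act_spec hg _)

theorem act_injective {g : Co0} (hg : g ∈ C0) : Function.Injective (act g) := fun a b h => by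
  have := congrArg (act g⁻¹) h
  rwa [← act_mul (inv_mem hg) hg, ← act_mul (inv_mem hg) hg, inv_mul_cancel, act_one, act_one] at this

theorem act_zero (g : Co0) : act g 0 = 0 := by
  have h : g • (0 : leechLattice) = 0 := map_zero (co0Hom g)
  rw [act, cls_zero, h, ← cls_zero, clsIdx_cls]

theorem act_T (k : Fin 4096) : act T k = k :=
  act_eq_of_cong (by rw [cls_fixed]; exact Cong.refl _)

theorem act_neg (k : Fin 4096) : act negCo0 k = k :=
  act_eq_of_cong (by
    rw [show negCo0 • cls k = -cls k from Subtype.ext (negCo0_smul _)]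
    exact Cong.neg _)

/-- The images of the classes under an element, from those of the basis. -/
def linTab (ms : List ℕ) (k : Fin 4096) : Fin 4096 :=
  ⟨xorSel ms k % 4096, Nat.mod_lt _ (by norm_num)⟩

theorem act_eq_linTab {g : Co0} (hgC : g ∈ C0) {ms : List ℕ}
    (h : (bvs.map fun v : leechLattice => idxOn idxPairs ((g • v : leechLattice) : GolayPt → ℤ)) = ms)
    (k : Fin 4096) : act g k = linTab ms k := by
  refine Fin.ext ?_
  show idxOn idxPairs ((g • selSum bvs k : leechLattice) : GolayPt → ℤ) % 4096 = _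
  rw [smul_selSum, idxOn_selSum, List.map_map, ← h]
  rfl

/-! ### The order of the centraliser -/

theorem frame_cls : Cong frameV (cls 1) := cong_of_half (by decide +kernel)

theorem frame_cong_T : Cong (T • frameV) frameV := mem_classStab.1 T_mem_classStab

theorem card_frame_stab_le : Nat.card (classStab frameV ⊓ C0 : Subgroup Co0) ≤ 1080 * 64 := by
  classical
  have key : ∀ g : (classStab frameV ⊓ C0 : Subgroup Co0), ∃ x : {σ : Equiv.Perm GolayPt // σ ∈ M24 ∧
      Commute σ tau} × {M : ℕ // M ∈ Data.fixedMasks}, ∀ v : leechLattice,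
      (((g : Co0) • v : leechLattice) : GolayPt → ℤ) = monoFun x.1.1 (setOf24 x.2.1) v := by
    rintro ⟨g, hgS, hgC⟩
    obtain ⟨σ, hσ, c, hc, rfl⟩ := eq_monoCo0 (preservesCross_of_classStab hgS)
    have hcomm := Subgroup.mem_centralizer_singleton_iff.1 hgC
    have hc' : c.image tau.symm ∈ supports (golayCode : Set (GolayPt → ZMod 2)) :=
      setSystemAut_image_mem (inv_mem tau_mem) hc
    have e1 : monoCo0 σ hσ c hc * T = monoCo0 (tau * σ) (mul_mem tau_mem hσ) c hc := by
      refine co0_ext fun v => Subtype.ext (funext fun p => ?_)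
      rw [mul_smul, monoCo0_smul, monoCo0_smul]
      simp only [monoFun, T_smul, Equiv.Perm.mul_apply]
    have e2 : T * monoCo0 σ hσ c hc =
        monoCo0 (σ * tau) (mul_mem hσ tau_mem) (c.image tau.symm) hc' := by
      refine co0_ext fun v => Subtype.ext (funext fun p => ?_)
      rw [mul_smul, T_smul, monoCo0_smul, monoCo0_smul]
      have hiff : p ∈ c.image tau.symm ↔ tau p ∈ c := by
        rw [Finset.mem_image]
        exact ⟨fun ⟨q, hq, e⟩ => by rw [← e, Equiv.apply_symm_apply]; exact hq,
          fun h => ⟨_, h, Equiv.symm_apply_apply _ _⟩⟩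
      simp only [monoFun, Equiv.Perm.mul_apply, hiff]
    rw [e1, e2] at hcomm
    obtain ⟨hp, hs⟩ := mono_inj hcomm
    have hinv : ∀ p, tau p ∈ c ↔ p ∈ c := fun p => by
      conv_rhs => rw [hs, Finset.mem_image]
      exact ⟨fun h => ⟨_, h, Equiv.symm_apply_apply _ _⟩,
        fun ⟨q, hq, e⟩ => by rw [← e, Equiv.apply_symm_apply]; exact hq⟩
    obtain ⟨M, hM, rfl⟩ := fixed_support hc hinv
    exact ⟨(⟨σ, hσ, hp.symm⟩, ⟨M, hM⟩), fun v => monoCo0_smul σ hσ _ hc v⟩
  choose f hf using key
  have hfi : Function.Injective f := fun a b h => by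
    refine Subtype.ext (co0_ext fun v => Subtype.ext ?_)
    rw [hf, hf, h]
  refine (Nat.card_le_card_of_injective f hfi).trans ?_
  rw [Nat.card_prod]
  refine Nat.mul_le_mul card_centralizer_le ?_
  let F : {M : ℕ // M ∈ Data.fixedMasks} → Data.fixedMasks.toFinset :=
    fun M => ⟨M.1, List.mem_toFinset.2 M.2⟩
  refine (Nat.card_le_card_of_injective F fun a b h => Subtype.ext (congrArg Subtype.val h :)).trans ?_
  rw [Nat.card_eq_finsetCard]
  exact (List.toFinset_card_le _).trans (by decide +kernel)

/-- A packed short vector. -/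
def shortVec (c : ℕ) : GolayPt → ℤ := fun p => (app c (idx p) : ℤ) - 8

theorem short_idx :
    Data.shortList.map (fun c => idxOn idxPairs (shortVec c)) = Data.shortIdx := by decide +kernel

theorem short_leech : ∀ c ∈ Data.shortList, leechB (shortVec c) = true := by decide +kernel

theorem short_norm : ∀ c ∈ Data.shortList, sqNorm (shortVec c) = 32 := by decide +kernel

theorem short_fixed : ∀ c ∈ Data.shortList, ∀ p, shortVec c (tau p) = shortVec c p := by decide +kernel

theorem short_checks : Data.shortList.map (fun c => idxOn idxPairs (shortVec c)) = Data.shortIdx ∧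
    ∀ c ∈ Data.shortList, leechB (shortVec c) = true ∧ sqNorm (shortVec c) = 32 ∧
      ∀ p, shortVec c (tau p) = shortVec c p :=
  ⟨short_idx, fun c hc => ⟨short_leech c hc, short_norm c hc, short_fixed c hc⟩⟩

/-- The squared-length rows of the basis. -/
def quadTab : List (Bool × List ℕ) := quadRows (bvs.map fun u : leechLattice => (u : GolayPt → ℤ))

/-- A list of bit positions as a mask. -/
def maskOf : List ℕ → ℕ
  | [] => 0
  | k :: l => 2 ^ k ||| maskOf l

theorem testBit_maskOf : ∀ (l : List ℕ) (k : ℕ), (maskOf l).testBit k = l.contains k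
  | [], k => by simp [maskOf]
  | a :: l, k => by
    rw [maskOf, Nat.testBit_or, testBit_maskOf l k, Nat.testBit_two_pow, List.contains_cons]
    congr 1
    rw [Bool.eq_iff_iff, decide_eq_true_eq, beq_iff_eq]
    exact eq_comm

/-- The classes which can hold a vector of a cross. -/
def frameList : List ℕ :=
  (List.range 4096).filter fun k => (k != 0) && !(quadSel quadTab k) && !((maskOf Data.shortIdx).testBit k)

theorem quadTab_eq : quadTab =
    [(false, [0, 0, 0, 0, 0, 0, 0, 0, 0, 1, 1]),
      (false, [0, 0, 0, 0, 1, 1, 0, 0, 0, 1]),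
      (false, [0, 0, 0, 0, 0, 0, 1, 0, 1]),
      (false, [0, 0, 1, 1, 0, 0, 0, 0]),
      (false, [0, 1, 0, 0, 1, 0, 1]),
      (false, [0, 1, 1, 0, 0, 0]),
      (false, [0, 0, 1, 1, 1]),
      (false, [0, 1, 1, 0]),
      (false, [1, 1, 0]),
      (false, [1, 1]),
      (false, [1]),
      (false, [])] := by
  decide +kernel

theorem maskOf_shortIdx : maskOf Data.shortIdx =
    0x4444122188441212650056009a005600006556009a000056000000000000000000000880084000000008008008004000080000800800004000000044840000001414182428141818000000000000000000000000000000000000000000000000000008200240000000040010010080000400001001000080000000148100000010100064001000005400102000001000005410200000001000000002008901018080006200400000408000a200400000804000a200400000000004002600040410100094001000000002000001020085020000000102850000000002008601012020006800100000000001008500020100000100850001020000010086000101004000004040005204080016000800000408160008000000001a040400000008000400000808001a61008040000040006100408000004000a100404000004000150008080000080004080019000800000408190008000000400000008080a2005400202000001000640020100000100064001020000010000001000001010045a050606050506090000000000000000000000000000000000000000000000000801000000000020840002000000100044000002001000004600000000000000500000000000000000000000000000000000000000000000000000000a6a66a9510200000000001011000200000010001100000200100000100cf0303cfcf03fc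 := by
  decide +kernel

theorem frameList_length : frameList.length ≤ 1701 := by
  rw [frameList, quadTab_eq, maskOf_shortIdx]
  decide +kernel

theorem act_frame_mem {g : Co0} (hg : g ∈ C0) : (act g 1 : ℕ) ∈ frameList := by
  have hn : sqNorm ((g • frameV : leechLattice) : GolayPt → ℤ) = 64 := by
    rw [co0_norm]; exact sqNorm_eight none
  have hcg : Cong (g • frameV) (cls (act g 1)) := (frame_cls.smul g).trans (act_spec hg 1)
  refine List.mem_filter.2 ⟨List.mem_range.2 (act g 1).2, ?_⟩
  rw [Bool.and_eq_true, Bool.and_eq_true, bne_iff_ne, Bool.not_eq_true', Bool.not_eq_true']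
  refine ⟨⟨fun h => ?_, ?_⟩, ?_⟩
  · have h1 : act g 1 = act g 0 := by rw [act_zero]; exact Fin.ext h
    exact absurd (act_injective hg h1) (by decide)
  · rw [quadTab, ← quadSel_spec]
    obtain ⟨u, hu⟩ := hcg.symm
    rw [show selSum bvs (act g 1 : ℕ) = g • frameV + (u + u) from hu, normBit_add, normBit_add,
      show normBit ((g • frameV : leechLattice) : GolayPt → ℤ) = false by simp [normBit, hn],
      dotBit_comm _ ((u + u : leechLattice) : GolayPt → ℤ), dotBit_add,
      show dotBit (u : GolayPt → ℤ) (u : GolayPt → ℤ) = false by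
        have := sixteen_dvd u.2
        refine decide_eq_false (not_not.2 (Int.emod_eq_zero_of_dvd ?_))
        rwa [show dotInt (u : GolayPt → ℤ) (u : GolayPt → ℤ) = sqNorm (u : GolayPt → ℤ) from
          Finset.sum_congr rfl fun p _ => (sq _).symm]]
    simp
  · rw [testBit_maskOf, ← short_checks.1]
    refine Bool.eq_false_iff.2 fun h => ?_
    revert h
    rw [List.contains_iff_mem, List.mem_map]
    rintro ⟨c, hc, e⟩
    obtain ⟨hm, hc32, hfix⟩ := short_checks.2 c hc
    let w : leechLattice := ⟨shortVec c, leechB_iff.1 hm⟩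
    have hw : Cong (T • w) w := by
      rw [show T • w = w from Subtype.ext (funext fun p => (T_smul w p).trans (hfix p))]
      exact Cong.refl _
    have hidx : clsIdx w = act g 1 := Fin.ext (by
      show idxOn idxPairs (shortVec c) % 4096 = _
      rw [e, Nat.mod_eq_of_lt (act g 1).2])
    have hcong : Cong w (g • frameV) := (hidx ▸ cls_complete hw).trans hcg.symm
    rcases hcong.eq_or_neg hc32 hn.le with h | h
    · rw [← h] at hn; exact absurd (hc32.symm.trans hn) (by norm_num)
    · have h' := congrArg (fun v : leechLattice => sqNorm (v : GolayPt → ℤ)) h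
      rw [AddSubgroup.coe_neg, show sqNorm (-((g • frameV : leechLattice) : GolayPt → ℤ)) =
        sqNorm ((g • frameV : leechLattice) : GolayPt → ℤ) from
          Finset.sum_congr rfl fun _ _ => neg_sq _, hn] at h'
      exact absurd (hc32.symm.trans h') (by norm_num)

theorem card_C0_le : Nat.card C0 ≤ 1701 * (1080 * 64) := by
  haveI := co0_finite
  let K : Subgroup C0 := (classStab frameV ⊓ C0).subgroupOf C0
  have hK : Nat.card K = Nat.card (classStab frameV ⊓ C0 : Subgroup Co0) :=
    Nat.card_congr (Subgroup.subgroupOfEquivOfLe inf_le_right).toEquiv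
  have hiff : ∀ g : C0, g ∈ K ↔ act g 1 = 1 := by
    intro g
    constructor
    · intro h
      refine act_eq_of_cong ?_
      exact ((frame_cls.symm.smul _).trans (mem_classStab.1 h.1)).trans frame_cls
    · intro h
      refine ⟨mem_classStab.2 ?_, g.2⟩
      have := act_spec g.2 1
      rw [h] at this
      exact ((frame_cls.smul _).trans this).trans frame_cls.symm
  have hrel : ∀ a b : C0, (a : Co0)⁻¹ * b ∈ classStab frameV ⊓ C0 ↔ act a 1 = act b 1 := by
    intro a b
    rw [show (a : Co0)⁻¹ * b ∈ classStab frameV ⊓ C0 ↔ a⁻¹ * b ∈ K from Iff.rfl, hiff,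
      Subgroup.coe_mul, Subgroup.coe_inv, act_mul (inv_mem a.2) b.2]
    constructor
    · intro h
      have := congrArg (act (a : Co0)) h
      rwa [← act_mul a.2 (inv_mem a.2), mul_inv_cancel, act_one, eq_comm] at this
    · intro h
      rw [← h, ← act_mul (inv_mem a.2) a.2, inv_mul_cancel, act_one]
  let f : C0 ⧸ K → frameList.toFinset :=
    Quotient.lift (fun g : C0 => ⟨(act g 1 : ℕ), List.mem_toFinset.2 (act_frame_mem g.2)⟩)
    fun a b h => Subtype.ext
      (congrArg Fin.val ((hrel a b).1 (show a⁻¹ * b ∈ K from QuotientGroup.leftRel_apply.1 h)))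
  have hf : Function.Injective f := by
    intro a b
    induction a using QuotientGroup.induction_on with
    | H a =>
      induction b using QuotientGroup.induction_on with
      | H b => exact fun h => QuotientGroup.eq.2 ((hrel a b).2 (Fin.ext (congrArg Subtype.val h :)))
  rw [Subgroup.card_eq_card_quotient_mul_card_subgroup K, hK]
  refine Nat.mul_le_mul ((Nat.card_le_card_of_injective f hf).trans ?_) card_frame_stab_le
  rw [Nat.card_eq_finsetCard]
  exact (List.toFinset_card_le _).trans frameList_length

end ThreeFix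

end CfsgLib.MonsterType
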