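import Cfsg.Agent.MonsterType.ThreeFixChecks
import Cfsg.Agent.Leech.U43.Iso
import Cfsg.Agent.Forms4.UnitarySimple

/-!
# The centraliser of the element of order three as an extension of `PSU 4 3`
-/

set_option autoImplicit false
set_option maxRecDepth 100000
set_option linter.style.haveILetI false

namespace CfsgLib.MonsterType.ThreeFix

open Cfsg CfsgLib.Leech CfsgLib.Mathieu CfsgLib.Mathieu.Schreier
open Five (Acts exists_acts)
open scoped Pointwise
open CfsgLib.Leech.U43 (le_card_group lowOK)

local notation "P126" => Equiv.Perm (Fin 126)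
local notation "rfl112" => Equiv.refl (Fin 112)
local notation "rfl126" => Equiv.refl (Fin 126)
local notation "rfl238" => Equiv.refl (Fin 238)

/-! ### The generators -/

/-- A generator. -/
noncomputable def gE (j : Fin 4) : Co0 := Classical.choose (exists_acts (moves j) (moves_ok j))

theorem gE_acts (j : Fin 4) : Acts (gE j) (runMoves (moves j)) :=
  Classical.choose_spec (exists_acts (moves j) (moves_ok j))

theorem gE_mem (j : Fin 4) : gE j ∈ C0 :=
  commute_T (gE_acts j) (moves_comm_odd j) (moves_comm_rows j) (moves_comm_pairs j)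

theorem act_gE (j : Fin 4) (k : Fin 4096) : act (gE j) k = linTab (Data.gLin.getD j []) k := by
  refine act_eq_linTab (gE_mem j) ?_ k
  refine Eq.trans (List.map_congr_left fun v _ => ?_) (moves_lin j)
  rw [gE_acts j v]

/-- An element permutes the triples as `p` does. -/
def LinesTo (g : Co0) (p : P126) : Prop := ∀ i, (line i).image (act g) = line (p i)

theorem LinesTo.unique {g : Co0} {p q : P126} (hp : LinesTo g p) (hq : LinesTo g q) : p = q :=
  Equiv.ext fun i => line_injective ((hp i).symm.trans (hq i))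

theorem LinesTo.mul {g h : Co0} (hg : g ∈ C0) (hh : h ∈ C0) {p q : P126} (hp : LinesTo g p)
    (hq : LinesTo h q) : LinesTo (g * h) (p * q) := fun i => by
  rw [show act (g * h) = act g ∘ act h from funext (act_mul hg hh), ← Finset.image_image, hq i, hp]
  rfl

theorem linesTo_one : LinesTo 1 1 := fun i => by
  rw [show act 1 = id from funext act_one, Finset.image_id]; rfl

theorem LinesTo.pow {g : Co0} (hg : g ∈ C0) {p : P126} (hp : LinesTo g p) :
    ∀ n : ℕ, LinesTo (g ^ n) (p ^ n)
  | 0 => by rw [pow_zero, pow_zero]; exact linesTo_one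
  | n + 1 => by rw [pow_succ, pow_succ]; exact (hp.pow hg n).mul (pow_mem hg n) hg hp

/-- The subgroup of elements permuting the triples. -/
noncomputable def lineStab : Subgroup Co0 where
  carrier := {g | g ∈ C0 ∧ ∃ p, LinesTo g p}
  one_mem' := ⟨one_mem _, 1, linesTo_one⟩
  mul_mem' := fun ⟨hg, p, hp⟩ ⟨hh, q, hq⟩ => ⟨mul_mem hg hh, p * q, hp.mul hg hh hq⟩
  inv_mem' := fun {g} ⟨hg, p, hp⟩ => ⟨inv_mem hg, p⁻¹, fun i => by
    have h := hp (p⁻¹ i)
    rw [perm_apply_inv] at h
    rw [← h, Finset.image_image, ← show act (g⁻¹ * g) = act g⁻¹ ∘ act g from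
      funext (act_mul (inv_mem hg) hg), inv_mul_cancel, show act 1 = id from funext act_one,
      Finset.image_id]⟩

/-- The permutation of the triples. -/
noncomputable def lineHom : lineStab →* P126 :=
  MonoidHom.mk' (fun g => g.2.2.choose) fun g h =>
    (g * h).2.2.choose_spec.unique (g.2.2.choose_spec.mul g.2.1 h.2.1 h.2.2.choose_spec)

theorem lineHom_eq {g : lineStab} {p : P126} (h : LinesTo g p) : lineHom g = p :=
  g.2.2.choose_spec.unique h

/-- The permutation of the triples by a generator. -/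
noncomputable def qPerm (j : Fin 4) : P126 :=
  Equiv.ofBijective (qFun j) (Finite.injective_iff_bijective.1 (qFun_injective j))

theorem linesTo_gE (j : Fin 4) : LinesTo (gE j) (qPerm j) := fun i => by
  rw [show act (gE j) = linTab (Data.gLin.getD j []) from funext (act_gE j)]
  exact qFun_lines j i

theorem linesTo_T : LinesTo T 1 := fun i => by
  rw [show act T = id from funext act_T, Finset.image_id]; rfl

theorem linesTo_neg : LinesTo negCo0 1 := fun i => by
  rw [show act negCo0 = id from funext act_neg, Finset.image_id]; rfl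

/-- The index of a letter of a word. -/
def letter (j : ℕ) : Fin 4 := ⟨j % 4, Nat.mod_lt _ (by norm_num)⟩

/-- The element fixing all triples. -/
noncomputable def S : Co0 := (Data.tripleWord.map fun j => gE (letter j)).prod

theorem prod_mem_C0 (l : List ℕ) : (l.map fun j => gE (letter j)).prod ∈ C0 :=
  list_prod_mem fun g hg => by
    obtain ⟨j, -, rfl⟩ := List.mem_map.1 hg
    exact gE_mem _

theorem S_mem : S ∈ C0 := prod_mem_C0 _

theorem word_linesTo : ∀ l : List ℕ, ∃ p : P126,
    LinesTo (l.map fun j => gE (letter j)).prod p ∧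
      (∀ x, p x = l.foldr (fun j y => qFun (letter j) y) x) ∧
      ∀ k, act (l.map fun j => gE (letter j)).prod k =
        l.foldr (fun j y => linTab (Data.gLin.getD (j % 4) []) y) k
  | [] => ⟨1, linesTo_one, fun _ => rfl, act_one⟩
  | j :: l => by
    obtain ⟨p, h1, h2, h3⟩ := word_linesTo l
    refine ⟨qPerm (letter j) * p, ?_, fun x => ?_, fun k => ?_⟩
    · rw [List.map_cons, List.prod_cons]
      exact (linesTo_gE _).mul (gE_mem _) (prod_mem_C0 l) h1
    · rw [Equiv.Perm.mul_apply, h2 x]; rfl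
    · rw [List.map_cons, List.prod_cons, act_mul (gE_mem _) (prod_mem_C0 l), h3, act_gE]; rfl

theorem linesTo_S : LinesTo S 1 := by
  obtain ⟨p, h1, h2, -⟩ := word_linesTo Data.tripleWord
  have : p = 1 := Equiv.ext fun x => (h2 x).trans (triple_word x)
  exact this ▸ h1

theorem act_S (k : Fin 4096) : act S k = wordAct k := (word_linesTo Data.tripleWord).choose_spec.2.2 k

/-! ### The six elements acting trivially -/

theorem neg_ne_pow (k : ℕ) : negCo0 ≠ T ^ k := fun h => negCo0_ne_one (by
  have h3 : negCo0 ^ 3 = 1 := by rw [h, ← pow_mul, mul_comm, pow_mul, T_pow_three, one_pow]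
  rwa [pow_succ, sq negCo0, negCo0_sq, one_mul] at h3)

theorem commute_neg (g : Co0) : Commute negCo0 g :=
  (Subgroup.mem_center_iff.1 negCo0_mem_center g).symm

/-- The powers of the element up to sign. -/
noncomputable def six : Subgroup C0 where
  carrier := {g | ∃ k : ℕ, (g : Co0) = T ^ k ∨ (g : Co0) = negCo0 * T ^ k}
  one_mem' := ⟨0, Or.inl (pow_zero _).symm⟩
  mul_mem' := by
    rintro a b ⟨i, hi⟩ ⟨j, hj⟩
    refine ⟨i + j, ?_⟩
    rcases hi with hi | hi <;> rcases hj with hj | hj <;> rw [Subgroup.coe_mul, hi, hj, pow_add]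
    · exact Or.inl rfl
    · exact Or.inr (by rw [← mul_assoc, ← (commute_neg (T ^ i)).eq, mul_assoc])
    · exact Or.inr (mul_assoc _ _ _)
    · refine Or.inl ?_
      rw [mul_assoc, ← mul_assoc (T ^ i), ← (commute_neg (T ^ i)).eq, ← mul_assoc, ← mul_assoc,
        negCo0_sq, one_mul]
  inv_mem' := by
    rintro a ⟨i, hi⟩
    refine ⟨2 * i, ?_⟩
    have h : (T ^ i)⁻¹ = T ^ (2 * i) := inv_eq_of_mul_eq_one_right (by
      rw [← pow_add, show i + 2 * i = 3 * i by ring, pow_mul, T_pow_three, one_pow])
    rcases hi with hi | hi <;> rw [Subgroup.coe_inv, hi]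
    · exact Or.inl h
    · exact Or.inr (by
        rw [mul_inv_rev, h, inv_eq_of_mul_eq_one_right negCo0_sq, ← (commute_neg _).eq])

instance six_normal : six.Normal := by
  refine ⟨fun n hn g => ?_⟩
  suffices g * n * g⁻¹ = n by rwa [this]
  rw [mul_inv_eq_iff_eq_mul]
  refine Subtype.ext ?_
  have hT : Commute (g : Co0) T := Subgroup.mem_centralizer_singleton_iff.1 g.2
  obtain ⟨k, hk | hk⟩ := hn <;> rw [Subgroup.coe_mul, Subgroup.coe_mul, hk]
  · exact (hT.pow_right k).eq
  · exact ((commute_neg (g : Co0)).symm.mul_right (hT.pow_right k)).eq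

/-- An element of the kernel of the action on the triples. -/
noncomputable def kerElt (x : Fin 3 × Fin 3 × Bool) : Co0 :=
  (if x.2.2 then negCo0 * T ^ (x.1 : ℕ) else T ^ (x.1 : ℕ)) * S ^ (x.2.1 : ℕ)

theorem signed_injective {i j : Fin 3} {s t : Bool}
    (h : (if s then negCo0 * T ^ (i : ℕ) else T ^ (i : ℕ)) =
      if t then negCo0 * T ^ (j : ℕ) else T ^ (j : ℕ)) : i = j ∧ s = t := by
  have hpow : ∀ i j : Fin 3, T ^ (i : ℕ) = T ^ (j : ℕ) → i = j := fun i j h =>
    Fin.ext (pow_injOn_Iio_orderOf (by simp [orderOf_T]) (by simp [orderOf_T]) h)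
  have hne : ∀ i j : ℕ, negCo0 * T ^ i ≠ T ^ j := fun i j h => by
    have h' : negCo0 = T ^ j * T ^ (2 * i) := by
      rw [← h, mul_assoc, ← pow_add, show i + 2 * i = 3 * i by ring, pow_mul, T_pow_three, one_pow,
        mul_one]
    rw [← pow_add] at h'
    exact neg_ne_pow _ h'
  cases s <;> cases t <;> simp only [if_true, Bool.false_eq_true, if_false] at h
  · exact ⟨hpow i j h, rfl⟩
  · exact absurd h.symm (hne _ _)
  · exact absurd h (hne _ _)
  · exact ⟨hpow i j (mul_left_cancel h), rfl⟩

theorem signed_mem (i : ℕ) (s : Bool) : (if s then negCo0 * T ^ i else T ^ i) ∈ C0 := by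
  cases s
  · exact pow_mem T_mem i
  · exact mul_mem neg_mem_C0 (pow_mem T_mem i)

theorem act_signed (i : ℕ) (s : Bool) (k : Fin 4096) :
    act (if s then negCo0 * T ^ i else T ^ i) k = k := by
  have hT : ∀ i : ℕ, ∀ k, act (T ^ i) k = k := fun i => by
    induction i with
    | zero => intro k; rw [pow_zero, act_one]
    | succ i ih => intro k; rw [pow_succ, act_mul (pow_mem T_mem i) T_mem, act_T, ih]
  cases s
  · exact hT i k
  · show act (negCo0 * T ^ i) k = k
    rw [act_mul neg_mem_C0 (pow_mem T_mem i), act_neg, hT]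

theorem act_kerElt (x : Fin 3 × Fin 3 × Bool) (k : Fin 4096) :
    act (kerElt x) k = wordAct^[(x.2.1 : ℕ)] k := by
  have hS : ∀ n : ℕ, ∀ k, act (S ^ n) k = wordAct^[n] k := fun n => by
    induction n with
    | zero => intro k; rw [pow_zero, act_one]; rfl
    | succ n ih =>
      intro k
      rw [pow_succ', act_mul S_mem (pow_mem S_mem n), ih, act_S, Function.iterate_succ_apply']
  rw [kerElt, act_mul (signed_mem _ _) (pow_mem S_mem _), act_signed, hS]

theorem wordAct_iterate_injective {a b : Fin 3} (h : wordAct^[(a : ℕ)] 2 = wordAct^[(b : ℕ)] 2) :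
    a = b := by
  obtain ⟨h1, h2, h3⟩ := word_act_moves
  fin_cases a <;> fin_cases b <;>
    first
      | rfl
      | exact absurd h h1
      | exact absurd h.symm h1
      | exact absurd h h2
      | exact absurd h.symm h2
      | exact absurd h h3
      | exact absurd h.symm h3

theorem kerElt_injective : Function.Injective kerElt := by
  rintro ⟨i, a, s⟩ ⟨j, b, t⟩ h
  have hab : a = b := wordAct_iterate_injective
    ((act_kerElt (i, a, s) 2).symm.trans ((congrArg (fun g => act g 2) h).trans (act_kerElt (j, b, t) 2)))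
  subst hab
  obtain ⟨rfl, rfl⟩ := signed_injective (mul_right_cancel h)
  rfl

/-! ### Stabiliser chains -/

theorem hasPerms_of {n : ℕ} : ∀ (C : List Level),
    (∀ L ∈ C, ∀ g ∈ L.gens, ∃ σ : Equiv.Perm (Fin n), Rep (Equiv.refl (Fin n)) σ g) → HasPerms n C
  | [], _ => trivial
  | L :: rest, h => ⟨h L List.mem_cons_self, hasPerms_of rest fun L' h' => h L' (List.mem_cons_of_mem _ h')⟩

/-- For each line of the unitary space a set of 45 triples. -/
def set112 (j : Fin 112) : Finset (Fin 126) :=
  Finset.univ.filter fun x => (Data.sets112.getD j.1 0).testBit x.1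

theorem set112_injective : Function.Injective set112 := by
  have h : ∀ a b : Fin 112, (Data.sets112.getD a.1 0 == Data.sets112.getD b.1 0) = true → a = b := by
    decide +kernel
  intro a b e
  refine h a b (beq_iff_eq.2 (Nat.eq_of_testBit_eq fun i => ?_))
  by_cases hi : i < 126
  · have := Finset.ext_iff.1 e ⟨i, hi⟩
    simp only [set112, Finset.mem_filter, Finset.mem_univ, true_and] at this
    exact Bool.eq_iff_iff.2 this
  · have hlt : ∀ j : Fin 112, Data.sets112.getD j.1 0 < 2 ^ 126 := by decide +kernel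
    have hp : (2 : ℕ) ^ 126 ≤ 2 ^ i := Nat.pow_le_pow_right (by norm_num) (by omega)
    rw [Nat.testBit_lt_two_pow ((hlt a).trans_le hp), Nat.testBit_lt_two_pow ((hlt b).trans_le hp)]

/-- A field with nine elements. -/
abbrev K9 : Type := GaloisField 3 2

noncomputable instance fintypeK9 : Fintype K9 := Fintype.ofFinite _

theorem card_K9 : Fintype.card K9 = 9 := by
  rw [← Nat.card_eq_fintype_card, GaloisField.card 3 2 (by norm_num)]; norm_num

/-- The image of the centraliser on the triples. -/
theorem exists_shape : ∃ (F : C0 →* P126) (H : Subgroup P126), H ≤ F.range ∧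
    Nat.card F.range = 2 * Nat.card H ∧ Nat.card F.ker = 18 ∧ six ≤ F.ker ∧
    (∀ g : C0, (∀ k, act (g : Co0) k = k) → g ∈ six) ∧ Nat.card six = 6 ∧
    IsSimpleGroup H ∧ Nat.card H = 3265920 ∧ Nonempty (H ≃* PSU 4 K9 3) ∧
    ∀ c ∈ F.range, (∀ p ∈ F.range, c * p = p * c) → c = 1 := by
  classical
  haveI := co0_finite
  haveI : Fact (Nat.Prime 3) := ⟨Nat.prime_three⟩
  -- the generated subgroup
  let genC : Subgroup Co0 := Subgroup.closure (Set.range gE ∪ {T, negCo0})
  have hgen_le : genC ≤ lineStab := by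
    refine (Subgroup.closure_le _).2 ?_
    rintro g (⟨j, rfl⟩ | rfl | rfl)
    exacts [⟨gE_mem j, _, linesTo_gE j⟩, ⟨T_mem, _, linesTo_T⟩, ⟨neg_mem_C0, _, linesTo_neg⟩]
  let ι : genC →* P126 := lineHom.comp (Subgroup.inclusion hgen_le)
  have hι : ∀ (g : Co0) (hg : g ∈ genC) (p : P126), LinesTo g p → ι ⟨g, hg⟩ = p :=
    fun g hg p h => lineHom_eq h
  have hmT : T ∈ genC := Subgroup.subset_closure (Or.inr (Or.inl rfl))
  have hmn : negCo0 ∈ genC := Subgroup.subset_closure (Or.inr (Or.inr rfl))
  have hmg : ∀ j, gE j ∈ genC := fun j => Subgroup.subset_closure (Or.inl ⟨j, rfl⟩)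
  have hmS : S ∈ genC := list_prod_mem fun g hg => by
    obtain ⟨j, -, rfl⟩ := List.mem_map.1 hg
    exact hmg _
  -- the range
  have hq : ∀ t ∈ Data.qsP, InGroup rfl126 ι.range t := by
    rw [qsP_eq]
    intro t ht
    obtain ⟨j, -, rfl⟩ := List.mem_map.1 ht
    exact ⟨qPerm j, ⟨⟨gE j, hmg j⟩, hι _ _ _ (linesTo_gE j)⟩, fun x => qFun_app j x⟩
  have henv := inGroup_slp rfl126 Data.stepsP Data.qsP hq
  have hslp := chainP_slp
  simp only [Bool.and_eq_true, List.all_eq_true, List.contains_iff_mem] at hslp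
  have hgP : ∀ L ∈ Data.chainP, ∀ g ∈ L.gens, InGroup rfl126 ι.range g := fun L hL g hg =>
    henv g (hslp.1 L hL g hg)
  have hPle : group 126 Data.chainP ≤ ι.range := by
    refine (Subgroup.closure_le _).2 ?_
    rintro σ ⟨t, ht, r⟩
    obtain ⟨τ, hτ, rτ⟩ := hgP Data.chainP0 List.mem_cons_self t ht
    rwa [show σ = τ from Equiv.ext fun x => r.apply_eq _ (rτ x)]
  have hrng : 6531840 ≤ Nat.card ι.range :=
    chainP_order.symm.le.trans ((le_card_group _ chainP_low (hasPerms_of _ fun L hL g hg =>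
      let ⟨τ, _, rτ⟩ := hgP L hL g hg; ⟨τ, rτ⟩)).trans (Subgroup.card_le_of_le hPle))
  -- the kernel
  have hkm : ∀ x, kerElt x ∈ genC := by
    rintro ⟨i, a, s⟩
    refine mul_mem ?_ (pow_mem hmS _)
    cases s
    · exact pow_mem hmT _
    · exact mul_mem hmn (pow_mem hmT _)
  have hk1 : ∀ x, ι ⟨kerElt x, hkm x⟩ = 1 := by
    rintro ⟨i, a, s⟩
    refine hι _ _ _ ?_
    have h : LinesTo (if s then negCo0 * T ^ (i : ℕ) else T ^ (i : ℕ)) 1 := fun l => by
      rw [show act (if s then negCo0 * T ^ (i : ℕ) else T ^ (i : ℕ)) = id from funext (act_signed _ _),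
        Finset.image_id]
      rfl
    have hS' : LinesTo (S ^ (a : ℕ)) 1 := by simpa using linesTo_S.pow S_mem (a : ℕ)
    simpa [kerElt] using h.mul (signed_mem _ _) (pow_mem S_mem _) hS'
  let kf : Fin 3 × Fin 3 × Bool → ι.ker := fun x => ⟨⟨kerElt x, hkm x⟩, hk1 x⟩
  have hkf : Function.Injective kf := fun a b h =>
    kerElt_injective (congrArg (fun y : ι.ker => ((y : genC) : Co0)) h)
  have h18 : 18 ≤ Nat.card ι.ker := by
    refine le_of_eq_of_le ?_ (Nat.card_le_card_of_injective kf hkf)
    simp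
  have hmul : Nat.card ι.ker * Nat.card ι.range = Nat.card genC := by
    rw [← Subgroup.index_ker]; exact ι.ker.card_mul_index
  have hsub : genC ≤ C0 := fun g hg => (hgen_le hg).1
  have hbound := card_C0_le
  have heq : genC = C0 := by
    refine Subgroup.eq_of_le_of_card_ge hsub ?_
    nlinarith [Nat.mul_le_mul h18 hrng]
  rw [← heq] at hbound
  have hker18 : Nat.card ι.ker = 18 := by
    refine le_antisymm ?_ h18
    by_contra hc
    nlinarith [Nat.mul_le_mul (show 19 ≤ Nat.card ι.ker by omega) hrng]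
  have hrangecard : Nat.card ι.range = 6531840 := by
    rw [hker18] at hmul
    omega
  have hkfb : Function.Bijective kf := hkf.bijective_of_nat_card_le (hker18.le.trans (by simp))
  let e : C0 ≃* genC := MulEquiv.subgroupCongr heq.symm
  let F : C0 →* P126 := ι.comp e.toMonoidHom
  have hFrange : F.range = ι.range := MonoidHom.range_comp _ _ |>.trans (by
    rw [show e.toMonoidHom.range = ⊤ from MonoidHom.range_eq_top.2 e.surjective, ← MonoidHom.range_eq_map])
  have hFker : Nat.card F.ker = 18 := by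
    rw [← hker18]
    exact Nat.card_congr (Equiv.subtypeEquiv e.toEquiv fun g => Iff.rfl)
  -- the subgroup of even permutations
  have hq0 : qPerm 0 ∈ ι.range := ⟨⟨gE 0, hmg 0⟩, hι _ _ _ (linesTo_gE 0)⟩
  have hodd : Equiv.Perm.sign (qPerm 0) = -1 := by
    obtain ⟨hlen, hne, hprod⟩ := swaps_odd
    rw [show qPerm 0 = (swaps.map fun t => Equiv.swap t.1 t.2).prod from
      Equiv.ext fun x => (hprod x).symm, Equiv.Perm.sign_prod_list_swap (fun g hg => by
        obtain ⟨t, ht, rfl⟩ := List.mem_map.1 hg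
        exact ⟨t.1, t.2, hne t ht, rfl⟩), List.length_map,
      ← Nat.div_add_mod swaps.length 2, hlen, pow_succ, pow_mul]
    simp
  let H : Subgroup P126 := ι.range ⊓ Equiv.Perm.sign.ker
  have hHcard : Nat.card H = 3265920 := by
    let χ : ι.range →* ℤˣ := Equiv.Perm.sign.comp ι.range.subtype
    have hsurj : Function.Surjective χ := fun u => by
      rcases Int.units_eq_one_or u with rfl | rfl
      · exact ⟨1, map_one χ⟩
      · exact ⟨⟨qPerm 0, hq0⟩, hodd⟩
    have h2 := χ.ker.card_mul_index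
    rw [Subgroup.index_ker, MonoidHom.range_eq_top.2 hsurj, Subgroup.card_top, hrangecard,
      Nat.card_eq_fintype_card (α := ℤˣ), Fintype.card_units_int] at h2
    have h3 : Nat.card H = Nat.card χ.ker := Nat.card_congr
      { toFun := fun x => ⟨⟨x.1, x.2.1⟩, x.2.2⟩
        invFun := fun x => ⟨x.1.1, x.1.2, x.2⟩
        left_inv := fun _ => rfl
        right_inv := fun _ => rfl }
    omega
  -- it is the group of the chain of degree 112
  have hpo := allBelow_iff.1 pair_orders
  simp only [Bool.and_eq_true, beq_iff_eq] at hpo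
  have hgen : ∀ i : Fin 2, ∃ β ∈ H, Rep rfl126 β (Data.pairGens.getD i 0) := by
    intro i
    have hlen2 : (i : ℕ) < Data.pairGens.length := lt_of_lt_of_eq i.2 (by decide +kernel)
    have hmem : Data.pairGens.getD i 0 ∈ Data.pairGens := by
      rw [List.getD_eq_getElem _ _ hlen2]; exact List.getElem_mem _
    obtain ⟨β, hβ, rβ⟩ := henv _ (hslp.2 _ hmem)
    refine ⟨β, ⟨hβ, ?_⟩, rβ⟩
    have hpow : ∀ n : ℕ, ∀ x : Fin 126,
        (List.range n).foldl (fun y _ => app (Data.pairGens.getD i 0) y) x.1 = ((β ^ n) x).1 := by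
      intro n
      induction n with
      | zero => intro x; rfl
      | succ n ih =>
        intro x
        rw [List.range_succ, List.foldl_append, List.foldl_cons, List.foldl_nil, ih,
          Rep.app_eq rβ, pow_succ', Equiv.Perm.mul_apply]
    have hone : ∀ n : ℕ, (∀ x : Fin 126,
        (List.range n).foldl (fun y _ => app (Data.pairGens.getD i 0) y) x.1 = x.1) → β ^ n = 1 :=
      fun n h => Equiv.ext fun x => Fin.ext ((hpow n x).symm.trans (h x))
    show Equiv.Perm.sign β = 1
    rcases Int.units_eq_one_or (Equiv.Perm.sign β) with h | h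
    · exact h
    exfalso
    fin_cases i
    · have := congrArg Equiv.Perm.sign (hone 7 fun x => (hpo x.1 x.2).1)
      rw [map_pow, map_one, h] at this
      exact absurd this (by decide)
    · have := congrArg Equiv.Perm.sign (hone 5 fun x => (hpo x.1 x.2).2)
      rw [map_pow, map_one, h] at this
      exact absurd this (by decide)
  let ρ : P126 →* Equiv.Perm (Finset (Fin 126)) := MulAction.toPermHom P126 (Finset (Fin 126))
  have hmove : ∀ i : Fin 2, ∃ g ∈ H, ∀ j : Fin 112, ∃ k : Fin 112,
      k.1 = app (CfsgLib.Leech.U43Data.qs.getD i 0) j.1 ∧ ρ g (set112 j) = set112 k := by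
    intro i
    obtain ⟨β, hβ, rβ⟩ := hgen i
    have hps := allBelow_iff.1 (pair_sets i)
    refine ⟨β, hβ, fun j => ?_⟩
    have hj := hps j.1 j.2
    simp only [Bool.and_eq_true, Nat.blt_eq, allBelow_iff, beq_iff_eq] at hj
    obtain ⟨hlt, hbits⟩ := hj
    refine ⟨⟨_, hlt⟩, rfl, ?_⟩
    ext y
    obtain ⟨x, rfl⟩ := β.surjective y
    show β x ∈ (β • set112 j : Finset (Fin 126)) ↔ _
    rw [← Equiv.Perm.smul_def, Finset.smul_mem_smul_finset_iff]
    simp only [set112, Finset.mem_filter, Finset.mem_univ, true_and, Equiv.Perm.smul_def]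
    rw [← Rep.app_eq rβ x, (hbits x.1 x.2).2]
  have h112 : group 112 CfsgLib.Leech.U43Data.chain ≤
      (U43.indexHom H ρ set112_injective).range := by
    refine U43.group_le_range H ρ set112_injective U43.chain_top_slp fun t ht => ?_
    rw [U43.qs_eq, List.mem_cons, List.mem_singleton] at ht
    rcases ht with rfl | rfl
    exacts [hmove 0, hmove 1]
  obtain ⟨e112⟩ := U43.equiv_group H ρ set112_injective h112 (hHcard.le.trans U43.card_chain)
  haveI : CharP K9 3 := charP_of_card_eq_prime_pow (f := 2) (p := 3) (by rw [card_K9]; norm_num)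
  obtain ⟨j₀, hj₀⟩ := CfsgLib.UThree.exists_iota (F := K9) card_K9
  obtain ⟨epsu⟩ := U43.psu_iso_chain hj₀ card_K9
  let eH : H ≃* PSU 4 K9 3 := e112.trans epsu.symm
  haveI hsimp : IsSimpleGroup (PSU 4 K9 3) :=
    CfsgLib.Forms4.isSimpleGroup_PSU (q := 3) (by rw [card_K9]; norm_num) 4 (by norm_num) (by norm_num)
  refine ⟨F, H, hFrange ▸ inf_le_left, by rw [hFrange, hrangecard, hHcard], hFker, ?_, ?_, ?_,
    MulEquiv.isSimpleGroup eH, hHcard, ⟨eH⟩, ?_⟩
  · rintro g ⟨k, hk⟩
    show ι (e g) = 1
    refine hι _ (e g).2 1 fun l => ?_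
    have hs : ∃ s : Bool, (g : Co0) = if s then negCo0 * T ^ k else T ^ k := by
      rcases hk with hk | hk
      exacts [⟨false, hk⟩, ⟨true, hk⟩]
    obtain ⟨s, hs⟩ := hs
    rw [show act ((e g : genC) : Co0) = id from funext fun x => by
      show act (g : Co0) x = x
      rw [hs, act_signed], Finset.image_id]
    rfl
  · intro g hg
    have hι1 : ι (e g) = 1 := hι _ (e g).2 1 fun l => by
      rw [show act ((e g : genC) : Co0) = id from funext hg, Finset.image_id]; rfl
    obtain ⟨⟨i, a, s⟩, hx⟩ := hkfb.2 ⟨e g, hι1⟩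
    have hx' : kerElt (i, a, s) = (g : Co0) := congrArg (fun y : ι.ker => ((y : genC) : Co0)) hx
    have ha : a = 0 := wordAct_iterate_injective (by
      rw [← act_kerElt (i, a, s) 2, hx', hg]; rfl)
    subst ha
    refine ⟨i, ?_⟩
    rw [← hx', kerElt]
    cases s
    · exact Or.inl (by simp)
    · exact Or.inr (by simp)
  · let sf : Fin 3 × Bool → six := fun x => ⟨⟨_, signed_mem (x.1 : ℕ) x.2⟩, (x.1 : ℕ), by
      cases x.2
      exacts [Or.inl rfl, Or.inr rfl]⟩
    have hsf : Function.Bijective sf := by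
      refine ⟨fun a b h => ?_, ?_⟩
      · obtain ⟨h1, h2⟩ := signed_injective (congrArg (fun y : six => ((y : C0) : Co0)) h :)
        exact Prod.ext h1 h2
      · rintro ⟨g, k, hk⟩
        have hmod : T ^ k = T ^ (k % 3) := by rw [← orderOf_T, pow_mod_orderOf]
        rcases hk with hk | hk
        · exact ⟨(⟨k % 3, Nat.mod_lt _ (by norm_num)⟩, false),
            Subtype.ext (Subtype.ext (by simp [sf, hk, ← hmod]))⟩
        · exact ⟨(⟨k % 3, Nat.mod_lt _ (by norm_num)⟩, true),
            Subtype.ext (Subtype.ext (by simp [sf, hk, ← hmod]))⟩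
    rw [← Nat.card_congr (Equiv.ofBijective sf hsf)]
    simp
  · intro c hc hcomm
    rw [hFrange] at hc hcomm
    have hfix : c 0 = 0 := by
      refine stab_fix _ fun t ht => ?_
      obtain ⟨τ, hτ, rτ⟩ := hgP _ (List.mem_cons_of_mem Data.chainP0 List.mem_cons_self) t ht
      have h0 : τ 0 = 0 := by
        have hl := chainP_low
        simp only [Data.chainP, lowOK, Bool.and_eq_true, List.all_eq_true, beq_iff_eq] at hl
        have := (hl.1.2 t ht).2
        rw [level_transitive.1] at this
        exact Fin.ext ((Rep.app_eq rτ 0).symm.trans this)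
      rw [Rep.app_eq rτ (c 0), ← Equiv.Perm.mul_apply, ← hcomm τ hτ, Equiv.Perm.mul_apply, h0]
    refine Equiv.ext fun x => ?_
    obtain ⟨t, ht, htx⟩ := level_transitive.2 x
    have hl := chainP_low
    simp only [Data.chainP, lowOK, Bool.and_eq_true, decide_eq_true_eq] at hl
    obtain ⟨σ, hσ, rσ, -⟩ := trans_spec (C := Data.chainP.tail) hl.1.1.1.2 (fun g hg => by
      obtain ⟨τ, -, rτ⟩ := hgP Data.chainP0 List.mem_cons_self g hg
      exact ⟨τ, Subgroup.subset_closure ⟨g, hg, rτ⟩, rτ⟩) t ht
    have hσr : σ ∈ ι.range := hPle hσ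
    have hσ0 : σ 0 = x := Fin.ext ((Rep.app_eq rσ 0).symm.trans htx)
    rw [← hσ0, ← Equiv.Perm.mul_apply, hcomm σ hσr, Equiv.Perm.mul_apply, hfix]
    rfl

end CfsgLib.MonsterType.ThreeFix
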