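import Cfsg.Agent.MonsterType.ThompsonType
import Cfsg.Agent.MonsterType.ThreeFixImage

/-!
# Elements of order three of a pair of conjugates of `z` centralising a full Sylow subgroup
-/

set_option autoImplicit false
set_option linter.style.haveILetI false

namespace CfsgLib.MonsterType

open Cfsg CfsgLib.Leech CfsgLib.Mathieu CfsgLib.TwoBlockMathieu

namespace ThreeFix

/-- The class of the element in the first Conway group. -/
noncomputable def Tbar : Spor.Co1 := QuotientGroup.mk T

theorem pow_of_mk_eq {i j : ℕ} (h : Tbar ^ i = Tbar ^ j) : T ^ i = T ^ j := by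
  have h' : (T ^ i)⁻¹ * T ^ j ∈ Subgroup.center Co0 :=
    QuotientGroup.eq.1 (by simpa [Tbar] using h)
  rcases center_cases h' with e | e
  · exact inv_mul_eq_one.1 e
  · exfalso
    rw [← inv_pow, inv_eq_of_mul_eq_one_right (a := T) (b := T ^ 2) (by
      rw [← pow_succ']; exact T_pow_three), ← pow_mul, ← pow_add] at e
    exact neg_ne_pow _ e.symm

theorem conj_pow_of_mk {g : Co0} {j : ℕ}
    (h : (QuotientGroup.mk (g * T * g⁻¹) : Spor.Co1) = Tbar ^ j) : g * T * g⁻¹ = T ^ j := by
  have h' : (g * T * g⁻¹)⁻¹ * T ^ j ∈ Subgroup.center Co0 := QuotientGroup.eq.1 (by simpa [Tbar] using h)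
  rcases center_cases h' with e | e
  · exact inv_mul_eq_one.1 e
  · exfalso
    rw [inv_mul_eq_iff_eq_mul] at e
    have h3 : (T ^ j) ^ 3 = 1 := by rw [← pow_mul, mul_comm, pow_mul, T_pow_three, one_pow]
    rw [e, (show Commute (g * T * g⁻¹) negCo0 from
      (Subgroup.mem_center_iff.1 negCo0_mem_center _)).mul_pow, conj_pow, T_pow_three, mul_one,
      mul_inv_cancel, one_mul] at h3
    refine negCo0_ne_one ?_
    rwa [pow_succ, sq negCo0, negCo0_sq, one_mul] at h3

theorem orderOf_Tbar : orderOf Tbar = 3 := by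
  haveI : Fact (Nat.Prime 3) := ⟨Nat.prime_three⟩
  refine orderOf_eq_prime (by rw [Tbar, ← QuotientGroup.mk_pow, T_pow_three]; rfl) fun h => T_ne_one ?_
  simpa using pow_of_mk_eq (i := 1) (j := 0) (by simpa using h)

end ThreeFix

theorem dvd_card_range {n : ℕ} {A B : Type*} [Group A] [Group B] (f : A →* B) (hn : n ∣ Nat.card A)
    {m : ℕ} (hker : Nat.card f.ker ∣ m) (hcop : n.Coprime m) : n ∣ Nat.card f.range := by
  have h := f.ker.card_mul_index
  rw [Subgroup.index_ker] at h
  rw [← h] at hn
  exact (Nat.Coprime.coprime_dvd_right hker hcop).dvd_of_dvd_mul_left hn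

/-- An element of order three of the monomial group centralising a full Sylow subgroup is conjugate to
a power of the element with six fixed points. -/
theorem classStab_threeFix {g : classStab frameV} (h : orderOf g = 3)
    (h27 : 27 ∣ Nat.card (Subgroup.centralizer ({g} : Set (classStab frameV)))) :
    ∃ (k : classStab frameV) (i : ℕ), (k : Co0) * g * (k : Co0)⁻¹ = ThreeFix.T ^ i := by
  haveI := co0_finite
  haveI : Fact (Nat.Prime 3) := ⟨Nat.prime_three⟩
  have hg := orderOf_permPart h
  obtain ⟨j, hj⟩ := exists_isConj_elt M24Data.valid (g := permPart g) (by rw [hg]; decide) (permPart_ne_one h)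
  obtain ⟨c, hc⟩ := isConj_iff.1 hj
  have hr : M24Data.cert.cls[j].r = 3 := by
    rw [← orderOf_elt M24Data.valid j, ← hc, ← MulAut.conj_apply, MulEquiv.orderOf_eq, hg]
  rcases Three.class_three j hr with rfl | rfl
  · exfalso
    let S := Subgroup.centralizer ({g} : Set (classStab frameV))
    let U := Subgroup.centralizer ({permPart g} : Set M24)
    let f : S →* U := (permPart.comp S.subtype).codRestrict U fun a =>
      Subgroup.mem_centralizer_singleton_iff.2 (by
        show permPart (a : classStab frameV) * permPart g = permPart g * permPart (a : classStab frameV)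
        rw [← map_mul, ← map_mul, Subgroup.mem_centralizer_singleton_iff.1 a.2])
    have hU : Nat.card U = 504 := by
      rw [← Three.card_centralizer_tau]
      refine Nat.card_congr (conjEquivOfIff c fun x => ?_).toEquiv
      rw [Subgroup.mem_centralizer_singleton_iff, Subgroup.mem_centralizer_singleton_iff,
        Three.tau_eq_elt, ← hc]
      constructor
      · intro e
        calc c * x * c⁻¹ * (c * permPart g * c⁻¹) = c * (x * permPart g) * c⁻¹ := by group
          _ = c * permPart g * c⁻¹ * (c * x * c⁻¹) := by rw [e]; group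
      · intro e
        calc x * permPart g = c⁻¹ * (c * x * c⁻¹ * (c * permPart g * c⁻¹)) * c := by group
          _ = permPart g * x := by rw [e]; group
    have hker : Nat.card f.ker ∣ 4096 := by
      rw [← card_permPart_ker]
      exact Subgroup.card_dvd_of_injective ((S.subtype.comp f.ker.subtype).codRestrict permPart.ker
        fun a => congrArg Subtype.val (MonoidHom.mem_ker.1 a.2))
        fun a b e => Subtype.ext (Subtype.ext (congrArg Subtype.val e :))
    have h1 := (dvd_card_range f h27 hker (by norm_num)).trans (Subgroup.card_subgroup_dvd_card f.range)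
    rw [hU] at h1
    norm_num at h1
  · let t : classStab frameV := ⟨ThreeFix.T, ThreeFix.T_mem_classStab⟩
    have ht : permPart t = (⟨ThreeFix.tau, ThreeFix.tau_mem⟩ : M24)⁻¹ :=
      permPart_mono (hc := Spor.empty_mem_supports_golayCode) rfl
    obtain ⟨r, rfl⟩ := permPart_surjective c
    obtain ⟨k, i, hk, -⟩ := conj_in_fibre (g := t) (g' := r * g * r⁻¹)
      (by rw [← Subgroup.orderOf_coe]; exact ThreeFix.orderOf_T)
      (((MulAut.conj r).orderOf_eq g).trans h)
      (by
        rw [map_mul, map_mul, map_inv, hc, ← ThreeFix.tau_eq_elt,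
          ← inv_inv (⟨ThreeFix.tau, ThreeFix.tau_mem⟩ : M24), ← ht]
        exact Subgroup.inv_mem _ (Subgroup.mem_zpowers _))
    refine ⟨k * r, i, ?_⟩
    have hk' := congrArg Subtype.val hk
    simp only [Subgroup.coe_mul, Subgroup.coe_inv, SubgroupClass.coe_pow] at hk'
    rw [Subgroup.coe_mul, mul_inv_rev, ← hk']
    group

variable {G : Type*} [Group G] [Finite G] {z : G}
  {Q : Subgroup (Subgroup.centralizer ({z} : Set G))} [Q.Normal]
  {e : (Subgroup.centralizer ({z} : Set G)) ⧸ Q ≃* Spor.Co1}
  {ψ : leechLattice → Q ⧸ Subgroup.center Q}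
  (hS : IsExtraspecialCentralizerSetting z Q 12) (hψ : IsLeechModTwoIso Q e ψ)
include hS hψ

/-- An element of order three of the pair centralising a full Sylow subgroup is conjugate there to one
over a power of the element with six fixed points. -/
theorem pair_threeFix {x : Q} (hx : ψ frameV = QuotientGroup.mk x)
    {a : Subgroup.centralizer ({z} : Set G)} (ha : orderOf a = 3)
    (haM : a ∈ Subgroup.centralizer {(x : Subgroup.centralizer ({z} : Set G))})
    (h27 : 27 ∣ Nat.card (Subgroup.centralizer ({z, toG x, (a : G)} : Set G))) :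
    ∃ (h : Subgroup.centralizer ({z} : Set G)) (i : ℕ),
      h ∈ Subgroup.centralizer {(x : Subgroup.centralizer ({z} : Set G))} ∧
      e (QuotientGroup.mk (h * a * h⁻¹)) = ThreeFix.Tbar ^ i := by
  haveI := co0_finite
  haveI : Finite Spor.Co1 := inferInstanceAs (Finite (Co0 ⧸ Subgroup.center Co0))
  haveI : Fact (Nat.Prime 3) := ⟨Nat.prime_three⟩
  set M := Subgroup.centralizer {(x : Subgroup.centralizer ({z} : Set G))} with hM
  have hxc := frame_not_center hS hψ hx
  obtain ⟨g₁, hg₁⟩ := QuotientGroup.mk_surjective (e (QuotientGroup.mk a))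
  have hgS : g₁ ∈ classStab frameV :=
    mem_classStab_of_commute hψ hx (Subgroup.mem_centralizer_singleton_iff.1 haM) hg₁
  have hβ := orderOf_image (e := e) hS ha
  have hmk : (QuotientGroup.mk (g₁ ^ 4) : Spor.Co1) = e (QuotientGroup.mk a) := by
    rw [QuotientGroup.mk_pow, hg₁, ← pow_mod_orderOf, hβ, pow_one]
  have h4 : orderOf (g₁ ^ 4) = 3 := by
    refine orderOf_eq_prime ?_ fun h => ?_
    · have h3 : g₁ ^ 3 ∈ Subgroup.center Co0 := by
        rw [← QuotientGroup.eq_one_iff, QuotientGroup.mk_pow, hg₁, ← pow_mod_orderOf, hβ, pow_zero]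
      rw [← pow_mul, show 4 * 3 = 3 * 2 * 2 from rfl, pow_mul, pow_mul]
      rcases center_cases h3 with h | h <;> rw [h]
      · rw [one_pow, one_pow]
      · rw [sq negCo0, negCo0_sq, one_pow]
    · rw [h, QuotientGroup.mk_one] at hmk
      rw [← hmk, orderOf_one] at hβ
      omega
  let g : classStab frameV := ⟨g₁ ^ 4, pow_mem hgS 4⟩
  have hg : orderOf g = 3 := by rw [← Subgroup.orderOf_coe]; exact h4
  let U := Subgroup.centralizer ({z, toG x, (a : G)} : Set G)
  have hUle : U ≤ Subgroup.centralizer ({z} : Set G) := fun u hu =>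
    Subgroup.mem_centralizer_singleton_iff.2 (Subgroup.mem_centralizer_iff.1 hu z (by simp)).symm
  have hUz : ∀ u : U, (u : G) ∈ Subgroup.centralizer ({z} : Set G) := fun u => hUle u.2
  let φ : U →* Spor.Co1 := (e.toMonoidHom.comp (QuotientGroup.mk' Q)).comp
    (Subgroup.inclusion hUle)
  let S := Subgroup.centralizer ({g} : Set (classStab frameV))
  let ν : S →* Spor.Co1 :=
    ((QuotientGroup.mk' (Subgroup.center Co0)).comp (classStab frameV).subtype).comp S.subtype
  have hle : φ.range ≤ ν.range := by
    rintro _ ⟨u, rfl⟩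
    let uC : Subgroup.centralizer ({z} : Set G) := ⟨u, hUz u⟩
    obtain ⟨m, hm⟩ := QuotientGroup.mk_surjective (e (QuotientGroup.mk uC))
    have hux : Commute uC (x : Subgroup.centralizer ({z} : Set G)) :=
      Subtype.ext (Subgroup.mem_centralizer_iff.1 u.2 (toG x) (by simp)).symm
    have hua : Commute uC a :=
      Subtype.ext (Subgroup.mem_centralizer_iff.1 u.2 (a : G) (by simp)).symm
    have hmS : m ∈ classStab frameV := mem_classStab_of_commute hψ hx hux hm
    have hmem : (m * g₁ ^ 4 * m⁻¹) * (g₁ ^ 4)⁻¹ ∈ Subgroup.center Co0 := by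
      have hc : Commute (QuotientGroup.mk m : Spor.Co1) (QuotientGroup.mk (g₁ ^ 4)) := by
        rw [hm, hmk]
        exact ((hua.map (QuotientGroup.mk' Q)).map e.toMonoidHom)
      refine (QuotientGroup.eq_one_iff (_ : Co0)).1 ?_
      rw [QuotientGroup.mk_mul, QuotientGroup.mk_mul, QuotientGroup.mk_mul, QuotientGroup.mk_inv,
        QuotientGroup.mk_inv]
      exact mul_inv_eq_one.2 (mul_inv_eq_iff_eq_mul.2 hc.eq)
    have hcomm : m * g₁ ^ 4 = g₁ ^ 4 * m := by
      rcases center_cases hmem with h | h
      · exact mul_inv_eq_iff_eq_mul.1 (mul_inv_eq_one.1 h)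
      · exfalso
        have h3 : (g₁ ^ 4) ^ 3 = 1 := by
          have := pow_orderOf_eq_one (g₁ ^ 4)
          rwa [h4] at this
        have h' := congrArg (· ^ 3) (mul_inv_eq_iff_eq_mul.1 h)
        simp only [conj_pow, h3, mul_one, mul_inv_cancel,
          (ThreeFix.commute_neg (g₁ ^ 4)).mul_pow] at h'
        rw [pow_succ, sq negCo0, negCo0_sq, one_mul] at h'
        exact negCo0_ne_one h'.symm
    exact ⟨⟨⟨m, hmS⟩, Subgroup.mem_centralizer_singleton_iff.2 (Subtype.ext hcomm)⟩, hm⟩
  have hker : Nat.card φ.ker ∣ 2 ^ 25 := by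
    have hmem : ∀ u : φ.ker, (⟨((u : U) : G), hUz u⟩ : Subgroup.centralizer ({z} : Set G)) ∈ Q := fun u =>
      (QuotientGroup.eq_one_iff _).1 ((map_eq_one_iff e e.injective).1 (MonoidHom.mem_ker.1 u.2))
    have h := Subgroup.card_dvd_of_injective
      ((((Subgroup.inclusion hUle)).comp
        φ.ker.subtype).codRestrict Q hmem)
      fun u v huv => Subtype.ext (Subgroup.inclusion_injective hUle (congrArg Subtype.val huv :))
    rwa [hS.2.2.2.1] at h
  have h27S : 27 ∣ Nat.card S := ((dvd_card_range φ h27 hker (by norm_num)).trans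
    (Subgroup.card_dvd_of_le hle)).trans (Subgroup.card_range_dvd ν)
  obtain ⟨k, i, hk⟩ := classStab_threeFix hg h27S
  obtain ⟨h, hh, hc⟩ := lift_centralising hS hψ hx hxc k.2
  refine ⟨h, i, Subgroup.mem_centralizer_singleton_iff.2 hc.eq, ?_⟩
  rw [QuotientGroup.mk_mul, QuotientGroup.mk_mul, QuotientGroup.mk_inv, map_mul, map_mul, map_inv,
    ← hh, ← hmk, ThreeFix.Tbar, ← QuotientGroup.mk_inv, ← QuotientGroup.mk_mul, ← QuotientGroup.mk_mul,
    hk, QuotientGroup.mk_pow]

end CfsgLib.MonsterType
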