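import Cfsg.Agent.MonsterType.ThreeFixElimination

/-!
# No element inverting the element with six fixed points acts trivially on its fixed classes

Such an element would be monomial, fix the six fixed points, and hence map each of the six orbits of length three
to itself; none of the resulting permutations preserves the code.
-/

set_option autoImplicit false
set_option linter.style.haveILetI false
set_option maxRecDepth 20000

namespace CfsgLib.MonsterType.ThreeFix

open Cfsg CfsgLib.Leech CfsgLib.Mathieu

/-- The element on the numbered points. -/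
def tn (i : ℕ) : ℕ := app Data.tauTab i

/-- The six fixed points. -/
def fixPt (k : Fin 6) : ℕ := [0, 5, 10, 14, 18, 23].getD k 0

/-- Representatives of the six orbits, ordered as the fixed points missing from their octads. -/
def repPt (k : Fin 6) : ℕ := [3, 1, 7, 8, 13, 2].getD k 0

/-- The mask of an orbit. -/
def orbMask (q : ℕ) : ℕ := 2 ^ q ||| 2 ^ tn q ||| 2 ^ tn (tn q)

/-- The mask of five of the fixed points. -/
def fiveMask (k : Fin 6) : ℕ :=
  (List.finRange 6).foldl (fun m j => if j = k then m else m ||| 2 ^ fixPt j) 0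

theorem tn_idx (p : GolayPt) : tn (idx p) = idx (tau p) := tau_rep p

theorem fixPt_lt : ∀ k, fixPt k < 24 := by decide +kernel

theorem repPt_lt : ∀ k, repPt k < 24 := by decide +kernel

theorem tn_lt : ∀ i < 24, tn i < 24 := by decide +kernel

theorem octad_code : ∀ k, isCode (fiveMask k ||| orbMask (repPt k)) = true := by decide +kernel

theorem octad_unique : ∀ k, ∀ q < 24, isCode (fiveMask k ||| orbMask q) = true →
    q = repPt k ∨ q = tn (repPt k) ∨ q = tn (tn (repPt k)) ∨ ∃ j, q = fixPt j := by decide +kernel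

/-- The permutation given by the images of the six representatives. -/
def imgFun (c : Fin 6 → Fin 3) (i : ℕ) : ℕ :=
  (List.finRange 6).foldl (fun acc k =>
    let q := Nat.iterate tn (c k : ℕ) (repPt k)
    if i = repPt k then q else if i = tn (repPt k) then tn (tn q)
    else if i = tn (tn (repPt k)) then tn q else acc) i

/-- Its table. -/
def imgTab (c : Fin 6 → Fin 3) : ℕ :=
  (List.range 24).foldl (fun t i => t ||| imgFun c i <<< (8 * i)) 0

theorem imgTab_app : ∀ c : Fin 6 → Fin 3, ∀ i < 24, app (imgTab c) i = imgFun c i := by decide +kernel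

theorem imgTab_bad : ∀ c : Fin 6 → Fin 3, preservesCode (imgTab c) = false := by decide +kernel

theorem partition24 : ∀ i < 24, (∃ k, i = fixPt k) ∨
    ∃ k, i = repPt k ∨ i = tn (repPt k) ∨ i = tn (tn (repPt k)) := by decide +kernel

theorem imgFun_fix : ∀ (c : Fin 6 → Fin 3) (k : Fin 6), imgFun c (fixPt k) = fixPt k := by decide +kernel

theorem imgFun_orb : ∀ (c : Fin 6 → Fin 3) (k : Fin 6),
    imgFun c (repPt k) = Nat.iterate tn (c k : ℕ) (repPt k) ∧
    imgFun c (tn (repPt k)) = tn (tn (Nat.iterate tn (c k : ℕ) (repPt k))) ∧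
    imgFun c (tn (tn (repPt k))) = tn (Nat.iterate tn (c k : ℕ) (repPt k)) := by decide +kernel

theorem five_bits : ∀ k, ∀ i < 24, (fiveMask k).testBit i = true ↔ ∃ j, j ≠ k ∧ i = fixPt j := by decide +kernel

theorem mem_octad (k : Fin 6) (q : ℕ) (p : GolayPt) : p ∈ setOf24 (fiveMask k ||| orbMask q) ↔
    (∃ j, j ≠ k ∧ idx p = fixPt j) ∨ idx p = q ∨ idx p = tn q ∨ idx p = tn (tn q) := by
  rw [mem_setOf24, Nat.testBit_or, Bool.or_eq_true, five_bits k _ (idx_lt p), orbMask, Nat.testBit_or,
    Nat.testBit_or, Bool.or_eq_true, Bool.or_eq_true, Nat.testBit_two_pow, Nat.testBit_two_pow,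
    Nat.testBit_two_pow]
  simp only [decide_eq_true_eq, @eq_comm ℕ (idx p)]
  simp only [or_assoc]

/-- The image of one of the octads. -/
theorem image_orbit {π : Equiv.Perm GolayPt} (hπ : ∀ p, tau (π p) = π (tau (tau p)))
    (hfix : ∀ k, π (pt (fixPt k)) = pt (fixPt k)) (k : Fin 6) :
    (setOf24 (fiveMask k ||| orbMask (repPt k))).image π =
      setOf24 (fiveMask k ||| orbMask (idx (π (pt (repPt k))))) := by
  ext q
  obtain ⟨p, rfl⟩ := π.surjective q
  rw [Finset.mem_image]
  simp only [π.injective.eq_iff, exists_eq_right, mem_octad]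
  set r := pt (repPt k)
  have hr : repPt k = idx r := (idx_pt (repPt_lt k)).symm
  have h2 : π (tau (tau r)) = tau (π r) := (hπ r).symm
  have h1 : π (tau r) = tau (tau (π r)) := by
    have := hπ (tau (tau r))
    rw [tau_three] at this
    rw [← this, h2]
  have hf : ∀ j, idx (π p) = fixPt j ↔ idx p = fixPt j := fun j => by
    rw [← idx_pt (fixPt_lt j), idx_injective.eq_iff, idx_injective.eq_iff, ← hfix j, π.injective.eq_iff, hfix j]
  have e1 : π p = tau (π r) ↔ p = tau (tau r) := by rw [← h2, π.injective.eq_iff]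
  have e2 : π p = tau (tau (π r)) ↔ p = tau r := by rw [← h1, π.injective.eq_iff]
  simp only [hf, hr, tn_idx, idx_injective.eq_iff, e1, e2, π.injective.eq_iff]
  constructor <;> rintro (h | h | h | h) <;> simp [h]

theorem perm_none {π : Equiv.Perm GolayPt} (hmem : π ∈ M24) (hπ : ∀ p, tau (π p) = π (tau (tau p)))
    (hfix : ∀ k, π (pt (fixPt k)) = pt (fixPt k)) : False := by
  classical
  have h2 : ∀ p, π (tau (tau p)) = tau (π p) := fun p => (hπ p).symm
  have h1 : ∀ p, π (tau p) = tau (tau (π p)) := fun p => by
    have := h2 (tau (tau p))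
    rw [tau_three] at this
    rw [this, h2]
  have hc : ∀ k, ∃ c : Fin 3, idx (π (pt (repPt k))) = Nat.iterate tn (c : ℕ) (repPt k) := by
    intro k
    have himg : (setOf24 (fiveMask k ||| orbMask (repPt k))).image π ∈
        supports (golayCode : Set (GolayPt → ZMod 2)) :=
      setSystemAut_image_mem hmem (setOf24_mem_supports (octad_code k))
    rw [image_orbit hπ hfix k, supports_eq] at himg
    obtain ⟨N, hN, e⟩ := himg
    have hlt : fiveMask k ||| orbMask (idx (π (pt (repPt k)))) < 2 ^ 24 :=
      Nat.or_lt_two_pow ((by decide +kernel : ∀ k, fiveMask k < 2 ^ 24) k)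
        ((by decide +kernel : ∀ q < 24, orbMask q < 2 ^ 24) _ (idx_lt _))
    have hN' : isCode (fiveMask k ||| orbMask (idx (π (pt (repPt k))))) = true :=
      setOf24_inj (isCode_lt hN) hlt e ▸ hN
    rcases octad_unique k _ (idx_lt _) hN' with h | h | h | ⟨j, h⟩
    · exact ⟨0, h⟩
    · exact ⟨1, h⟩
    · exact ⟨2, h⟩
    · exfalso
      have e1 : π (pt (repPt k)) = pt (fixPt j) := by rw [← h, pt_idx]
      have e2 := congrArg idx (π.injective (e1.trans (hfix j).symm))
      rw [idx_pt (repPt_lt k), idx_pt (fixPt_lt j)] at e2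
      exact (by decide +kernel : ∀ k j, repPt k ≠ fixPt j) k j e2
  choose c hc using hc
  have hidx : ∀ p, idx (π p) = imgFun c (idx p) := by
    intro p
    have htn : ∀ q, idx (tau q) = tn (idx q) := fun q => (tn_idx q).symm
    rcases partition24 _ (idx_lt p) with ⟨k, h⟩ | ⟨k, h⟩
    · have hp : p = pt (fixPt k) := by rw [← h, pt_idx]
      rw [h, imgFun_fix, hp, hfix, idx_pt (fixPt_lt k)]
    · obtain ⟨a, b, d⟩ := imgFun_orb c k
      rcases h with h | h | h
      · have hp : p = pt (repPt k) := by rw [← h, pt_idx]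
        rw [h, a, hp, hc]
      · have hp : p = tau (pt (repPt k)) := idx_injective (by rw [htn, idx_pt (repPt_lt k), h])
        rw [h, b, hp, h1, htn, htn, hc]
      · have hp : p = tau (tau (pt (repPt k))) := idx_injective (by rw [htn, htn, idx_pt (repPt_lt k), h])
        rw [h, d, hp, h2, htn, hc]
  have hrep : Rep enc π (imgTab c) := fun p => by
    show app (imgTab c) (idx p) = idx (π p)
    rw [imgTab_app c _ (idx_lt p), hidx]
  have hbad := imgTab_bad c
  rw [← Bool.not_eq_true, preservesCode, List.all_eq_true] at hbad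
  refine hbad fun r hr => ?_
  have hr' : isCode r = true := (by decide +kernel : ∀ r ∈ codeRows, isCode r = true) r hr
  have hmem' := setSystemAut_image_mem hmem (setOf24_mem_supports hr')
  rw [image_setOf24 hrep, supports_eq] at hmem'
  obtain ⟨N, hN, e⟩ := hmem'
  rwa [← setOf24_inj (isCode_lt hN) 
    (Nat.lt_pow_two_of_testBit _ fun j hj => by
      by_contra hb
      rw [Bool.not_eq_false, testBit_push] at hb
      obtain ⟨i, hi, -, rfl⟩ := hb
      rw [imgTab_app c i hi] at hj
      exact absurd ((by decide +kernel : ∀ c : Fin 6 → Fin 3, ∀ i < 24, imgFun c i < 24) c i hi) (by omega)) e]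

/-- The pair vectors on the fixed points. -/
def pairFix (i j : Fin 6) : GolayPt → ℤ := fun p => if idx p = fixPt i ∨ idx p = fixPt j then 4 else 0

theorem pairFix_mem : ∀ i j : Fin 6, i ≠ j → leechB (pairFix i j) = true := by decide +kernel

theorem pairFix_norm : ∀ i j : Fin 6, i ≠ j → sqNorm (pairFix i j) = 32 := by decide +kernel

theorem pairFix_tau : ∀ i j : Fin 6, ∀ p, pairFix i j (tau p) = pairFix i j p := by decide +kernel

/-- The vectors of the frame lattice used to read off the permutation. -/
theorem abs_mono (π : Equiv.Perm GolayPt) (c : Finset GolayPt) (v : GolayPt → ℤ) (p : GolayPt) :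
    (monoFun π c v p).natAbs = (v (π p)).natAbs := by
  unfold monoFun; split <;> simp

theorem no_outer_fix {g : Co0} (hgT : g * T = T ^ 2 * g) (hfix : ∀ k, Cong (g • cls k) (cls k)) : False := by
  classical
  have hgS : g ∈ classStab frameV :=
    mem_classStab.2 (((Cong.smul g frame_cls).trans (hfix 1)).trans (Cong.symm frame_cls))
  obtain ⟨π, hπm, c, hc, rfl⟩ := eq_monoCo0 (preservesCross_of_classStab hgS)
  have hπ : ∀ p, tau (π p) = π (tau (tau p)) := by
    intro p
    have h := congrArg (fun x : Co0 => ((x • eightL (tau (π p)) : leechLattice) : GolayPt → ℤ) p) hgT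
    simp only [pow_two, mul_smul, T_smul, monoCo0_smul] at h
    have h' := congrArg Int.natAbs h
    rw [abs_mono, abs_mono, T_smul] at h'
    have e : ∀ a b : GolayPt, (((eightL a : leechLattice) : GolayPt → ℤ) b).natAbs ≠ 0 → b = a := fun a b hb => by
      by_contra hne
      exact hb (by simp [eightL, eight, hne])
    symm
    refine e _ _ ?_
    rw [← h']
    simp [eightL, eight]
  have hpair : ∀ (i j : Fin 6) (hij : i ≠ j) (p : GolayPt),
      pairFix i j (π p) ≠ 0 ↔ pairFix i j p ≠ 0 := by
    intro i j hij p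
    let v : leechLattice := ⟨pairFix i j, leechB_iff.1 (pairFix_mem i j hij)⟩
    have hTv : T • v = v := Subtype.ext (funext fun q => (T_smul v q).trans (pairFix_tau i j q))
    have hcv : Cong v (cls (clsIdx v)) := cls_complete (by rw [hTv]; exact Cong.refl _)
    have hgv : Cong (monoCo0 π hπm c hc • v) v :=
      ((Cong.smul _ hcv).trans (hfix _)).trans (Cong.symm hcv)
    have hn : sqNorm ((monoCo0 π hπm c hc • v : leechLattice) : GolayPt → ℤ) = 32 := by
      rw [co0_norm]; exact pairFix_norm i j hij
    have habs : (monoFun π c (pairFix i j) p).natAbs = (pairFix i j p).natAbs := by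
      rcases Cong.eq_or_neg hgv hn (by rw [show sqNorm (v : GolayPt → ℤ) = 32 from pairFix_norm i j hij]; norm_num)
        with e | e
      · exact congrArg Int.natAbs ((monoCo0_smul π hπm c hc v ▸ congrFun (congrArg Subtype.val e) p :))
      · have e' := congrArg Int.natAbs (congrFun (congrArg Subtype.val e) p)
        simpa [monoCo0_smul, v] using e'
    rw [abs_mono] at habs
    rw [← Int.natAbs_ne_zero, habs, Int.natAbs_ne_zero]
  refine perm_none hπm hπ fun k => ?_
  obtain ⟨a, b, hka, hkb, hab⟩ :=
    (by decide : ∀ k : Fin 6, ∃ a b : Fin 6, k ≠ a ∧ k ≠ b ∧ a ≠ b) k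
  have hk : idx (pt (fixPt k)) = fixPt k := idx_pt (fixPt_lt k)
  have hne : ∀ j, k ≠ j → idx (π (pt (fixPt k))) = fixPt k ∨ idx (π (pt (fixPt k))) = fixPt j := fun j hkj => by
    have := (hpair k j hkj (pt (fixPt k))).2 (by simp [pairFix, hk])
    by_contra hno
    exact this (by simp only [pairFix, if_neg hno])
  refine idx_injective (hk.symm ▸ ?_)
  rcases hne a hka with h | h
  · exact h
  rcases hne b hkb with h' | h'
  · exact h'
  · exact absurd ((by decide +kernel : Function.Injective fixPt) (h.symm.trans h')) hab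

end CfsgLib.MonsterType.ThreeFix
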