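import Cfsg.Agent.MonsterType.ThreeFixElimination

/-!
# The centralizer of a 3-central subgroup of order three of a pair: large Fischer type
-/

set_option autoImplicit false
set_option linter.style.haveILetI false

namespace CfsgLib.MonsterType

open Cfsg CfsgLib.Leech CfsgLib.Mathieu
open scoped commutatorElement

/-- A normal 2-subgroup dies in a group with simple subgroup of index two and trivial centre. -/
theorem two_group_le_ker {D P : Type*} [Group D] [Group P] [Finite P] (f : D →* P) (H : Subgroup P)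
    (hle : H ≤ f.range) (hidx : Nat.card f.range = 2 * Nat.card H) [IsSimpleGroup H]
    (hodd : 3 ∣ Nat.card H) (hcen : ∀ c ∈ f.range, (∀ p ∈ f.range, c * p = p * c) → c = 1)
    (X : Subgroup D) [hXn : X.Normal] (hX : IsPGroup 2 X) : X ≤ f.ker := by
  intro d hd
  haveI : Fact (Nat.Prime 2) := ⟨Nat.prime_two⟩
  have hnorm : ∀ p ∈ f.range, ∀ y ∈ X.map f, p * y * p⁻¹ ∈ X.map f := by
    rintro _ ⟨a, rfl⟩ _ ⟨b, hb, rfl⟩
    exact ⟨a * b * a⁻¹, hXn.conj_mem b hb a, by simp⟩
  haveI : ((X.map f).subgroupOf H).Normal := ⟨fun y hy h => hnorm h (hle h.2) y hy⟩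
  have hint : ∀ y ∈ X.map f, y ∈ H → y = 1 := by
    intro y hy hyH
    rcases IsSimpleGroup.eq_bot_or_eq_top_of_normal ((X.map f).subgroupOf H) inferInstance with h | h
    · have : (⟨y, hyH⟩ : H) ∈ (X.map f).subgroupOf H := hy
      rw [h, Subgroup.mem_bot] at this
      exact congrArg Subtype.val this
    · exfalso
      obtain ⟨n, hn⟩ := ((hX.map f).to_le (Subgroup.subgroupOf_eq_top.1 h)).exists_card_eq
      rw [hn] at hodd
      exact absurd (Nat.le_of_dvd (by norm_num) (Nat.prime_three.dvd_of_dvd_pow hodd)) (by norm_num)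
  have hindex : (H.subgroupOf f.range).index = 2 := by
    have h := (H.subgroupOf f.range).card_mul_index
    rw [Nat.card_congr (Subgroup.subgroupOfEquivOfLe hle).toEquiv, hidx, mul_comm 2] at h
    exact Nat.eq_of_mul_eq_mul_left Nat.card_pos h
  have hfd : f d ∈ X.map f := Subgroup.mem_map_of_mem f hd
  refine hcen (f d) ⟨d, rfl⟩ fun p hp => ?_
  have h2 : p * f d * p⁻¹ * (f d)⁻¹ ∈ H := by
    haveI := Subgroup.normal_of_index_eq_two hindex
    have hiff := Subgroup.mul_mem_iff_of_index_two hindex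
      (a := (⟨p, hp⟩ : f.range) * ⟨f d, d, rfl⟩ * (⟨p, hp⟩ : f.range)⁻¹) (b := (⟨f d, d, rfl⟩ : f.range)⁻¹)
    refine hiff.2 ⟨fun h => ?_, fun h => ?_⟩
    · refine (H.subgroupOf f.range).inv_mem ?_
      have := Subgroup.Normal.conj_mem (inferInstance : (H.subgroupOf f.range).Normal) _ h
        (⟨p, hp⟩ : f.range)⁻¹
      simpa [mul_assoc] using this
    · exact Subgroup.Normal.conj_mem inferInstance _ (by simpa using (H.subgroupOf f.range).inv_mem h) _
  have h1 : p * f d * p⁻¹ * (f d)⁻¹ = 1 :=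
    hint _ ((X.map f).mul_mem (hnorm p hp _ hfd) ((X.map f).inv_mem hfd)) h2
  exact (mul_inv_eq_iff_eq_mul.1 (mul_inv_eq_one.1 h1)).symm

variable {G : Type*} [Group G] [Finite G] {z : G}
  {Q : Subgroup (Subgroup.centralizer ({z} : Set G))} [Q.Normal]
  {e : (Subgroup.centralizer ({z} : Set G)) ⧸ Q ≃* Spor.Co1}
  {ψ : leechLattice → Q ⧸ Subgroup.center Q}
  (hS : IsExtraspecialCentralizerSetting z Q 12) (hψ : IsLeechModTwoIso Q e ψ)
include hS hψ

section threeFix

variable {b : Subgroup.centralizer ({z} : Set G)}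
  (hb : e (QuotientGroup.mk b) = ThreeFix.Tbar) (hb3 : b ^ 3 = 1)
include hb hb3

omit hS hψ in
theorem mk_b_pow_fix (k : ℕ) : e (QuotientGroup.mk (b ^ k)) = ThreeFix.Tbar ^ k := by
  rw [QuotientGroup.mk_pow, map_pow, hb]

omit hS hψ in
theorem orderOf_b_fix : orderOf b = 3 := by
  haveI : Fact (Nat.Prime 3) := ⟨Nat.prime_three⟩
  refine orderOf_eq_prime hb3 fun h => ThreeFix.T_ne_one ?_
  have h' := mk_b_pow_fix hb hb3 1
  rw [h, one_pow, QuotientGroup.mk_one, map_one, ← pow_zero ThreeFix.Tbar] at h'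
  simpa using (ThreeFix.pow_of_mk_eq h').symm

omit hS hψ in
theorem b_pow_eq_fix {i j : ℕ} (h : ThreeFix.Tbar ^ i = ThreeFix.Tbar ^ j) : b ^ i = b ^ j := by
  rw [pow_eq_pow_iff_modEq, orderOf_b_fix hb hb3, ← ThreeFix.orderOf_T, ← pow_eq_pow_iff_modEq]
  exact ThreeFix.pow_of_mk_eq h

omit hS hb3 in
omit [Finite G] in
theorem cong_T_of_commute_fix {v : leechLattice} {q : Q} (hv : ψ v = QuotientGroup.mk q)
    (hc : Commute (q : Subgroup.centralizer ({z} : Set G)) b) : Cong (ThreeFix.T • v) v := by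
  refine (psi_eq_iff hψ _ _).1 ?_
  rw [psi_conj hψ b ThreeFix.T hb.symm v q hv, hv]
  congr 1
  exact Subtype.ext (mul_inv_eq_iff_eq_mul.2 hc.eq.symm)

theorem commute_of_cong_fix {v : leechLattice} {q : Q} (hv : ψ v = QuotientGroup.mk q)
    (hc : Cong (ThreeFix.T • v) v) : Commute (q : Subgroup.centralizer ({z} : Set G)) b := by
  have h := psi_conj hψ b ThreeFix.T hb.symm v q hv
  rw [(psi_eq_iff hψ _ _).2 hc, hv] at h
  rcases psi_center hS h with e' | e'
  · exact (mul_inv_eq_iff_eq_mul.1 (congrArg Subtype.val e')).symm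
  · exfalso
    have hstep : b * (q : Subgroup.centralizer ({z} : Set G)) * b⁻¹ =
        (q : Subgroup.centralizer ({z} : Set G)) * zC z := congrArg Subtype.val e'
    have hzc : Commute (zC z) b := (Subgroup.mem_center_iff.1 zC_mem_center b).symm
    have hz2 : zC z ^ 2 = 1 := Subtype.ext (show z ^ 2 = 1 by rw [← hS.1]; exact pow_orderOf_eq_one z)
    have hit : ∀ n : ℕ, b ^ n * (q : Subgroup.centralizer ({z} : Set G)) * (b ^ n)⁻¹ =
        (q : Subgroup.centralizer ({z} : Set G)) * zC z ^ n := by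
      intro n
      induction n with
      | zero => simp
      | succ n ih =>
        calc b ^ (n + 1) * (q : Subgroup.centralizer ({z} : Set G)) * (b ^ (n + 1))⁻¹
            = b * (b ^ n * q * (b ^ n)⁻¹) * b⁻¹ := by rw [pow_succ']; group
          _ = b * q * b⁻¹ * (b * zC z ^ n * b⁻¹) := by rw [ih]; group
          _ = q * zC z ^ (n + 1) := by
            rw [hstep, ((hzc.pow_left n).symm).eq, mul_inv_cancel_right, mul_assoc, ← pow_succ']
    have h5 := hit 3
    rw [hb3, one_mul, inv_one, mul_one, pow_succ, hz2, one_mul] at h5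
    exact z_ne_one hS (congrArg Subtype.val (mul_eq_left.1 h5.symm) :)

/-- The centraliser of `b` modulo `⟨b⟩` is of large Fischer type. -/
theorem largeFischerType {x : Q} (hx : ψ frameV = QuotientGroup.mk x) (B : Subgroup G)
    (hB : B = Subgroup.zpowers (b : G))
    (h27 : 27 ∣ Nat.card (Subgroup.centralizer ({z, toG x, (b : G)} : Set G)))
    [hn : (B.subgroupOf (Subgroup.centralizer (B : Set G))).Normal] :
    IsOfLargeFischerType (↥(Subgroup.centralizer (B : Set G)) ⧸
      B.subgroupOf (Subgroup.centralizer (B : Set G))) := by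
  classical
  haveI : Fact (Nat.Prime 2) := ⟨Nat.prime_two⟩
  haveI : Fact (Nat.Prime 3) := ⟨Nat.prime_three⟩
  have hob := orderOf_b_fix hb hb3
  have hzb2 : z * z = 1 := by rw [← pow_two, ← hS.1]; exact pow_orderOf_eq_one z
  have hbB : (b : G) ∈ B := hB ▸ Subgroup.mem_zpowers _
  set T := Subgroup.centralizer (B : Set G) with hT
  set N := B.subgroupOf T with hN
  have hbz : Commute (b : G) z := Subgroup.mem_centralizer_singleton_iff.1 b.2
  have hinB : ∀ {g : G}, g ∈ B → ∃ k : ℕ, (b : G) ^ k = g := fun {g} hg =>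
    mem_powers_iff_mem_zpowers.2 (hB ▸ hg)
  have hTmem : ∀ {g : G}, Commute g (b : G) → g ∈ T := fun {g} hg => by
    refine Subgroup.mem_centralizer_iff.2 fun y hy => ?_
    obtain ⟨k, rfl⟩ := hinB hy
    exact (hg.pow_right k).eq.symm
  have hTb : ∀ a : T, Commute (a : G) (b : G) := fun a =>
    (Subgroup.mem_centralizer_iff.1 a.2 _ hbB).symm
  let zT : T := ⟨z, hTmem hbz.symm⟩
  let zb : T ⧸ N := QuotientGroup.mk zT
  let Ct : Subgroup (Subgroup.centralizer ({z} : Set G)) := Subgroup.centralizer {b}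
  let toT : Ct →* T :=
    { toFun := fun a => ⟨((a : Subgroup.centralizer ({z} : Set G)) : G),
        hTmem (congrArg Subtype.val (Subgroup.mem_centralizer_singleton_iff.1 a.2))⟩
      map_one' := rfl
      map_mul' := fun _ _ => rfl }
  have hD : ∀ a : Ct, (QuotientGroup.mk (toT a) : T ⧸ N) ∈ Subgroup.centralizer ({zb} : Set (T ⧸ N)) :=
    fun a => Subgroup.mem_centralizer_singleton_iff.2 (by
      show (QuotientGroup.mk (toT a) : T ⧸ N) * QuotientGroup.mk zT =
        QuotientGroup.mk zT * QuotientGroup.mk (toT a)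
      rw [← QuotientGroup.mk_mul, ← QuotientGroup.mk_mul]
      congr 1
      exact Subtype.ext (Subgroup.mem_centralizer_singleton_iff.1 a.1.2))
  let π : Ct →* Subgroup.centralizer ({zb} : Set (T ⧸ N)) :=
    ((QuotientGroup.mk' N).comp toT).codRestrict _ hD
  have hπ1 : ∀ a : Ct, π a = 1 ↔ ∃ k : ℕ, b ^ k = (a : Subgroup.centralizer ({z} : Set G)) := by
    intro a
    refine Subtype.ext_iff.trans ((QuotientGroup.eq_one_iff (toT a)).trans ⟨fun h => ?_, ?_⟩)
    · obtain ⟨k, hk⟩ := hinB h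
      exact ⟨k, Subtype.ext hk⟩
    · rintro ⟨k, hk⟩
      show ((a : Subgroup.centralizer ({z} : Set G)) : G) ∈ B
      rw [← hk, SubgroupClass.coe_pow]
      exact pow_mem hbB k
  have hπsurj : Function.Surjective π := by
    rintro ⟨q, hq⟩
    obtain ⟨a, rfl⟩ := QuotientGroup.mk_surjective q
    have hq' : (QuotientGroup.mk (a * zT) : T ⧸ N) = QuotientGroup.mk (zT * a) :=
      Subgroup.mem_centralizer_singleton_iff.1 hq
    have hm : (zT * a)⁻¹ * (a * zT) ∈ N := QuotientGroup.eq.1 hq'.symm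
    obtain ⟨k, hk⟩ := hinB (g := (z * (a : G))⁻¹ * ((a : G) * z)) hm
    have hk' : (z * (a : G))⁻¹ * ((a : G) * z) = (b : G) ^ k := hk.symm
    have h1 : (a : G) * z * (a : G)⁻¹ = z * (b : G) ^ k := by
      have e' : (a : G) * z = z * ((b : G) ^ k * (a : G)) := by
        rw [← ((hTb a).pow_right k).eq, ← mul_assoc]; exact inv_mul_eq_iff_eq_mul.1 hk'
      rw [e']; group
    have hbk : (b : G) ^ k = 1 := by
      have h2 : (z * (b : G) ^ k) * (z * (b : G) ^ k) = 1 := by
        rw [← h1]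
        calc (a : G) * z * (a : G)⁻¹ * ((a : G) * z * (a : G)⁻¹) = (a : G) * (z * z) * (a : G)⁻¹ := by group
          _ = 1 := by rw [hzb2, mul_one, mul_inv_cancel]
      rw [mul_assoc, ← mul_assoc ((b : G) ^ k) z, (hbz.pow_left k).eq, ← mul_assoc, ← mul_assoc, hzb2,
        one_mul, ← pow_add] at h2
      have hd : 3 ∣ k + k := by
        rw [← hob, ← Subgroup.orderOf_coe b]; exact orderOf_dvd_of_pow_eq_one h2
      obtain ⟨l, rfl⟩ : 3 ∣ k := by omega
      rw [pow_mul, ← SubgroupClass.coe_pow, hb3]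
      exact one_pow l
    rw [hbk, mul_one] at h1
    exact ⟨⟨⟨(a : G), Subgroup.mem_centralizer_singleton_iff.2 (mul_inv_eq_iff_eq_mul.1 h1)⟩,
      Subgroup.mem_centralizer_singleton_iff.2 (Subtype.ext (hTb a).eq)⟩, rfl⟩
  -- the fixed part of `Q`
  let R : Subgroup (Subgroup.centralizer ({zb} : Set (T ⧸ N))) := (Q.subgroupOf Ct).map π
  haveI hQn : (Q.subgroupOf Ct).Normal := inferInstance
  haveI hRn : R.Normal := Subgroup.Normal.map hQn π hπsurj
  let CQ : Subgroup Q := (Subgroup.centralizer ({b} : Set (Subgroup.centralizer ({z} : Set G)))).subgroupOf Q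
  let ρ : CQ →* R :=
    (π.comp
      { toFun := fun q : CQ => (⟨(q : Q), q.2⟩ : Ct)
        map_one' := rfl
        map_mul' := fun _ _ => rfl }).codRestrict R fun q => ⟨_, (q : Q).2, rfl⟩
  have hρsurj : Function.Surjective ρ := by
    rintro ⟨_, a, ha, rfl⟩
    exact ⟨⟨⟨a.1, ha⟩, a.2⟩, rfl⟩
  have hQb : ∀ k : ℕ, b ^ k ∈ Q → b ^ k = 1 := fun k hk =>
    eq_one_of_pow_three hS hk (by rw [← pow_mul, mul_comm, pow_mul, hb3, one_pow])
  have hρinj : Function.Injective ρ := (injective_iff_map_eq_one ρ).2 fun q hq => by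
    obtain ⟨k, hk⟩ := (hπ1 _).1 (congrArg Subtype.val hq)
    exact Subtype.ext (Subtype.ext (hk.symm.trans (hQb k (hk ▸ (q : Q).2))))
  have hRp : IsPGroup 2 R := (hS.2.2.1.1.1.to_subgroup CQ).of_surjective ρ hρsurj
  have hCQmem : ∀ {v : leechLattice} {q : Q}, ψ v = QuotientGroup.mk q → Cong (ThreeFix.T • v) v → q ∈ CQ :=
    fun hv hc => Subgroup.mem_centralizer_singleton_iff.2 (commute_of_cong_fix hS hψ hb hb3 hv hc).eq
  have hclsC : ∀ k : Fin 4096, Cong (ThreeFix.T • ThreeFix.cls k) (ThreeFix.cls k) := fun k => by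
    rw [ThreeFix.cls_fixed]; exact Cong.refl _
  have hzCQ : zQ hS ∈ CQ :=
    Subgroup.mem_centralizer_singleton_iff.2 (Subgroup.mem_center_iff.1 zC_mem_center b).symm
  have hzq2 : zQ hS * zQ hS = 1 := Subtype.ext (Subtype.ext hzb2)
  -- every element is a lift of one of the classes
  have hCQclass : ∀ q : CQ, ∃ k : Fin 4096, ψ (ThreeFix.cls k) = QuotientGroup.mk (q : Q) := fun q => by
    obtain ⟨v, hv⟩ := hψ.2.1 (QuotientGroup.mk (q : Q))
    refine ⟨ThreeFix.clsIdx v, ?_⟩
    rw [← hv]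
    exact ((psi_eq_iff hψ _ _).2 (ThreeFix.cls_complete (cong_T_of_commute_fix hψ hb hv
      (Subgroup.mem_centralizer_singleton_iff.1 q.2)))).symm
  have hCQcard : Nat.card CQ = 2 ^ 13 := by
    let f : Fin 4096 × Bool → CQ := fun y =>
      if y.2 then ⟨lift ψ (ThreeFix.cls y.1), hCQmem (psi_lift _) (hclsC _)⟩ * ⟨zQ hS, hzCQ⟩
      else ⟨lift ψ (ThreeFix.cls y.1), hCQmem (psi_lift _) (hclsC _)⟩
    have hz1 : (QuotientGroup.mk (zQ hS) : Q ⧸ Subgroup.center Q) = 1 :=
      (QuotientGroup.eq_one_iff _).2 (zQ_mem_center hS)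
    have hmk : ∀ y, (QuotientGroup.mk ((f y : CQ) : Q) : Q ⧸ Subgroup.center Q) = ψ (ThreeFix.cls y.1) := by
      rintro ⟨k, t⟩
      cases t
      · exact (psi_lift _).symm
      · show (QuotientGroup.mk (lift ψ _ * zQ hS) : Q ⧸ Subgroup.center Q) = _
        rw [QuotientGroup.mk_mul, hz1, mul_one, ← psi_lift]
    have hf : Function.Bijective f := by
      constructor
      · rintro ⟨k, t⟩ ⟨k', t'⟩ h
        have h1 := (hmk (k, t)).symm.trans ((congrArg (fun q : CQ => (QuotientGroup.mk (q : Q) :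
          Q ⧸ Subgroup.center Q)) h).trans (hmk (k', t')))
        have hk : k = k' := by
          rw [← ThreeFix.clsIdx_cls k, ← ThreeFix.clsIdx_cls k']
          exact ThreeFix.clsIdx_congr ((psi_eq_iff hψ _ _).1 h1)
        subst hk
        cases t <;> cases t' <;> first | rfl | exfalso
        · exact zQ_ne_one hS (mul_eq_left.1 (congrArg Subtype.val h).symm)
        · exact zQ_ne_one hS (mul_eq_left.1 (congrArg Subtype.val h))
      · intro q
        obtain ⟨k, hk⟩ := hCQclass q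
        rw [psi_lift (ψ := ψ)] at hk
        rcases psi_center hS hk with e' | e'
        · exact ⟨(k, false), Subtype.ext e'.symm⟩
        · exact ⟨(k, true), Subtype.ext e'.symm⟩
    rw [← Nat.card_congr (Equiv.ofBijective f hf), Nat.card_prod]
    simp
  have hCQex : IsExtraspecial 2 CQ := by
    refine extraspecial_of_two_valued ⟨zQ hS, hzCQ⟩ (hS.2.2.1.1.1.to_subgroup CQ)
      (Subgroup.mem_center_iff.2 fun a => Subtype.ext (Subgroup.mem_center_iff.1 (zQ_mem_center hS) a))
      (fun h => zQ_ne_one hS (congrArg Subtype.val h)) (Subtype.ext hzq2) (fun a c => ?_)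
      (fun a => (sq_cases hS (a : Q)).imp Subtype.ext Subtype.ext) (fun a => ?_) ?_
    · rcases commutator_cases hS (a : Q) c with h | h
      · left
        exact Subtype.ext (mul_inv_eq_one.1 h)
      · right
        refine Subtype.ext ?_
        show (a : Q) * c * (a : Q)⁻¹ = (c : Q) * zQ hS
        rw [Subgroup.mem_center_iff.1 (zQ_mem_center hS), ← h, commutatorElement_def]
        group
    · obtain ⟨k, hk⟩ := hCQclass a
      by_cases hk0 : k = 0
      · subst hk0
        rw [ThreeFix.cls_zero, psi_zero hψ, ← QuotientGroup.mk_one] at hk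
        rcases psi_center hS hk with e' | e'
        · exact Or.inl (Subtype.ext e')
        · exact Or.inr (Or.inl (Subtype.ext (e'.trans (one_mul _))))
      · obtain ⟨i, hi⟩ := ThreeFix.cls_nondeg k hk0
        refine Or.inr (Or.inr ⟨⟨lift ψ (ThreeFix.bv i), ?_⟩, fun hc => hi ?_⟩)
        · refine hCQmem (psi_lift _) ?_
          rw [show ThreeFix.bv i = ThreeFix.cls ⟨2 ^ (i : ℕ), Nat.pow_lt_pow_right (by norm_num) i.2⟩ from
            Subtype.ext (funext (ThreeFix.bv_eq_cls i))]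
          exact hclsC _
        · exact (commute_iff_dot hS hψ hk (psi_lift _)).1 (congrArg Subtype.val hc.eq)
    · refine ⟨⟨lift ψ (ThreeFix.cls 1), hCQmem (psi_lift _) (hclsC _)⟩, fun h => ?_, fun h => ?_⟩ <;>
      · have h' := congrArg (fun q : CQ => (QuotientGroup.mk (q : Q) : Q ⧸ Subgroup.center Q)) h
        have h0 : ψ (ThreeFix.cls 1) = ψ (ThreeFix.cls 0) := by
          rw [ThreeFix.cls_zero, psi_zero hψ, psi_lift (ψ := ψ)]
          refine h'.trans ?_
          first
            | exact QuotientGroup.mk_one _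
            | exact (QuotientGroup.eq_one_iff _).2 (zQ_mem_center hS)
        have := ThreeFix.clsIdx_congr ((psi_eq_iff hψ _ _).1 h0)
        rw [ThreeFix.clsIdx_cls, ThreeFix.clsIdx_cls] at this
        exact absurd this (by decide)
  have hREx : IsExtraspecial 2 R :=
    extraspecial_congr (MulEquiv.ofBijective ρ ⟨hρinj, hρsurj⟩) hCQex
  have hRcard : Nat.card R = 2 ^ (2 * 6 + 1) := by
    rw [← Nat.card_congr (Equiv.ofBijective ρ ⟨hρinj, hρsurj⟩), hCQcard]
  -- the homomorphism to the centraliser modulo the six trivial elements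
  obtain ⟨F, H, hHle, hidx, hFker, hsix, hfaith, hsix6, hHsimp, hHcard, ⟨eH⟩, hcen⟩ := ThreeFix.exists_shape
  haveI := hHsimp
  have hgC : ∀ a : Ct, ∀ g : Co0, (QuotientGroup.mk g : Spor.Co1) =
      e (QuotientGroup.mk (a : Subgroup.centralizer ({z} : Set G))) → g ∈ ThreeFix.C0 := by
    intro a g hg
    have h := ThreeFix.conj_pow_of_mk (g := g) (j := 1) (by
      rw [pow_one, QuotientGroup.mk_mul, QuotientGroup.mk_mul, QuotientGroup.mk_inv, hg,
        show (QuotientGroup.mk ThreeFix.T : Spor.Co1) = e (QuotientGroup.mk b) from hb.symm, ← map_mul,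
        ← map_inv, ← map_mul, ← QuotientGroup.mk_mul, ← QuotientGroup.mk_inv, ← QuotientGroup.mk_mul,
        mul_inv_eq_iff_eq_mul.2 (Subgroup.mem_centralizer_singleton_iff.1 a.2), hb])
    rw [pow_one] at h
    exact Subgroup.mem_centralizer_singleton_iff.2 (mul_inv_eq_iff_eq_mul.1 h)
  have hrep : ∀ a : Ct, ∃ g : ThreeFix.C0, (QuotientGroup.mk (g : Co0) : Spor.Co1) =
      e (QuotientGroup.mk (a : Subgroup.centralizer ({z} : Set G))) := fun a => by
    obtain ⟨g, hg⟩ := QuotientGroup.mk_surjective (e (QuotientGroup.mk (a : Subgroup.centralizer ({z} : Set G))))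
    exact ⟨⟨g, hgC a g hg⟩, hg⟩
  choose rep hrep' using hrep
  have hcongr : ∀ g g' : ThreeFix.C0, (QuotientGroup.mk (g : Co0) : Spor.Co1) = QuotientGroup.mk (g' : Co0) →
      (QuotientGroup.mk g : ThreeFix.C0 ⧸ ThreeFix.six) = QuotientGroup.mk g' := fun g g' h => by
    refine QuotientGroup.eq.2 ?_
    have h' : (g : Co0)⁻¹ * g' ∈ Subgroup.center Co0 := QuotientGroup.eq.1 h
    refine ⟨0, ?_⟩
    rcases center_cases h' with e' | e'
    · exact Or.inl (by simpa using e')
    · exact Or.inr (by simpa using e')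
  let Ψ : Ct →* ThreeFix.C0 ⧸ ThreeFix.six :=
    MonoidHom.mk' (fun a => QuotientGroup.mk (rep a)) fun a c => by
      rw [← QuotientGroup.mk_mul]
      refine hcongr _ _ ?_
      rw [hrep', Subgroup.coe_mul, Subgroup.coe_mul, QuotientGroup.mk_mul, map_mul, ← hrep', ← hrep',
        QuotientGroup.mk_mul]
  have hΨsurj : Function.Surjective Ψ := by
    intro p
    obtain ⟨g, rfl⟩ := QuotientGroup.mk_surjective p
    obtain ⟨h, hh⟩ := exists_of_co0 hψ (g : Co0)
    obtain ⟨h₁, -, ⟨i, hi'⟩, hconj⟩ := adjust_three hS ⊤ (a := b) (c := h * b * h⁻¹) trivial trivial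
      hob (((MulAut.conj h).orderOf_eq b).trans hob) (j := 1) (by
      rw [pow_one, QuotientGroup.mk_mul, QuotientGroup.mk_mul, QuotientGroup.mk_inv, map_mul, map_mul,
        map_inv, hb, ← hh, ThreeFix.Tbar, ← QuotientGroup.mk_inv, ← QuotientGroup.mk_mul,
        ← QuotientGroup.mk_mul, Subgroup.mem_centralizer_singleton_iff.1 g.2, mul_inv_cancel_right])
    let h' := h₁ * h
    have hi : e (QuotientGroup.mk h') = ThreeFix.Tbar ^ i * e (QuotientGroup.mk h) := by
      show e (QuotientGroup.mk (h₁ * h)) = _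
      rw [QuotientGroup.mk_mul, map_mul, hi', hb]
    replace hconj : h' * b * h'⁻¹ = b ^ 1 := by
      show h₁ * h * b * (h₁ * h)⁻¹ = _
      rw [← hconj]; group
    rw [pow_one] at hconj
    refine ⟨⟨h', Subgroup.mem_centralizer_singleton_iff.2 (mul_inv_eq_iff_eq_mul.1 hconj)⟩, ?_⟩
    show (QuotientGroup.mk (rep _) : ThreeFix.C0 ⧸ ThreeFix.six) = QuotientGroup.mk g
    have hTi : (⟨ThreeFix.T ^ i, pow_mem ThreeFix.T_mem i⟩ : ThreeFix.C0) ∈ ThreeFix.six := ⟨i, Or.inl rfl⟩
    rw [hcongr (rep _) (⟨ThreeFix.T ^ i, pow_mem ThreeFix.T_mem i⟩ * g) (by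
      rw [hrep', hi, Subgroup.coe_mul, QuotientGroup.mk_mul, QuotientGroup.mk_pow, hh]; rfl),
      QuotientGroup.mk_mul, (QuotientGroup.eq_one_iff _).2 hTi, one_mul]
  have hΨker : ∀ a : Ct, Ψ a = 1 ↔ π a ∈ R := by
    intro a
    constructor
    · intro h
      obtain ⟨k, hk⟩ := (QuotientGroup.eq_one_iff _).1 h
      have hek : e (QuotientGroup.mk (a : Subgroup.centralizer ({z} : Set G))) = ThreeFix.Tbar ^ k := by
        rw [← hrep']
        rcases hk with hk | hk
        · rw [hk, QuotientGroup.mk_pow]; rfl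
        · rw [hk, QuotientGroup.mk_mul, Three.mk_neg, one_mul, QuotientGroup.mk_pow]; rfl
      let bC : Ct := ⟨b, Subgroup.mem_centralizer_singleton_iff.2 rfl⟩
      refine ⟨a * (bC ^ k)⁻¹, ?_, ?_⟩
      · show (a : Subgroup.centralizer ({z} : Set G)) * (b ^ k)⁻¹ ∈ Q
        rw [← QuotientGroup.eq_one_iff, ← map_eq_one_iff e e.injective, QuotientGroup.mk_mul,
          QuotientGroup.mk_inv, map_mul, map_inv, hek, mk_b_pow_fix hb hb3, mul_inv_cancel]
      · rw [map_mul, map_inv, (hπ1 (bC ^ k)).2 ⟨k, rfl⟩, inv_one, mul_one]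
    · rintro ⟨a', ha', he⟩
      obtain ⟨k, hk⟩ := (hπ1 (a'⁻¹ * a)).1 (by rw [map_mul, map_inv, he, inv_mul_cancel])
      refine (hcongr _ ⟨ThreeFix.T ^ k, pow_mem ThreeFix.T_mem k⟩ ?_).trans
        ((QuotientGroup.eq_one_iff _).2 ⟨k, Or.inl rfl⟩)
      have ha'' : (a' : Subgroup.centralizer ({z} : Set G)) ∈ Q := ha'
      have e1 : e (QuotientGroup.mk (a' : Subgroup.centralizer ({z} : Set G))) = 1 := by
        rw [(QuotientGroup.eq_one_iff _).2 ha'', map_one]
      have e2 : (a : Subgroup.centralizer ({z} : Set G)) = (a' : Subgroup.centralizer ({z} : Set G)) * b ^ k := by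
        rw [hk, Subgroup.coe_mul, Subgroup.coe_inv, mul_inv_cancel_left]
      rw [hrep', e2, QuotientGroup.mk_mul, map_mul, e1, one_mul, mk_b_pow_fix hb hb3, QuotientGroup.mk_pow]
      rfl
  let θ : Ct →* Subgroup.centralizer ({zb} : Set (T ⧸ N)) ⧸ R := (QuotientGroup.mk' R).comp π
  have hθsurj : Function.Surjective θ := (QuotientGroup.mk'_surjective R).comp hπsurj
  have hθker : θ.ker = Ψ.ker := by
    ext a
    rw [MonoidHom.mem_ker, MonoidHom.mem_ker, hΨker]
    exact QuotientGroup.eq_one_iff (π a)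
  let iso : Subgroup.centralizer ({zb} : Set (T ⧸ N)) ⧸ R ≃* ThreeFix.C0 ⧸ ThreeFix.six :=
    ((QuotientGroup.quotientKerEquivOfSurjective θ hθsurj).symm.trans
      (QuotientGroup.quotientMulEquivOfEq hθker)).trans
      (QuotientGroup.quotientKerEquivOfSurjective Ψ hΨsurj)
  -- `R` contains its centralizer
  have hself : Subgroup.centralizer (R : Set (Subgroup.centralizer ({zb} : Set (T ⧸ N)))) ≤ R := by
    intro d hd
    obtain ⟨a, rfl⟩ := hπsurj d
    rw [← hΨker]
    refine (QuotientGroup.eq_one_iff _).2 (hfaith _ fun k => ?_)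
    refine ThreeFix.act_eq_of_cong ((psi_eq_iff hψ _ _).1 ?_)
    rw [psi_conj hψ _ _ (hrep' a) _ _ (psi_lift _), psi_lift (ψ := ψ) (ThreeFix.cls k)]
    congr 1
    let qC : CQ := ⟨lift ψ (ThreeFix.cls k), hCQmem (psi_lift _) (hclsC _)⟩
    let aq : Ct := ⟨((qC : Q) : Subgroup.centralizer ({z} : Set G)), qC.2⟩
    have hc : π a * π aq = π aq * π a :=
      ((Subgroup.mem_centralizer_iff.1 hd) (π aq) ⟨aq, (qC : Q).2, rfl⟩).symm
    obtain ⟨n, hn'⟩ := (hπ1 (aq⁻¹ * (a * aq * a⁻¹))).1 (by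
      rw [map_mul, map_mul, map_mul, map_inv, map_inv, hc]; group)
    have hmem : (((aq⁻¹ * (a * aq * a⁻¹) : Ct)) : Subgroup.centralizer ({z} : Set G)) ∈ Q :=
      mul_mem (inv_mem (qC : Q).2) ((inferInstance : Q.Normal).conj_mem _ (qC : Q).2 _)
    have h1 : b ^ n = 1 := hQb n (hn'.symm ▸ hmem)
    rw [h1] at hn'
    exact Subtype.ext (inv_mul_eq_one.1 hn'.symm).symm
  have hRfit : R ≤ fittingSubgroup (Subgroup.centralizer ({zb} : Set (T ⧸ N))) :=
    CfsgLib.Components.le_fittingSubgroup hRp.isNilpotent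
  have hlayer : layer (Subgroup.centralizer ({zb} : Set (T ⧸ N))) = ⊥ := by
    have hle : layer (Subgroup.centralizer ({zb} : Set (T ⧸ N))) ≤ R :=
      (CfsgLib.Components.layer_le_centralizer_fittingSubgroup.trans
        (Subgroup.centralizer_le (SetLike.coe_subset_coe.2 hRfit))).trans hself
    refine sSup_eq_bot.2 fun K hK => ?_
    exfalso
    have hKR : K ≤ R := (le_sSup hK).trans hle
    haveI := (hRp.to_le hKR).isNilpotent
    exact CfsgLib.Components.IsComponent.not_isSolvable hK inferInstance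
  have hodd : ∀ M : Subgroup (Subgroup.centralizer ({zb} : Set (T ⧸ N))), M.Normal →
      (Nat.card M).Coprime 2 → M = ⊥ := by
    intro M hM hcop
    have hdis : Disjoint M R := by
      refine disjoint_iff.2 (Subgroup.eq_bot_iff_card _ |>.2 ?_)
      refine Nat.eq_one_of_dvd_coprimes (a := Nat.card M) (b := 2 ^ (2 * 6 + 1))
        (hcop.pow_right _) (Subgroup.card_dvd_of_le inf_le_left) ?_
      rw [← hRcard]
      exact Subgroup.card_dvd_of_le inf_le_right
    have hMR : M ≤ R := fun a ha => hself (Subgroup.mem_centralizer_iff.2 fun r hr =>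
      ((Subgroup.commute_of_normal_of_disjoint M R hM hRn hdis a r ha hr).eq).symm)
    exact disjoint_self.1 (hdis.mono_right hMR)
  -- the two normal subgroups over `R`
  haveI := co0_finite
  let q : Subgroup.centralizer ({zb} : Set (T ⧸ N)) →* ThreeFix.C0 ⧸ ThreeFix.six :=
    iso.toMonoidHom.comp (QuotientGroup.mk' R)
  have hqsurj : Function.Surjective q := iso.surjective.comp (QuotientGroup.mk'_surjective R)
  have hqker : q.ker = R := by
    ext d
    rw [MonoidHom.mem_ker, ← QuotientGroup.eq_one_iff, ← map_eq_one_iff iso iso.injective]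
    rfl
  let Fl : ThreeFix.C0 ⧸ ThreeFix.six →* Equiv.Perm (Fin 126) := QuotientGroup.lift ThreeFix.six F hsix
  have hFl : Fl.range = F.range := by
    ext p
    constructor
    · rintro ⟨y, rfl⟩
      obtain ⟨g, rfl⟩ := QuotientGroup.mk_surjective y
      exact ⟨g, rfl⟩
    · rintro ⟨g, rfl⟩
      exact ⟨QuotientGroup.mk g, rfl⟩
  let f : Subgroup.centralizer ({zb} : Set (T ⧸ N)) →* Equiv.Perm (Fin 126) := Fl.comp q
  have hfr : f.range = F.range := by
    rw [MonoidHom.range_comp, MonoidHom.range_eq_top.2 hqsurj, ← MonoidHom.range_eq_map, hFl]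
  have hKcard : Nat.card Fl.ker = 3 := by
    have h1 := Fl.ker.card_mul_index
    rw [Subgroup.index_ker, hFl] at h1
    have h2 := F.ker.card_mul_index
    rw [Subgroup.index_ker, hFker, hidx, hHcard] at h2
    have h3 := Subgroup.card_eq_card_quotient_mul_card_subgroup ThreeFix.six
    rw [hsix6, ← h2] at h3
    rw [hidx, hHcard] at h1
    omega
  have hNR : Nat.card f.ker = 3 * Nat.card R := by
    have hker : f.ker = Fl.ker.comap q := (MonoidHom.comap_ker Fl q).symm
    have h1 := q.ker.card_mul_index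
    rw [Subgroup.index_ker, MonoidHom.range_eq_top.2 hqsurj, Subgroup.card_top, hqker] at h1
    have h2 := f.ker.card_mul_index
    rw [← h1, show f.ker.index = Fl.ker.index by rw [hker, Subgroup.index_comap_of_surjective _ hqsurj],
      ← Fl.ker.card_mul_index, hKcard, ← mul_assoc] at h2
    rw [mul_comm 3]
    exact Nat.eq_of_mul_eq_mul_right (Nat.pos_of_ne_zero Subgroup.index_ne_zero_of_finite) h2
  have hRle : R ≤ f.ker := fun d hd => by
    have h1 : q d = 1 := MonoidHom.mem_ker.1 (hqker ▸ hd)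
    show Fl (q d) = 1
    rw [h1, map_one]
  let M : Subgroup (Subgroup.centralizer ({zb} : Set (T ⧸ N))) := H.comap f
  have hMidx : M.index = 2 := by
    rw [Subgroup.index_comap, hfr]
    have h := (H.subgroupOf F.range).card_mul_index
    rw [Nat.card_congr (Subgroup.subgroupOfEquivOfLe hHle).toEquiv, hidx, mul_comm 2] at h
    exact Nat.eq_of_mul_eq_mul_left Nat.card_pos h
  let g : M →* H := (f.comp M.subtype).codRestrict H fun a => a.2
  have hgsurj : Function.Surjective g := fun p => by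
    obtain ⟨d, hd⟩ := (hfr ▸ hHle p.2 : (p : Equiv.Perm (Fin 126)) ∈ f.range)
    exact ⟨⟨d, show f d ∈ H from hd ▸ p.2⟩, Subtype.ext hd⟩
  have hgker : g.ker = f.ker.subgroupOf M := by
    ext a
    exact Subtype.ext_iff
  let isoM : M ⧸ f.ker.subgroupOf M ≃* PSU 4 ThreeFix.K9 3 :=
    ((QuotientGroup.quotientMulEquivOfEq hgker.symm).trans
      (QuotientGroup.quotientKerEquivOfSurjective g hgsurj)).trans eH
  have hpcore : pCore 2 (Subgroup.centralizer ({zb} : Set (T ⧸ N))) ≤ R := by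
    haveI : (pCore 2 (Subgroup.centralizer ({zb} : Set (T ⧸ N)))).Normal :=
      Subgroup.sSup_normal _ fun _ h => h.1
    have hp2 := CfsgLib.Components.isPGroup_pCore (p := 2) (G := Subgroup.centralizer ({zb} : Set (T ⧸ N)))
    have hle : pCore 2 (Subgroup.centralizer ({zb} : Set (T ⧸ N))) ≤ f.ker :=
      two_group_le_ker f H (hfr ▸ hHle) (by rw [hfr, hidx]) (by rw [hHcard]; norm_num)
        (by rw [hfr]; exact hcen) _ hp2
    intro d hd
    rw [← hqker, MonoidHom.mem_ker]
    have hmem : q d ∈ Fl.ker := hle hd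
    obtain ⟨n, hn⟩ := (hp2.map q) ⟨q d, d, hd, rfl⟩
    have hn' : (q d) ^ 2 ^ n = 1 := congrArg Subtype.val hn
    have h3 : (q d) ^ 3 = 1 := by
      have := pow_card_eq_one' (x := (⟨q d, hmem⟩ : Fl.ker))
      rw [hKcard] at this
      exact congrArg Subtype.val this
    have := Nat.eq_one_of_dvd_coprimes (a := 2 ^ n) (b := 3) (Nat.Coprime.pow_left _ (by norm_num))
      (orderOf_dvd_of_pow_eq_one hn') (orderOf_dvd_of_pow_eq_one h3)
    exact orderOf_eq_one_iff.1 this
  have hFS : generalizedFittingSubgroup (Subgroup.centralizer ({zb} : Set (T ⧸ N))) = R := by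
    rw [CfsgLib.Components.generalizedFitting_eq_pCore 2 hlayer hodd]
    exact le_antisymm hpcore (CfsgLib.Components.le_pCore hRp)
  have hzb : orderOf zb = 2 := by
    refine orderOf_eq_prime ?_ fun h => ?_
    · rw [pow_two, ← QuotientGroup.mk_mul, QuotientGroup.eq_one_iff]
      show z * z ∈ B
      rw [hzb2]; exact one_mem _
    · obtain ⟨k, hk⟩ := hinB ((QuotientGroup.eq_one_iff zT).1 h)
      have hk' : (b : G) ^ k = z := hk
      have h5 : z ^ 3 = 1 := by
        rw [← hk', ← pow_mul, mul_comm, pow_mul, ← SubgroupClass.coe_pow, hb3]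
        exact one_pow k
      rw [pow_succ, pow_two, hzb2, one_mul] at h5
      exact z_ne_one hS h5
  -- not weakly closed
  have hxb : Commute (x : Subgroup.centralizer ({z} : Set G)) b :=
    commute_of_cong_fix hS hψ hb hb3 hx ThreeFix.frame_cong_T
  have hnwc : ∃ c : T ⧸ N, (∃ hq : c * zb * c⁻¹ ∈ Subgroup.centralizer ({zb} : Set (T ⧸ N)),
      (⟨c * zb * c⁻¹, hq⟩ : Subgroup.centralizer ({zb} : Set (T ⧸ N))) ∈ R) ∧
      c * zb * c⁻¹ ≠ zb := by
    obtain ⟨hconjx, hxne⟩ := conj_of_class hS hψ (sqNorm_eight none) hx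
    obtain ⟨g₀, hg₀⟩ := isConj_iff.1 hconjx
    obtain ⟨y, hy⟩ := mem_inG.1 (mem_conjQ.1 (frame_z_mem hS hψ hg₀ hx))
    have hy1 : IsConj z (toG y) := isConj_iff.2 ⟨g₀⁻¹, by rw [hy]; group⟩
    have hyne : toG y ≠ z := fun h => by
      rw [hy] at h
      apply hxne
      rw [← hg₀]
      calc g₀ * z * g₀⁻¹ = g₀ * (g₀⁻¹ * z * g₀) * g₀⁻¹ := by rw [h]
        _ = z := by group
    obtain ⟨c, hc⟩ := conj_transitive hS hψ hconjx hxne hy1 hyne
    -- `w` interchanges `z` and `x`
    set w : G := g₀ * (c : G) with hw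
    have hcz : (c : G) * z * (c : G)⁻¹ = z :=
      mul_inv_eq_iff_eq_mul.2 (Subgroup.mem_centralizer_singleton_iff.1 c.2)
    have hc' : (c : G) * toG x * (c : G)⁻¹ = g₀⁻¹ * z * g₀ := (congrArg Subtype.val hc).trans hy
    have hwz : w * z * w⁻¹ = toG x := by
      calc w * z * w⁻¹ = g₀ * ((c : G) * z * (c : G)⁻¹) * g₀⁻¹ := by rw [hw]; group
        _ = toG x := by rw [hcz, hg₀]
    have hwx : w * toG x * w⁻¹ = z := by
      calc w * toG x * w⁻¹ = g₀ * ((c : G) * toG x * (c : G)⁻¹) * g₀⁻¹ := by rw [hw]; group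
        _ = z := by rw [hc']; group
    let M : Subgroup (Subgroup.centralizer ({z} : Set G)) :=
      Subgroup.centralizer {(x : Subgroup.centralizer ({z} : Set G))}
    have hbM : b ∈ M := Subgroup.mem_centralizer_singleton_iff.2 hxb.eq.symm
    have hxbG : Commute (toG x) (b : G) := congrArg Subtype.val hxb.eq
    have hb'z : Commute (w * (b : G) * w⁻¹) z := by
      have h := hxbG.symm.map (MulAut.conj w)
      simp only [MulAut.conj_apply, hwx] at h
      exact h
    have hb'x : Commute (w * (b : G) * w⁻¹) (toG x) := by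
      have h := hbz.map (MulAut.conj w)
      simp only [MulAut.conj_apply, hwz] at h
      exact h
    let b' : Subgroup.centralizer ({z} : Set G) :=
      ⟨w * (b : G) * w⁻¹, Subgroup.mem_centralizer_singleton_iff.2 hb'z.eq⟩
    have hb'M : b' ∈ M := Subgroup.mem_centralizer_singleton_iff.2 (Subtype.ext hb'x.eq)
    have hob' : orderOf b' = 3 := by
      rw [← Subgroup.orderOf_coe]
      exact ((MulAut.conj w).orderOf_eq (b : G)).trans ((Subgroup.orderOf_coe b).trans hob)
    have h27' : 27 ∣ Nat.card (Subgroup.centralizer ({z, toG x, (b' : G)} : Set G)) := by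
      refine h27.trans (dvd_of_eq (Nat.card_congr (conjEquivOfIff w⁻¹ fun g => ?_).toEquiv).symm)
      simp only [Subgroup.mem_centralizer_iff, Set.mem_insert_iff, Set.mem_singleton_iff, forall_eq_or_imp,
        forall_eq, inv_inv]
      have key : ∀ u v : G, w * u * w⁻¹ = v → ((v * g = g * v) ↔ u * (w⁻¹ * g * w) = w⁻¹ * g * w * u) := by
        rintro u v rfl
        constructor
        · intro e'
          calc u * (w⁻¹ * g * w) = w⁻¹ * (w * u * w⁻¹ * g) * w := by group
            _ = w⁻¹ * g * w * u := by rw [e']; group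
        · intro e'
          calc w * u * w⁻¹ * g = w * (u * (w⁻¹ * g * w)) * w⁻¹ := by group
            _ = g * (w * u * w⁻¹) := by rw [e']; group
      rw [key z (toG x) hwz, key (toG x) z hwx, key (b : G) (b' : G) rfl, and_left_comm]
    obtain ⟨h1, i, h1M, hi⟩ := pair_threeFix hS hψ hx hob' hb'M h27'
    obtain ⟨k, hkM, -, hki'⟩ := adjust_three hS M hbM (M.mul_mem (M.mul_mem h1M hb'M) (M.inv_mem h1M))
      hob (((MulAut.conj h1).orderOf_eq b').trans hob') (j := i) (by rw [hi, hb])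
    -- an element of `M` squaring `b`
    obtain ⟨σ, hσ, hσt⟩ := ThreeFix.exists_square
    let n := monoCo0 σ hσ ∅ Spor.empty_mem_supports_golayCode
    obtain ⟨hn0, hn1, hn2⟩ := lift_centralising hS hψ hx (frame_not_center hS hψ hx)
      (monoCo0_mem_classStab hσ Spor.empty_mem_supports_golayCode)
    have hnT : n * ThreeFix.T = ThreeFix.T ^ 2 * n := co0_ext fun v => Subtype.ext (funext fun p => by
      rw [pow_two, mul_smul, mul_smul, mul_smul, monoCo0_smul, ThreeFix.T_smul, ThreeFix.T_smul, monoCo0_smul]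
      simp only [monoFun, Finset.notMem_empty, if_false, ThreeFix.T_smul]
      rw [hσt])
    have hn0M : hn0 ∈ M := Subgroup.mem_centralizer_singleton_iff.2 hn2.eq
    obtain ⟨k2, hk2M, -, hk2⟩ := adjust_three hS M hbM (M.mul_mem (M.mul_mem hn0M hbM) (M.inv_mem hn0M))
      hob (((MulAut.conj hn0).orderOf_eq b).trans hob) (j := 2) (by
        rw [QuotientGroup.mk_mul, QuotientGroup.mk_mul, QuotientGroup.mk_inv, map_mul, map_mul,
          map_inv, hb, ← hn1, ThreeFix.Tbar, ← QuotientGroup.mk_inv, ← QuotientGroup.mk_mul,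
          ← QuotientGroup.mk_mul, ← QuotientGroup.mk_pow, hnT, mul_inv_cancel_right])
    have hki : k * h1 * b' * (k * h1)⁻¹ = b ^ i := by rw [← hki']; group
    have hi3 : i % 3 ≠ 0 := fun h0 => by
      have hbi : b ^ i = 1 := by rw [← pow_mod_orderOf, hob, h0, pow_zero]
      rw [hbi, mul_inv_eq_one, mul_eq_left] at hki
      rw [hki, orderOf_one] at hob'
      omega
    obtain ⟨u, huM, hub⟩ : ∃ u ∈ M, u * b' * u⁻¹ = b := by
      rcases (show i % 3 = 1 ∨ i % 3 = 2 by omega) with h | h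
      · refine ⟨k * h1, M.mul_mem hkM h1M, ?_⟩
        rw [hki, ← pow_mod_orderOf, hob, h, pow_one]
      · refine ⟨k2 * hn0 * (k * h1), M.mul_mem (M.mul_mem hk2M hn0M) (M.mul_mem hkM h1M), ?_⟩
        calc k2 * hn0 * (k * h1) * b' * (k2 * hn0 * (k * h1))⁻¹
            = k2 * hn0 * (k * h1 * b' * (k * h1)⁻¹) * (k2 * hn0)⁻¹ := by group
          _ = (k2 * (hn0 * b * hn0⁻¹) * k2⁻¹) ^ i := by
            rw [hki, show k2 * (hn0 * b * hn0⁻¹) * k2⁻¹ = k2 * hn0 * b * (k2 * hn0)⁻¹ by group, conj_pow]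
          _ = b := by rw [hk2, ← pow_mul, ← pow_mod_orderOf, hob, Nat.mul_mod, h, pow_one]
    have hux : (u : G) * toG x * (u : G)⁻¹ = toG x :=
      mul_inv_eq_iff_eq_mul.2 (congrArg Subtype.val (Subgroup.mem_centralizer_singleton_iff.1 huM))
    have hbu : Commute ((u : G) * w) (b : G) := mul_inv_eq_iff_eq_mul.1 (by
      calc (u : G) * w * (b : G) * ((u : G) * w)⁻¹ = ((u * b' * u⁻¹ : Subgroup.centralizer ({z} : Set G)) : G) := by
            show _ = (u : G) * (w * (b : G) * w⁻¹) * (u : G)⁻¹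
            group
        _ = (b : G) := by rw [hub])
    have huz : (u : G) * w * z * ((u : G) * w)⁻¹ = toG x := by
      calc (u : G) * w * z * ((u : G) * w)⁻¹ = (u : G) * (w * z * w⁻¹) * (u : G)⁻¹ := by group
        _ = toG x := by rw [hwz, hux]
    let xC : Ct := ⟨x, Subgroup.mem_centralizer_singleton_iff.2 hxb.eq⟩
    let cT : T := ⟨(u : G) * w, hTmem hbu⟩
    have hb1 : (QuotientGroup.mk cT : T ⧸ N) * zb * (QuotientGroup.mk cT : T ⧸ N)⁻¹ = (π xC : T ⧸ N) := by
      show (QuotientGroup.mk (cT * zT * cT⁻¹) : T ⧸ N) = QuotientGroup.mk (toT xC)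
      congr 1
      exact Subtype.ext huz
    refine ⟨QuotientGroup.mk cT, ⟨hb1 ▸ (π xC).2, ?_⟩, ?_⟩
    · have : (⟨_, hb1 ▸ (π xC).2⟩ : Subgroup.centralizer ({zb} : Set (T ⧸ N))) = π xC := Subtype.ext hb1
      rw [this]
      exact ⟨xC, x.2, rfl⟩
    · rw [hb1]
      intro h
      obtain ⟨j, hj⟩ := hinB (g := z⁻¹ * toG x) (show zT⁻¹ * toT xC ∈ N from QuotientGroup.eq.1 (show (QuotientGroup.mk zT : T ⧸ N) =
        QuotientGroup.mk (toT xC) from h.symm))
      have hj' : b ^ j = (zC z)⁻¹ * (x : Subgroup.centralizer ({z} : Set G)) := Subtype.ext hj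
      have := hQb j (hj' ▸ mul_mem (inv_mem (zC_mem hS)) x.2)
      rw [this] at hj'
      exact hxne (congrArg Subtype.val (inv_mul_eq_one.1 hj'.symm)).symm
  exact ⟨zb, R, hRn, ⟨hzb, hFS, hREx, hRcard, hnwc⟩, f.ker, M, inferInstance,
    Subgroup.normal_of_index_eq_two hMidx, hRle, fun d hd => show f d ∈ H from (MonoidHom.mem_ker.1 hd).symm ▸ H.one_mem,
    hNR, ⟨ThreeFix.K9, inferInstance, inferInstance, ThreeFix.card_K9, ⟨isoM⟩⟩, hMidx⟩

end threeFix

/-- The centralizer of a subgroup of order three that is 3-central, modulo it. -/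
theorem largeFischerType_all {s : G} (hsQ : ∃ hsc : s ∈ Subgroup.centralizer ({z} : Set G),
      (⟨s, hsc⟩ : Subgroup.centralizer ({z} : Set G)) ∈ Q) (hs : IsConj z s) (hs1 : s ≠ z)
    (Y : Subgroup G) (hY : Y ≤ Subgroup.centralizer ({z, s} : Set G)) (hY3 : Nat.card Y = 3)
    (hc : ∃ P : Sylow 3 ↥(Subgroup.centralizer ({z, s} : Set G)),
      Y.subgroupOf (Subgroup.centralizer ({z, s} : Set G)) ≤
        (Subgroup.center ↥(P : Subgroup ↥(Subgroup.centralizer ({z, s} : Set G)))).map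
          (P : Subgroup ↥(Subgroup.centralizer ({z, s} : Set G))).subtype)
    [hn : (Y.subgroupOf (Subgroup.centralizer (Y : Set G))).Normal] :
    IsOfLargeFischerType (↥(Subgroup.centralizer (Y : Set G)) ⧸
      Y.subgroupOf (Subgroup.centralizer (Y : Set G))) := by
  classical
  haveI : Fact (Nat.Prime 3) := ⟨Nat.prime_three⟩
  haveI := co0_finite
  obtain ⟨hsc, hsq⟩ := hsQ
  let x : Q := ⟨⟨s, hsc⟩, hsq⟩
  obtain ⟨v, hvn, hv⟩ := class_of_conj hS hψ (x := x) hs hs1
  obtain ⟨m₀, hm₀⟩ := transitive_norm64 frameV v (sqNorm_eight none) hvn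
  obtain ⟨e₁, ψ₁, hψ₁, hval⟩ := exists_adapted hψ m₀
  have hx : ψ₁ frameV = QuotientGroup.mk x := by rw [hval, hm₀, hv]
  let M : Subgroup (Subgroup.centralizer ({z} : Set G)) :=
    Subgroup.centralizer {(x : Subgroup.centralizer ({z} : Set G))}
  set L := Subgroup.centralizer ({z, s} : Set G) with hL
  have hmemL : ∀ g : G, g ∈ L ↔ z * g = g * z ∧ s * g = g * s := fun g => by
    simp [hL, Subgroup.mem_centralizer_iff]
  obtain ⟨y, hy⟩ : ∃ y : Y, orderOf y = 3 := exists_prime_orderOf_dvd_card' 3 (by rw [hY3])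
  have hyL := (hmemL _).1 (hY y.2)
  let a : Subgroup.centralizer ({z} : Set G) := ⟨y, Subgroup.mem_centralizer_singleton_iff.2 hyL.1.symm⟩
  have haM : a ∈ M := Subgroup.mem_centralizer_singleton_iff.2 (Subtype.ext hyL.2.symm)
  have ha : orderOf a = 3 := by
    rw [← Subgroup.orderOf_coe]; exact (Subgroup.orderOf_coe y).trans hy
  have hYz : Y = Subgroup.zpowers (y : G) := by
    refine (Subgroup.eq_of_le_of_card_ge (Subgroup.zpowers_le.2 y.2) ?_).symm
    rw [hY3, Nat.card_zpowers, Subgroup.orderOf_coe, hy]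
  -- the centralizer in the pair has a full Sylow subgroup
  have h27L : 27 ∣ Nat.card L := by
    let φ : M →* Spor.Co1 := (e₁.toMonoidHom.comp (QuotientGroup.mk' Q)).comp M.subtype
    let ν : classStab frameV →* Spor.Co1 :=
      (QuotientGroup.mk' (Subgroup.center Co0)).comp (classStab frameV).subtype
    haveI : Finite Spor.Co1 := inferInstanceAs (Finite (Co0 ⧸ Subgroup.center Co0))
    have hle : ν.range ≤ φ.range := by
      rintro _ ⟨m, rfl⟩
      obtain ⟨h, hh, hc⟩ := lift_centralising hS hψ₁ hx (frame_not_center hS hψ₁ hx) m.2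
      exact ⟨⟨h, Subgroup.mem_centralizer_singleton_iff.2 hc.eq⟩, hh.symm⟩
    have hker : Nat.card ν.ker ∣ 2 := by
      have h := Subgroup.card_dvd_of_injective (((classStab frameV).subtype.comp ν.ker.subtype).codRestrict
        (Subgroup.center Co0) fun a => (QuotientGroup.eq_one_iff _).1 (MonoidHom.mem_ker.1 a.2))
        fun a b h => Subtype.ext (Subtype.ext (congrArg Subtype.val h :))
      rwa [card_center] at h
    have h1 : 27 ∣ Nat.card ν.range :=
      dvd_card_range ν (by rw [card_classStab_frame]; norm_num) hker (by norm_num)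
    refine ((h1.trans (Subgroup.card_dvd_of_le hle)).trans (Subgroup.card_range_dvd φ)).trans
      (Subgroup.card_dvd_of_injective
        (MonoidHom.mk' (fun m : M => (⟨((m : Subgroup.centralizer ({z} : Set G)) : G), (hmemL _).2
          ⟨(Subgroup.mem_centralizer_singleton_iff.1 (m : Subgroup.centralizer ({z} : Set G)).2).symm,
            (congrArg Subtype.val (Subgroup.mem_centralizer_singleton_iff.1 m.2)).symm⟩⟩ : L))
          fun _ _ => rfl)
        fun m m' h => Subtype.ext (Subtype.ext (congrArg Subtype.val h :)))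
  have h27 : 27 ∣ Nat.card (Subgroup.centralizer ({z, toG x, (a : G)} : Set G)) := by
    obtain ⟨P, hP⟩ := hc
    obtain ⟨c, hcP, hcy⟩ := hP (show (⟨y, hY y.2⟩ : L) ∈ Y.subgroupOf L from y.2)
    refine (P.pow_dvd_card_of_pow_dvd_card (n := 3) h27L).trans (Subgroup.card_dvd_of_injective
      ((L.subtype.comp (P : Subgroup L).subtype).codRestrict
        (Subgroup.centralizer ({z, toG x, (a : G)} : Set G)) fun p => Subgroup.mem_centralizer_iff.2 ?_)
      fun p p' h => Subtype.ext (Subtype.ext (congrArg Subtype.val h :)))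
    rintro u (rfl | rfl | rfl)
    · exact ((hmemL _).1 (p : L).2).1
    · exact ((hmemL _).1 (p : L).2).2
    · have hcom := congrArg (fun l : (P : Subgroup L) => ((l : L) : G)) (Subgroup.mem_center_iff.1 hcP p)
      have hcy' : ((c : L) : G) = (y : G) := congrArg Subtype.val hcy
      simp only [Subgroup.coe_mul, hcy'] at hcom
      exact hcom.symm
  obtain ⟨h, i, hhM, hi⟩ := pair_threeFix hS hψ₁ hx ha haM h27
  obtain ⟨g, hg⟩ := QuotientGroup.mk_surjective (e₁ (QuotientGroup.mk h))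
  have hgS : g ∈ classStab frameV :=
    mem_classStab_of_commute hψ₁ hx (Subgroup.mem_centralizer_singleton_iff.1 hhM) hg
  obtain ⟨e₂, ψ₂, hψ₂, hval₂, he₂⟩ := exists_adapted' hψ₁ g
  have hx₂ : ψ₂ frameV = QuotientGroup.mk x := by
    rw [hval₂, psi_eq_of_cong hψ₁ (inv_mem hgS), hx]
  have hai : e₂ (QuotientGroup.mk a) = ThreeFix.Tbar ^ i := by
    rw [he₂, hg, ← map_inv, ← map_mul, ← map_mul, ← QuotientGroup.mk_inv, ← QuotientGroup.mk_mul,
      ← QuotientGroup.mk_mul, hi]
  have hi3 : i % 3 ≠ 0 := fun h0 => by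
    have h1 := orderOf_image (e := e₂) hS ha
    rw [hai, ← pow_mod_orderOf, ThreeFix.orderOf_Tbar, h0, pow_zero, orderOf_one] at h1
    omega
  obtain ⟨j, hj, hj3⟩ : ∃ j : ℕ, i * j % 3 = 1 ∧ j % 3 ≠ 0 := by
    rcases (show i % 3 = 1 ∨ i % 3 = 2 by omega) with h | h
    · exact ⟨1, by omega, by omega⟩
    · exact ⟨2, by omega, by omega⟩
  have hbj : e₂ (QuotientGroup.mk (a ^ j)) = ThreeFix.Tbar := by
    rw [QuotientGroup.mk_pow, map_pow, hai, ← pow_mul, ← pow_mod_orderOf, ThreeFix.orderOf_Tbar, hj, pow_one]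
  have hbj3 : (a ^ j) ^ 3 = 1 := by
    rw [← pow_mul, mul_comm, pow_mul, ← ha, pow_orderOf_eq_one, one_pow]
  refine largeFischerType hS hψ₂ hbj hbj3 hx₂ Y (Subgroup.eq_of_le_of_card_ge ?_ ?_).symm ?_
  · rw [Subgroup.zpowers_le, SubgroupClass.coe_pow]
    exact pow_mem y.2 j
  · rw [hY3, Nat.card_zpowers, Subgroup.orderOf_coe]
    exact (orderOf_b_fix hbj hbj3).ge
  · refine h27.trans (Subgroup.card_dvd_of_le fun g hg => ?_)
    have hC := Subgroup.mem_centralizer_iff.1 hg
    refine Subgroup.mem_centralizer_iff.2 ?_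
    rintro u (h | h | h) <;> rw [h]
    · exact hC z (by simp)
    · exact hC (toG x) (by simp)
    · rw [SubgroupClass.coe_pow]
      have hcomm : Commute (a : G) g := hC _ (by simp)
      exact (hcomm.pow_left j).eq

end CfsgLib.MonsterType
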