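import Cfsg.Agent.MonsterType.ThreeClasses
import Cfsg.Agent.MonsterType.FiveImage
import Cfsg.Agent.AltSylow.Overgroups
import Mathlib.GroupTheory.SpecificGroups.Alternating

/-!
# The centraliser of the element of order three as an extension of the alternating group
-/

set_option autoImplicit false

namespace CfsgLib.MonsterType.Three

open Cfsg CfsgLib.Leech CfsgLib.Mathieu
open Five (Acts exists_acts)

local notation "P9" => Equiv.Perm (Fin 9)

/-! ### The generators -/

/-- The moves of the mixing element. -/
def gMoves : List Mv :=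
  [.mono 123654755411499225095375692492789333820576431603377966096 10615434,
    .xi,
    .mono 99995344392123659169068949012326609617680331396155244806 18147,
    .xi,
    .mono 515594209532296904660068486215306008616829179967595680776 10310809,
    .xi,
    .mono 50096826984330485113359657581299198970146865881784848146 0,
    .xi,
    .mono 566073426779046459040877649791461066728553822781039575296 1107375,
    .mono 197309577058322951877571625087121806638608271619932947456 0]

/-- The moves of an element of the monomial centraliser. -/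
def pMoves : List Mv := [.mono 147889208990229887291370402979792823937856219738628424471 0]

theorem gMoves_ok : gMoves.all Mv.ok = true := by decide +kernel

theorem pMoves_ok : pMoves.all Mv.ok = true := by decide +kernel

/-- The mixing element. -/
noncomputable def gE : Co0 := Classical.choose (exists_acts gMoves gMoves_ok)

/-- The element of the monomial centraliser. -/
noncomputable def pE : Co0 := Classical.choose (exists_acts pMoves pMoves_ok)

theorem gE_acts : Acts gE (runMoves gMoves) := Classical.choose_spec (exists_acts gMoves gMoves_ok)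

theorem pE_acts : Acts pE (runMoves pMoves) := Classical.choose_spec (exists_acts pMoves pMoves_ok)

theorem gE_mem : gE ∈ C0 :=
  commute_T gE_acts (by decide +kernel) (by decide +kernel) (by decide +kernel)

theorem pE_mem : pE ∈ C0 :=
  commute_T pE_acts (by decide +kernel) (by decide +kernel) (by decide +kernel)

theorem T_mem : T ∈ C0 := Subgroup.mem_centralizer_singleton_iff.2 rfl

theorem neg_mem_C0 : negCo0 ∈ C0 :=
  Subgroup.mem_centralizer_singleton_iff.2 (Subgroup.mem_center_iff.1 negCo0_mem_center T).symm

theorem act_g (k : Fin 256) : act gE k = linTab [74, 107, 227, 64, 42, 132, 144, 159] k :=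
  act_eq_linTab gE_acts rfl (by decide +kernel) (by decide +kernel) k

theorem act_p (k : Fin 256) : act pE k = linTab [4, 124, 27, 115, 75, 43, 1, 242] k :=
  act_eq_linTab pE_acts rfl (by decide +kernel) (by decide +kernel) k

theorem act_T (k : Fin 256) : act T k = k :=
  act_eq_of_cong (by rw [cls_fixed]; exact Cong.refl _)

theorem act_neg (k : Fin 256) : act negCo0 k = k :=
  act_eq_of_cong (by
    rw [show negCo0 • cls k = -cls k from Subtype.ext (negCo0_smul _)]
    exact Cong.neg _)

/-! ### The nine subspaces -/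

/-- The nine sets of fifteen classes. -/
def lineList : List (List ℕ) :=
  [
    [7, 11, 12, 49, 54, 58, 61, 82, 85, 89, 94, 99, 100, 104, 111],
    [19, 38, 53, 71, 84, 97, 114, 133, 150, 163, 176, 194, 209, 228, 247],
    [21, 45, 56, 72, 93, 101, 112, 137, 156, 164, 177, 193, 212, 236, 249],
    [22, 40, 62, 69, 83, 109, 123, 131, 149, 171, 189, 198, 208, 238, 248],
    [23, 35, 52, 77, 90, 110, 121, 134, 145, 165, 178, 203, 220, 232, 255],
    [24, 39, 63, 78, 86, 105, 113, 139, 147, 172, 180, 197, 221, 226, 250],
    [28, 37, 57, 67, 95, 102, 122, 135, 155, 162, 190, 196, 216, 225, 253],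
    [29, 46, 51, 76, 81, 98, 127, 143, 146, 161, 188, 195, 222, 237, 240],
    [30, 44, 50, 70, 88, 106, 116, 138, 148, 166, 184, 204, 210, 224, 254]]

/-- A subspace as a set of classes. -/
def line (i : Fin 9) : Finset (Fin 256) :=
  ((lineList.getD i.val []).map fun n => (⟨n % 256, Nat.mod_lt _ (by norm_num)⟩ : Fin 256)).toFinset

theorem line_injective : Function.Injective line := by
  have : ∀ i j, line i = line j → i = j := by decide +kernel
  exact fun i j => this i j

/-- An element permutes the subspaces as `p` does. -/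
def LinesTo (g : Co0) (p : P9) : Prop := ∀ i, (line i).image (act g) = line (p i)

theorem LinesTo.unique {g : Co0} {p q : P9} (hp : LinesTo g p) (hq : LinesTo g q) : p = q :=
  Equiv.ext fun i => line_injective ((hp i).symm.trans (hq i))

theorem LinesTo.mul {g h : Co0} (hg : g ∈ C0) (hh : h ∈ C0) {p q : P9} (hp : LinesTo g p)
    (hq : LinesTo h q) : LinesTo (g * h) (p * q) := fun i => by
  rw [show act (g * h) = act g ∘ act h from funext (act_mul hg hh), ← Finset.image_image, hq i, hp]
  rfl

theorem linesTo_one : LinesTo 1 1 := fun i => by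
  rw [show act 1 = id from funext act_one, Finset.image_id]; rfl

/-- The subgroup of elements permuting the subspaces. -/
noncomputable def lineStab : Subgroup Co0 where
  carrier := {g | g ∈ C0 ∧ ∃ p, LinesTo g p}
  one_mem' := ⟨one_mem _, 1, linesTo_one⟩
  mul_mem' := fun ⟨hg, p, hp⟩ ⟨hh, q, hq⟩ => ⟨mul_mem hg hh, p * q, hp.mul hg hh hq⟩
  inv_mem' := fun {g} ⟨hg, p, hp⟩ => ⟨inv_mem hg, p⁻¹, fun i => by
    have h := hp (p⁻¹ i)
    rw [perm_apply_inv] at h
    rw [← h, Finset.image_image, ← show act (g⁻¹ * g) = act g⁻¹ ∘ act g from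
      funext (act_mul (inv_mem hg) hg), inv_mul_cancel, show act 1 = id from funext act_one,
      Finset.image_id]⟩

/-- The permutation of the subspaces. -/
noncomputable def lineHom : lineStab →* P9 :=
  MonoidHom.mk' (fun g => g.2.2.choose) fun g h =>
    (g * h).2.2.choose_spec.unique (g.2.2.choose_spec.mul g.2.1 h.2.1 h.2.2.choose_spec)

theorem lineHom_eq {g : lineStab} {p : P9} (h : LinesTo g p) : lineHom g = p :=
  g.2.2.choose_spec.unique h

/-- The image of the mixing element. -/
def permG : P9 := ⟨![1, 0, 3, 6, 4, 8, 2, 7, 5], ![1, 0, 6, 2, 4, 8, 3, 7, 5], by decide +kernel, by decide +kernel⟩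

/-- The image of the monomial element. -/
def permP : P9 := ⟨![0, 7, 1, 8, 3, 2, 4, 5, 6], ![0, 2, 5, 4, 6, 7, 8, 1, 3], by decide +kernel, by decide +kernel⟩

theorem linesTo_g : LinesTo gE permG := fun i => by
  rw [show act gE = linTab [74, 107, 227, 64, 42, 132, 144, 159] from funext act_g]
  exact (by decide +kernel : ∀ i, (line i).image (linTab [74, 107, 227, 64, 42, 132, 144, 159]) = line (permG i)) i

theorem linesTo_p : LinesTo pE permP := fun i => by
  rw [show act pE = linTab [4, 124, 27, 115, 75, 43, 1, 242] from funext act_p]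
  exact (by decide +kernel : ∀ i, (line i).image (linTab [4, 124, 27, 115, 75, 43, 1, 242]) = line (permP i)) i

theorem linesTo_T : LinesTo T 1 := fun i => by
  rw [show act T = id from funext act_T, Finset.image_id]; rfl

theorem linesTo_neg : LinesTo negCo0 1 := fun i => by
  rw [show act negCo0 = id from funext act_neg, Finset.image_id]; rfl

theorem perms_mem : permG ∈ alternatingGroup (Fin 9) ∧ permP ∈ alternatingGroup (Fin 9) :=
  ⟨Equiv.Perm.mem_alternatingGroup.2 (by decide +kernel),
    Equiv.Perm.mem_alternatingGroup.2 (by decide +kernel)⟩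

/-- Elements moving the first point anywhere. -/
def moveList : List P9 := [1, permG, permP * permP * permP * permG, permG * permP * permP * permP * permG, permP * permP * permG * permP * permP * permG, permP * permP * permG, permP * permG * permP * permP * permG, permP * permG, permG * permP * permP * permG]

/-- Elements fixing the first point and moving the second. -/
def stabList : List P9 := [1, permP * permP * permP, permP * permP * permG * permG * permP * permP * permP, permP * permG * permG * permP * permP * permP, permP * permP, permG * permG * permP * permP * permP, permP, permG * permP * permG * permP * permG * permP * permP * permG]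

theorem alternating_le_of_perms {R : Subgroup P9} (hg : permG ∈ R) (hp : permP ∈ R) :
    alternatingGroup (Fin 9) ≤ R := by
  have hmv : ∀ w ∈ moveList, w ∈ R := by
    intro w hw
    simp only [moveList, List.mem_cons, List.not_mem_nil, or_false] at hw
    rcases hw with rfl | rfl | rfl | rfl | rfl | rfl | rfl | rfl | rfl <;>
      first | exact one_mem _ | repeat (first | exact hg | exact hp | refine mul_mem ?_ ?_)
  have hst : ∀ w ∈ stabList, w ∈ R := by
    intro w hw
    simp only [stabList, List.mem_cons, List.not_mem_nil, or_false] at hw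
    rcases hw with rfl | rfl | rfl | rfl | rfl | rfl | rfl | rfl <;>
      first | exact one_mem _ | repeat (first | exact hg | exact hp | refine mul_mem ?_ ?_)
  have hm : ∀ x : Fin 9, ∃ w ∈ moveList, w 0 = x := by decide +kernel
  have hs : ∀ x : Fin 9, x ≠ 0 → ∃ w ∈ stabList, w 0 = 0 ∧ w 1 = x := by decide +kernel
  refine CfsgLib.AltSylow.alternating_le_of_threeCycle (p := (0 : Fin 9))
    (fun x => let ⟨w, hw, e⟩ := hm x; ⟨w, hmv w hw, e⟩) (fun x y hx hy => ?_)
    (t := permG * permG) ?_ ?_
  · obtain ⟨u, hu, hu0, hu1⟩ := hs x hx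
    obtain ⟨w, hw, hw0, hw1⟩ := hs y hy
    refine ⟨w * u⁻¹, mul_mem (hst w hw) (inv_mem (hst u hu)), ?_, ?_⟩
    · have : u⁻¹ 0 = 0 := by conv_lhs => rw [← hu0, perm_inv_apply]
      rw [Equiv.Perm.mul_apply, this, hw0]
    · have : u⁻¹ x = 1 := by rw [← hu1, perm_inv_apply]
      rw [Equiv.Perm.mul_apply, this, hw1]
  · exact card_support_eq_three_iff.1 (by decide +kernel)
  · exact mul_mem hg hg

/-- The subgroup generated by the four elements. -/
noncomputable def genC : Subgroup Co0 := Subgroup.closure {gE, pE, T, negCo0}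

theorem genC_le_stab : genC ≤ lineStab := by
  refine (Subgroup.closure_le _).2 ?_
  rintro g (rfl | rfl | rfl | rfl)
  exacts [⟨gE_mem, _, linesTo_g⟩, ⟨pE_mem, _, linesTo_p⟩, ⟨T_mem, _, linesTo_T⟩,
    ⟨neg_mem_C0, _, linesTo_neg⟩]

theorem neg_ne_pow (k : ℕ) : negCo0 ≠ T ^ k := fun h => negCo0_ne_one (by
  have h3 : negCo0 ^ 3 = 1 := by rw [h, ← pow_mul, mul_comm, pow_mul, T_pow_three, one_pow]
  rwa [pow_succ, sq negCo0, negCo0_sq, one_mul] at h3)

/-- The six elements of the kernel. -/
noncomputable def kerElt (x : Fin 3 × Bool) : Co0 := if x.2 then negCo0 * T ^ (x.1 : ℕ) else T ^ (x.1 : ℕ)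

theorem kerElt_injective : Function.Injective kerElt := by
  have hpow : ∀ i j : Fin 3, T ^ (i : ℕ) = T ^ (j : ℕ) → i = j := fun i j h =>
    Fin.ext (pow_injOn_Iio_orderOf (by simp [orderOf_T]) (by simp [orderOf_T]) h)
  have hne : ∀ i j : ℕ, negCo0 * T ^ i ≠ T ^ j := fun i j h => by
    have h' : negCo0 = T ^ j * T ^ (2 * i) := by
      rw [← h, mul_assoc, ← pow_add, show i + 2 * i = 3 * i by ring, pow_mul, T_pow_three, one_pow,
        mul_one]
    rw [← pow_add] at h'
    exact neg_ne_pow _ h'
  rintro ⟨i, s⟩ ⟨j, t⟩ h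
  cases s <;> cases t <;> simp only [kerElt, if_true, Bool.false_eq_true, if_false] at h
  · rw [hpow i j h]
  · exact absurd h.symm (hne _ _)
  · exact absurd h (hne _ _)
  · rw [hpow i j (mul_left_cancel h)]

/-- The homomorphism onto the alternating group. -/
theorem exists_hom : ∃ F : C0 →* alternatingGroup (Fin 9), Function.Surjective F ∧
    (∀ g : C0, F g = 1 ↔ ∃ k : ℕ, (g : Co0) = T ^ k ∨ (g : Co0) = negCo0 * T ^ k) ∧
    (∀ g : C0, (∀ k, act g k = k) → F g = 1) := by
  classical
  haveI := co0_finite
  let ι : genC →* P9 := lineHom.comp (Subgroup.inclusion genC_le_stab)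
  have hmg : gE ∈ genC := Subgroup.subset_closure (by simp)
  have hmp : pE ∈ genC := Subgroup.subset_closure (by simp)
  have hmT : T ∈ genC := Subgroup.subset_closure (by simp)
  have hmn : negCo0 ∈ genC := Subgroup.subset_closure (by simp)
  have hι : ∀ (g : Co0) (hg : g ∈ genC) (p : P9), LinesTo g p → ι ⟨g, hg⟩ = p := fun g hg p h =>
    lineHom_eq h
  have hge : alternatingGroup (Fin 9) ≤ ι.range :=
    alternating_le_of_perms ⟨⟨_, hmg⟩, hι _ _ _ linesTo_g⟩ ⟨⟨_, hmp⟩, hι _ _ _ linesTo_p⟩
  have hle : ∀ g : genC, ι g ∈ alternatingGroup (Fin 9) := by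
    intro g
    obtain ⟨g, hg⟩ := g
    obtain ⟨h1, h2⟩ := perms_mem
    revert hg
    suffices ∀ g ∈ genC, ∀ p, LinesTo g p → p ∈ alternatingGroup (Fin 9) from
      fun hg => this g hg _ (genC_le_stab hg).2.choose_spec
    intro g hg
    induction hg using Subgroup.closure_induction with
    | mem x hx =>
      intro p hp
      rcases hx with rfl | rfl | rfl | rfl
      exacts [hp.unique linesTo_g ▸ h1, hp.unique linesTo_p ▸ h2,
        hp.unique linesTo_T ▸ one_mem _, hp.unique linesTo_neg ▸ one_mem _]
    | one => intro p hp; exact hp.unique linesTo_one ▸ one_mem _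
    | mul a b ha hb iha ihb =>
      intro p hp
      obtain ⟨qa, hqa⟩ := (genC_le_stab ha).2
      obtain ⟨qb, hqb⟩ := (genC_le_stab hb).2
      exact hp.unique (hqa.mul (genC_le_stab ha).1 (genC_le_stab hb).1 hqb) ▸
        mul_mem (iha _ hqa) (ihb _ hqb)
    | inv a ha iha =>
      intro p hp
      obtain ⟨q, hq⟩ := (genC_le_stab ha).2
      have h := hq.mul (genC_le_stab ha).1 (inv_mem (genC_le_stab ha).1) hp
      rw [mul_inv_cancel] at h
      rw [← inv_eq_of_mul_eq_one_right (h.unique linesTo_one)]
      exact inv_mem (iha _ hq)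
  have hker : ∀ x, ∃ h : kerElt x ∈ genC, ι ⟨kerElt x, h⟩ = 1 := by
    intro x
    have hT : ∀ k : ℕ, LinesTo (T ^ k) 1 := fun k => by
      induction k with
      | zero => rw [pow_zero]; exact linesTo_one
      | succ k ih =>
        rw [pow_succ]
        simpa using ih.mul (pow_mem T_mem k) T_mem linesTo_T
    obtain ⟨i, s⟩ := x
    cases s
    · exact ⟨pow_mem hmT _, hι _ _ _ (hT _)⟩
    · exact ⟨mul_mem hmn (pow_mem hmT _), hι _ _ _ (by
        simpa [kerElt] using linesTo_neg.mul neg_mem_C0 (pow_mem T_mem _) (hT (i : ℕ)))⟩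
  choose hkm hk1 using hker
  let kf : Fin 3 × Bool → ι.ker := fun x => ⟨⟨kerElt x, hkm x⟩, hk1 x⟩
  have hkf : Function.Injective kf := fun a b h =>
    kerElt_injective (congrArg (fun y : ι.ker => ((y : genC) : Co0)) h)
  have h6 : 6 ≤ Nat.card ι.ker := by
    refine le_of_eq_of_le ?_ (Nat.card_le_card_of_injective kf hkf)
    simp
  have hrng : 181440 ≤ Nat.card ι.range := by
    refine le_of_eq_of_le ?_ (Nat.card_le_card_of_injective (Subgroup.inclusion hge)
      (Subgroup.inclusion_injective hge))
    rw [nat_card_alternatingGroup, Nat.card_fin]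
    decide
  have hmul : Nat.card ι.ker * Nat.card ι.range = Nat.card genC := by
    rw [← Subgroup.index_ker]; exact ι.ker.card_mul_index
  have hsub : genC ≤ C0 := fun g hg => (genC_le_stab hg).1
  have hbound := card_C0_le
  have heq : genC = C0 := by
    refine Subgroup.eq_of_le_of_card_ge hsub ?_
    nlinarith [Nat.mul_le_mul h6 hrng]
  have hle6 : Nat.card ι.ker ≤ 6 := by
    rw [← heq] at hbound
    by_contra hc
    nlinarith [Nat.mul_le_mul (show 7 ≤ Nat.card ι.ker by omega) hrng]
  have hkfb : Function.Bijective kf :=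
    hkf.bijective_of_nat_card_le (hle6.trans (by simp))
  let j : C0 →* genC := Subgroup.inclusion heq.ge
  refine ⟨(ι.comp j).codRestrict _ fun g => hle _, fun p => ?_, fun g => ?_, fun g hg => ?_⟩
  · obtain ⟨g, hg⟩ := hge p.2
    exact ⟨⟨g, hsub g.2⟩, Subtype.ext hg⟩
  · rw [Subtype.ext_iff]
    constructor
    · intro h
      obtain ⟨⟨i, s⟩, hx⟩ := hkfb.2 ⟨j g, h⟩
      have hx' : kerElt (i, s) = (g : Co0) := congrArg (fun y : ι.ker => ((y : genC) : Co0)) hx
      refine ⟨i, ?_⟩
      cases s
      · exact Or.inl hx'.symm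
      · exact Or.inr hx'.symm
    · rintro ⟨k, hk⟩
      have hmod : T ^ k = T ^ (k % 3) := by
        rw [← orderOf_T, pow_mod_orderOf]
      have key : ∀ x, (g : Co0) = kerElt x → ι (j g) = 1 := fun x hx => by
        have e : j g = ⟨kerElt x, hkm x⟩ := Subtype.ext hx
        rw [e]; exact hk1 x
      rcases hk with hk | hk
      · exact key (⟨k % 3, Nat.mod_lt _ (by norm_num)⟩, false) (by simp [kerElt, hk, ← hmod])
      · exact key (⟨k % 3, Nat.mod_lt _ (by norm_num)⟩, true) (by simp [kerElt, hk, ← hmod])
  · refine Subtype.ext ?_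
    exact hι _ _ 1 fun i => by rw [show act (g : Co0) = id from funext hg, Finset.image_id]; rfl

end CfsgLib.MonsterType.Three
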